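/-
Basic structure of finite p-groups: maximal subgroups, Frattini subgroup, central elements.
-/
import Mathlib

namespace Cfsg.Lib.PGroups

open Subgroup
open scoped commutatorElement

variable {P : Type*} [Group P] [Finite P] {p : ℕ} [hp : Fact p.Prime]

theorem coatom_normal_index (hP : IsPGroup p P) {M : Subgroup P} (hM : IsCoatom M) :
    M.Normal ∧ M.index = p := by
  have : Group.IsNilpotent P := hP.isNilpotent
  have hN : M.Normal := NormalizerCondition.normal_of_coatom M normalizerCondition_of_isNilpotent hM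
  refine ⟨hN, ?_⟩
  obtain ⟨n, hn⟩ := hP.index M
  have hn0 : n ≠ 0 := by
    rintro rfl
    exact hM.1 (Subgroup.index_eq_one.1 (by rw [hn, pow_zero]))
  have hdvd : p ∣ Nat.card (P ⧸ M) := by
    rw [← Subgroup.index_eq_card, hn]
    exact dvd_pow_self p hn0
  obtain ⟨q, hq⟩ := exists_prime_orderOf_dvd_card' p hdvd
  have hlt : M < (zpowers q).comap (QuotientGroup.mk' M) := by
    refine lt_of_le_of_ne (fun x hx => ?_) fun he => ?_
    · simp [Subgroup.mem_comap, (QuotientGroup.eq_one_iff x).2 hx]
    · have h1 : Nat.card ((zpowers q : Subgroup (P ⧸ M))) = 1 := by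
        have h2 : (zpowers q : Subgroup (P ⧸ M)) = ⊥ := by
          rw [← Subgroup.map_comap_eq_self_of_surjective (QuotientGroup.mk'_surjective M) (zpowers q),
            ← he, QuotientGroup.map_mk'_self]
        rw [h2, Subgroup.card_bot]
      rw [Nat.card_zpowers, hq] at h1
      exact hp.out.ne_one h1
  have htop := hM.2 _ hlt
  have h3 : (zpowers q : Subgroup (P ⧸ M)) = ⊤ := by
    rw [← Subgroup.map_comap_eq_self_of_surjective (QuotientGroup.mk'_surjective M) (zpowers q),
      htop, Subgroup.map_top_of_surjective _ (QuotientGroup.mk'_surjective M)]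
  rw [Subgroup.index_eq_card, ← Nat.card_congr Subgroup.topEquiv.toEquiv, ← h3, Nat.card_zpowers, hq]

theorem pow_mem_frattini (hP : IsPGroup p P) (x : P) : x ^ p ∈ frattini P := by
  simp only [frattini, Order.radical, Subgroup.mem_iInf]
  intro M hM
  obtain ⟨hN, hi⟩ := coatom_normal_index hP hM
  rw [← hi]
  exact M.pow_index_mem x

theorem commutator_le_frattini (hP : IsPGroup p P) : commutator P ≤ frattini P := by
  simp only [frattini, Order.radical, le_iInf_iff]
  intro M hM
  obtain ⟨hN, hi⟩ := coatom_normal_index hP hM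
  refine Subgroup.Normal.quotient_commutative_iff_commutator_le.mp ?_
  have : IsCyclic (P ⧸ M) := isCyclic_of_prime_card (p := p) (by rw [← M.index_eq_card, hi])
  exact ⟨⟨fun a b => IsCyclic.commGroup.mul_comm a b⟩⟩

/-- The Frattini quotient of a p-group has exponent `p`. -/
theorem pow_prime_quotient_frattini (hP : IsPGroup p P) (q : P ⧸ frattini P) : q ^ p = 1 := by
  obtain ⟨x, rfl⟩ := QuotientGroup.mk_surjective q
  rw [← QuotientGroup.mk_pow, QuotientGroup.eq_one_iff]
  exact pow_mem_frattini hP x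

theorem isMulCommutative_quotient_frattini (hP : IsPGroup p P) :
    IsMulCommutative (P ⧸ frattini P) :=
  Subgroup.Normal.quotient_commutative_iff_commutator_le.mpr (commutator_le_frattini hP)

/-- A nontrivial normal subgroup of a p-group meets the centre nontrivially. -/
theorem exists_mem_center_of_normal_ne_bot (hP : IsPGroup p P) {N : Subgroup P} [N.Normal]
    (hN : N ≠ ⊥) : ∃ z ∈ N, z ∈ center P ∧ orderOf z = p := by
  have hdvd : p ∣ Nat.card N := by
    rcases (hP.to_subgroup N).card_eq_or_dvd with h | h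
    · exact absurd (Subgroup.card_eq_one.1 h) hN
    · exact h
  have hconj : IsPGroup p (ConjAct P) := hP
  have hfix : (1 : N) ∈ MulAction.fixedPoints (ConjAct P) N := fun g => smul_one g
  obtain ⟨z, hz, hz1⟩ := hconj.exists_fixed_point_of_prime_dvd_card_of_fixed_point N hdvd hfix
  have hzZ : (z : P) ∈ center P := by
    rw [Subgroup.mem_center_iff]
    intro g
    have h := congrArg Subtype.val (hz (ConjAct.toConjAct g))
    rw [ConjAct.Subgroup.val_conj_smul, ConjAct.smul_def, ConjAct.ofConjAct_toConjAct] at h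
    exact mul_inv_eq_iff_eq_mul.1 h
  have hzne : orderOf (z : P) ≠ 1 := by
    rw [Ne, orderOf_eq_one_iff]
    exact fun h => hz1 (Subtype.ext (by rw [h]; rfl))
  obtain ⟨k, hk⟩ := IsPGroup.iff_orderOf.1 hP (z : P)
  have hpd : p ∣ orderOf (z : P) := hP.dvd_orderOf fun h => hzne (orderOf_eq_one_iff.2 h)
  exact ⟨(z : P) ^ (orderOf (z : P) / p), pow_mem z.2 _, pow_mem hzZ _,
    orderOf_pow_orderOf_div (orderOf_pos _).ne' hpd⟩

theorem le_center_of_card_eq_prime (hP : IsPGroup p P) {N : Subgroup P} [N.Normal]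
    (hN : Nat.card N = p) : N ≤ center P := by
  obtain ⟨z, hzN, hzZ, hz⟩ := exists_mem_center_of_normal_ne_bot hP (N := N) (by
    intro h
    rw [h, Subgroup.card_bot] at hN
    exact hp.out.ne_one hN.symm)
  have : zpowers z = N := Subgroup.eq_of_le_of_card_ge (zpowers_le.2 hzN)
    (by rw [Nat.card_zpowers, hz, hN])
  exact this ▸ zpowers_le.2 hzZ

/-- Between two normal subgroups there is one of index `p` over the smaller. -/
theorem exists_normal_relIndex_prime (hP : IsPGroup p P) {N M : Subgroup P} [N.Normal] [M.Normal]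
    (h : N < M) : ∃ K : Subgroup P, K.Normal ∧ N ≤ K ∧ K ≤ M ∧ N.relIndex K = p := by
  have hne : M.map (QuotientGroup.mk' N) ≠ ⊥ := by
    rw [Ne, Subgroup.map_eq_bot_iff, QuotientGroup.ker_mk']
    exact h.not_ge
  have : (M.map (QuotientGroup.mk' N)).Normal :=
    Subgroup.Normal.map inferInstance _ (QuotientGroup.mk'_surjective N)
  obtain ⟨z, hzM, hzZ, hz⟩ := exists_mem_center_of_normal_ne_bot (hP.to_quotient N) hne
  have : (zpowers z).Normal := ⟨fun n hn g => by
    rw [Subgroup.mem_center_iff.1 ((zpowers_le.2 hzZ) hn) g, mul_inv_cancel_right]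
    exact hn⟩
  refine ⟨(zpowers z).comap (QuotientGroup.mk' N), inferInstance, ?_, ?_, ?_⟩
  · intro x hx
    simp [Subgroup.mem_comap, (QuotientGroup.eq_one_iff x).2 hx]
  · intro x hx
    obtain ⟨m, hm, hmx⟩ := (zpowers_le.2 hzM) hx
    have : m⁻¹ * x ∈ N := QuotientGroup.eq.1 hmx
    simpa using mul_mem hm (h.le this)
  · have h2 := Subgroup.relIndex_comap (⊥ : Subgroup (P ⧸ N)) (QuotientGroup.mk' N)
      ((zpowers z).comap (QuotientGroup.mk' N))
    rw [MonoidHom.comap_bot, QuotientGroup.ker_mk',
      Subgroup.map_comap_eq_self_of_surjective (QuotientGroup.mk'_surjective N),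
      Subgroup.relIndex_bot_left, Nat.card_zpowers, hz] at h2
    exact h2

/-- Burnside basis theorem, cyclic case. -/
theorem isCyclic_of_isCyclic_quotient_frattini [h : IsCyclic (P ⧸ frattini P)] : IsCyclic P := by
  obtain ⟨q, hq⟩ := h.exists_zpow_surjective
  obtain ⟨x, rfl⟩ := QuotientGroup.mk_surjective q
  have htop : zpowers x ⊔ frattini P = ⊤ := by
    rw [eq_top_iff]
    intro y _
    obtain ⟨i, hi⟩ := hq y
    have h1 : (x ^ i)⁻¹ * y ∈ frattini P :=
      QuotientGroup.eq.1 ((QuotientGroup.mk_zpow (frattini P) x i).trans hi)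
    simpa using Subgroup.mul_mem_sup (zpow_mem (mem_zpowers x) i) h1
  have hz := frattini_nongenerating htop
  exact ⟨⟨x, fun y => Subgroup.mem_zpowers_iff.1 (hz ▸ Subgroup.mem_top y)⟩⟩

end Cfsg.Lib.PGroups
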