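/-
Power and commutator identities when a commutator commutes with its two arguments.
-/
import Mathlib

namespace Cfsg.Lib.PGroups

open scoped commutatorElement

variable {G : Type*} [Group G]

theorem conj_eq_commutator_mul (x y : G) : y * x = ⁅y, x⁆ * (x * y) := by
  rw [commutatorElement_def]; group

theorem mul_left_commutator (x y z : G) : ⁅x * y, z⁆ = x * ⁅y, z⁆ * x⁻¹ * ⁅x, z⁆ := by
  simp only [commutatorElement_def]; group

theorem mul_right_commutator (x y z : G) : ⁅x, y * z⁆ = ⁅x, y⁆ * (y * ⁅x, z⁆ * y⁻¹) := by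
  simp only [commutatorElement_def]; group

/-- `⁅x * y, z⁆ = ⁅x, z⁆ * ⁅y, z⁆` when `⁅y, z⁆` is central. -/
theorem commutator_mul_left_of_central {x y z : G} (h : ⁅y, z⁆ ∈ Subgroup.center G) :
    ⁅x * y, z⁆ = ⁅x, z⁆ * ⁅y, z⁆ := by
  rw [mul_left_commutator, Subgroup.mem_center_iff.1 h x, mul_inv_cancel_right,
    ← Subgroup.mem_center_iff.1 h]

theorem commutator_mul_right_of_central {x y z : G} (h : ⁅x, z⁆ ∈ Subgroup.center G) :
    ⁅x, y * z⁆ = ⁅x, y⁆ * ⁅x, z⁆ := by
  rw [mul_right_commutator, Subgroup.mem_center_iff.1 h y, mul_inv_cancel_right]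

theorem commutator_pow_left_of_commute {x y : G} (h : Commute ⁅x, y⁆ x) (n : ℕ) :
    ⁅x ^ n, y⁆ = ⁅x, y⁆ ^ n := by
  induction n with
  | zero => simp
  | succ n ih =>
    rw [pow_succ', mul_left_commutator, ih, (h.symm.pow_right n).eq, mul_inv_cancel_right,
      ← pow_succ]

theorem commutator_pow_right_of_commute {x y : G} (h : Commute ⁅x, y⁆ y) (n : ℕ) :
    ⁅x, y ^ n⁆ = ⁅x, y⁆ ^ n := by
  induction n with
  | zero => simp
  | succ n ih =>
    rw [pow_succ', mul_right_commutator, ih, (h.symm.pow_right n).eq, mul_inv_cancel_right,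
      ← pow_succ']

/-- The class two power formula. -/
theorem mul_pow_of_commute_commutator {x y : G} (hx : Commute ⁅y, x⁆ x) (hy : Commute ⁅y, x⁆ y)
    (n : ℕ) : (x * y) ^ n = x ^ n * y ^ n * ⁅y, x⁆ ^ n.choose 2 := by
  induction n with
  | zero => simp
  | succ n ih =>
    set c := ⁅y, x⁆ with hc
    have hxy : Commute (c ^ n.choose 2) (x * y) := (hx.mul_right hy).pow_left _
    have h1 : y ^ n * x = c ^ n * (x * y ^ n) := by
      rw [conj_eq_commutator_mul x (y ^ n), commutator_pow_left_of_commute hy]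
    have h2 : Commute (c ^ n) (x * y ^ n) := (hx.mul_right (hy.pow_right n)).pow_left n
    have h3 : Commute (c ^ n) y := hy.pow_left n
    have hn : (n + 1).choose 2 = n + n.choose 2 := by
      rw [Nat.choose_succ_succ, Nat.choose_one_right]
    rw [pow_succ, ih, hn, pow_add c n, mul_assoc _ (c ^ n.choose 2), hxy.eq, mul_assoc (x ^ n),
      ← mul_assoc (y ^ n), ← mul_assoc (y ^ n), h1]
    calc x ^ n * (c ^ n * (x * y ^ n) * y * c ^ n.choose 2)
        = x ^ n * ((x * y ^ n) * c ^ n * y * c ^ n.choose 2) := by rw [h2.eq]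
      _ = x ^ n * ((x * y ^ n) * (y * c ^ n) * c ^ n.choose 2) := by rw [← h3.eq, mul_assoc (x * y ^ n)]
      _ = x ^ (n + 1) * y ^ (n + 1) * (c ^ n * c ^ n.choose 2) := by
        rw [pow_succ, pow_succ]
        simp only [mul_assoc]

theorem mul_pow_of_central {x y : G} (h : ⁅y, x⁆ ∈ Subgroup.center G) (n : ℕ) :
    (x * y) ^ n = x ^ n * y ^ n * ⁅y, x⁆ ^ n.choose 2 :=
  mul_pow_of_commute_commutator (Subgroup.mem_center_iff.1 h x).symm
    (Subgroup.mem_center_iff.1 h y).symm n

theorem commutator_mem_center_of_class_two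
    (h : ⁅commutator G, (⊤ : Subgroup G)⁆ = ⊥) (x y : G) : ⁅x, y⁆ ∈ Subgroup.center G := by
  rw [Subgroup.commutator_eq_bot_iff_le_centralizer, Subgroup.coe_top,
    Subgroup.centralizer_univ] at h
  exact h (Subgroup.commutator_mem_commutator (Subgroup.mem_top x) (Subgroup.mem_top y))

theorem dvd_choose_two {p : ℕ} (hp : p.Prime) (h2 : p ≠ 2) : p ∣ p.choose 2 :=
  hp.dvd_choose_self two_ne_zero (lt_of_le_of_ne hp.two_le (Ne.symm h2))

/-- For odd `p` and class at most two, the elements of order dividing `p` form a subgroup, provided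
their commutators have order dividing `p` (which is automatic). -/
theorem pow_eq_one_of_mem_closure_class_two {p : ℕ} (hp : p.Prime) (h2 : p ≠ 2)
    (hc : ⁅commutator G, (⊤ : Subgroup G)⁆ = ⊥) {g : G}
    (hg : g ∈ Subgroup.closure {x : G | x ^ p = 1}) : g ^ p = 1 := by
  induction hg using Subgroup.closure_induction with
  | mem x hx => exact hx
  | one => simp
  | inv x _ ih => rw [inv_pow, ih, inv_one]
  | mul x y _ _ hx hy =>
    have hcen := commutator_mem_center_of_class_two hc y x
    obtain ⟨k, hk⟩ := dvd_choose_two hp h2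
    have hpow : ⁅y, x⁆ ^ p = 1 := by
      rw [← commutator_pow_left_of_commute (Subgroup.mem_center_iff.1 hcen y).symm, hy,
        commutatorElement_one_left]
    rw [mul_pow_of_central hcen, hx, hy, one_mul, one_mul, hk, pow_mul, hpow, one_pow]

end Cfsg.Lib.PGroups
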