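/-
The automorphism group of a p-group acts freely on the generating tuples.
-/
import Cfsg.Agent.PGroups.Basic

set_option linter.style.haveILetI false
set_option linter.unusedSectionVars false

namespace Cfsg.Lib.PGroups

open Subgroup

variable {P : Type*} [Group P] [Finite P] {p : ℕ} [hp : Fact p.Prime]

theorem card_dvd_of_free {A X : Type*} [Group A] [MulAction A X] [Finite X]
    (h : ∀ (a : A) (x : X), a • x = x → a = 1) : Nat.card A ∣ Nat.card X := by
  have hst : ∀ x : X, MulAction.stabilizer A x = ⊥ := fun x =>
    (Subgroup.eq_bot_iff_forall _).2 fun a ha => h a x ha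
  rw [Nat.card_congr (MulAction.selfEquivOrbitsQuotientProd hst), Nat.card_prod]
  exact dvd_mul_left _ _

/-- Tuples generating an elementary abelian group. -/
theorem card_generating_tuples {Q : Type*} [Group Q] [Finite Q] [IsMulCommutative Q]
    (hexp : ∀ x : Q, x ^ p = 1) {r : ℕ} (hr : Nat.card Q = p ^ r) :
    Nat.card {s : Fin r → Q // closure (Set.range s) = ⊤} = ∏ i ∈ Finset.range r, (p ^ r - p ^ i) := by
  classical
  letI : CommGroup Q := { mul_comm := mul_comm' }
  letI : Module (ZMod p) (Additive Q) := AddCommGroup.zmodModule (n := p) (fun x => hexp (Additive.toMul x))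
  haveI : Finite (Additive Q) := inferInstanceAs (Finite Q)
  have hcardA : Nat.card (Additive Q) = p ^ r := (Nat.card_congr Additive.toMul).trans hr
  haveI : Module.Finite (ZMod p) (Additive Q) := Module.Finite.of_finite
  have hfin : Module.finrank (ZMod p) (Additive Q) = r := by
    have h1 : Nat.card (Additive Q) = Nat.card (ZMod p) ^ Module.finrank (ZMod p) (Additive Q) :=
      Module.natCard_eq_pow_finrank
    rw [hcardA, Nat.card_zmod] at h1
    exact Nat.pow_right_injective hp.out.two_le h1.symm
  have hiff : ∀ s : Fin r → Q, closure (Set.range s) = ⊤ ↔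
      LinearIndependent (ZMod p) (fun i => Additive.ofMul (s i)) := by
    intro s
    constructor
    · intro hs
      refine linearIndependent_of_top_le_span_of_card_eq_finrank (fun x _ => ?_) (by rw [hfin, Fintype.card_fin])
      have h1 : Additive.toMul x ∈ closure (Set.range s) := hs.ge (mem_top _)
      have h2 : ∀ q ∈ closure (Set.range s),
          Additive.ofMul q ∈ Submodule.span (ZMod p) (Set.range fun i => Additive.ofMul (s i)) := by
        intro q hq
        induction hq using Subgroup.closure_induction with
        | mem y hy =>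
          obtain ⟨i, rfl⟩ := hy
          exact Submodule.subset_span (R := ZMod p) (Set.mem_range_self (f := fun i => Additive.ofMul (s i)) i)
        | one => rw [ofMul_one]; exact Submodule.zero_mem _
        | mul y z _ _ hy hz => rw [ofMul_mul]; exact Submodule.add_mem _ hy hz
        | inv y _ hy => rw [ofMul_inv]; exact Submodule.neg_mem _ hy
      exact h2 _ h1
    · intro hli
      have hspan := hli.span_eq_top_of_card_eq_finrank' (by rw [hfin, Fintype.card_fin])
      rw [eq_top_iff]
      intro x _
      have h1 : ∀ y ∈ Submodule.span (ZMod p) (Set.range fun i => Additive.ofMul (s i)),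
          Additive.toMul y ∈ closure (Set.range s) := by
        intro y hy
        induction hy using Submodule.span_induction with
        | mem z hz =>
          obtain ⟨i, rfl⟩ := hz
          exact subset_closure (Set.mem_range_self i)
        | zero => rw [toMul_zero]; exact one_mem _
        | add a b _ _ ha hb => rw [toMul_add]; exact mul_mem ha hb
        | smul c a _ ha => rw [← ZMod.natCast_zmod_val c, Nat.cast_smul_eq_nsmul, toMul_nsmul]; exact pow_mem ha _
      exact h1 (Additive.ofMul x) (by rw [hspan]; exact Submodule.mem_top)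
  let e : {s : Fin r → Q // closure (Set.range s) = ⊤} ≃
      {s : Fin r → Additive Q // LinearIndependent (ZMod p) s} :=
    ⟨fun s => ⟨fun i => Additive.ofMul (s.1 i), (hiff s.1).1 s.2⟩,
      fun s => ⟨fun i => Additive.toMul (s.1 i), (hiff _).2 s.2⟩, fun s => rfl, fun s => rfl⟩
  haveI := Fintype.ofFinite (Additive Q)
  rw [Nat.card_congr e, card_linearIndependent (le_of_eq hfin.symm), hfin, ZMod.card,
    Fin.prod_univ_eq_prod_range (fun i => p ^ r - p ^ i)]

/-- Lifts of a tuple from the Frattini quotient. -/
noncomputable def liftsEquiv {r : ℕ} (s : Fin r → P ⧸ frattini P) :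
    {f : Fin r → P // ∀ i, (f i : P ⧸ frattini P) = s i} ≃ (Fin r → frattini P) where
  toFun f i := ⟨(s i).out⁻¹ * f.1 i, QuotientGroup.eq.1 ((QuotientGroup.out_eq' _).trans (f.2 i).symm)⟩
  invFun g := ⟨fun i => (s i).out * g i, fun i => by
    rw [QuotientGroup.mk_mul, QuotientGroup.out_eq', (QuotientGroup.eq_one_iff _).2 (g i).2, mul_one]⟩
  left_inv f := Subtype.ext (funext fun i => mul_inv_cancel_left _ _)
  right_inv g := funext fun i => Subtype.ext (inv_mul_cancel_left _ _)

theorem closure_range_lift {r : ℕ} (f : Fin r → P) :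
    closure (Set.range f) = ⊤ ↔ closure (Set.range fun i => (f i : P ⧸ frattini P)) = ⊤ := by
  have hmap : (closure (Set.range f)).map (QuotientGroup.mk' (frattini P)) =
      closure (Set.range fun i => (f i : P ⧸ frattini P)) := by
    rw [MonoidHom.map_closure, ← Set.range_comp]
    rfl
  constructor
  · intro h
    rw [← hmap, h, Subgroup.map_top_of_surjective _ (QuotientGroup.mk'_surjective _)]
  · intro h
    refine frattini_nongenerating ?_
    rw [← QuotientGroup.ker_mk' (frattini P), ← Subgroup.comap_map_eq, hmap, h, Subgroup.comap_top]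

theorem card_frattini {n r : ℕ} (hP : Nat.card P = p ^ n) (hr : (frattini P).index = p ^ r) :
    Nat.card (frattini P) = p ^ (n - r) := by
  have h := (frattini P).card_mul_index
  rw [hP, hr] at h
  have hrn : r ≤ n := (Nat.pow_dvd_pow_iff_le_right hp.out.one_lt).1 (Dvd.intro_left _ h)
  apply Nat.eq_of_mul_eq_mul_right (pow_pos hp.out.pos r)
  rw [h, ← pow_add, Nat.sub_add_cancel hrn]

theorem aut_eq_one_of_fixes {r : ℕ} {f : Fin r → P} (hf : closure (Set.range f) = ⊤) (α : MulAut P)
    (h : ∀ i, α (f i) = f i) : α = 1 := by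
  ext x
  exact MonoidHom.eq_of_eqOn_top (f := α.toMonoidHom) (g := MonoidHom.id P)
    (hf ▸ MonoidHom.eqOn_closure (by rintro _ ⟨i, rfl⟩; exact h i)) |> fun e => DFunLike.congr_fun e x

theorem card_aut_dvd {n r : ℕ} (hP : Nat.card P = p ^ n) (hr : (frattini P).index = p ^ r) :
    Nat.card (MulAut P) ∣ p ^ (r * (n - r)) * ∏ i ∈ Finset.range r, (p ^ r - p ^ i) := by
  classical
  have hPp : IsPGroup p P := IsPGroup.of_card hP
  haveI := isMulCommutative_quotient_frattini hPp
  let X := {f : Fin r → P // closure (Set.range f) = ⊤}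
  letI : MulAction (MulAut P) X :=
    { smul := fun α f => ⟨fun i => α (f.1 i), by
        show closure (Set.range (α ∘ f.1)) = ⊤
        rw [Set.range_comp]
        have h := MonoidHom.map_closure α.toMonoidHom (Set.range f.1)
        rw [f.2, Subgroup.map_top_of_surjective _ α.surjective] at h
        exact h.symm⟩
      one_smul := fun f => rfl
      mul_smul := fun a b f => rfl }
  have hdvd : Nat.card (MulAut P) ∣ Nat.card X := card_dvd_of_free fun α f h =>
    aut_eq_one_of_fixes f.2 α fun i => congrFun (congrArg Subtype.val h) i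
  refine hdvd.trans (dvd_of_eq ?_)
  let S := {s : Fin r → P ⧸ frattini P // closure (Set.range s) = ⊤}
  let e : X ≃ Σ s : S, {f : Fin r → P // ∀ i, (f i : P ⧸ frattini P) = s.1 i} :=
    { toFun := fun f => ⟨⟨fun i => (f.1 i : P ⧸ frattini P), (closure_range_lift f.1).1 f.2⟩, f.1, fun i => rfl⟩
      invFun := fun t => ⟨t.2.1, (closure_range_lift _).2 (by
        rw [show (fun i => ((t.2.1 i : P) : P ⧸ frattini P)) = t.1.1 from funext t.2.2]; exact t.1.2)⟩
      left_inv := fun f => rfl
      right_inv := fun t => by
        obtain ⟨⟨s, hs⟩, f, hf⟩ := t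
        have : (fun i => (f i : P ⧸ frattini P)) = s := funext hf
        subst this
        rfl }
  haveI : Fintype S := Fintype.ofFinite _
  rw [Nat.card_congr e, Nat.card_sigma]
  rw [Finset.sum_congr rfl (fun s _ => Nat.card_congr (liftsEquiv s.1)), Finset.sum_const, Finset.card_univ,
    smul_eq_mul, ← Nat.card_eq_fintype_card, Nat.card_fun, Nat.card_fin, card_frattini hP hr, ← pow_mul,
    card_generating_tuples (pow_prime_quotient_frattini hPp) (by rw [← Subgroup.index_eq_card, hr]),
    mul_comm (n - r) r]
  ring

theorem card_stabilizing_dvd {n r : ℕ} (hP : Nat.card P = p ^ n) (hr : (frattini P).index = p ^ r)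
    (A : Subgroup (MulAut P)) (hA : ∀ α ∈ A, ∀ x : P, α x * x⁻¹ ∈ frattini P) :
    Nat.card A ∣ p ^ (r * (n - r)) := by
  classical
  have hPp : IsPGroup p P := IsPGroup.of_card hP
  haveI := isMulCommutative_quotient_frattini hPp
  have hcount := card_generating_tuples (pow_prime_quotient_frattini hPp)
    (show Nat.card (P ⧸ frattini P) = p ^ r by rw [← Subgroup.index_eq_card, hr])
  obtain ⟨⟨s, hs⟩⟩ : Nonempty {s : Fin r → P ⧸ frattini P // closure (Set.range s) = ⊤} := by
    refine (Nat.card_ne_zero.1 ?_).1
    rw [hcount]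
    refine Finset.prod_ne_zero_iff.2 fun i hi => ?_
    have := Nat.pow_lt_pow_right hp.out.one_lt (Finset.mem_range.1 hi)
    omega
  let X := {f : Fin r → P // ∀ i, (f i : P ⧸ frattini P) = s i}
  letI : MulAction A X :=
    { smul := fun α f => ⟨fun i => (α : MulAut P) (f.1 i), fun i => by
        rw [← f.2 i]
        refine (QuotientGroup.eq_iff_div_mem).2 ?_
        rw [div_eq_mul_inv]
        exact hA α α.2 (f.1 i)⟩
      one_smul := fun f => rfl
      mul_smul := fun a b f => rfl }
  have hdvd : Nat.card A ∣ Nat.card X := card_dvd_of_free fun α f h => by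
    refine Subtype.ext (aut_eq_one_of_fixes (f := f.1) ?_ α.1 fun i => congrFun (congrArg Subtype.val h) i)
    rw [closure_range_lift, show (fun i => (f.1 i : P ⧸ frattini P)) = s from funext f.2, hs]
  refine hdvd.trans (dvd_of_eq ?_)
  rw [Nat.card_congr (liftsEquiv s), Nat.card_fun, Nat.card_fin, card_frattini hP hr, ← pow_mul, mul_comm]

end Cfsg.Lib.PGroups
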