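/-
Centralisers of normal abelian subgroups and of extraspecial subgroups in p-groups.
-/
import Cfsg.Agent.PGroups.Basic
import Cfsg.Agent.PGroups.Commutators
import Cfsg.Prelude.Def_Transfer

set_option linter.style.haveILetI false
set_option linter.unusedSectionVars false

namespace Cfsg.Lib.PGroups

open Subgroup
open scoped commutatorElement

variable {G : Type*} [Group G] [Finite G] {p : ℕ} [hp : Fact p.Prime]

/-- A bound on the relative index of the centraliser of one more element. -/
theorem relIndex_centralizer_le (C : Subgroup G) (x : G) (S : Subgroup G)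
    (h : ∀ g ∈ C, ⁅g, x⁆ ∈ S) : (centralizer ({x} : Set G)).relIndex C ≤ Nat.card S := by
  rw [relIndex, Subgroup.index_eq_card]
  refine Nat.card_le_card_of_injective (fun q => (⟨⁅(q.out : G), x⁆, h _ q.out.2⟩ : S)) ?_
  intro a b hab
  rw [← QuotientGroup.out_eq' a, ← QuotientGroup.out_eq' b, QuotientGroup.eq, mem_subgroupOf]
  have hab' := congrArg Subtype.val hab
  simp only [commutatorElement_def] at hab'
  have h2 : (a.out : G) * x * (a.out : G)⁻¹ = b.out * x * (b.out : G)⁻¹ := mul_right_cancel hab'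
  refine mem_centralizer_singleton_iff.2 ?_
  calc ((a.out⁻¹ * b.out : C) : G) * x
      = (a.out : G)⁻¹ * ((b.out : G) * x * (b.out : G)⁻¹) * b.out := by simp [mul_assoc]
    _ = (a.out : G)⁻¹ * ((a.out : G) * x * (a.out : G)⁻¹) * b.out := by rw [h2]
    _ = x * ((a.out⁻¹ * b.out : C) : G) := by simp [mul_assoc]

theorem eq_sup_zpowers_of_relIndex_prime {K L : Subgroup G} (hKL : K ≤ L) (hi : K.relIndex L = p)
    {x : G} (hx : x ∈ L) (hxK : x ∉ K) : L = K ⊔ zpowers x := by
  have hle : K ⊔ zpowers x ≤ L := sup_le hKL (zpowers_le.2 hx)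
  have h1 := relIndex_mul_relIndex K (K ⊔ zpowers x) L le_sup_left hle
  rw [hi] at h1
  rcases hp.out.eq_one_or_self_of_dvd _ (Dvd.intro _ h1) with h | h
  · exact absurd ((relIndex_eq_one.1 h) (mem_sup_right (mem_zpowers x))) hxK
  · rw [h] at h1
    have h2 : (K ⊔ zpowers x).relIndex L = 1 := by
      simpa [hp.out.ne_zero] using h1
    exact le_antisymm (relIndex_eq_one.1 h2) hle

theorem centralizer_sup_zpowers (K : Subgroup G) (x : G) :
    centralizer ((K ⊔ zpowers x : Subgroup G) : Set G) =
      centralizer (K : Set G) ⊓ centralizer ({x} : Set G) := by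
  ext g
  constructor
  · intro h
    exact ⟨fun k hk => h k (mem_sup_left hk),
      mem_centralizer_singleton_iff.2 (h x (mem_sup_right (mem_zpowers x))).symm⟩
  · rintro ⟨h1, h2⟩
    have h3 : K ⊔ zpowers x ≤ centralizer ({g} : Set G) := by
      refine sup_le (fun k hk => mem_centralizer_singleton_iff.2 (h1 k hk)) (zpowers_le.2 ?_)
      exact mem_centralizer_singleton_iff.2 (mem_centralizer_singleton_iff.1 h2).symm
    exact fun k hk => mem_centralizer_singleton_iff.1 (h3 hk)

theorem centralizer_eq_self_of_maximal_normal_abelian (hG : IsPGroup p G) (A : Subgroup G)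
    [A.Normal] (hA : IsMulCommutative A)
    (hmax : ∀ B : Subgroup G, B.Normal → IsMulCommutative B → A ≤ B → B = A) :
    centralizer (A : Set G) = A := by
  haveI := hA
  by_contra hne
  obtain ⟨K, hK, hAK, hKC, hi⟩ :=
    exists_normal_relIndex_prime hG (lt_of_le_of_ne A.le_centralizer (Ne.symm hne))
  haveI := hK
  obtain ⟨x, hx, hxA⟩ := SetLike.not_le_iff_exists.1
    (fun hle : K ≤ A => hp.out.ne_one (hi ▸ relIndex_eq_one.2 hle))
  have hsup := eq_sup_zpowers_of_relIndex_prime hAK hi hx hxA
  refine hxA ((hmax K hK ?_ hAK) ▸ hx)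
  rw [← Subgroup.le_centralizer_iff_isMulCommutative]
  conv_rhs => rw [hsup, centralizer_sup_zpowers]
  exact le_inf hKC (hsup ▸ sup_le (fun a ha => mem_centralizer_singleton_iff.2 ((hKC hx) a ha))
    (zpowers_le.2 (mem_centralizer_singleton_iff.2 rfl)))

/-- Centralisers along a normal series with factors of order `p`. -/
theorem index_centralizer_le_of_normal (hG : IsPGroup p G) :
    ∀ (a : ℕ) (A : Subgroup G), A.Normal → Nat.card A = p ^ a →
      (centralizer (A : Set G)).index ≤ p ^ (a * (a - 1) / 2) := by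
  intro a
  induction a with
  | zero =>
    intro A _ hA
    have hbot : A = ⊥ := Subgroup.card_eq_one.1 (by rw [hA, pow_zero])
    subst hbot
    simp [Subgroup.coe_bot]
    have : centralizer ({1} : Set G) = ⊤ := by
      ext g; simp [mem_centralizer_singleton_iff]
    rw [this, index_top]
  | succ a ih =>
    intro A hA hcard
    haveI := hA
    haveI : Nontrivial A := by
      rw [← Finite.one_lt_card_iff_nontrivial, hcard]
      exact Nat.one_lt_pow (Nat.succ_ne_zero a) hp.out.one_lt
    -- a maximal normal subgroup below `A`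
    obtain ⟨B, ⟨hB, hBA⟩, hBmax⟩ := WellFounded.has_min
      (IsWellFounded.wf (r := ((· > ·) : Subgroup G → Subgroup G → Prop)))
      {B | B.Normal ∧ B < A} ⟨⊥, inferInstance, by
        rw [bot_lt_iff_ne_bot, ← Subgroup.nontrivial_iff_ne_bot]; infer_instance⟩
    haveI := hB
    obtain ⟨K, hK, hBK, hKA, hi⟩ := exists_normal_relIndex_prime hG hBA
    have hKA' : K = A := by
      by_contra hne
      refine hBmax K ⟨hK, lt_of_le_of_ne hKA hne⟩ (lt_of_le_of_ne hBK fun he => ?_)
      rw [he, relIndex_self] at hi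
      exact hp.out.ne_one hi.symm
    subst hKA'
    have hcardB : Nat.card B = p ^ a := by
      have h1 := relIndex_mul_relIndex ⊥ B K bot_le hBK
      rw [relIndex_bot_left, relIndex_bot_left, hi, hcard, pow_succ] at h1
      exact Nat.eq_of_mul_eq_mul_right hp.out.pos h1
    obtain ⟨x, hx, hxB⟩ := SetLike.not_le_iff_exists.1
      (fun hle : K ≤ B => hp.out.ne_one (hi ▸ relIndex_eq_one.2 hle))
    have hcomm : ∀ g : G, ⁅g, x⁆ ∈ B := by
      intro g
      haveI : (K.map (QuotientGroup.mk' B)).Normal :=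
        Subgroup.Normal.map inferInstance _ (QuotientGroup.mk'_surjective B)
      have hc : Nat.card (K.map (QuotientGroup.mk' B)) = p := by
        rw [← Subgroup.relIndex_ker, QuotientGroup.ker_mk', hi]
      have h2 := le_center_of_card_eq_prime (hG.to_quotient B) hc ⟨x, hx, rfl⟩
      rw [← QuotientGroup.eq_one_iff]
      show (QuotientGroup.mk' B) ⁅g, x⁆ = 1
      rw [map_commutatorElement, commutatorElement_eq_one_iff_mul_comm]
      exact Subgroup.mem_center_iff.1 h2 _
    rw [eq_sup_zpowers_of_relIndex_prime hBK hi hx hxB, centralizer_sup_zpowers,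
      ← relIndex_mul_index (inf_le_left : centralizer (B : Set G) ⊓ centralizer ({x} : Set G) ≤ _),
      inf_relIndex_left]
    refine le_trans (Nat.mul_le_mul
      (relIndex_centralizer_le (centralizer (B : Set G)) x B fun g _ => hcomm g) (ih B hB hcardB)) ?_
    rw [hcardB, ← pow_add]
    refine Nat.pow_le_pow_right hp.out.pos (le_of_eq ?_)
    rcases Nat.eq_zero_or_pos a with rfl | ha
    · simp
    · obtain ⟨b, rfl⟩ : ∃ b, a = b + 1 := ⟨a - 1, by omega⟩
      simp only [Nat.add_sub_cancel]
      rw [show (b + 1 + 1) * (b + 1) = (b + 1) * b + 2 * (b + 1) by ring,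
        Nat.add_mul_div_left _ _ (by norm_num : 0 < 2)]
      ring

/-- An extraspecial subgroup `E` with `[G, E] ≤ Z(E)` satisfies `G = E C(E)`. -/
theorem extraspecial_sup_centralizer (hG : IsPGroup p G) (E : Subgroup G) (hE : Cfsg.IsExtraspecial p E)
    (h : ⁅(⊤ : Subgroup G), E⁆ ≤ E ⊓ centralizer (E : Set G)) :
    E ⊔ centralizer (E : Set G) = ⊤ := by
  obtain ⟨⟨hEp, -, -⟩, hZ⟩ := hE
  set C := centralizer (E : Set G)
  have hZeq : (Subgroup.center E).map E.subtype = E ⊓ C := by
    ext x
    constructor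
    · rintro ⟨z, hz, rfl⟩
      exact ⟨z.2, fun e he => congrArg Subtype.val (Subgroup.mem_center_iff.1 hz ⟨e, he⟩)⟩
    · rintro ⟨hx, hxC⟩
      exact ⟨⟨x, hx⟩, Subgroup.mem_center_iff.2 fun e => Subtype.ext (hxC e e.2), rfl⟩
  have hZcard : Nat.card ↥(E ⊓ C) = p := by rw [← hZeq, card_subtype, hZ]
  haveI : E.Normal := ⟨fun e he g => by
    have hm := (h (commutator_mem_commutator (mem_top g) he)).1
    have := mul_mem hm he
    rwa [commutatorElement_def, inv_mul_cancel_right] at this⟩
  have key : ∀ n, ∀ K : Subgroup G, E ⊓ C ≤ K → K ≤ E → (E ⊓ C).relIndex K = p ^ n →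
      (centralizer (K : Set G)).index ≤ p ^ n := by
    intro n
    induction n with
    | zero =>
      intro K hK hKE hi
      have hKle : K ≤ E ⊓ C := relIndex_eq_one.1 (by rw [hi, pow_zero])
      have hEC : E ⊓ C ≤ Subgroup.center G := le_center_of_card_eq_prime hG hZcard
      have htop : centralizer (K : Set G) = ⊤ := by
        rw [eq_top_iff]
        intro g _ k hk
        exact (Subgroup.mem_center_iff.1 (hEC (hKle hk)) g).symm
      rw [htop, index_top, pow_zero]
    | succ n ih =>
      intro K hK hKE hi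
      have hne : ¬ K ≤ E ⊓ C := fun hle => by
        rw [relIndex_eq_one.2 hle] at hi
        exact (Nat.one_lt_pow (Nat.succ_ne_zero n) hp.out.one_lt).ne hi
      -- a subgroup of index `p` in `K` above `E ⊓ C`
      have hKp : IsPGroup p K := hEp.of_injective (Subgroup.inclusion hKE) (inclusion_injective hKE)
      obtain ⟨M, hM, hZM⟩ : ∃ M : Subgroup K, IsCoatom M ∧ (E ⊓ C).subgroupOf K ≤ M := by
        rcases IsCoatomic.eq_top_or_exists_le_coatom ((E ⊓ C).subgroupOf K) with h' | h'
        · exact absurd (subgroupOf_eq_top.1 h') hne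
        · exact h'
      obtain ⟨-, hMi⟩ := coatom_normal_index hKp hM
      set L := M.map K.subtype
      have hLK : L ≤ K := map_subtype_le M
      have hL : L.relIndex K = p := by
        show (L.subgroupOf K).index = p
        rw [subgroupOf, comap_map_eq_self_of_injective K.subtype_injective, hMi]
      have hZL : E ⊓ C ≤ L := fun z hz => ⟨⟨z, hK hz⟩, hZM hz, rfl⟩
      have hLn : (E ⊓ C).relIndex L = p ^ n := by
        have h1 := relIndex_mul_relIndex (E ⊓ C) L K hZL hLK
        rw [hL, hi, pow_succ] at h1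
        exact Nat.eq_of_mul_eq_mul_right hp.out.pos h1
      obtain ⟨x, hx, hxL⟩ := SetLike.not_le_iff_exists.1
        (fun hle : K ≤ L => hp.out.ne_one (hL ▸ relIndex_eq_one.2 hle))
      rw [eq_sup_zpowers_of_relIndex_prime hLK hL hx hxL, centralizer_sup_zpowers]
      refine le_trans index_inf_le ?_
      rw [pow_succ]
      refine Nat.mul_le_mul (ih L hZL (hLK.trans hKE) hLn) ?_
      rw [← relIndex_top_right]
      exact (relIndex_centralizer_le ⊤ x (E ⊓ C) fun g hg =>
        h (commutator_mem_commutator hg (hKE hx))).trans hZcard.le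
  obtain ⟨n, hn⟩ : ∃ n, (E ⊓ C).relIndex E = p ^ n :=
    ⟨_, (hEp.index ((E ⊓ C).subgroupOf E)).choose_spec⟩
  have hCi : C.index ≤ p ^ n := key n E inf_le_left le_rfl hn
  have h2 : C.relIndex (E ⊔ C) = p ^ n := by
    rw [relIndex_sup_right, ← inf_relIndex_right, inf_comm, hn]
  have h3 := relIndex_mul_index (le_sup_right : C ≤ E ⊔ C)
  rw [h2] at h3
  rw [← index_eq_one]
  have hpos : 0 < (E ⊔ C).index := Nat.pos_of_ne_zero index_ne_zero_of_finite
  have : p ^ n * (E ⊔ C).index ≤ p ^ n * 1 := by rw [h3, mul_one]; exact hCi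
  exact le_antisymm (Nat.le_of_mul_le_mul_left this (pow_pos hp.out.pos n)) hpos

end Cfsg.Lib.PGroups
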