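/-
A 2-group with an elementary abelian subgroup of order eight has a normal four group.
-/
import Cfsg.Agent.PGroups.Bounds
import Mathlib

set_option autoImplicit false
set_option linter.style.haveILetI false

namespace Cfsg.Lib.PGroups

open Subgroup

universe u

variable {S : Type u} [Group S] [Finite S]

lemma card_closure_pair {z e : S} (hzz : z * z = 1) (hee : e * e = 1) (hz : z ≠ 1) (he : e ≠ 1)
    (hne : e ≠ z) (hc : z * e = e * z) :
    Nat.card (Subgroup.closure ({z, e} : Set S)) = 4 ∧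
      ∀ x ∈ Subgroup.closure ({z, e} : Set S), x * x = 1 := by
  classical
  let U : Subgroup S :=
    { carrier := {1, z, e, z * e}
      one_mem' := by simp
      mul_mem' := by
        have h1 : z * (z * e) = e := by rw [← mul_assoc, hzz, one_mul]
        have h2 : e * (z * e) = z := by rw [hc, ← mul_assoc, hee, one_mul]
        have h3 : (z * e) * z = e := by rw [hc, mul_assoc, hzz, mul_one]
        have h4 : (z * e) * e = z := by rw [mul_assoc, hee, mul_one]
        have h5 : (z * e) * (z * e) = 1 := by rw [mul_assoc, h2, hzz]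
        intro a b ha hb
        simp only [Set.mem_insert_iff, Set.mem_singleton_iff] at ha hb ⊢
        rcases ha with rfl | rfl | rfl | rfl <;> rcases hb with rfl | rfl | rfl | rfl <;>
          simp [hzz, hee, ← hc, h1, h2, h3, h4, h5]
      inv_mem' := by
        intro a ha
        simp only [Set.mem_insert_iff, Set.mem_singleton_iff] at ha ⊢
        rcases ha with rfl | rfl | rfl | rfl
        · simp
        · exact Or.inr (Or.inl (inv_eq_of_mul_eq_one_right hzz))
        · exact Or.inr (Or.inr (Or.inl (inv_eq_of_mul_eq_one_right hee)))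
        · right; right; right
          rw [mul_inv_rev, inv_eq_of_mul_eq_one_right hzz, inv_eq_of_mul_eq_one_right hee, hc] }
  have hU : U = Subgroup.closure ({z, e} : Set S) := by
    refine le_antisymm ?_ ((closure_le U).2 ?_)
    · rintro x (rfl | rfl | rfl | rfl)
      · exact one_mem _
      · exact subset_closure (Set.mem_insert _ _)
      · exact subset_closure (Set.mem_insert_of_mem _ rfl)
      · exact mul_mem (subset_closure (Set.mem_insert _ _)) (subset_closure (Set.mem_insert_of_mem _ rfl))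
    · rintro x (rfl | rfl)
      · exact Or.inr (Or.inl rfl)
      · exact Or.inr (Or.inr (Or.inl rfl))
  rw [← hU]
  refine ⟨?_, ?_⟩
  · show ({1, z, e, z * e} : Set S).ncard = 4
    rw [Set.ncard_insert_of_notMem, Set.ncard_insert_of_notMem, Set.ncard_pair]
    · intro h
      exact hz (mul_right_cancel (h.symm.trans (one_mul e).symm))
    · simp only [Set.mem_insert_iff, Set.mem_singleton_iff, not_or]
      exact ⟨hne.symm, fun h => he (mul_left_cancel (h.symm.trans (mul_one z).symm))⟩
    · simp only [Set.mem_insert_iff, Set.mem_singleton_iff, not_or]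
      refine ⟨hz.symm, he.symm, fun h => hne ?_⟩
      calc e = (z * z) * e := by rw [hzz, one_mul]
        _ = z * (z * e) := mul_assoc _ _ _
        _ = z := by rw [← h, mul_one]
  · rintro x (rfl | rfl | rfl | rfl)
    · exact one_mul 1
    · exact hzz
    · exact hee
    · calc z * e * (z * e) = z * (e * z) * e := by simp only [mul_assoc]
        _ = (z * z) * (e * e) := by rw [← hc]; simp only [mul_assoc]
        _ = 1 := by rw [hzz, hee, one_mul]

lemma isKleinFour_closure_pair {z e : S} (hzz : z * z = 1) (hee : e * e = 1) (hz : z ≠ 1) (he : e ≠ 1)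
    (hne : e ≠ z) (hc : z * e = e * z) : IsKleinFour (Subgroup.closure ({z, e} : Set S)) := by
  obtain ⟨h1, h2⟩ := card_closure_pair hzz hee hz he hne hc
  haveI : Nontrivial (Subgroup.closure ({z, e} : Set S)) :=
    ⟨⟨⟨z, subset_closure (Set.mem_insert _ _)⟩, 1, fun h => hz (congrArg Subtype.val h)⟩⟩
  exact ⟨h1, (Monoid.exponent_eq_prime_iff Nat.prime_two).2
    fun g hg => orderOf_eq_prime (Subtype.ext (by rw [pow_two]; exact h2 g g.2)) hg⟩

/-- A 2-group with an elementary abelian subgroup of order eight has a normal four group. -/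
theorem exists_normal_four (hS : IsPGroup 2 S) (E : Subgroup S) (hE : Nat.card E = 8)
    (hE2 : ∀ e ∈ E, e * e = 1) : ∃ U : Subgroup S, U.Normal ∧ IsKleinFour U := by
  classical
  haveI : Fact (Nat.Prime 2) := ⟨Nat.prime_two⟩
  have hEc : ∀ a ∈ E, ∀ b ∈ E, a * b = b * a := fun a ha b hb => by
    have h := hE2 _ (mul_mem ha hb)
    have h1 : a⁻¹ = a := inv_eq_of_mul_eq_one_right (hE2 a ha)
    have h2 : b⁻¹ = b := inv_eq_of_mul_eq_one_right (hE2 b hb)
    calc a * b = (a * b)⁻¹ := (inv_eq_of_mul_eq_one_right h).symm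
      _ = b * a := by rw [mul_inv_rev, h1, h2]
  obtain ⟨A, ⟨hAn, hAc⟩, hmax⟩ := exists_maximal_of_wellFoundedGT
    (fun A : Subgroup S => A.Normal ∧ IsMulCommutative A) ⟨⊥, inferInstance, inferInstance⟩
  haveI := hAn
  haveI := hAc
  have hCA : centralizer (A : Set S) = A := centralizer_eq_self_of_maximal_normal_abelian hS A hAc
    (fun B hB hBc hAB => le_antisymm (hmax ⟨hB, hBc⟩ hAB) hAB)
  have hcomm : ∀ x y : S, x ∈ A → y ∈ A → x * y = y * x := fun x y hx hy =>
    congrArg Subtype.val (hAc.is_comm.comm (⟨x, hx⟩ : A) ⟨y, hy⟩)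
  have hE1 : E ≠ ⊥ := fun h => by rw [h, card_bot] at hE; omega
  have hAne : A ≠ ⊥ := by
    intro h
    apply hE1
    rw [eq_bot_iff]
    intro x _
    rw [← h, ← hCA, h]
    exact mem_centralizer_iff.2 fun y hy => by rw [mem_bot.1 hy, one_mul, mul_one]
  haveI : Nontrivial A := (nontrivial_iff_ne_bot _).2 hAne
  -- two involutions in `A`, or `A` is cyclic
  obtain ⟨z, hzA, hzc, hzo⟩ : ∃ z ∈ A, z ∈ center S ∧ orderOf z = 2 := by
    obtain ⟨K, hK, -, hKA, hi⟩ := exists_normal_relIndex_prime hS (N := ⊥) (M := A) (bot_lt_iff_ne_bot.2 hAne)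
    rw [relIndex_bot_left] at hi
    obtain ⟨⟨z, hzK⟩, hz⟩ := exists_prime_orderOf_dvd_card' (G := K) 2 hi.symm.dvd
    rw [Subgroup.orderOf_mk] at hz
    refine ⟨z, hKA hzK, mem_center_iff.2 fun g => ?_, hz⟩
    have h1 : g * z * g⁻¹ ∈ K := hK.conj_mem z hzK g
    have h2 : g * z * g⁻¹ ≠ 1 := fun h => by
      rw [conj_eq_one_iff] at h; rw [h, orderOf_one] at hz; omega
    have h3 : ∀ x ∈ K, x ≠ 1 → x = z := by
      intro x hx hx1
      obtain ⟨a, b, -, hab⟩ := Nat.card_eq_two_iff.1 hi
      have hall : ∀ y : K, y = a ∨ y = b := fun y => by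
        have := Set.mem_univ y; rw [← hab] at this; simpa using this
      have hz1 : (⟨z, hzK⟩ : K) ≠ 1 := fun h => by
        rw [show z = 1 from congrArg Subtype.val h, orderOf_one] at hz; omega
      have hx1' : (⟨x, hx⟩ : K) ≠ 1 := fun h => hx1 (congrArg Subtype.val h)
      rcases hall 1 with h0 | h0 <;> rcases hall ⟨x, hx⟩ with hx' | hx' <;>
        rcases hall ⟨z, hzK⟩ with hz' | hz'
      all_goals first
        | exact congrArg Subtype.val (hx'.trans hz'.symm)
        | exact absurd (hx'.trans h0.symm) hx1'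
        | exact absurd (hz'.trans h0.symm) hz1
    exact mul_inv_eq_iff_eq_mul.1 (h3 _ h1 h2)
  have hzz : z * z = 1 := by rw [← pow_two, ← hzo]; exact pow_orderOf_eq_one z
  have hz1 : z ≠ 1 := fun h => by rw [h, orderOf_one] at hzo; omega
  by_cases hrk : ∃ y ∈ A, y * y = 1 ∧ y ≠ 1 ∧ y ≠ z
  · -- a normal four group inside the involutions of `A`
    obtain ⟨y, hyA, hyy, hy1, hyz⟩ := hrk
    let Ω : Subgroup S :=
      { carrier := {x | x ∈ A ∧ x * x = 1}
        one_mem' := ⟨one_mem _, one_mul 1⟩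
        mul_mem' := fun {a b} ha hb => ⟨mul_mem ha.1 hb.1, by
          calc a * b * (a * b) = a * (b * a) * b := by simp only [mul_assoc]
            _ = (a * a) * (b * b) := by rw [hcomm b a hb.1 ha.1]; simp only [mul_assoc]
            _ = 1 := by rw [ha.2, hb.2, one_mul]⟩
        inv_mem' := fun {a} ha => ⟨inv_mem ha.1, by rw [← mul_inv_rev, ha.2, inv_one]⟩ }
    haveI : Ω.Normal := ⟨fun x hx g => ⟨hAn.conj_mem x hx.1 g, by
      rw [show g * x * g⁻¹ * (g * x * g⁻¹) = g * (x * x) * g⁻¹ by group, hx.2, mul_one, mul_inv_cancel]⟩⟩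
    let Z := zpowers z
    haveI : Z.Normal := ⟨fun x hx g => by
      obtain ⟨k, rfl⟩ := hx
      rw [show g * (z ^ k) * g⁻¹ = z ^ k by
        rw [((show Commute g z from mem_center_iff.1 hzc g).zpow_right k).eq, mul_inv_cancel_right]]
      exact zpow_mem (mem_zpowers z) k⟩
    have hlt : Z < Ω := by
      refine lt_of_le_of_ne (zpowers_le.2 ⟨hzA, hzz⟩) fun h => ?_
      have hy : y ∈ Z := h ▸ ⟨hyA, hyy⟩
      obtain ⟨k, hk⟩ := mem_zpowers_iff.1 hy
      rw [← zpow_mod_orderOf, hzo] at hk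
      rcases Int.emod_two_eq_zero_or_one k with h2 | h2 <;> rw [Nat.cast_ofNat, h2] at hk
      · exact hy1 (by rw [← hk, zpow_zero])
      · exact hyz (by rw [← hk, zpow_one])
    obtain ⟨U, hU, hZU, hUΩ, hUi⟩ := exists_normal_relIndex_prime hS hlt
    haveI : Nontrivial U := ⟨⟨⟨z, hZU (mem_zpowers z)⟩, 1, fun h => hz1 (congrArg Subtype.val h)⟩⟩
    refine ⟨U, hU, ?_, (Monoid.exponent_eq_prime_iff Nat.prime_two).2
      fun g hg => orderOf_eq_prime (Subtype.ext (by rw [pow_two]; exact (hUΩ g.2).2)) hg⟩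
    have := relIndex_mul_relIndex ⊥ Z U bot_le hZU
    rw [relIndex_bot_left, relIndex_bot_left, hUi, Nat.card_zpowers, hzo] at this
    exact this.symm
  · push Not at hrk
    have hAinv : ∀ x ∈ A, x * x = 1 → x = 1 ∨ x = z := fun x hx hxx => by
      by_cases h1 : x = 1
      · exact Or.inl h1
      · exact Or.inr (hrk x hx hxx h1)
    obtain ⟨a, rfl⟩ : ∃ a : S, A = zpowers a := by
      letI : CommGroup A := { (inferInstance : Group A) with mul_comm := hAc.is_comm.comm }
      haveI : Fintype A := Fintype.ofFinite A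
      have hbound : ∀ k, (Finset.univ.filter fun x : A => x ^ 2 ^ k = 1).card ≤ 2 ^ k := by
        intro k
        induction k with
        | zero => simp [Finset.filter_eq']
        | succ k ih =>
          calc (Finset.univ.filter fun x : A => x ^ 2 ^ (k + 1) = 1).card
              ≤ 2 * (Finset.univ.filter fun x : A => x ^ 2 ^ k = 1).card := by
                refine Finset.card_le_mul_card_image_of_maps_to (f := fun x : A => x ^ 2) ?_ 2 ?_
                · intro x hx
                  simp only [Finset.coe_filter, Finset.mem_univ, true_and, Set.mem_setOf_eq,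
                    Finset.mem_filter] at hx ⊢
                  rw [← pow_mul, mul_comm, ← pow_succ, hx]
                · intro y _
                  rcases (Finset.filter (fun x : A => x ^ 2 = y)
                    (Finset.univ.filter fun x : A => x ^ 2 ^ (k + 1) = 1)).eq_empty_or_nonempty with h | ⟨x₀, hx₀⟩
                  · rw [h, Finset.card_empty]; omega
                  simp only [Finset.mem_filter] at hx₀
                  refine (Finset.card_le_card (t := {x₀, x₀ * ⟨z, hzA⟩}) ?_).trans Finset.card_le_two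
                  intro x hx
                  simp only [Finset.mem_filter] at hx
                  have h : (x₀⁻¹ * x) ^ 2 = 1 := by rw [mul_pow, inv_pow, hx₀.2, hx.2, inv_mul_cancel]
                  rcases hAinv _ (x₀⁻¹ * x).2 (by simpa [pow_two] using congrArg Subtype.val h) with h' | h'
                  · simp [(inv_mul_eq_one.1 (show x₀⁻¹ * x = 1 from Subtype.ext h'))]
                  · simp [show x = x₀ * ⟨z, hzA⟩ from inv_mul_eq_iff_eq_mul.1 (show x₀⁻¹ * x = ⟨z, hzA⟩ from Subtype.ext h')]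
            _ ≤ 2 * 2 ^ k := Nat.mul_le_mul_left 2 ih
            _ = 2 ^ (k + 1) := by rw [pow_succ, mul_comm]
      haveI : IsCyclic A := by
        refine isCyclic_of_card_pow_eq_one_le fun n hn => ?_
        obtain ⟨m, hm⟩ := IsPGroup.iff_card.1 (hS.to_subgroup A)
        obtain ⟨i, -, hi⟩ := (Nat.dvd_prime_pow Nat.prime_two).1
          (show Nat.gcd n (Nat.card A) ∣ 2 ^ m by rw [← hm]; exact Nat.gcd_dvd_right _ _)
        refine le_trans ?_ ((hbound i).trans (Nat.le_of_dvd hn (hi ▸ Nat.gcd_dvd_left _ _)))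
        refine Finset.card_le_card fun x hx => ?_
        simp only [Finset.mem_filter, Finset.mem_univ, true_and] at hx ⊢
        rw [← hi, pow_gcd_eq_one]
        exact ⟨hx, pow_card_eq_one'⟩
      obtain ⟨g, hg⟩ := IsCyclic.exists_generator (α := A)
      refine ⟨g, le_antisymm (fun x hx => ?_) (zpowers_le.2 g.2)⟩
      obtain ⟨k, hk⟩ := mem_zpowers_iff.1 (hg ⟨x, hx⟩)
      exact ⟨k, congrArg Subtype.val hk⟩
    have haA : a ∈ zpowers a := mem_zpowers a
    have hconj : ∀ s : S, s * a * s⁻¹ ∈ zpowers a := fun s => hAn.conj_mem a haA s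
    have hzcomm : ∀ x : S, x * z = z * x := fun x => mem_center_iff.1 hzc x
    have hnA : ∀ x : S, x * a = a * x → x ∈ zpowers a := fun x hx => by
      rw [← hCA, mem_centralizer_iff]
      rintro _ ⟨k, rfl⟩
      exact ((show Commute a x from hx.symm).zpow_left k).eq
    -- two elements of `E`
    let B : Finset S := {1, z}
    obtain ⟨f₁, hf₁E, hf₁⟩ : ∃ f ∈ E, f ∉ zpowers a := by
      by_contra hall
      push Not at hall
      have h : (E : Set S) ⊆ {1, z} := fun x hx => hAinv x (hall x hx) (hE2 x hx)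
      have := (Set.ncard_le_ncard h).trans (Set.ncard_insert_le _ _)
      rw [Set.ncard_singleton, show (E : Set S).ncard = 8 from hE] at this
      omega
    obtain ⟨f₂, hf₂E, hf₂, hf₁₂⟩ : ∃ f ∈ E, f ∉ zpowers a ∧ f₁ * f ∉ zpowers a := by
      by_contra hall
      push Not at hall
      have h : (E : Set S) ⊆ {1, z, f₁, f₁ * z} := fun x hx => by
        by_cases hxA : x ∈ zpowers a
        · rcases hAinv x hxA (hE2 x hx) with h | h <;> simp [h]
        · have h2 := hAinv _ (hall x hx hxA) (hE2 _ (mul_mem hf₁E hx))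
          have he : x = f₁ * (f₁ * x) := by rw [← mul_assoc, hE2 f₁ hf₁E, one_mul]
          rcases h2 with h | h <;> rw [h] at he
          · rw [mul_one] at he; simp [he]
          · simp [he]
      have := ((Set.ncard_le_ncard h).trans (Set.ncard_insert_le _ _)).trans
        (Nat.add_le_add_right ((Set.ncard_insert_le _ _).trans (Nat.add_le_add_right (Set.ncard_insert_le _ _) 1)) 1)
      rw [Set.ncard_singleton, show (E : Set S).ncard = 8 from hE] at this
      omega
    have hinvol : ∀ f ∈ E, f⁻¹ = f := fun f hf => inv_eq_of_mul_eq_one_right (hE2 f hf)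
    -- `a` has order at least eight
    have ha8 : a ^ 4 ≠ 1 := by
      intro h4
      have h22 : (a ^ 2) * (a ^ 2) = 1 := by rw [← pow_add]; exact h4
      have hc2 : ∀ s : S, s * a ^ 2 * s⁻¹ = a ^ 2 := by
        intro s
        rcases hAinv (a ^ 2) (pow_mem haA 2) h22 with h | h <;> rw [h]
        · group
        · rw [hzcomm, mul_inv_cancel_right]
      have hz' : ∀ f ∈ E, f ∉ zpowers a → f * a * f⁻¹ = z * a := by
        intro f hf hfA
        rcases hAinv (f * a * f⁻¹ * a⁻¹) (mul_mem (hconj f) (inv_mem haA)) (by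
          have e : f * a * f⁻¹ * a⁻¹ * (f * a * f⁻¹ * a⁻¹) = f * a * f⁻¹ * (f * a * f⁻¹) * (a⁻¹ * a⁻¹) := by
            rw [mul_assoc (f * a * f⁻¹) a⁻¹, ← mul_assoc a⁻¹ (f * a * f⁻¹) a⁻¹,
              hcomm a⁻¹ _ (inv_mem haA) (hconj f)]
            simp only [mul_assoc]
          rw [e, show f * a * f⁻¹ * (f * a * f⁻¹) = f * a ^ 2 * f⁻¹ by rw [pow_two]; group, hc2]
          group) with h | h
        · exact absurd (hnA f (mul_inv_eq_iff_eq_mul.1 (mul_inv_eq_one.1 h))) hfA
        · exact mul_inv_eq_iff_eq_mul.1 h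
      have h1 := hz' _ hf₁E hf₁
      have h2 := hz' _ hf₂E hf₂
      apply hf₁₂
      refine hnA _ (mul_inv_eq_iff_eq_mul.1 ?_)
      calc f₁ * f₂ * a * (f₁ * f₂)⁻¹ = f₁ * (f₂ * a * f₂⁻¹) * f₁⁻¹ := by group
        _ = f₁ * z * f₁⁻¹ * (f₁ * a * f₁⁻¹) := by rw [h2]; group
        _ = a := by rw [hzcomm, mul_inv_cancel_right, h1, ← mul_assoc, hzz, one_mul]
    -- every element of `E` centralises or inverts `a ^ 2`
    have hsign : ∀ f ∈ E, f * a ^ 2 * f⁻¹ = a ^ 2 ∨ f * a ^ 2 * f⁻¹ = (a ^ 2)⁻¹ := by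
      intro f hf
      obtain ⟨r, hr⟩ := mem_zpowers_iff.1 (hconj f)
      obtain ⟨n, hn⟩ : ∃ n, orderOf a = 2 ^ n := by
        obtain ⟨k, hk⟩ := hS a
        obtain ⟨i, -, hi⟩ := (Nat.dvd_prime_pow Nat.prime_two).1 (orderOf_dvd_of_pow_eq_one hk)
        exact ⟨i, hi⟩
      have h1 : a ^ (r * r) = a ^ (1 : ℤ) := by
        rw [zpow_one, zpow_mul, hr, conj_zpow, hr, hinvol f hf,
          show f * (f * a * f) * f = (f * f) * a * (f * f) by group, hE2 f hf, one_mul, mul_one]
      have h2 : (2 : ℤ) ^ n ∣ (r - 1) * (r + 1) := by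
        have := zpow_eq_zpow_iff_modEq.1 h1
        rw [hn, Int.modEq_iff_dvd] at this
        push_cast at this
        have h3 := dvd_neg.2 this
        rwa [show (r - 1) * (r + 1) = -(1 - r * r) by ring]
      have hn3 : 2 ≤ n := by
        by_contra hlt
        apply ha8
        rw [← orderOf_dvd_iff_pow_eq_one, hn]
        exact (pow_dvd_pow 2 (show n ≤ 2 by omega))
      have hodd : ¬ (2 : ℤ) ∣ r := by
        intro hd
        have h3 : (2 : ℤ) ∣ (r - 1) * (r + 1) := (dvd_pow_self 2 (by omega : n ≠ 0)).trans h2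
        rcases Int.prime_two.dvd_or_dvd h3 with h4 | h4 <;> omega
      obtain ⟨t, rfl⟩ : ∃ t, r = 2 * t + 1 := ⟨r / 2, by omega⟩
      obtain ⟨n, rfl⟩ : ∃ m, n = m + 2 := ⟨n - 2, by omega⟩
      have h3 : (2 : ℤ) ^ n ∣ t * (t + 1) := by
        rw [show (2 * t + 1 - 1) * (2 * t + 1 + 1) = 2 ^ 2 * (t * (t + 1)) by ring, pow_add,
          mul_comm ((2 : ℤ) ^ n)] at h2
        exact (mul_dvd_mul_iff_left (by norm_num)).1 h2
      have hsq : f * a ^ 2 * f⁻¹ = a ^ ((2 * t + 1) * 2) := by
        rw [zpow_mul, hr, conj_zpow, zpow_ofNat]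
      rw [hsq]
      rcases Int.emod_two_eq_zero_or_one t with ht | ht
      · left
        have hcop : IsCoprime ((2 : ℤ) ^ n) (t + 1) := by
          refine IsCoprime.pow_left ⟨-(t / 2), 1, ?_⟩
          omega
        rw [← zpow_ofNat, zpow_eq_zpow_iff_modEq, hn, Int.modEq_iff_dvd]
        push_cast
        obtain ⟨q, hq⟩ := hcop.dvd_of_dvd_mul_right h3
        exact ⟨-q, by rw [hq, pow_add]; ring⟩
      · right
        have hcop : IsCoprime ((2 : ℤ) ^ n) t := by
          refine IsCoprime.pow_left ⟨-(t / 2), 1, ?_⟩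
          omega
        rw [← zpow_ofNat, ← zpow_neg, zpow_eq_zpow_iff_modEq, hn, Int.modEq_iff_dvd]
        push_cast
        obtain ⟨q, hq⟩ := hcop.dvd_of_dvd_mul_left h3
        have hq' : t = 2 ^ n * q - 1 := by linarith
        exact ⟨-q, by rw [hq', pow_add]; ring⟩
    obtain ⟨e, heE, heA, he2⟩ : ∃ e ∈ E, e ∉ zpowers a ∧ e * a ^ 2 * e⁻¹ = a ^ 2 := by
      rcases hsign f₁ hf₁E with h | h
      · exact ⟨f₁, hf₁E, hf₁, h⟩
      rcases hsign f₂ hf₂E with h' | h'
      · exact ⟨f₂, hf₂E, hf₂, h'⟩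
      refine ⟨f₁ * f₂, mul_mem hf₁E hf₂E, hf₁₂, ?_⟩
      calc f₁ * f₂ * a ^ 2 * (f₁ * f₂)⁻¹ = f₁ * (f₂ * a ^ 2 * f₂⁻¹) * f₁⁻¹ := by group
        _ = (f₁ * a ^ 2 * f₁⁻¹)⁻¹ := by rw [h']; group
        _ = a ^ 2 := by rw [h, inv_inv]
    -- an element centralising `a ^ 2` but not `a` multiplies `a` by `z`
    have hact : ∀ f : S, f ∉ zpowers a → f * a ^ 2 * f⁻¹ = a ^ 2 → f * a * f⁻¹ = z * a := by
      intro f hfA hf2
      rcases hAinv (f * a * f⁻¹ * a⁻¹) (mul_mem (hconj f) (inv_mem haA)) (by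
        rw [mul_assoc (f * a * f⁻¹) a⁻¹, ← mul_assoc a⁻¹ (f * a * f⁻¹) a⁻¹,
          hcomm a⁻¹ _ (inv_mem haA) (hconj f), mul_assoc (f * a * f⁻¹) a⁻¹ a⁻¹, ← mul_assoc,
          show f * a * f⁻¹ * (f * a * f⁻¹) = f * a ^ 2 * f⁻¹ by rw [pow_two]; group, hf2]
        group) with h | h
      · exact absurd (hnA f (mul_inv_eq_iff_eq_mul.1 (mul_inv_eq_one.1 h))) hfA
      · exact mul_inv_eq_iff_eq_mul.1 h
    have hea := hact e heA he2
    have hee := hE2 e heE
    have hei := hinvol e heE
    refine ⟨closure {z, e}, ⟨fun x hx s => ?_⟩,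
      isKleinFour_closure_pair hzz hee hz1 (fun h => heA (h ▸ one_mem _)) (fun h => heA (h ▸ hzA))
        (hzcomm e).symm⟩
    -- conjugates of `e`
    have hse : s * e * s⁻¹ ∈ closure ({z, e} : Set S) := by
      set e' := s * e * s⁻¹ with he'
      have he'A : e' ∉ zpowers a := fun h => heA (by
        have := hAn.conj_mem e' h s⁻¹
        simpa [he', mul_assoc] using this)
      have he'2 : e' * a ^ 2 * e'⁻¹ = a ^ 2 := by
        obtain ⟨m, hm⟩ := mem_zpowers_iff.1 (hconj s⁻¹)
        have h1 : s⁻¹ * a ^ 2 * s = (a ^ 2) ^ m := by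
          rw [← zpow_natCast, ← zpow_mul, mul_comm, zpow_mul, hm, conj_zpow, inv_inv, zpow_natCast]
        calc e' * a ^ 2 * e'⁻¹ = s * (e * (s⁻¹ * a ^ 2 * s) * e⁻¹) * s⁻¹ := by rw [he']; group
          _ = s * (s⁻¹ * a ^ 2 * s) * s⁻¹ := by rw [h1, ← conj_zpow, he2]
          _ = a ^ 2 := by group
      have he'a := hact e' he'A he'2
      have hx : e * e' ∈ zpowers a := hnA _ (mul_inv_eq_iff_eq_mul.1 (by
        calc e * e' * a * (e * e')⁻¹ = e * (e' * a * e'⁻¹) * e⁻¹ := by group
          _ = e * z * e⁻¹ * (e * a * e⁻¹) := by rw [he'a]; group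
          _ = a := by rw [hzcomm, mul_inv_cancel_right, hea, ← mul_assoc, hzz, one_mul]))
      obtain ⟨j, hj⟩ := mem_zpowers_iff.1 hx
      have he'' : e' = e * a ^ j := by rw [hj, ← mul_assoc, hee, one_mul]
      have hinv : e * a ^ j * e⁻¹ = (a ^ j)⁻¹ := by
        have h : e' * e' = 1 := by
          rw [he', show s * e * s⁻¹ * (s * e * s⁻¹) = s * (e * e) * s⁻¹ by group, hee, mul_one, mul_inv_cancel]
        rw [hei]
        rw [he'', ← mul_assoc] at h
        exact eq_inv_of_mul_eq_one_left h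
      rw [← conj_zpow, hea, (show Commute z a from (hzcomm a).symm).mul_zpow] at hinv
      have hz2 : ∀ k : ℤ, z ^ (2 * k) = 1 := fun k => by rw [zpow_mul, zpow_two, hzz, one_zpow]
      have h4 : a ^ (4 * j) = 1 := by
        have h5 : z ^ j = (a ^ j)⁻¹ * (a ^ j)⁻¹ := eq_mul_inv_of_mul_eq hinv
        have h6 := congrArg (fun x => x * x) h5
        rw [← zpow_add, ← two_mul, hz2] at h6
        rw [← inv_eq_one, h6]
        group
      have hjeven : ∃ k, j = 2 * k := by
        obtain ⟨i, hi⟩ := hS a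
        obtain ⟨n, -, hn⟩ := (Nat.dvd_prime_pow Nat.prime_two).1 (orderOf_dvd_of_pow_eq_one hi)
        have hn3 : 3 ≤ n := by
          by_contra hlt
          apply ha8
          rw [← orderOf_dvd_iff_pow_eq_one, hn]
          exact (pow_dvd_pow 2 (show n ≤ 2 by omega))
        have h7 := orderOf_dvd_iff_zpow_eq_one.2 h4
        rw [hn] at h7
        have h8 : ((2 : ℤ) ^ 3) ∣ 4 * j := by
          refine (pow_dvd_pow 2 hn3).trans ?_
          exact_mod_cast h7
        exact ⟨j / 2, by omega⟩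
      obtain ⟨k, rfl⟩ := hjeven
      rw [hz2, one_mul] at hinv
      rw [he'']
      refine mul_mem (subset_closure (Set.mem_insert_of_mem _ rfl)) ?_
      rcases hAinv _ (zpow_mem haA (2 * k)) (mul_eq_one_iff_eq_inv.2 hinv) with h | h <;> rw [h]
      · exact one_mem _
      · exact subset_closure (Set.mem_insert _ _)
    induction hx using closure_induction with
    | mem y hy =>
      rcases hy with rfl | rfl
      · rw [hzcomm, mul_inv_cancel_right]; exact subset_closure (Set.mem_insert _ _)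
      · exact hse
    | one => rw [mul_one, mul_inv_cancel]; exact one_mem _
    | mul x y _ _ hx hy =>
      rw [show s * (x * y) * s⁻¹ = (s * x * s⁻¹) * (s * y * s⁻¹) by group]
      exact mul_mem hx hy
    | inv x _ hx =>
      rw [show s * x⁻¹ * s⁻¹ = (s * x * s⁻¹)⁻¹ by group]
      exact inv_mem hx

end Cfsg.Lib.PGroups
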