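/-
Basic theory of p-groups of maximal class.
-/
import Cfsg.Agent.PGroups.Basic

set_option linter.style.haveILetI false
set_option linter.unusedSectionVars false
set_option linter.unusedVariables false

namespace Cfsg.Lib.MaxClass

open Subgroup
open scoped commutatorElement

universe u

variable {p : ℕ} [hp : Fact p.Prime]

theorem class_le_one_of_comm {X : Type u} [Group X] [Group.IsNilpotent X] (h : ∀ a b : X, a * b = b * a) :
    Group.nilpotencyClass X ≤ 1 := by
  rw [← Subgroup.lowerCentralSeries_eq_bot_iff_nilpotencyClass_le, top_lowerCentralSeries_one, _root_.commutator_def, commutator_eq_bot_iff_le_centralizer]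
  exact fun a _ => mem_centralizer_iff.2 fun b _ => h b a

theorem comm_of_quotient_center_small {X : Type u} [Group X] [Finite X] {i : ℕ} (hi : i ≤ 1)
    (h : Nat.card (X ⧸ center X) = p ^ i) : ∀ a b : X, a * b = b * a := by
  haveI : IsCyclic (X ⧸ center X) := by
    interval_cases i
    · haveI : Subsingleton (X ⧸ center X) := (Nat.card_eq_one_iff_unique.1 (by simpa using h)).1
      infer_instance
    · exact isCyclic_of_prime_card (by simpa using h)
  haveI := MonoidHom.isMulCommutative_of_isCyclic_of_ker_le_center (QuotientGroup.mk' (center X)) (by simp)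
  exact fun a b => mul_comm' a b

/-- the class of a group of order `p^n` is at most `n - 1` -/
theorem class_le : ∀ (n : ℕ) (X : Type u) [Group X] [Finite X] [Group.IsNilpotent X], Nat.card X = p ^ n → 2 ≤ n →
    Group.nilpotencyClass X ≤ n - 1 := by
  intro n
  induction n using Nat.strong_induction_on with
  | _ n ih =>
  intro X _ _ _ hX hn
  have hP : IsPGroup p X := IsPGroup.of_card hX
  haveI : Nontrivial X := Finite.one_lt_card_iff_nontrivial.1 (hX ▸ Nat.one_lt_pow (by omega) hp.out.one_lt)
  obtain ⟨j, hj⟩ := IsPGroup.iff_card.1 (hP.to_subgroup (center X))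
  obtain ⟨i, hi⟩ := IsPGroup.iff_card.1 (hP.to_quotient (center X))
  have hsum : i + j = n := by
    have h1 := card_eq_card_quotient_mul_card_subgroup (center X)
    rw [hX, hi, hj, ← pow_add] at h1
    exact (Nat.pow_right_injective hp.out.two_le h1).symm
  have hj1 : 1 ≤ j := by
    rcases Nat.eq_zero_or_pos j with h | h
    · exfalso
      haveI := hP.center_nontrivial
      have := Finite.one_lt_card (α := center X)
      rw [hj, h, pow_zero] at this
      omega
    · exact h
  rcases Nat.lt_or_ge i 2 with h | h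
  · have := class_le_one_of_comm (comm_of_quotient_center_small (p := p) (show i ≤ 1 by omega) hi)
    omega
  · have h1 := ih i (by omega) (X ⧸ center X) hi h
    rw [Group.nilpotencyClass_eq_quotient_center_plus_one]
    omega

/-- the centre and central quotient of a group of maximal class -/
theorem center_facts (n : ℕ) (X : Type u) [Group X] [Finite X] [Group.IsNilpotent X] (hX : Nat.card X = p ^ n)
    (hn : 3 ≤ n) (hc : Group.nilpotencyClass X = n - 1) :
    Nat.card (center X) = p ∧ Nat.card (X ⧸ center X) = p ^ (n - 1) ∧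
      Group.nilpotencyClass (X ⧸ center X) = n - 1 - 1 := by
  have hP : IsPGroup p X := IsPGroup.of_card hX
  haveI : Nontrivial X := Finite.one_lt_card_iff_nontrivial.1 (hX ▸ Nat.one_lt_pow (by omega) hp.out.one_lt)
  obtain ⟨j, hj⟩ := IsPGroup.iff_card.1 (hP.to_subgroup (center X))
  obtain ⟨i, hi⟩ := IsPGroup.iff_card.1 (hP.to_quotient (center X))
  have hsum : i + j = n := by
    have h1 := card_eq_card_quotient_mul_card_subgroup (center X)
    rw [hX, hi, hj, ← pow_add] at h1
    exact (Nat.pow_right_injective hp.out.two_le h1).symm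
  have hj1 : 1 ≤ j := by
    rcases Nat.eq_zero_or_pos j with h | h
    · exfalso
      haveI := hP.center_nontrivial
      have := Finite.one_lt_card (α := center X)
      rw [hj, h, pow_zero] at this
      omega
    · exact h
  have hce : Group.nilpotencyClass (X ⧸ center X) = n - 1 - 1 := by
    rw [Group.nilpotencyClass_quotient_center, hc]
  rcases Nat.lt_or_ge i 2 with h | h
  · have := class_le_one_of_comm (comm_of_quotient_center_small (p := p) (show i ≤ 1 by omega) hi)
    omega
  · have h1 := class_le i (X ⧸ center X) hi h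
    rw [hce] at h1
    have hj' : j = 1 := by omega
    refine ⟨by rw [hj, hj', pow_one], by rw [hi]; congr 1; omega, hce⟩

theorem center_le_of_normal {X : Type u} [Group X] [Finite X] (hP : IsPGroup p X) (hZ : Nat.card (center X) = p)
    (N : Subgroup X) [N.Normal] (hN : N ≠ ⊥) : center X ≤ N := by
  obtain ⟨z, hzN, hzZ, hz⟩ := Cfsg.Lib.PGroups.exists_mem_center_of_normal_ne_bot hP hN
  have : zpowers z = center X := eq_of_le_of_card_ge (zpowers_le.2 hzZ) (by rw [hZ, Nat.card_zpowers, hz])
  exact this ▸ zpowers_le.2 hzN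

/-- normal subgroups of index at least `p^2` are the terms of the lower central series -/
theorem normal_eq_lcs : ∀ (n : ℕ) (X : Type u) [Group X] [Finite X] [Group.IsNilpotent X], Nat.card X = p ^ n → 2 ≤ n →
    Group.nilpotencyClass X = n - 1 → ∀ (N : Subgroup X) [N.Normal] (r : ℕ), 2 ≤ r → N.index = p ^ r →
    N = (⊤ : Subgroup X).lowerCentralSeries (r - 1) := by
  intro n
  induction n using Nat.strong_induction_on with
  | _ n ih =>
  intro X _ _ _ hX hn hc N _ r hr hN
  have hP : IsPGroup p X := IsPGroup.of_card hX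
  have hrn : r ≤ n := by
    have h1 := N.index_dvd_card
    rw [hN, hX] at h1
    exact (Nat.pow_dvd_pow_iff_le_right hp.out.one_lt).1 h1
  by_cases hNb : N = ⊥
  · subst hNb
    rw [index_bot, hX] at hN
    have : n = r := Nat.pow_right_injective hp.out.two_le hN
    subst this
    rw [← hc, Subgroup.lowerCentralSeries_nilpotencyClass]
  have hrlt : r < n := by
    refine lt_of_le_of_ne hrn fun e => hNb (card_eq_one.1 ?_)
    have h1 := N.card_mul_index
    rw [hN, hX, e] at h1
    exact (Nat.mul_eq_right (pow_pos hp.out.pos n).ne').1 h1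
  obtain ⟨hZ, hq, hqc⟩ := center_facts n X hX (by omega) hc
  have hZN := center_le_of_normal hP hZ N hNb
  have hf : Function.Surjective (QuotientGroup.mk' (center X)) := QuotientGroup.mk'_surjective _
  haveI : (N.map (QuotientGroup.mk' (center X))).Normal := Normal.map inferInstance _ hf
  have hi : (N.map (QuotientGroup.mk' (center X))).index = p ^ r := by
    rw [index_map_eq _ hf (by simpa using hZN), hN]
  have h1 := ih (n - 1) (by omega) (X ⧸ center X) hq (by omega) hqc (N.map (QuotientGroup.mk' (center X))) r hr hi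
  have hL : center X ≤ (⊤ : Subgroup X).lowerCentralSeries (r - 1) := by
    refine center_le_of_normal hP hZ _ fun h => ?_
    have := Subgroup.lowerCentralSeries_eq_bot_iff_nilpotencyClass_le.1 h
    omega
  rw [← map_top_of_surjective _ hf, ← map_lowerCentralSeries] at h1
  have h2 := congrArg (comap (QuotientGroup.mk' (center X))) h1
  rwa [comap_map_eq, comap_map_eq, QuotientGroup.ker_mk', sup_eq_left.2 hZN, sup_eq_left.2 hL] at h2

theorem not_comm {X : Type u} [Group X] [Finite X] [Group.IsNilpotent X] {n : ℕ} (hn : 3 ≤ n)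
    (hc : Group.nilpotencyClass X = n - 1) : ¬ ∀ a b : X, a * b = b * a := fun h => by
  have := class_le_one_of_comm h
  omega

theorem commutator_index : ∀ (n : ℕ) (X : Type u) [Group X] [Finite X] [Group.IsNilpotent X], Nat.card X = p ^ n → 2 ≤ n →
    Group.nilpotencyClass X = n - 1 → (commutator X).index = p ^ 2 := by
  intro n
  induction n using Nat.strong_induction_on with
  | _ n ih =>
  intro X _ _ _ hX hn hc
  rcases Nat.lt_or_ge n 3 with h | h
  · have hn2 : n = 2 := by omega
    subst hn2
    haveI : IsMulCommutative X := IsPGroup.isMulCommutative_of_card_eq_prime_sq (p := p) hX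
    rw [(commutator_eq_bot_iff_le_centralizer (H₁ := (⊤ : Subgroup X)) (H₂ := ⊤)).2
      (fun a _ => mem_centralizer_iff.2 fun b _ => mul_comm' b a) |> fun h => (_root_.commutator_def X).trans h, index_bot, hX]
  · obtain ⟨hZ, hq, hqc⟩ := center_facts n X hX h hc
    have hne : commutator X ≠ ⊥ := fun hb => by
      rw [← top_lowerCentralSeries_one, Subgroup.lowerCentralSeries_eq_bot_iff_nilpotencyClass_le] at hb
      omega
    have hZc := center_le_of_normal (IsPGroup.of_card hX) hZ (commutator X) hne
    have hf : Function.Surjective (QuotientGroup.mk' (center X)) := QuotientGroup.mk'_surjective _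
    rw [← index_map_eq (commutator X) hf (by simpa using hZc), _root_.commutator_def, map_commutator,
      map_top_of_surjective _ hf, ← _root_.commutator_def]
    exact ih (n - 1) (by omega) (X ⧸ center X) hq (by omega) hqc

theorem frattini_eq_commutator (n : ℕ) (X : Type u) [Group X] [Finite X] [Group.IsNilpotent X] (hX : Nat.card X = p ^ n)
    (hn : 3 ≤ n) (hc : Group.nilpotencyClass X = n - 1) : frattini X = commutator X := by
  have hP : IsPGroup p X := IsPGroup.of_card hX
  refine le_antisymm ?_ (Cfsg.Lib.PGroups.commutator_le_frattini hP)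
  obtain ⟨r, hr⟩ := hP.index (frattini X)
  rcases Nat.lt_or_ge r 2 with h | h
  · exfalso
    have hq : Nat.card (X ⧸ frattini X) = p ^ r := by rw [← index_eq_card, hr]
    haveI : IsCyclic (X ⧸ frattini X) := by
      interval_cases r
      · haveI : Subsingleton (X ⧸ frattini X) := (Nat.card_eq_one_iff_unique.1 (by simpa using hq)).1
        infer_instance
      · exact isCyclic_of_prime_card (by simpa using hq)
    haveI := Cfsg.Lib.PGroups.isCyclic_of_isCyclic_quotient_frattini (P := X)
    letI : CommGroup X := IsCyclic.commGroup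
    exact not_comm hn hc fun a b => mul_comm a b
  · rw [normal_eq_lcs n X hX (by omega) hc (frattini X) r h hr, ← top_lowerCentralSeries_one]
    exact Subgroup.lowerCentralSeries_antitone _ (by omega)

/-- a self-centralising subgroup of order `p^2` forces maximal class -/
theorem of_self_centralizing : ∀ (n : ℕ) (X : Type u) [Group X] [Finite X] [Group.IsNilpotent X], Nat.card X = p ^ n →
    ∀ A : Subgroup X, Nat.card A = p ^ 2 → centralizer (A : Set X) = A → Group.nilpotencyClass X = n - 1 := by
  intro n
  induction n using Nat.strong_induction_on with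
  | _ n ih =>
  intro X _ _ _ hX A hA hC
  have hP : IsPGroup p X := IsPGroup.of_card hX
  have hn2 : 2 ≤ n := by
    have h1 := A.card_subgroup_dvd_card
    rw [hA, hX] at h1
    exact (Nat.pow_dvd_pow_iff_le_right hp.out.one_lt).1 h1
  haveI hAc : IsMulCommutative A := IsPGroup.isMulCommutative_of_card_eq_prime_sq (p := p) hA
  haveI : Nontrivial X := Finite.one_lt_card_iff_nontrivial.1 (hX ▸ Nat.one_lt_pow (by omega) hp.out.one_lt)
  rcases Nat.lt_or_ge n 3 with h | h
  · obtain rfl : n = 2 := by omega
    haveI := IsPGroup.isMulCommutative_of_card_eq_prime_sq (p := p) hX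
    refine le_antisymm (class_le 2 X hX le_rfl) ?_
    rw [Group.nilpotencyClass_eq_quotient_center_plus_one]
    omega
  have hZA : center X ≤ A := hC ▸ center_le_centralizer _
  have hAne : A ≠ ⊤ := fun e => by
    rw [e, card_top, hX] at hA
    have := Nat.pow_right_injective hp.out.two_le hA
    omega
  have hZc : Nat.card (center X) = p := by
    obtain ⟨j, hj⟩ := IsPGroup.iff_card.1 (hP.to_subgroup (center X))
    have h1 := card_dvd_of_le hZA
    rw [hj, hA] at h1
    have hj2 := (Nat.pow_dvd_pow_iff_le_right hp.out.one_lt).1 h1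
    interval_cases j
    · exfalso
      haveI := hP.center_nontrivial
      have := Finite.one_lt_card (α := center X)
      rw [hj] at this
      simp at this
    · simpa using hj
    · exfalso
      have he : center X = A := eq_of_le_of_card_ge hZA (by rw [hA, hj])
      refine hAne ?_
      rw [← hC, ← he, centralizer_eq_top_iff_subset]
  set π := QuotientGroup.mk' (center X) with hπ
  have hf : Function.Surjective π := QuotientGroup.mk'_surjective _
  set B := normalizer (A : Set X) with hB
  have hlt : A < B := by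
    refine lt_of_le_of_ne le_normalizer fun e => ?_
    exact (Group.normalizerCondition_of_isNilpotent A (lt_top_iff_ne_top.2 hAne)).ne e
  obtain ⟨a, haA, haZ⟩ : ∃ a ∈ A, a ∉ center X := by
    by_contra hno
    push Not at hno
    have := card_dvd_of_le (show A ≤ center X from hno)
    rw [hA, hZc] at this
    have := Nat.le_of_dvd hp.out.pos this
    have := hp.out.one_lt
    nlinarith
  have hAgen : A = center X ⊔ zpowers a := by
    refine (eq_of_le_of_card_ge (sup_le hZA (zpowers_le.2 haA)) ?_).symm
    obtain ⟨j, hj⟩ := IsPGroup.iff_card.1 (hP.to_subgroup (center X ⊔ zpowers a))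
    have h1 : center X < center X ⊔ zpowers a :=
      lt_of_le_of_ne le_sup_left fun e => haZ (e.ge (mem_sup_right (mem_zpowers a)))
    have h2 : Nat.card (center X) < Nat.card (center X ⊔ zpowers a : Subgroup X) := by
      refine lt_of_le_of_ne (Nat.le_of_dvd Nat.card_pos (card_dvd_of_le h1.le)) fun e => h1.ne ?_
      exact eq_of_le_of_card_ge h1.le e.ge
    rw [hZc, hj] at h2
    rw [hA, hj]
    refine Nat.pow_le_pow_right hp.out.pos ?_
    by_contra hlt'
    have := Nat.pow_le_pow_right hp.out.pos (show j ≤ 1 by omega)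
    rw [pow_one] at this
    omega
  -- conjugation by the normaliser only moves `a` by central elements
  have hmem : ∀ b ∈ B, ⁅b, a⁆ ∈ center X := by
    intro b hb
    haveI : (center X).Normal := inferInstance
    have hbA : ∀ y ∈ A, ⁅b, y⁆ ∈ A := fun y hy => mul_mem ((mem_normalizer_iff.1 hb y).1 hy) (inv_mem hy)
    -- the subgroup `A / Z` has order `p`, so it is central in the quotient of its normaliser
    haveI : (A.subgroupOf B).Normal := normal_in_normalizer
    set K := (A.map π).subgroupOf (B.map π) with hK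
    haveI : K.Normal := by
      refine (normal_subgroupOf_iff (map_mono hlt.le)).2 ?_
      rintro _ g ⟨y, hy, rfl⟩ ⟨c, hc, rfl⟩
      exact ⟨c * y * c⁻¹, (mem_normalizer_iff.1 hc y).1 hy, by simp⟩
    have hKc : Nat.card K = p := by
      rw [hK, Nat.card_congr (subgroupOfEquivOfLe (map_mono hlt.le)).toEquiv]
      have h1 := (A.map π).card_mul_index
      have h2 := card_eq_card_quotient_mul_card_subgroup (center X)
      rw [index_map_eq _ hf (by simpa [hπ] using hZA)] at h1
      have h3 := A.card_mul_index
      rw [hA] at h3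
      rw [hZc] at h2
      have h4 : Nat.card (A.map π) * p * A.index = p ^ 2 * A.index := by
        rw [h3, h2, ← h1]; ring
      exact Nat.eq_of_mul_eq_mul_right hp.out.pos
        ((Nat.eq_of_mul_eq_mul_right (Nat.pos_of_ne_zero A.index_ne_zero_of_finite) h4).trans (pow_two p))
    have hcen := Cfsg.Lib.PGroups.le_center_of_card_eq_prime (P := B.map π) ((hP.to_quotient _).to_subgroup _) hKc
    have h5 : (⟨π a, mem_map_of_mem π (hlt.le haA)⟩ : B.map π) ∈ K := mem_map_of_mem π haA
    have h6 := congrArg Subtype.val (mem_center_iff.1 (hcen h5) ⟨π b, mem_map_of_mem π hb⟩)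
    rw [← QuotientGroup.ker_mk' (center X), MonoidHom.mem_ker, ← hπ, map_commutatorElement]
    exact commutatorElement_eq_one_iff_mul_comm.2 h6
  let φ : B →* center X :=
    { toFun := fun b => ⟨⁅(b : X), a⁆, hmem b b.2⟩
      map_one' := Subtype.ext (commutatorElement_one_left a)
      map_mul' := fun b c => Subtype.ext (by
        show ⁅(b : X) * c, a⁆ = ⁅(b : X), a⁆ * ⁅(c : X), a⁆
        calc ⁅(b : X) * c, a⁆ = (b : X) * ⁅(c : X), a⁆ * (b : X)⁻¹ * ⁅(b : X), a⁆ := by
              simp only [commutatorElement_def]; group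
          _ = ⁅(c : X), a⁆ * ⁅(b : X), a⁆ := by rw [mem_center_iff.1 (hmem c c.2) b, mul_inv_cancel_right]
          _ = _ := (mem_center_iff.1 (hmem c c.2) _).symm) }
  have hker : ∀ b : B, φ b = 1 → (b : X) ∈ A := by
    intro b hb
    rw [← hC, mem_centralizer_iff]
    intro y hy
    have h1 : Commute (b : X) a := commutatorElement_eq_one_iff_commute.1 (congrArg Subtype.val hb)
    have hy' : y ∈ center X ⊔ zpowers a := hAgen ▸ hy
    obtain ⟨z, hz, w, hw, rfl⟩ := mem_sup_of_normal_left.1 hy'
    obtain ⟨i, rfl⟩ := mem_zpowers_iff.1 hw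
    exact ((show Commute (b : X) z from mem_center_iff.1 hz b).mul_right (h1.zpow_right i)).symm.eq
  have hBc : Nat.card B = p ^ 3 := by
    have h1 : Nat.card φ.ker ≤ Nat.card A :=
      Nat.card_le_card_of_injective (fun b : φ.ker => (⟨((b : B) : X), hker b.1 b.2⟩ : A))
        (fun b c h => Subtype.ext (Subtype.ext (congrArg Subtype.val h :)))
    have h2 := φ.ker.card_mul_index
    rw [index_ker] at h2
    have h3 := (card_le_card_group φ.range).trans hZc.le
    obtain ⟨j, hj⟩ := IsPGroup.iff_card.1 (hP.to_subgroup B)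
    have h4 : Nat.card A < Nat.card B := lt_of_le_of_ne (Nat.le_of_dvd Nat.card_pos (card_dvd_of_le hlt.le))
      fun e => hlt.ne (eq_of_le_of_card_ge hlt.le e.ge)
    have h5 : Nat.card B ≤ p ^ 3 := by
      rw [← h2, pow_succ]
      exact Nat.mul_le_mul (h1.trans hA.le) h3
    rw [hj] at h4 h5 ⊢
    rw [hA] at h4
    congr 1
    have := (Nat.pow_lt_pow_iff_right hp.out.one_lt).1 h4
    have := (Nat.pow_le_pow_iff_right hp.out.one_lt).1 h5
    omega
  have hZB : center X ≤ B := hZA.trans hlt.le
  have hBq : Nat.card (B.map π) = p ^ 2 := by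
    have h1 := (B.map π).card_mul_index
    rw [index_map_eq _ hf (by simpa [hπ] using hZB)] at h1
    have h2 := card_eq_card_quotient_mul_card_subgroup (center X)
    rw [hZc] at h2
    have h3 := B.card_mul_index
    rw [hBc] at h3
    have h4 : Nat.card (B.map π) * p * B.index = p ^ 3 * B.index := by
      rw [h3, h2, ← h1]; ring
    exact Nat.eq_of_mul_eq_mul_right hp.out.pos
      ((Nat.eq_of_mul_eq_mul_right (Nat.pos_of_ne_zero B.index_ne_zero_of_finite) h4).trans (pow_succ p 2))
  have hBC : centralizer (B.map π : Set (X ⧸ center X)) = B.map π := by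
    haveI : IsMulCommutative (B.map π) := IsPGroup.isMulCommutative_of_card_eq_prime_sq (p := p) hBq
    refine le_antisymm (fun x hx => ?_) (le_centralizer _)
    obtain ⟨g, rfl⟩ := hf x
    refine mem_map_of_mem π ?_
    refine mem_normalizer_iff_map_conj_eq.2 (eq_of_le_of_card_ge ?_ (card_map_of_injective (MulEquiv.injective _)).ge)
    rintro _ ⟨y, hy, rfl⟩
    have h1 := mem_centralizer_iff.1 hx (π y) (mem_map_of_mem π (hlt.le hy))
    have h2 : ⁅g, y⁆ ∈ center X := by
      rw [← QuotientGroup.ker_mk' (center X), MonoidHom.mem_ker, map_commutatorElement]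
      exact commutatorElement_eq_one_iff_mul_comm.2 h1.symm
    show g * y * g⁻¹ ∈ A
    rw [show g * y * g⁻¹ = ⁅g, y⁆ * y by simp only [commutatorElement_def]; group]
    exact mul_mem (hZA h2) hy
  obtain ⟨i, hi⟩ := IsPGroup.iff_card.1 (hP.to_quotient (center X))
  have hsum : i + 1 = n := by
    have h1 := card_eq_card_quotient_mul_card_subgroup (center X)
    rw [hX, hi, hZc, ← pow_succ] at h1
    exact (Nat.pow_right_injective hp.out.two_le h1).symm
  have := ih i (by omega) (X ⧸ center X) hi (B.map π) hBq hBC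
  rw [Group.nilpotencyClass_eq_quotient_center_plus_one, this]
  omega

/-- an abelian normal subgroup with cyclic quotient: `|X'|·|Z(X)| = |A|` -/
theorem card_commutator_mul_card_center {X : Type u} [Group X] [Finite X] (A : Subgroup X) [A.Normal]
    (hA : ∀ a ∈ A, ∀ b ∈ A, a * b = b * a) (b : X) (hb : A ⊔ zpowers b = ⊤) (hZA : center X ≤ A) :
    Nat.card (commutator X) * Nat.card (center X) = Nat.card A := by
  let φ : A →* X :=
    { toFun := fun a => ⁅(a : X), b⁆
      map_one' := commutatorElement_one_left b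
      map_mul' := fun a c => by
        show ⁅(a : X) * c, b⁆ = ⁅(a : X), b⁆ * ⁅(c : X), b⁆
        have hcA : ∀ d : A, ⁅(d : X), b⁆ ∈ A := fun d => by
          rw [show ⁅(d : X), b⁆ = (d : X) * (b * (d : X)⁻¹ * b⁻¹) by simp only [commutatorElement_def]; group]
          exact mul_mem d.2 (‹A.Normal›.conj_mem _ (inv_mem d.2) b)
        calc ⁅(a : X) * c, b⁆ = (a : X) * ⁅(c : X), b⁆ * (a : X)⁻¹ * ⁅(a : X), b⁆ := by
              simp only [commutatorElement_def]; group
          _ = ⁅(c : X), b⁆ * ⁅(a : X), b⁆ := by rw [hA _ a.2 _ (hcA c), mul_inv_cancel_right]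
          _ = _ := hA _ (hcA c) _ (hcA a) }
  have hrange : φ.range = commutator X := by
    refine le_antisymm ?_ ?_
    · rintro _ ⟨a, rfl⟩
      exact commutator_mem_commutator (mem_top _) (mem_top _)
    · have hle : φ.range ≤ A := by
        rintro _ ⟨a, rfl⟩
        show ⁅(a : X), b⁆ ∈ A
        rw [show ⁅(a : X), b⁆ = (a : X) * (b * (a : X)⁻¹ * b⁻¹) by simp only [commutatorElement_def]; group]
        exact mul_mem a.2 (‹A.Normal›.conj_mem _ (inv_mem a.2) b)
      haveI hn : φ.range.Normal := by
        refine normalizer_eq_top_iff.1 (top_le_iff.1 (hb ▸ sup_le ?_ (zpowers_le.2 ?_)))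
        · intro a ha
          refine mem_normalizer_iff.2 fun y => ?_
          constructor
          · intro hy; rwa [hA a ha y (hle hy), mul_inv_cancel_right]
          · intro hy
            have hyA : y ∈ A := by
              have := ‹A.Normal›.conj_mem _ (hle hy) a⁻¹
              simpa [mul_assoc] using this
            rwa [hA a ha y hyA, mul_inv_cancel_right] at hy
        · refine mem_normalizer_iff_map_conj_eq.2 (eq_of_le_of_card_ge ?_ (card_map_of_injective (MulEquiv.injective _)).ge)
          rintro _ ⟨_, ⟨a, rfl⟩, rfl⟩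
          refine ⟨⟨b * a * b⁻¹, ‹A.Normal›.conj_mem _ a.2 b⟩, ?_⟩
          show ⁅b * (a : X) * b⁻¹, b⁆ = b * ⁅(a : X), b⁆ * b⁻¹
          simp only [commutatorElement_def]; group
      set π := QuotientGroup.mk' φ.range
      have hcomm : ∀ a ∈ A, π a * π b = π b * π a := fun a ha => by
        rw [← commutatorElement_eq_one_iff_mul_comm, ← map_commutatorElement, ← MonoidHom.mem_ker, QuotientGroup.ker_mk']
        exact ⟨⟨a, ha⟩, rfl⟩
      rw [_root_.commutator_def, commutator_le]
      intro x _ y _
      rw [← QuotientGroup.ker_mk' φ.range, MonoidHom.mem_ker, map_commutatorElement, commutatorElement_eq_one_iff_mul_comm]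
      obtain ⟨a, ha, w, hw, rfl⟩ := mem_sup_of_normal_left.1 (show x ∈ A ⊔ zpowers b by rw [hb]; exact mem_top x)
      obtain ⟨a', ha', w', hw', rfl⟩ := mem_sup_of_normal_left.1 (show y ∈ A ⊔ zpowers b by rw [hb]; exact mem_top y)
      obtain ⟨i, rfl⟩ := mem_zpowers_iff.1 hw
      obtain ⟨j, rfl⟩ := mem_zpowers_iff.1 hw'
      rw [map_mul, map_mul, map_zpow, map_zpow]
      have c1 : Commute (π a) (π b) := hcomm a ha
      have c2 : Commute (π a') (π b) := hcomm a' ha'
      have c3 : Commute (π a) (π a') := by
        show π a * π a' = π a' * π a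
        rw [← map_mul, ← map_mul, hA a ha a' ha']
      exact ((c3.mul_right (c1.zpow_right j)).mul_left (((c2.symm).zpow_left i).mul_right ((Commute.refl (π b)).zpow_zpow i j))).eq
  have hker : Nat.card φ.ker = Nat.card (center X) := by
    refine Nat.card_congr
      { toFun := fun a => ⟨((a : A) : X), ?_⟩
        invFun := fun z => ⟨⟨z, hZA z.2⟩, commutatorElement_eq_one_iff_mul_comm.2 (mem_center_iff.1 z.2 b).symm⟩
        left_inv := fun a => Subtype.ext (Subtype.ext rfl)
        right_inv := fun z => Subtype.ext rfl }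
    refine mem_center_iff.2 fun x => ?_
    obtain ⟨c, hc, w, hw, rfl⟩ := mem_sup_of_normal_left.1 (show x ∈ A ⊔ zpowers b by rw [hb]; exact mem_top x)
    obtain ⟨i, rfl⟩ := mem_zpowers_iff.1 hw
    have h1 : Commute ((a : A) : X) b := commutatorElement_eq_one_iff_commute.1 a.2
    exact (((show Commute ((a : A) : X) c from hA _ (a : A).2 c hc)).mul_right (h1.zpow_right i)).eq.symm
  have h := φ.ker.card_mul_index
  rw [index_ker, hker, hrange] at h
  rw [mul_comm]
  exact h

theorem sup_zpowers_eq_top {X : Type u} [Group X] [Finite X] {A : Subgroup X} (hA : A.index = 2) {x : X}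
    (hx : x ∉ A) : A ⊔ zpowers x = ⊤ := by
  have h1 : (A ⊔ zpowers x).index ∣ A.index := index_dvd_of_le le_sup_left
  rw [hA] at h1
  rcases (Nat.dvd_prime Nat.prime_two).1 h1 with h | h
  · exact index_eq_one.1 h
  · exfalso
    have h2 := A.card_mul_index
    have h3 := (A ⊔ zpowers x).card_mul_index
    rw [hA, ← h3, h] at h2
    exact hx ((eq_of_le_of_card_ge (le_sup_left : A ≤ A ⊔ zpowers x) (Nat.eq_of_mul_eq_mul_right two_pos h2).ge).ge
      (mem_sup_right (mem_zpowers x)))

/-- a `2`-group of maximal class has a cyclic subgroup of index `2` -/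
theorem exists_cyclic_index_two [Fact (Nat.Prime 2)] : ∀ (n : ℕ) (X : Type u) [Group X] [Finite X] [Group.IsNilpotent X],
    Nat.card X = 2 ^ n → 3 ≤ n → Group.nilpotencyClass X = n - 1 → ∃ C : Subgroup X, IsCyclic C ∧ C.index = 2 := by
  intro n
  induction n using Nat.strong_induction_on with
  | _ n ih =>
  intro X _ _ _ hX hn hc
  have hP : IsPGroup 2 X := IsPGroup.of_card hX
  rcases Nat.lt_or_ge n 4 with h | h
  · obtain rfl : n = 3 := by omega
    obtain ⟨x, hx⟩ : ∃ x : X, x ^ 2 ≠ 1 := by
      by_contra hno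
      push Not at hno
      refine not_comm hn hc fun a b => ?_
      have hinv : ∀ g : X, g⁻¹ = g := fun g => inv_eq_of_mul_eq_one_right (by rw [← pow_two]; exact hno g)
      rw [← hinv (a * b), mul_inv_rev, hinv, hinv]
    refine ⟨zpowers x, inferInstance, ?_⟩
    have h1 : orderOf x ∣ 2 ^ 3 := hX ▸ orderOf_dvd_natCard x
    obtain ⟨k, hk, hk'⟩ := (Nat.dvd_prime_pow Nat.prime_two).1 h1
    have h2 := (zpowers x).card_mul_index
    rw [Nat.card_zpowers, hk', hX] at h2
    interval_cases k
    · exact absurd (by rw [orderOf_eq_one_iff.1 (hk'.trans (pow_zero 2))]; simp) hx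
    · refine absurd ?_ hx
      rw [← pow_one 2, ← hk', pow_orderOf_eq_one]
    · omega
    · exfalso
      haveI : IsCyclic X := isCyclic_of_orderOf_eq_card x (hk'.trans hX.symm)
      letI : CommGroup X := IsCyclic.commGroup
      exact not_comm hn hc fun a b => mul_comm a b
  obtain ⟨hZ, hq, hqc⟩ := center_facts n X hX hn hc
  obtain ⟨C', hC', hCi⟩ := ih (n - 1) (by omega) (X ⧸ center X) hq (by omega) hqc
  set π := QuotientGroup.mk' (center X) with hπ
  have hf : Function.Surjective π := QuotientGroup.mk'_surjective _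
  set C := C'.comap π with hC
  have hCindex : C.index = 2 := by rw [hC, index_comap_of_surjective _ hf, hCi]
  obtain ⟨⟨c, hc'⟩, hgen⟩ := hC'.exists_generator
  obtain ⟨a, rfl⟩ := hf c
  have hdec : ∀ y ∈ C, ∃ i : ℤ, ∃ z ∈ center X, y = a ^ i * z := by
    intro y hy
    obtain ⟨i, hi⟩ := mem_zpowers_iff.1 (hgen ⟨π y, hy⟩)
    refine ⟨i, (a ^ i)⁻¹ * y, ?_, by group⟩
    rw [← QuotientGroup.ker_mk' (center X), MonoidHom.mem_ker, ← hπ, map_mul, map_inv, map_zpow]
    have h1 := congrArg Subtype.val hi
    rw [coe_zpow] at h1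
    rw [show (π a) ^ i = π y from h1, inv_mul_cancel]
  refine ⟨C, ?_, hCindex⟩
  by_cases hz : center X ≤ zpowers a
  · have : C ≤ zpowers a := fun y hy => by
      obtain ⟨i, z, hz', rfl⟩ := hdec y hy
      exact mul_mem (zpow_mem (mem_zpowers a) i) (hz hz')
    exact isCyclic_of_le this
  exfalso
  haveI : C.Normal := normal_of_index_eq_two hCindex
  have hCc : ∀ y ∈ C, ∀ w ∈ C, y * w = w * y := by
    intro y hy w hw
    obtain ⟨i, z, hz', rfl⟩ := hdec y hy
    obtain ⟨j, z', hz'', rfl⟩ := hdec w hw
    exact ((((Commute.refl a).zpow_zpow i j).mul_right (show Commute (a ^ i) z' from mem_center_iff.1 hz'' _)).mul_left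
      (((show Commute z (a ^ j) from (mem_center_iff.1 hz' _).symm)).mul_right (show Commute z z' from mem_center_iff.1 hz'' _))).eq
  let W : Subgroup X :=
    { carrier := {w | ∃ y ∈ C, y ^ 2 = w}
      one_mem' := ⟨1, one_mem _, one_pow 2⟩
      mul_mem' := by
        rintro _ _ ⟨y, hy, rfl⟩ ⟨w, hw, rfl⟩
        exact ⟨y * w, mul_mem hy hw, (show Commute y w from hCc y hy w hw).mul_pow 2⟩
      inv_mem' := by rintro _ ⟨y, hy, rfl⟩; exact ⟨y⁻¹, inv_mem hy, inv_pow y 2⟩ }
  haveI : W.Normal := ⟨by
    rintro _ ⟨y, hy, rfl⟩ g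
    exact ⟨g * y * g⁻¹, ‹C.Normal›.conj_mem y hy g, conj_pow⟩⟩
  have hWb : W ≠ ⊥ := by
    intro hW
    have hexp : ∀ y ∈ C, y ^ 2 = 1 := fun y hy => by
      have : y ^ 2 ∈ W := ⟨y, hy, rfl⟩
      rwa [hW, mem_bot] at this
    have h1 : orderOf (⟨π a, hc'⟩ : C') = Nat.card C' := orderOf_eq_card_of_forall_mem_zpowers hgen
    have h2 : orderOf (⟨π a, hc'⟩ : C') ∣ 2 := orderOf_dvd_of_pow_eq_one (Subtype.ext (by
      show (π a) ^ 2 = 1
      rw [← map_pow, hexp a hc', map_one]))
    rw [h1] at h2
    have h3 := C'.card_mul_index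
    rw [hCi, hq] at h3
    have h4 := Nat.le_of_dvd two_pos h2
    have h5 : 2 ^ 3 ≤ 2 ^ (n - 1) := Nat.pow_le_pow_right two_pos (by omega)
    omega
  refine hz ((center_le_of_normal hP hZ W hWb).trans ?_)
  rintro _ ⟨y, hy, rfl⟩
  obtain ⟨i, z, hz', rfl⟩ := hdec y hy
  rw [(show Commute (a ^ i) z from mem_center_iff.1 hz' _).mul_pow]
  have hz2 : z ^ 2 = 1 := by
    have h1 := pow_card_eq_one' (G := center X) (x := ⟨z, hz'⟩)
    rw [hZ] at h1
    exact congrArg Subtype.val h1
  rw [hz2, mul_one]
  exact pow_mem (zpow_mem (mem_zpowers a) i) 2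

/-- elements outside a cyclic subgroup of index `2` -/
theorem outside {X : Type u} [Group X] [Finite X] {n : ℕ} (hX : Nat.card X = 2 ^ n) [Group.IsNilpotent X]
    [Fact (Nat.Prime 2)] (hn : 3 ≤ n) (hc : Group.nilpotencyClass X = n - 1) {A : Subgroup X} (hA : IsCyclic A)
    (hi : A.index = 2) : center X ≤ A ∧ ∀ x : X, x ∉ A → x ^ 2 ∈ center X ∧ (A ⊓ centralizer {x} = center X) := by
  obtain ⟨hZ, -, -⟩ := center_facts n X hX hn hc
  have hAc : ∀ a ∈ A, ∀ b ∈ A, a * b = b * a := fun a ha b hb => by
    letI : CommGroup A := IsCyclic.commGroup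
    exact congrArg Subtype.val (mul_comm (⟨a, ha⟩ : A) ⟨b, hb⟩)
  have hgen : ∀ x, x ∉ A → ∀ c ∈ A, c * x = x * c → c ∈ center X := by
    intro x hx c hc' hcx
    refine mem_center_iff.2 fun g => ?_
    have hle : A ⊔ zpowers x ≤ centralizer {c} := sup_le
      (fun a ha => mem_centralizer_singleton_iff.2 (hAc a ha c hc'))
      (zpowers_le.2 (mem_centralizer_singleton_iff.2 hcx.symm))
    rw [sup_zpowers_eq_top hi hx] at hle
    exact mem_centralizer_singleton_iff.1 (hle (mem_top g))
  have hZA : center X ≤ A := by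
    intro z hz
    by_contra hzA
    refine not_comm hn hc fun a b => ?_
    have hall : ∀ g : X, g ∈ center X := fun g => by
      refine mem_center_iff.2 fun h => ?_
      have hle : A ⊔ zpowers z ≤ centralizer {g} := by
        have hg : g ∈ A ⊔ zpowers z := by rw [sup_zpowers_eq_top hi hzA]; exact mem_top g
        refine sup_le (fun a ha => mem_centralizer_singleton_iff.2 ?_)
          (zpowers_le.2 (mem_centralizer_singleton_iff.2 (mem_center_iff.1 hz g).symm))
        have hle2 : A ⊔ zpowers z ≤ centralizer {a} := sup_le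
          (fun c hc' => mem_centralizer_singleton_iff.2 (hAc c hc' a ha))
          (zpowers_le.2 (mem_centralizer_singleton_iff.2 (mem_center_iff.1 hz a).symm))
        exact (mem_centralizer_singleton_iff.1 (hle2 hg)).symm
      rw [sup_zpowers_eq_top hi hzA] at hle
      exact mem_centralizer_singleton_iff.1 (hle (mem_top h))
    exact mem_center_iff.1 (hall b) a
  refine ⟨hZA, fun x hx => ⟨hgen x hx _ (?_) ((Commute.refl x).pow_left 2).eq, le_antisymm ?_ ?_⟩⟩
  · haveI : A.Normal := normal_of_index_eq_two hi
    exact hi ▸ pow_index_mem A x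
  · rintro c ⟨hcA, hcx⟩
    exact hgen x hx c hcA (mem_centralizer_singleton_iff.1 hcx)
  · exact le_inf hZA (center_le_centralizer _)

end Cfsg.Lib.MaxClass
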