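/-
2-groups with a cyclic subgroup of index 2.
-/
import Cfsg.Agent.PGroups.MaxClass
import Cfsg.Agent.InvolCalc.Classes
import Cfsg.Agent.Frobenius.UniqueSubgroup
import Cfsg.Prelude.Def_CaseTheorems

set_option linter.style.haveILetI false
set_option linter.unusedSectionVars false
set_option linter.unusedVariables false

namespace Cfsg.Lib.CyclicMax

open Subgroup
open scoped commutatorElement

universe u

/-- `S` is generated by `a` of order `2^m` and `b`, with `b a b⁻¹ = a^r` and `b^2 = a^s`, and has order `2^(m+1)` -/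
structure TwoGen {S : Type u} [Group S] (a b : S) (m : ℕ) (r s : ℤ) : Prop where
  ord : orderOf a = 2 ^ m
  card : Nat.card S = 2 ^ (m + 1)
  notMem : b ∉ zpowers a
  conj : b * a * b⁻¹ = a ^ r
  sq : b * b = a ^ s

variable {S : Type u} [Group S] [Finite S] {a b : S} {m : ℕ} {r s : ℤ}

theorem zpow_eq_iff (h : TwoGen a b m r s) (i j : ℤ) : a ^ i = a ^ j ↔ (2 : ℤ) ^ m ∣ j - i := by
  rw [zpow_eq_zpow_iff_modEq, h.ord, Int.modEq_iff_dvd]
  push_cast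
  rfl

theorem zpow_eq_one (h : TwoGen a b m r s) (i : ℤ) : a ^ i = 1 ↔ (2 : ℤ) ^ m ∣ i := by
  rw [← orderOf_dvd_iff_zpow_eq_one, h.ord]
  push_cast
  rfl

theorem index_zpowers (h : TwoGen a b m r s) : (zpowers a).index = 2 := by
  have h1 := (zpowers a).card_mul_index
  rw [Nat.card_zpowers, h.ord, h.card, pow_succ] at h1
  exact Nat.eq_of_mul_eq_mul_left (Nat.two_pow_pos m) h1

theorem notMem_mul (h : TwoGen a b m r s) (i : ℤ) : a ^ i * b ∉ zpowers a := fun hc =>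
  h.notMem (by simpa using mul_mem (zpow_mem (mem_zpowers a) (-i)) hc)

theorem cases (h : TwoGen a b m r s) (g : S) : (∃ i : ℤ, g = a ^ i) ∨ ∃ i : ℤ, g = a ^ i * b := by
  by_cases hg : g ∈ zpowers a
  · obtain ⟨i, hi⟩ := mem_zpowers_iff.1 hg
    exact Or.inl ⟨i, hi.symm⟩
  · have hb' : b⁻¹ ∉ zpowers a := fun hc => h.notMem ((inv_mem_iff).1 hc)
    have hm := (mul_mem_iff_of_index_two (index_zpowers h)).2 (iff_of_false hg hb')
    obtain ⟨i, hi⟩ := mem_zpowers_iff.1 hm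
    exact Or.inr ⟨i, by rw [hi, inv_mul_cancel_right]⟩

theorem conj_b (h : TwoGen a b m r s) (i : ℤ) : b * a ^ i = a ^ (r * i) * b := by
  have h1 : b * a ^ i * b⁻¹ = a ^ (r * i) := by rw [← conj_zpow, h.conj, ← zpow_mul]
  rw [← h1, inv_mul_cancel_right]

theorem mul_b_zpow (h : TwoGen a b m r s) (i j : ℤ) : a ^ i * b * a ^ j = a ^ (i + r * j) * b := by
  rw [mul_assoc, conj_b h, ← mul_assoc, ← zpow_add]

theorem mul_b_mul_b (h : TwoGen a b m r s) (i j : ℤ) : (a ^ i * b) * (a ^ j * b) = a ^ (i + r * j + s) := by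
  rw [← mul_assoc, mul_b_zpow h, mul_assoc, h.sq, ← zpow_add]

theorem conj_a (h : TwoGen a b m r s) (i j : ℤ) : a ^ j * (a ^ i * b) * (a ^ j)⁻¹ = a ^ (i + j * (1 - r)) * b := by
  rw [← zpow_neg, ← mul_assoc, ← zpow_add, mul_b_zpow h]
  congr 2
  ring

theorem b_eq_iff (h : TwoGen a b m r s) (i j : ℤ) : a ^ i * b = a ^ j * b ↔ (2 : ℤ) ^ m ∣ j - i := by
  rw [mul_left_inj, zpow_eq_iff h]

theorem ne_b (h : TwoGen a b m r s) (i j : ℤ) : a ^ i ≠ a ^ j * b := fun e =>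
  notMem_mul h j (e ▸ zpow_mem (mem_zpowers a) i)

theorem shift (h : TwoGen a b m r s) (i : ℤ) : TwoGen a (a ^ i * b) m r (i + r * i + s) :=
  ⟨h.ord, h.card, notMem_mul h i, by
    rw [mul_inv_rev]
    calc a ^ i * b * a * (b⁻¹ * (a ^ i)⁻¹) = a ^ i * (b * a * b⁻¹) * (a ^ i)⁻¹ := by group
      _ = a ^ r := by rw [h.conj, ← zpow_add, ← zpow_neg, ← zpow_add]; congr 1; ring,
    mul_b_mul_b h i i⟩

/-- if `2 ^ (m+2)` divides `r^2 - 1` then `r` is `±1` modulo `2^(m+1)` -/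
theorem sq_one_cases {k : ℕ} {r : ℤ} (hk : 1 ≤ k) (h : (2 : ℤ) ^ k ∣ r * r - 1) :
    (2 : ℤ) ^ k ∣ r - 1 ∨ (2 : ℤ) ^ k ∣ r + 1 ∨
      (3 ≤ k ∧ ((2 : ℤ) ^ k ∣ r - (2 ^ (k - 1) + 1) ∨ (2 : ℤ) ^ k ∣ r - (2 ^ (k - 1) - 1))) := by
  obtain ⟨q, hq⟩ : Odd r := by
    rcases Int.even_or_odd r with ⟨q, hq⟩ | h'
    · exfalso
      have h2 : (2 : ℤ) ∣ r * r - 1 := (dvd_pow_self 2 (by omega)).trans h
      subst hq
      obtain ⟨c, hc⟩ := h2
      have : (2 : ℤ) ∣ 1 := ⟨2 * q * q - c, by linarith⟩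
      norm_num at this
    · exact h'
  subst hq
  rcases Nat.lt_or_ge k 2 with hk2 | hk2
  · obtain rfl : k = 1 := by omega
    exact Or.inl ⟨q, by ring⟩
  obtain ⟨k, rfl⟩ : ∃ l, k = l + 2 := ⟨k - 2, by omega⟩
  have h4 : (2 : ℤ) ^ k ∣ q * (q + 1) := by
    obtain ⟨c, hc⟩ := h
    refine ⟨c, ?_⟩
    rw [pow_add] at hc
    linarith
  have hcases : (2 : ℤ) ^ k ∣ q ∨ (2 : ℤ) ^ k ∣ q + 1 := by
    rcases Int.even_or_odd q with hq | hq
    · left
      have hodd : IsCoprime ((2 : ℤ) ^ k) (q + 1) := by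
        refine IsCoprime.pow_left ?_
        obtain ⟨t, rfl⟩ := hq
        exact ⟨-t, 1, by ring⟩
      exact hodd.dvd_of_dvd_mul_right h4
    · right
      have hodd : IsCoprime ((2 : ℤ) ^ k) q := by
        refine IsCoprime.pow_left ?_
        obtain ⟨t, rfl⟩ := hq
        exact ⟨-t, 1, by ring⟩
      exact hodd.dvd_of_dvd_mul_left h4
  rcases hcases with ⟨c, hc⟩ | ⟨c, hc⟩
  · rcases Int.even_or_odd c with ⟨t, rfl⟩ | ⟨t, rfl⟩
    · exact Or.inl ⟨t, by rw [pow_add, hc]; ring⟩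
    · rcases Nat.eq_zero_or_pos k with rfl | hk0
      · refine Or.inr (Or.inl ⟨t + 1, ?_⟩)
        rw [hc]; ring
      · refine Or.inr (Or.inr ⟨by omega, Or.inl ⟨t, ?_⟩⟩)
        rw [show k + 2 - 1 = k + 1 by omega, pow_add, pow_succ, hc]; ring
  · rcases Int.even_or_odd c with ⟨t, rfl⟩ | ⟨t, rfl⟩
    · refine Or.inr (Or.inl ⟨t, ?_⟩)
      rw [show q = (2 : ℤ) ^ k * (t + t) - 1 by linarith, pow_add]; ring
    · rcases Nat.eq_zero_or_pos k with rfl | hk0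
      · refine Or.inl ⟨t, ?_⟩
        rw [show q = (2 : ℤ) ^ 0 * (2 * t + 1) - 1 by linarith]; ring
      · refine Or.inr (Or.inr ⟨by omega, Or.inr ⟨t, ?_⟩⟩)
        rw [show k + 2 - 1 = k + 1 by omega, show q = (2 : ℤ) ^ k * (2 * t + 1) - 1 by linarith, pow_add, pow_succ]; ring

theorem two_pow_pred {m : ℕ} (hm : 1 ≤ m) : (2 : ℤ) ^ m = 2 * 2 ^ (m - 1) := by
  obtain ⟨k, rfl⟩ : ∃ k, m = k + 1 := ⟨m - 1, by omega⟩
  rw [Nat.add_sub_cancel, pow_succ']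

/-- the four non-abelian types -/
theorem classify {S : Type u} [Group S] [Finite S] (n : ℕ) (hn : 3 ≤ n) (hS : Nat.card S = 2 ^ n) (C : Subgroup S)
    (hC : IsCyclic C) (hCi : C.index = 2) (hna : ∃ x y : S, x * y ≠ y * x) :
    ∃ a b : S, zpowers a = C ∧
      (TwoGen a b (n - 1) (-1) 0 ∨ TwoGen a b (n - 1) (-1) (2 ^ (n - 2)) ∨
        (4 ≤ n ∧ TwoGen a b (n - 1) (2 ^ (n - 2) + 1) 0) ∨ (4 ≤ n ∧ TwoGen a b (n - 1) (2 ^ (n - 2) - 1) 0)) := by
  obtain ⟨⟨a, haC⟩, hgen⟩ := hC.exists_generator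
  have hCa : zpowers a = C := by
    refine le_antisymm (zpowers_le.2 haC) fun y hy => ?_
    obtain ⟨i, hi⟩ := mem_zpowers_iff.1 (hgen ⟨y, hy⟩)
    exact ⟨i, by simpa using congrArg Subtype.val hi⟩
  have hCc : Nat.card C = 2 ^ (n - 1) := by
    have h1 := C.card_mul_index
    rw [hCi, hS, show n = n - 1 + 1 by omega, pow_succ] at h1
    exact Nat.eq_of_mul_eq_mul_right two_pos h1
  have hord : orderOf a = 2 ^ (n - 1) := by rw [← Nat.card_zpowers, hCa, hCc]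
  obtain ⟨b, hb⟩ : ∃ b : S, b ∉ C := by
    by_contra h
    push Not at h
    rw [(eq_top_iff' C).2 h, index_top] at hCi
    norm_num at hCi
  haveI : C.Normal := normal_of_index_eq_two hCi
  obtain ⟨r, hr⟩ := mem_zpowers_iff.1 (hCa ▸ ‹C.Normal›.conj_mem a haC b : b * a * b⁻¹ ∈ zpowers a)
  obtain ⟨s, hs⟩ := mem_zpowers_iff.1 (show b * b ∈ zpowers a by
    rw [hCa]; exact (mul_mem_iff_of_index_two hCi).2 Iff.rfl)
  have T : TwoGen a b (n - 1) r s :=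
    ⟨hord, by rw [hS]; congr 1; omega, by rw [hCa]; exact hb, hr.symm, hs.symm⟩
  have hconj : ∀ i, b * a ^ i * b⁻¹ = a ^ (r * i) := fun i => by rw [conj_b T, mul_inv_cancel_right]
  have hr2 : (2 : ℤ) ^ (n - 1) ∣ r * r - 1 := by
    have h1 : a ^ (r * r) = a ^ (1 : ℤ) := by
      rw [← hconj r, ← T.conj, zpow_one]
      calc b * (b * a * b⁻¹) * b⁻¹ = (b * b) * a * (b * b)⁻¹ := by group
        _ = a := by rw [T.sq, ← zpow_neg, ← zpow_add_one, ← zpow_add]; simp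
    have h2 := (zpow_eq_iff T _ _).1 h1
    simpa using dvd_neg.2 h2
  have hs2 : (2 : ℤ) ^ (n - 1) ∣ s * (r - 1) := by
    have h1 : a ^ (r * s) = a ^ s := by
      rw [← hconj s, ← T.sq]; group
    have h2 := (zpow_eq_iff T _ _).1 h1
    rw [show s * (r - 1) = -(s - r * s) by ring]
    exact dvd_neg.2 h2
  -- changing the exponents modulo the order
  have adjust : ∀ (c : S) (r' s' t : ℤ), TwoGen a c (n - 1) r t → (2 : ℤ) ^ (n - 1) ∣ r - r' →
      (2 : ℤ) ^ (n - 1) ∣ t - s' → TwoGen a c (n - 1) r' s' := fun c r' s' t hc h1 h2 =>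
    ⟨hc.ord, hc.card, hc.notMem, hc.conj.trans (((zpow_eq_iff hc _ _).2 h1).symm),
      hc.sq.trans (((zpow_eq_iff hc _ _).2 h2).symm)⟩
  have hp := two_pow_pred (show 1 ≤ n - 1 by omega)
  rw [show n - 1 - 1 = n - 2 by omega] at hp
  rcases sq_one_cases (show 1 ≤ n - 1 by omega) hr2 with h | h | ⟨hn4, h | h⟩
  · exfalso
    have hab : b * a = a * b := by
      rw [← mul_inv_eq_iff_eq_mul, T.conj, ((zpow_eq_iff T _ _).2 h).symm, zpow_one]
    obtain ⟨x, y, hxy⟩ := hna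
    refine hxy ?_
    have hall : ∀ g : S, ∃ i j : ℤ, g = a ^ i * b ^ j := fun g => by
      rcases cases T g with ⟨i, rfl⟩ | ⟨i, rfl⟩
      · exact ⟨i, 0, by simp⟩
      · exact ⟨i, 1, by simp⟩
    obtain ⟨i, j, rfl⟩ := hall x
    obtain ⟨k, l, rfl⟩ := hall y
    have hc : Commute a b := hab.symm
    exact ((((Commute.refl a).zpow_zpow i k).mul_right (hc.zpow_zpow i l)).mul_left
      ((hc.symm.zpow_zpow j k).mul_right ((Commute.refl b).zpow_zpow j l))).eq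
  · -- inversion
    refine ⟨a, b, hCa, ?_⟩
    have h' : (2 : ℤ) ^ (n - 1) ∣ r - (-1) := by simpa using h
    have hs' : (2 : ℤ) ^ (n - 2) ∣ s := by
      have h3 : (2 : ℤ) ^ (n - 1) ∣ s * (-2) := by
        rw [show s * (-2) = s * (r - 1) - s * (r + 1) by ring]
        exact dvd_sub hs2 (h.mul_left s)
      rw [hp, show s * (-2) = 2 * -s by ring] at h3
      exact dvd_neg.1 (Int.dvd_of_mul_dvd_mul_left two_ne_zero h3)
    obtain ⟨c, hc⟩ := hs'
    rcases Int.even_or_odd c with ⟨t, rfl⟩ | ⟨t, rfl⟩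
    · exact Or.inl (adjust b _ _ s T h' ⟨t, by rw [hp, hc]; ring⟩)
    · exact Or.inr (Or.inl (adjust b _ _ s T h' ⟨t, by rw [hp, hc]; ring⟩))
  · -- modular
    rw [show n - 1 - 1 = n - 2 by omega] at h
    obtain ⟨c, hc⟩ := h
    have hp2 : (2 : ℤ) ^ (n - 2) = 2 * 2 ^ (n - 3) := by
      have := two_pow_pred (show 1 ≤ n - 2 by omega)
      rwa [show n - 2 - 1 = n - 3 by omega] at this
    have hev : (2 : ℤ) ∣ s := by
      rw [show r - 1 = (2 : ℤ) ^ (n - 2) * (2 * c + 1) by rw [hp] at hc; linarith, hp,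
        show s * ((2 : ℤ) ^ (n - 2) * (2 * c + 1)) = 2 ^ (n - 2) * (s * (2 * c + 1)) by ring, mul_comm 2 ((2 : ℤ) ^ (n - 2))] at hs2
      have h3 := Int.dvd_of_mul_dvd_mul_left (pow_ne_zero _ two_ne_zero) hs2
      exact (show IsCoprime (2 : ℤ) (2 * c + 1) from ⟨-c, 1, by ring⟩).dvd_of_dvd_mul_right h3
    obtain ⟨σ, hσ⟩ := hev
    have hu : IsCoprime ((2 : ℤ) ^ (n - 2)) (1 + 2 ^ (n - 3)) := by
      refine IsCoprime.pow_left ?_
      obtain ⟨l, hl⟩ : ∃ l : ℤ, (2 : ℤ) ^ (n - 3) = 2 * l := ⟨2 ^ (n - 4), by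
        have := two_pow_pred (show 1 ≤ n - 3 by omega)
        rwa [show n - 3 - 1 = n - 4 by omega] at this⟩
      exact ⟨-l, 1, by rw [hl]; ring⟩
    obtain ⟨u, v, huv⟩ := hu
    refine ⟨a, a ^ (-(σ * v)) * b, hCa, Or.inr (Or.inr (Or.inl ⟨by omega, adjust _ _ _ _ (shift T (-(σ * v))) ⟨c, hc⟩
      ⟨σ * u - c * σ * v, ?_⟩⟩))⟩
    rw [hσ, show r = (2 : ℤ) ^ (n - 1) * c + (2 ^ (n - 2) + 1) by linarith, hp, hp2]
    rw [hp2] at huv
    linear_combination (-2 * σ) * huv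
  · -- semidihedral
    rw [show n - 1 - 1 = n - 2 by omega] at h
    obtain ⟨c, hc⟩ := h
    have hp2 : (2 : ℤ) ^ (n - 2) = 2 * 2 ^ (n - 3) := by
      have := two_pow_pred (show 1 ≤ n - 2 by omega)
      rwa [show n - 2 - 1 = n - 3 by omega] at this
    have hs' : (2 : ℤ) ^ (n - 2) ∣ s := by
      rw [show r - 1 = 2 * ((2 : ℤ) ^ (n - 3) * (1 + 2 * c) - 1) by rw [hp, hp2] at hc; linarith, hp,
        show s * (2 * ((2 : ℤ) ^ (n - 3) * (1 + 2 * c) - 1)) = 2 * (s * ((2 : ℤ) ^ (n - 3) * (1 + 2 * c) - 1)) by ring] at hs2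
      have h3 := Int.dvd_of_mul_dvd_mul_left two_ne_zero hs2
      refine IsCoprime.dvd_of_dvd_mul_right (IsCoprime.pow_left ?_) h3
      obtain ⟨l, hl⟩ : ∃ l : ℤ, (2 : ℤ) ^ (n - 3) = 2 * l := ⟨2 ^ (n - 4), by
        have := two_pow_pred (show 1 ≤ n - 3 by omega)
        rwa [show n - 3 - 1 = n - 4 by omega] at this⟩
      exact ⟨l * (1 + 2 * c), -1, by rw [hl]; ring⟩
    obtain ⟨d, hd⟩ := hs'
    rcases Int.even_or_odd d with ⟨t, rfl⟩ | ⟨t, rfl⟩
    · exact ⟨a, b, hCa, Or.inr (Or.inr (Or.inr ⟨by omega, adjust b _ _ s T ⟨c, hc⟩ ⟨t, by rw [hp, hd]; ring⟩⟩))⟩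
    · refine ⟨a, a ^ (1 : ℤ) * b, hCa, Or.inr (Or.inr (Or.inr ⟨by omega, adjust _ _ _ _ (shift T 1) ⟨c, hc⟩
        ⟨t + c + 1, ?_⟩⟩))⟩
      rw [hd, show r = (2 : ℤ) ^ (n - 1) * c + (2 ^ (n - 2) - 1) by linarith, hp]
      ring

theorem orderOf_two_of_mul_self {g : S} (h1 : g * g = 1) (h2 : g ≠ 1) : orderOf g = 2 := by
  haveI : Fact (Nat.Prime 2) := ⟨Nat.prime_two⟩
  exact orderOf_eq_prime (by rw [pow_two]; exact h1) h2

theorem closure_pair_eq_top (h : TwoGen a b m r s) : Subgroup.closure ({a, b} : Set S) = ⊤ := by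
  refine (eq_top_iff' _).2 fun g => ?_
  have ha : a ∈ Subgroup.closure ({a, b} : Set S) := subset_closure (Or.inl rfl)
  have hb : b ∈ Subgroup.closure ({a, b} : Set S) := subset_closure (Or.inr rfl)
  rcases cases h g with ⟨i, rfl⟩ | ⟨i, rfl⟩
  · exact zpow_mem ha i
  · exact mul_mem (zpow_mem ha i) hb

theorem toDihedral (h : TwoGen a b m (-1) 0) (hm : 1 ≤ m) : Nonempty (S ≃* DihedralGroup (2 ^ m)) := by
  have hb : b * b = 1 := by rw [h.sq, zpow_zero]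
  have hab : (a ^ (1 : ℤ) * b) * (a ^ (1 : ℤ) * b) = 1 := by rw [mul_b_mul_b h]; simp
  rw [zpow_one] at hab
  have hne : a * b ≠ b := fun e => by
    have h1 := h.ord
    rw [mul_eq_right.1 e, orderOf_one] at h1
    have := Nat.one_lt_pow (show m ≠ 0 by omega) one_lt_two
    omega
  obtain ⟨e⟩ := Cfsg.Lib.InvolCalc.exists_dihedral_equiv
    (orderOf_two_of_mul_self hab fun e => notMem_mul h 1 (by rw [zpow_one, e]; exact one_mem _))
    (orderOf_two_of_mul_self hb fun e => h.notMem (by rw [e]; exact one_mem _)) hne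
  have htop : Subgroup.closure ({a * b, b} : Set S) = ⊤ := by
    rw [eq_top_iff, ← closure_pair_eq_top h, closure_le]
    have hbm : b ∈ Subgroup.closure ({a * b, b} : Set S) := subset_closure (Or.inr rfl)
    rintro x (hx | hx)
    · subst hx
      have := mul_mem (subset_closure (Or.inl rfl) : x * b ∈ Subgroup.closure ({x * b, b} : Set S)) (inv_mem hbm)
      rwa [mul_inv_cancel_right] at this
    · rw [Set.mem_singleton_iff.1 hx]; exact hbm
  have E : S ≃* DihedralGroup (orderOf (a * b * b)) :=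
    ((MulEquiv.subgroupCongr htop).trans Subgroup.topEquiv).symm.trans e
  rw [show a * b * b = a by rw [mul_assoc, hb, mul_one], h.ord] at E
  exact ⟨E⟩

theorem toQuaternion (h : TwoGen a b m (-1) (2 ^ (m - 1))) (hm : 2 ≤ m) :
    Nonempty (S ≃* QuaternionGroup (2 ^ (m - 1))) := by
  haveI : Fact (Nat.Prime 2) := ⟨Nat.prime_two⟩
  have hp := two_pow_pred (show 1 ≤ m by omega)
  have hP : IsPGroup 2 S := IsPGroup.of_card h.card
  have hinv : ∀ g : S, orderOf g = 2 → g = a ^ ((2 : ℤ) ^ (m - 1)) := by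
    intro g hg
    have h1 : g * g = 1 := by rw [← pow_two, ← hg]; exact pow_orderOf_eq_one g
    rcases cases h g with ⟨i, rfl⟩ | ⟨i, rfl⟩
    · rw [← zpow_add, zpow_eq_one h, hp, ← two_mul] at h1
      obtain ⟨c, hc⟩ := Int.dvd_of_mul_dvd_mul_left two_ne_zero h1
      rcases Int.even_or_odd c with ⟨t, rfl⟩ | ⟨t, rfl⟩
      · exfalso
        have : a ^ i = 1 := (zpow_eq_one h i).2 ⟨t, by rw [hp, hc]; ring⟩
        rw [this, orderOf_one] at hg
        norm_num at hg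
      · exact (zpow_eq_iff h _ _).2 ⟨-t, by rw [hp, hc]; ring⟩
    · exfalso
      rw [mul_b_mul_b h, zpow_eq_one h, show i + -1 * i + (2 : ℤ) ^ (m - 1) = 2 ^ (m - 1) by ring, hp] at h1
      obtain ⟨c, hc⟩ := h1
      have h2 : (2 : ℤ) ^ (m - 1) * 1 = 2 ^ (m - 1) * (2 * c) := by linarith
      have h3 := mul_left_cancel₀ (pow_ne_zero _ two_ne_zero) h2
      omega
  have hncomm : ∀ (_ : IsCyclic S), False := fun hcy => by
    haveI := hcy
    letI : CommGroup S := IsCyclic.commGroup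
    have h1 : a ^ (-1 : ℤ) = a ^ (1 : ℤ) := by
      rw [← h.conj, zpow_one, mul_comm b a, mul_inv_cancel_right]
    have h2 := (zpow_eq_iff h _ _).1 h1
    have h3 := Int.le_of_dvd (by norm_num) h2
    have h4 : (2 : ℤ) ^ 2 ≤ 2 ^ m := pow_le_pow_right₀ (by norm_num) hm
    omega
  rcases Cfsg.Lib.UniqueSub.isCyclic_or_quaternion hP
      (fun x y hx hy => by rw [hinv x hx, hinv y hy]; exact mem_zpowers _) with hc | ⟨-, k, ⟨e⟩⟩
  · exact (hncomm hc).elim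
  · have h1 := Nat.card_congr e.toEquiv
    haveI : NeZero (2 ^ k) := ⟨(Nat.two_pow_pos k).ne'⟩
    rw [h.card, Nat.card_eq_fintype_card, QuaternionGroup.card, show m + 1 = m - 1 + 2 by omega, pow_add, mul_comm] at h1
    rw [← Nat.eq_of_mul_eq_mul_left (by norm_num) h1] at e
    exact ⟨e⟩

theorem sq_mem_center_of_modular {k : ℕ} (h : TwoGen a b (k + 3) (2 ^ (k + 2) + 1) 0) :
    a ^ (2 : ℤ) ∈ center S ∧ orderOf (a ^ (2 : ℕ)) = 2 ^ (k + 2) := by
  refine ⟨mem_center_iff.2 fun g => ?_, ?_⟩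
  · have hb : Commute b (a ^ (2 : ℤ)) := by
      show b * a ^ (2 : ℤ) = a ^ (2 : ℤ) * b
      rw [conj_b h, b_eq_iff h]
      exact ⟨-1, by ring⟩
    rcases cases h g with ⟨i, rfl⟩ | ⟨i, rfl⟩
    · exact ((Commute.refl a).zpow_zpow i 2).eq
    · exact ((((Commute.refl a).zpow_zpow i 2)).mul_left hb).eq
  · rw [orderOf_pow, h.ord, show (2 : ℕ) ^ (k + 3) = 2 * 2 ^ (k + 2) by ring, Nat.gcd_eq_right (Dvd.intro _ rfl),
      Nat.mul_div_cancel_left _ two_pos]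

theorem natCast_two_pow_sub_one (k : ℕ) : ((2 ^ k - 1 : ℕ) : ℤ) = 2 ^ k - 1 := by
  rw [Nat.cast_sub Nat.one_le_two_pow]; push_cast; rfl

theorem twoGen_of_quasiDihedral {S : Type u} [Group S] [Finite S] (hS : Cfsg.IsQuasiDihedral S) :
    ∃ n, 3 ≤ n ∧ Nat.card S = 2 ^ (n + 1) ∧ ∃ a b : S, TwoGen a b n (2 ^ (n - 1) - 1) 0 := by
  obtain ⟨n, hn, hc, a, b, ha, hb, hab⟩ := hS
  refine ⟨n, hn, hc, a, b, ha, hc, fun hmem => ?_, ?_, ?_⟩
  · obtain ⟨i, rfl⟩ := mem_zpowers_iff.1 hmem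
    rw [((Commute.refl a).zpow_left i).eq, mul_inv_cancel_right] at hab
    nth_rw 1 [← pow_one a] at hab
    rw [pow_eq_pow_iff_modEq, ha] at hab
    have h1 : 2 ≤ 2 ^ (n - 1) := by
      calc 2 = 2 ^ 1 := rfl
        _ ≤ 2 ^ (n - 1) := Nat.pow_le_pow_right two_pos (by omega)
    have h2 : 2 ^ n = 2 * 2 ^ (n - 1) := by rw [← pow_succ', show n - 1 + 1 = n by omega]
    rw [Nat.ModEq, Nat.mod_eq_of_lt (by omega), Nat.mod_eq_of_lt (by omega)] at hab
    have h3 : 2 ^ 2 ≤ 2 ^ (n - 1) := Nat.pow_le_pow_right two_pos (by omega)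
    omega
  · rw [hab, ← zpow_natCast, natCast_two_pow_sub_one]
  · rw [zpow_zero, ← pow_two, ← hb, pow_orderOf_eq_one]

theorem quasiDihedral_of_twoGen {S : Type u} [Group S] [Finite S] {a b : S} {m : ℕ} (hm : 3 ≤ m)
    (h : TwoGen a b m (2 ^ (m - 1) - 1) 0) : Cfsg.IsQuasiDihedral S := by
  refine ⟨m, hm, h.card, a, b, h.ord, orderOf_two_of_mul_self (by rw [h.sq, zpow_zero])
    (fun e => h.notMem (by rw [e]; exact one_mem _)), ?_⟩
  rw [h.conj, ← zpow_natCast, natCast_two_pow_sub_one]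

end Cfsg.Lib.CyclicMax
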