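/-
p-groups with a p'-group of automorphisms trivial on all characteristic abelian subgroups.
-/
import Cfsg.Agent.PGroups.Basic
import Cfsg.Agent.PGroups.Commutators
import Cfsg.Agent.SolvStruct.PGroupBasics
import Cfsg.Agent.Coprime.SolvableBasics

set_option linter.style.haveILetI false
set_option linter.unusedSectionVars false

namespace Cfsg.Lib.PGroups.SpecialCoprime

open Subgroup
open scoped commutatorElement

universe u

variable {G : Type u} [Group G] [Finite G] {p : ℕ} [hp : Fact p.Prime]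

theorem frattini_le_of_elementary (N : Subgroup G) [N.Normal] (hexp : ∀ g : G, g ^ p ∈ N)
    (hcom : commutator G ≤ N) : frattini G ≤ N := by
  haveI : IsMulCommutative (G ⧸ N) := ⟨⟨fun x y => by
    obtain ⟨a, rfl⟩ := QuotientGroup.mk_surjective x
    obtain ⟨b, rfl⟩ := QuotientGroup.mk_surjective y
    rw [← QuotientGroup.mk_mul, ← QuotientGroup.mk_mul, QuotientGroup.eq]
    have e : (a * b)⁻¹ * (b * a) = ⁅b⁻¹, a⁻¹⁆ := by rw [commutatorElement_def]; group
    rw [e]
    exact hcom (commutator_mem_commutator (mem_top _) (mem_top _))⟩⟩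
  have hexp' : ∀ y : G ⧸ N, y ^ p = 1 := fun y => by
    obtain ⟨g, rfl⟩ := QuotientGroup.mk_surjective y
    rw [← QuotientGroup.mk_pow, QuotientGroup.eq_one_iff]
    exact hexp g
  have hb : frattini (G ⧸ N) = ⊥ :=
    Cfsg.Lib.SolvStruct.frattini_eq_bot_of_elementary (p := p) hexp' (fun x y => mul_comm' x y)
  intro x hx
  rw [← QuotientGroup.eq_one_iff, ← mem_bot, ← hb]
  show QuotientGroup.mk' N x ∈ ⨅ M ∈ {M : Subgroup (G ⧸ N) | IsCoatom M}, M
  refine Subgroup.mem_iInf.2 fun M => Subgroup.mem_iInf.2 fun hM => ?_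
  have hs := QuotientGroup.mk'_surjective N
  have hC : IsCoatom (M.comap (QuotientGroup.mk' N)) := by
    refine ⟨fun e => hM.1 (comap_injective hs (e.trans (comap_top _).symm)), fun K hK => ?_⟩
    have hker : (QuotientGroup.mk' N).ker ≤ K := (ker_le_comap _ M).trans hK.le
    have e : (K.map (QuotientGroup.mk' N)).comap (QuotientGroup.mk' N) = K := by
      rw [comap_map_eq, sup_eq_left.2 hker]
    rw [← e] at hK ⊢
    rw [hM.2 _ ((comap_lt_comap_of_surjective hs).1 hK), comap_top]
  exact frattini_le_coatom hC hx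

theorem special (hG : IsPGroup p G) (A : Subgroup (MulAut G)) (hA : Nat.Coprime (Nat.card A) p)
    (hGA : closure {x : G | ∃ g : G, ∃ a ∈ A, x = g⁻¹ * a g} = ⊤)
    (hchar : ∀ H : Subgroup G, H.Characteristic → IsMulCommutative H → ∀ a ∈ A, ∀ h ∈ H, a h = h) :
    Cfsg.IsSpecial p G ∧ ∀ g : G, (g ∈ center G ↔ ∀ a ∈ A, a g = g) := by
  classical
  -- characteristic abelian subgroups are central
  have hcen : ∀ H : Subgroup G, H.Characteristic → (∀ x ∈ H, ∀ y ∈ H, x * y = y * x) → H ≤ center G := by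
    intro H hH hab x hx
    haveI := hH
    have hfix := hchar H hH ⟨⟨fun u v => Subtype.ext (hab u u.2 v v.2)⟩⟩
    have hle : (⊤ : Subgroup G) ≤ centralizer ({x} : Set G) := by
      rw [← hGA, closure_le]
      rintro _ ⟨g, a, ha, rfl⟩
      refine mem_centralizer_singleton_iff.2 ?_
      have hm : g * x * g⁻¹ ∈ H := (inferInstance : H.Normal).conj_mem x hx g
      have h1 : a g * x * (a g)⁻¹ = g * x * g⁻¹ := by
        have e := hfix a ha _ hm
        rw [map_mul, map_mul, map_inv, hfix a ha x hx] at e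
        exact e
      calc g⁻¹ * a g * x = g⁻¹ * (a g * x * (a g)⁻¹) * a g := by group
        _ = g⁻¹ * (g * x * g⁻¹) * a g := by rw [h1]
        _ = _ := by group
    exact mem_center_iff.2 fun g => mem_centralizer_singleton_iff.1 (hle (mem_top g))
  have hZfix : ∀ z ∈ center G, ∀ a ∈ A, a z = z := fun z hz a ha =>
    hchar (center G) inferInstance inferInstance a ha z hz
  -- the class is at most two
  have hD : commutator G ≤ center G := by
    haveI : Group.IsNilpotent G := hG.isNilpotent
    set X : Subgroup G := commutator G ⊓ Subgroup.upperCentralSeries G 2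
    have hX : X ≤ center G := by
      refine hcen X inferInstance fun x hx y hy => ?_
      -- `g ↦ ⁅g, y⁆` is a homomorphism into the centre
      have hyz : ∀ g : G, ⁅g, y⁆ ∈ center G := fun g => by
        have h2 := (Subgroup.mem_upperCentralSeries_succ_iff (n := 1)).1 hy.2 g
        rw [Subgroup.upperCentralSeries_one] at h2
        have e : ⁅g, y⁆ = (y * g * y⁻¹ * g⁻¹)⁻¹ := by rw [commutatorElement_def]; group
        rw [e]
        exact inv_mem h2
      let φ : G →* center G := MonoidHom.mk' (fun g => ⟨⁅g, y⁆, hyz g⟩) fun g k => Subtype.ext (by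
        show ⁅g * k, y⁆ = ⁅g, y⁆ * ⁅k, y⁆
        rw [Cfsg.Lib.PGroups.commutator_mul_left_of_central (hyz k)])
      have hker : commutator G ≤ φ.ker := by
        rw [_root_.commutator_def, commutator_le]
        intro a _ b _
        rw [MonoidHom.mem_ker, map_commutatorElement, commutatorElement_eq_one_iff_mul_comm]
        exact Subtype.ext (mem_center_iff.1 (φ b).2 (φ a : G))
      have h3 : φ x = 1 := hker hx.1
      exact commutatorElement_eq_one_iff_mul_comm.1 (congrArg Subtype.val h3)
    by_contra hnot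
    set π := QuotientGroup.mk' (center G)
    haveI : ((commutator G).map π).Normal := Subgroup.Normal.map inferInstance π (QuotientGroup.mk'_surjective _)
    have hne : (commutator G).map π ≠ ⊥ := fun e => hnot fun x hx => by
      rw [← QuotientGroup.eq_one_iff, ← mem_bot, ← e]
      exact ⟨x, hx, rfl⟩
    refine Cfsg.Lib.Coprime.inf_center_ne_bot _ hne (eq_bot_iff.2 ?_)
    rintro _ ⟨⟨x, hx, rfl⟩, hxc⟩
    refine mem_bot.2 ((QuotientGroup.eq_one_iff x).2 (hX ⟨hx, ?_⟩))
    refine (Subgroup.mem_upperCentralSeries_succ_iff (n := 1)).2 fun g => ?_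
    rw [Subgroup.upperCentralSeries_one, ← QuotientGroup.eq_one_iff]
    show π (x * g * x⁻¹ * g⁻¹) = 1
    rw [map_mul, map_mul, map_mul, map_inv, map_inv, ← mem_center_iff.1 hxc (π g)]
    group
  -- commutators have order dividing p
  have hcp : ∀ (g k : G), ⁅g, k⁆ ∈ center G := fun g k => hD (commutator_mem_commutator (mem_top g) (mem_top k))
  have hpow : ∀ (g k : G) (n : ℕ), ⁅g ^ n, k⁆ = ⁅g, k⁆ ^ n := fun g k n =>
    Cfsg.Lib.PGroups.commutator_pow_left_of_commute (mem_center_iff.1 (hcp g k) g).symm n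
  have hpow' : ∀ (g k : G) (n : ℕ), ⁅g, k ^ n⁆ = ⁅g, k⁆ ^ n := fun g k n =>
    Cfsg.Lib.PGroups.commutator_pow_right_of_commute (mem_center_iff.1 (hcp g k) k).symm n
  have hstep : ∀ f : ℕ, 1 ≤ f → (∀ g k : G, ⁅g, k⁆ ^ p ^ (f + 1) = 1) → ∀ g k : G, ⁅g, k⁆ ^ p ^ f = 1 := by
    intro f hf hall g k
    set Y := closure {y : G | ∃ w : G, y = w ^ p ^ f} with hY
    have hYc : Y.Characteristic := by
      refine characteristic_iff_map_le.2 fun φ => ?_
      rw [hY, MonoidHom.map_closure]
      refine closure_mono ?_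
      rintro _ ⟨_, ⟨w, rfl⟩, rfl⟩
      exact ⟨φ w, map_pow φ w _⟩
    haveI : IsMulCommutative Y := Subgroup.isMulCommutative_closure (by
      rintro _ ⟨w, rfl⟩ _ ⟨v, rfl⟩
      refine commutatorElement_eq_one_iff_mul_comm.1 ?_
      rw [hpow, hpow', ← pow_mul, ← pow_add, show f + f = f + 1 + (f - 1) by omega, pow_add, pow_mul, hall, one_pow])
    have hYZ : Y ≤ center G := hcen Y hYc fun x hx y hy =>
      congrArg Subtype.val (IsMulCommutative.is_comm.comm (⟨x, hx⟩ : Y) ⟨y, hy⟩)
    rw [← hpow]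
    exact commutatorElement_eq_one_iff_mul_comm.2 (mem_center_iff.1 (hYZ (subset_closure ⟨g, rfl⟩)) k).symm
  have hexp : ∀ g k : G, ⁅g, k⁆ ^ p = 1 := by
    obtain ⟨m, hm⟩ := IsPGroup.iff_card.1 hG
    suffices ∀ j f : ℕ, f + j = m + 1 → 1 ≤ f → ∀ g k : G, ⁅g, k⁆ ^ p ^ f = 1 by
      intro g k
      simpa using this m 1 (by omega) le_rfl g k
    intro j
    induction j with
    | zero =>
      intro f hfm hf g k
      rw [show f = m + 1 by omega, pow_succ, pow_mul, ← hm, pow_card_eq_one', one_pow]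
    | succ j ih => intro f hfm hf; exact hstep f hf (ih (f + 1) (by omega) (by omega))
  have hpZ : ∀ g : G, g ^ p ∈ center G := fun g => mem_center_iff.2 fun k => by
    refine (commutatorElement_eq_one_iff_mul_comm.1 ?_).symm
    rw [hpow, hexp]
  -- fixed points lie in the derived group
  haveI := Fintype.ofFinite A
  let N : G →* Abelianization G := ∏ a : A, Abelianization.of.comp (a : MulAut G).toMonoidHom
  have hN : ∀ g, N g = ∏ a : A, Abelianization.of ((a : MulAut G) g) := fun g => by
    simp only [N, MonoidHom.finsetProd_apply]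
    rfl
  have hN1 : ∀ g, N g = 1 := by
    intro g
    have hle : (⊤ : Subgroup G) ≤ N.ker := by
      rw [← hGA, closure_le]
      rintro _ ⟨g, a, ha, rfl⟩
      show N (g⁻¹ * a g) = 1
      rw [map_mul, map_inv, inv_mul_eq_one, hN, hN]
      exact (Fintype.prod_equiv (Equiv.mulRight (⟨a, ha⟩ : A)) (fun b : A => Abelianization.of ((b : MulAut G) (a g)))
        (fun b : A => Abelianization.of ((b : MulAut G) g)) fun b => rfl).symm
    exact hle (mem_top g)
  have hfixD : ∀ g : G, (∀ a ∈ A, a g = g) → g ∈ commutator G := by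
    intro g hg
    have h1 := hN1 g
    rw [hN, Finset.prod_congr rfl fun (a : A) _ => congrArg Abelianization.of (hg a a.2), Finset.prod_const,
      Finset.card_univ, ← orderOf_dvd_iff_pow_eq_one, ← Nat.card_eq_fintype_card] at h1
    obtain ⟨j, hj⟩ := IsPGroup.iff_orderOf.1 hG g
    have h2 : orderOf (Abelianization.of g) ∣ p ^ j := hj ▸ orderOf_map_dvd _ g
    have h3 := Nat.eq_one_of_dvd_coprimes (Nat.Coprime.pow_right j hA) h1 h2
    rw [orderOf_eq_one_iff] at h3
    exact (QuotientGroup.eq_one_iff g).1 h3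
  have hDZ : commutator G = center G :=
    le_antisymm hD fun z hz => hfixD z (hZfix z hz)
  refine ⟨⟨hG, le_antisymm (frattini_le_of_elementary (p := p) (center G) hpZ hD) ?_, hDZ⟩,
    fun g => ⟨hZfix g, fun h => hD (hfixD g h)⟩⟩
  rw [← hDZ]
  exact Cfsg.Lib.PGroups.commutator_le_frattini hG

end Cfsg.Lib.PGroups.SpecialCoprime
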