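/-
Classification of extraspecial groups of odd exponent p and of extraspecial 2-groups.
-/
import Cfsg.Agent.PGroups.Basic
import Cfsg.Agent.PGroups.Commutators
import Cfsg.Agent.SolvStruct.PGroupBasics

set_option linter.style.haveILetI false
set_option linter.unusedSectionVars false

namespace Cfsg.Lib.PGroups.ExtraspecialIso

open Subgroup
open scoped commutatorElement

universe u v

/-- The facts about an extraspecial group (or its centre) which the classification uses. -/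
structure ES (p : ℕ) (E : Type u) [Group E] (z : E) : Prop where
  ord : orderOf z = p
  cen : center E = zpowers z
  comm : ∀ x y : E, ⁅x, y⁆ ∈ zpowers z
  pow : ∀ x : E, x ^ p ∈ zpowers z

theorem ES.of_isExtraspecial {p : ℕ} [hp : Fact p.Prime] {E : Type u} [Group E] [Finite E]
    (h : Cfsg.IsExtraspecial p E) {z : E} (hz : z ∈ center E) (hz1 : z ≠ 1) : ES p E z := by
  obtain ⟨⟨hP, hF, hD⟩, hZ⟩ := h
  have ho : orderOf z = p := by
    have h1 : orderOf (⟨z, hz⟩ : center E) ∣ p := hZ ▸ orderOf_dvd_natCard _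
    rw [Subgroup.orderOf_mk] at h1
    exact ((Nat.dvd_prime hp.out).1 h1).resolve_left fun e => hz1 (orderOf_eq_one_iff.1 e)
  have hc : center E = zpowers z :=
    (eq_of_le_of_card_ge (zpowers_le.2 hz) (by rw [Nat.card_zpowers, ho, hZ])).symm
  refine ⟨ho, hc, fun x y => ?_, fun x => hc ▸ hF ▸ Cfsg.Lib.PGroups.pow_mem_frattini hP x⟩
  rw [← hc, ← hD]
  exact commutator_mem_commutator (mem_top x) (mem_top y)

/-- A non-trivial central element of an extraspecial group. -/
theorem exists_z {p : ℕ} [hp : Fact p.Prime] {E : Type u} [Group E] [Finite E] (h : Cfsg.IsExtraspecial p E) :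
    ∃ z : E, z ∈ center E ∧ z ≠ 1 := by
  have h2 : center E ≠ ⊥ := fun e => hp.out.ne_one (by rw [← h.2, e, Subgroup.card_bot])
  obtain ⟨z, hz, hz1⟩ := (Subgroup.ne_bot_iff_exists_ne_one).1 h2 |> fun ⟨⟨z, hz⟩, hh⟩ => (⟨z, hz, fun e => hh (Subtype.ext e)⟩ : ∃ z : E, z ∈ center E ∧ z ≠ 1)
  exact ⟨z, hz, hz1⟩

variable {p : ℕ} [hp : Fact p.Prime] {E : Type u} [Group E] [Finite E] {z : E}

theorem ES.mem_center (h : ES p E z) {w : E} (hw : w ∈ zpowers z) : w ∈ center E := h.cen.ge hw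

theorem ES.commute_z (h : ES p E z) (g : E) : Commute g z :=
  mem_center_iff.1 (h.mem_center (mem_zpowers z)) g

theorem ES.swap (h : ES p E z) {x y : E} (hxy : ⁅y, x⁆ = z) (b a : ℕ) :
    y ^ b * x ^ a = x ^ a * y ^ b * z ^ (a * b) := by
  have h1 : ⁅y, x ^ a⁆ = z ^ a := by
    rw [Cfsg.Lib.PGroups.commutator_pow_right_of_commute (by rw [hxy]; exact (h.commute_z x).symm), hxy]
  have h2 : ⁅y ^ b, x ^ a⁆ = z ^ (a * b) := by
    rw [Cfsg.Lib.PGroups.commutator_pow_left_of_commute (by rw [h1]; exact ((h.commute_z y).pow_right a).symm),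
      h1, pow_mul]
  rw [Cfsg.Lib.PGroups.conj_eq_commutator_mul (x ^ a) (y ^ b), h2]
  exact ((h.commute_z (x ^ a * y ^ b)).pow_right _).symm.eq

/-- Multiplication in the coordinates given by a hyperbolic pair and its centraliser. -/
theorem ES.mul_coord (h : ES p E z) {x y : E} (hxy : ⁅y, x⁆ = z) {c d : E} (hcx : Commute c x) (hcy : Commute c y)
    (a b a' b' : ℕ) : x ^ a * y ^ b * c * (x ^ a' * y ^ b' * d)
      = x ^ (a + a') * y ^ (b + b') * (z ^ (a' * b) * c * d) := by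
  have h1 : Commute c (x ^ a' * y ^ b') := (hcx.pow_right a').mul_right (hcy.pow_right b')
  have h2 : Commute (z ^ (a' * b)) (y ^ b') := ((h.commute_z (y ^ b')).pow_right _).symm
  calc x ^ a * y ^ b * c * (x ^ a' * y ^ b' * d)
      = x ^ a * (y ^ b * x ^ a') * y ^ b' * c * d := by
        rw [show x ^ a * y ^ b * c * (x ^ a' * y ^ b' * d) = x ^ a * y ^ b * (c * (x ^ a' * y ^ b')) * d by group,
          h1.eq]
        group
    _ = x ^ a * x ^ a' * y ^ b * (z ^ (a' * b) * y ^ b') * c * d := by rw [h.swap hxy b a']; group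
    _ = _ := by rw [h2.eq, pow_add, pow_add]; group

theorem ES.exists_pair (h : ES p E z) {x : E} (hx : x ∉ center E) : ∃ y : E, ⁅y, x⁆ = z := by
  obtain ⟨y₀, hy₀⟩ : ∃ y : E, ⁅y, x⁆ ≠ 1 := by
    by_contra hh
    push Not at hh
    exact hx (mem_center_iff.2 fun g => commutatorElement_eq_one_iff_mul_comm.1 (hh g))
  obtain ⟨k, hk⟩ := mem_zpowers_iff.1 (h.comm y₀ x)
  have hgen : zpowers ⁅y₀, x⁆ = zpowers z := by
    refine eq_of_le_of_card_ge (zpowers_le.2 (h.comm y₀ x)) ?_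
    rw [Nat.card_zpowers, Nat.card_zpowers, h.ord]
    have h1 : orderOf ⁅y₀, x⁆ ∣ p := h.ord ▸ orderOf_dvd_of_mem_zpowers (h.comm y₀ x)
    exact (((Nat.dvd_prime hp.out).1 h1).resolve_left fun e => hy₀ (orderOf_eq_one_iff.1 e)).ge
  obtain ⟨j, hj⟩ := (Submonoid.mem_powers_iff _ _).1
    ((isOfFinOrder_of_finite ⁅y₀, x⁆).mem_powers_iff_mem_zpowers.2 (hgen.ge (mem_zpowers z)))
  refine ⟨y₀ ^ j, ?_⟩
  rw [Cfsg.Lib.PGroups.commutator_pow_left_of_commute
    ((mem_center_iff.1 (h.mem_center (h.comm y₀ x)) y₀).symm), hj]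

/-- The centraliser of a hyperbolic pair. -/
def pairCentralizer (x y : E) : Subgroup E := centralizer ({x, y} : Set E)

theorem mem_pairCentralizer {x y c : E} : c ∈ pairCentralizer x y ↔ Commute c x ∧ Commute c y := by
  rw [pairCentralizer, mem_centralizer_iff]
  constructor
  · intro hc
    exact ⟨(hc x (Set.mem_insert x _)).symm, (hc y (Set.mem_insert_of_mem x rfl)).symm⟩
  · rintro ⟨h1, h2⟩ g (rfl | hg)
    · exact h1.symm
    · cases hg; exact h2.symm

theorem ES.z_mem (h : ES p E z) (x y : E) : z ∈ pairCentralizer x y :=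
  mem_pairCentralizer.2 ⟨(h.commute_z x).symm, (h.commute_z y).symm⟩

theorem ES.exists_coord (h : ES p E z) {x y : E} (hxy : ⁅y, x⁆ = z) (g : E) :
    ∃ a b : ℕ, ∃ c ∈ pairCentralizer x y, g = x ^ a * y ^ b * c := by
  have hfin := isOfFinOrder_of_finite z
  obtain ⟨i, hi⟩ := (Submonoid.mem_powers_iff _ _).1 (hfin.mem_powers_iff_mem_zpowers.2 (h.comm g x))
  obtain ⟨j, hj⟩ := (Submonoid.mem_powers_iff _ _).1 (hfin.mem_powers_iff_mem_zpowers.2 (h.comm y g))
  have hyx : ⁅y, x⁆ ∈ center E := h.mem_center (hxy ▸ mem_zpowers z)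
  refine ⟨j, i, (x ^ j * y ^ i)⁻¹ * g, mem_pairCentralizer.2 ⟨?_, ?_⟩, by group⟩
  · have h1 : ⁅x ^ j * y ^ i, x⁆ = ⁅g, x⁆ := by
      rw [Cfsg.Lib.PGroups.commutator_mul_left_of_central (h.mem_center (h.comm _ _)),
        commutatorElement_eq_one_iff_mul_comm.2 (Commute.pow_self x j).eq,
        Cfsg.Lib.PGroups.commutator_pow_left_of_commute ((mem_center_iff.1 hyx y).symm), hxy, hi]
      simp
    rw [commute_iff_eq, ← commutatorElement_eq_one_iff_mul_comm,
      Cfsg.Lib.PGroups.commutator_mul_left_of_central (h.mem_center (h.comm _ _)), ← h1,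
      ← Cfsg.Lib.PGroups.commutator_mul_left_of_central (h.mem_center (h.comm _ _)),
      inv_mul_cancel, commutatorElement_one_left]
  · have h1 : ⁅y, x ^ j * y ^ i⁆ = ⁅y, g⁆ := by
      rw [Cfsg.Lib.PGroups.commutator_mul_right_of_central (h.mem_center (h.comm _ _)),
        commutatorElement_eq_one_iff_mul_comm.2 (Commute.self_pow y i).eq,
        Cfsg.Lib.PGroups.commutator_pow_right_of_commute ((mem_center_iff.1 hyx x).symm), hxy, hj]
      simp
    refine Commute.symm ?_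
    rw [commute_iff_eq, ← commutatorElement_eq_one_iff_mul_comm,
      Cfsg.Lib.PGroups.commutator_mul_right_of_central (h.mem_center (h.comm _ _)), ← h1,
      ← Cfsg.Lib.PGroups.commutator_mul_right_of_central (h.mem_center (h.comm _ _)),
      inv_mul_cancel, commutatorElement_one_right]

theorem ES.coord_mem_iff (h : ES p E z) {x y : E} (hxy : ⁅y, x⁆ = z) (a b : ℕ) :
    x ^ a * y ^ b ∈ pairCentralizer x y → p ∣ a ∧ p ∣ b := by
  intro hm
  obtain ⟨h1, h2⟩ := mem_pairCentralizer.1 hm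
  have hyx : ⁅y, x⁆ ∈ center E := h.mem_center (hxy ▸ mem_zpowers z)
  constructor
  · have e := commutatorElement_eq_one_iff_mul_comm.2 h2.symm.eq
    rw [Cfsg.Lib.PGroups.commutator_mul_right_of_central (h.mem_center (h.comm _ _)),
      commutatorElement_eq_one_iff_mul_comm.2 (Commute.self_pow y b).eq, mul_one,
      Cfsg.Lib.PGroups.commutator_pow_right_of_commute ((mem_center_iff.1 hyx x).symm), hxy,
      ← orderOf_dvd_iff_pow_eq_one, h.ord] at e
    exact e
  · have e := commutatorElement_eq_one_iff_mul_comm.2 h1.eq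
    rw [Cfsg.Lib.PGroups.commutator_mul_left_of_central (h.mem_center (h.comm _ _)),
      commutatorElement_eq_one_iff_mul_comm.2 (Commute.pow_self x a).eq, one_mul,
      Cfsg.Lib.PGroups.commutator_pow_left_of_commute ((mem_center_iff.1 hyx y).symm), hxy,
      ← orderOf_dvd_iff_pow_eq_one, h.ord] at e
    exact e

/-- The coordinate map. -/
def coordMap (x y : E) (w : (Fin p × Fin p) × pairCentralizer x y) : E :=
  x ^ (w.1.1 : ℕ) * y ^ (w.1.2 : ℕ) * (w.2 : E)

theorem ES.pow_mem_pair (h : ES p E z) (x y g : E) : g ^ p ∈ pairCentralizer x y :=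
  (zpowers_le.2 (h.z_mem x y)) (h.pow g)

theorem ES.coordMap_bijective (h : ES p E z) {x y : E} (hxy : ⁅y, x⁆ = z) :
    Function.Bijective (coordMap (p := p) x y) := by
  constructor
  · rintro ⟨⟨a, b⟩, c⟩ ⟨⟨a', b'⟩, c'⟩ e
    simp only [coordMap] at e
    -- compare the classes modulo the centraliser
    obtain ⟨hcx, hcy⟩ := mem_pairCentralizer.1 c.2
    have e1 : x ^ (a' : ℕ) * y ^ (b' : ℕ) * (c' : E) * (x ^ (p - (a : ℕ)) * y ^ (p - (b : ℕ)) * 1) ∈ pairCentralizer x y := by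
      rw [← e, h.mul_coord hxy hcx hcy]
      rw [show (a : ℕ) + (p - a) = p by omega, show (b : ℕ) + (p - b) = p by omega]
      exact mul_mem (mul_mem (h.pow_mem_pair x y x) (h.pow_mem_pair x y y))
        (mul_mem (mul_mem (pow_mem (h.z_mem x y) _) c.2) (one_mem _))
    obtain ⟨hcx', hcy'⟩ := mem_pairCentralizer.1 c'.2
    rw [h.mul_coord hxy hcx' hcy', Subgroup.mul_mem_cancel_right _
      (mul_mem (mul_mem (pow_mem (h.z_mem x y) _) c'.2) (one_mem _))] at e1
    obtain ⟨ha, hb⟩ := h.coord_mem_iff hxy _ _ e1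
    have key : ∀ i j : Fin p, p ∣ (i : ℕ) + (p - (j : ℕ)) → i = j := by
      intro i j hd
      obtain ⟨q, hq⟩ := hd
      have := i.2; have := j.2
      have hq1 : q = 1 := by
        rcases q with _ | _ | q
        · omega
        · rfl
        · have : p * 2 ≤ p * (q + 1 + 1) := Nat.mul_le_mul_left _ (by omega)
          omega
      subst hq1
      exact Fin.ext (by omega)
    obtain rfl := key a' a ha
    obtain rfl := key b' b hb
    exact Prod.ext rfl (Subtype.ext (mul_left_cancel e))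
  · intro g
    obtain ⟨a, b, c, hc, rfl⟩ := h.exists_coord hxy g
    obtain ⟨hcx, hcy⟩ := mem_pairCentralizer.1 hc
    set xp := x ^ (p * (a / p))
    set yp := y ^ (p * (b / p))
    have hxp : xp ∈ zpowers z := by simp only [xp, pow_mul]; exact pow_mem (h.pow x) _
    have hyp : yp ∈ zpowers z := by simp only [yp, pow_mul]; exact pow_mem (h.pow y) _
    refine ⟨⟨⟨⟨a % p, Nat.mod_lt _ hp.out.pos⟩, ⟨b % p, Nat.mod_lt _ hp.out.pos⟩⟩, ⟨xp * yp * c,
      mul_mem (mul_mem ((zpowers_le.2 (h.z_mem x y)) hxp) ((zpowers_le.2 (h.z_mem x y)) hyp)) hc⟩⟩, ?_⟩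
    simp only [coordMap]
    have hcom : y ^ (b % p) * xp = xp * y ^ (b % p) := mem_center_iff.1 (h.mem_center hxp) _
    calc x ^ (a % p) * y ^ (b % p) * (xp * yp * c)
        = x ^ (a % p) * (y ^ (b % p) * xp) * yp * c := by group
      _ = x ^ (a % p) * (xp * y ^ (b % p)) * yp * c := by rw [hcom]
      _ = (x ^ (a % p) * xp) * (y ^ (b % p) * yp) * c := by group
      _ = _ := by simp only [xp, yp, ← pow_add, Nat.mod_add_div]

theorem ES.card_eq (h : ES p E z) {x y : E} (hxy : ⁅y, x⁆ = z) :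
    Nat.card E = p * p * Nat.card (pairCentralizer x y) := by
  rw [← Nat.card_eq_of_bijective _ (h.coordMap_bijective hxy), Nat.card_prod, Nat.card_prod, Nat.card_fin]

theorem ES.restrict (h : ES p E z) {x y : E} (hxy : ⁅y, x⁆ = z) :
    ES p (pairCentralizer x y) ⟨z, h.z_mem x y⟩ := by
  have hmem : ∀ w : pairCentralizer x y, (w : E) ∈ zpowers z → w ∈ zpowers (⟨z, h.z_mem x y⟩ : pairCentralizer x y) := by
    intro w hw
    obtain ⟨i, hi⟩ := mem_zpowers_iff.1 hw
    exact mem_zpowers_iff.2 ⟨i, Subtype.ext (by simpa using hi)⟩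
  refine ⟨by rw [Subgroup.orderOf_mk, h.ord], le_antisymm (fun c hc => ?_) (zpowers_le.2 ?_), fun a b => hmem _ ?_,
    fun a => hmem _ ?_⟩
  · refine hmem c ?_
    rw [← h.cen, mem_center_iff]
    intro g
    obtain ⟨a, b, d, hd, rfl⟩ := h.exists_coord hxy g
    obtain ⟨h1, h2⟩ := mem_pairCentralizer.1 c.2
    have h3 : Commute (c : E) d :=
      (congrArg Subtype.val (mem_center_iff.1 hc ⟨d, hd⟩)).symm
    exact (((h1.pow_right a).mul_right (h2.pow_right b)).mul_right h3).symm.eq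
  · exact mem_center_iff.2 fun g => Subtype.ext (h.commute_z (g : E)).eq
  · exact h.comm (a : E) (b : E)
  · simpa using h.pow (a : E)

/-- Gluing: matching pairs and isomorphic centralisers give isomorphic groups. -/
theorem ES.glue {E' : Type v} [Group E'] [Finite E'] {z' : E'} (h : ES p E z) (h' : ES p E' z')
    {x y : E} {x' y' : E'} (hxy : ⁅y, x⁆ = z) (hxy' : ⁅y', x'⁆ = z')
    (ε δ : ℕ) (hx : x ^ p = z ^ ε) (hy : y ^ p = z ^ δ) (hx' : x' ^ p = z' ^ ε) (hy' : y' ^ p = z' ^ δ)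
    (ψ : pairCentralizer x y ≃* pairCentralizer x' y')
    (hψ : ψ ⟨z, h.z_mem x y⟩ = ⟨z', h'.z_mem x' y'⟩) :
    ∃ f : E ≃* E', f z = z' := by
  let e := Equiv.ofBijective _ (h.coordMap_bijective hxy)
  let e' := Equiv.ofBijective _ (h'.coordMap_bijective hxy')
  let f : E ≃ E' := e.symm.trans ((Equiv.prodCongr (Equiv.refl (Fin p × Fin p)) ψ.toEquiv).trans e')
  have hval : ∀ (a b : Fin p) (c : pairCentralizer x y),
      f (x ^ (a : ℕ) * y ^ (b : ℕ) * c) = x' ^ (a : ℕ) * y' ^ (b : ℕ) * (ψ c : E') := by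
    intro a b c
    have h1 : e.symm (x ^ (a : ℕ) * y ^ (b : ℕ) * (c : E)) = ((a, b), c) := e.symm_apply_apply ((a, b), c)
    simp only [f, Equiv.trans_apply, h1]
    rfl
  have hgen : ∀ (a b : ℕ) (c : pairCentralizer x y),
      f (x ^ a * y ^ b * c) = x' ^ a * y' ^ b * (ψ c : E') := by
    intro a b c
    have hc1 : x ^ a * y ^ b * (c : E) = x ^ (a % p) * y ^ (b % p) *
        ((⟨z, h.z_mem x y⟩ ^ (ε * (a / p) + δ * (b / p)) * c : pairCentralizer x y) : E) := by
      conv_lhs => rw [← Nat.mod_add_div a p, ← Nat.mod_add_div b p, pow_add, pow_add, pow_mul, pow_mul, hx, hy,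
        ← pow_mul, ← pow_mul]
      have h3 : Commute (z ^ (ε * (a / p))) (y ^ (b % p)) := ((h.commute_z _).pow_right _).symm
      simp only [coe_mul, coe_pow, pow_add]
      rw [show x ^ (a % p) * z ^ (ε * (a / p)) * (y ^ (b % p) * z ^ (δ * (b / p))) * (c : E)
        = x ^ (a % p) * (z ^ (ε * (a / p)) * y ^ (b % p)) * z ^ (δ * (b / p)) * c by group, h3.eq]
      group
    rw [hc1, hval ⟨a % p, Nat.mod_lt _ hp.out.pos⟩ ⟨b % p, Nat.mod_lt _ hp.out.pos⟩, map_mul, map_pow, hψ]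
    conv_rhs => rw [← Nat.mod_add_div a p, ← Nat.mod_add_div b p, pow_add, pow_add, pow_mul, pow_mul, hx', hy',
        ← pow_mul, ← pow_mul]
    have h3 : Commute (z' ^ (ε * (a / p))) (y' ^ (b % p)) := ((h'.commute_z _).pow_right _).symm
    simp only [coe_mul, coe_pow, pow_add]
    rw [show x' ^ (a % p) * z' ^ (ε * (a / p)) * (y' ^ (b % p) * z' ^ (δ * (b / p))) * (ψ c : E')
        = x' ^ (a % p) * (z' ^ (ε * (a / p)) * y' ^ (b % p)) * z' ^ (δ * (b / p)) * (ψ c : E') by group, h3.eq]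
    group
  refine ⟨MulEquiv.mk' f fun g k => ?_, ?_⟩
  · obtain ⟨a, b, c, hc, rfl⟩ := h.exists_coord hxy g
    obtain ⟨a', b', d, hd, rfl⟩ := h.exists_coord hxy k
    obtain ⟨hcx, hcy⟩ := mem_pairCentralizer.1 hc
    obtain ⟨hcx', hcy'⟩ := mem_pairCentralizer.1 (ψ ⟨c, hc⟩).2
    rw [h.mul_coord hxy hcx hcy]
    have e1 : (z ^ (a' * b) * c * d : E) =
        ((⟨z, h.z_mem x y⟩ ^ (a' * b) * ⟨c, hc⟩ * ⟨d, hd⟩ : pairCentralizer x y) : E) := by simp
    rw [e1, hgen, hgen a b ⟨c, hc⟩, hgen a' b' ⟨d, hd⟩, h'.mul_coord hxy' hcx' hcy', map_mul, map_mul, map_pow, hψ]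
    simp
  · show f z = z'
    have := hgen 0 0 ⟨z, h.z_mem x y⟩
    rw [pow_zero, pow_zero, one_mul, one_mul, hψ, pow_zero, pow_zero, one_mul, one_mul] at this
    exact this

theorem ES.eq_zpowers (h : ES p E z) (hall : ∀ x : E, x ∈ center E) (x : E) : x ∈ zpowers z :=
  h.cen.le (hall x)

theorem ES.iso_base {E' : Type v} [Group E'] [Finite E'] {z' : E'} (h : ES p E z) (h' : ES p E' z')
    (hall : ∀ x : E, x ∈ center E) (hall' : ∀ x : E', x ∈ center E') : ∃ f : E ≃* E', f z = z' := by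
  haveI : IsCyclic E := ⟨⟨z, h.eq_zpowers hall⟩⟩
  haveI : IsCyclic E' := ⟨⟨z', h'.eq_zpowers hall'⟩⟩
  refine ⟨mulEquivOfOrderOfEq (h.eq_zpowers hall) (h'.eq_zpowers hall') (h.ord.trans h'.ord.symm), ?_⟩
  exact mulEquivOfOrderOfEq_apply_gen _ _ _

theorem ES.card_of_all (h : ES p E z) (hall : ∀ x : E, x ∈ center E) : Nat.card E = p := by
  rw [← Subgroup.card_top, show (⊤ : Subgroup E) = zpowers z from (eq_top_iff' _ |>.2 (h.eq_zpowers hall)).symm,
    Nat.card_zpowers, h.ord]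

theorem ES.lt_card_of_not_all (h : ES p E z) {x : E} (hx : x ∉ center E) : p < Nat.card E := by
  obtain ⟨y, hxy⟩ := h.exists_pair hx
  rw [h.card_eq hxy]
  haveI : Nonempty (pairCentralizer x y) := ⟨1⟩
  have h1 : 1 ≤ Nat.card (pairCentralizer x y) := Nat.card_pos
  have := hp.out.one_lt
  nlinarith

/-- Extraspecial groups of exponent `p` are determined by their order. -/
theorem iso_exponent : ∀ (n : ℕ) (E : Type u) [Group E] [Finite E] (z : E) (E' : Type v) [Group E'] [Finite E']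
    (z' : E'), Nat.card E ≤ n → ES p E z → ES p E' z' → (∀ x : E, x ^ p = 1) → (∀ x : E', x ^ p = 1) →
    Nat.card E = Nat.card E' → ∃ f : E ≃* E', f z = z' := by
  intro n
  induction n with
  | zero => intro E _ _ _ _ _ _ _ h; exact absurd h (by have := Nat.card_pos (α := E); omega)
  | succ n ih =>
    intro E _ _ z E' _ _ z' hn h h' he he' hcard
    by_cases hall : ∀ x : E, x ∈ center E
    · refine h.iso_base h' hall ?_
      by_contra hh
      push Not at hh
      obtain ⟨x', hx'⟩ := hh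
      exact absurd (h'.lt_card_of_not_all hx') (by rw [← hcard, h.card_of_all hall]; exact lt_irrefl p)
    push Not at hall
    obtain ⟨x, hx⟩ := hall
    obtain ⟨x', hx'⟩ : ∃ x', x' ∉ center E' := by
      by_contra hh
      push Not at hh
      exact absurd (h.lt_card_of_not_all hx) (by rw [hcard, h'.card_of_all hh]; exact lt_irrefl p)
    obtain ⟨y, hxy⟩ := h.exists_pair hx
    obtain ⟨y', hxy'⟩ := h'.exists_pair hx'
    have hc := h.card_eq hxy
    have hc' := h'.card_eq hxy'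
    have hpp : 1 < p * p := by have := hp.out.one_lt; nlinarith
    obtain ⟨ψ, hψ⟩ := ih (pairCentralizer x y) ⟨z, h.z_mem x y⟩ (pairCentralizer x' y') ⟨z', h'.z_mem x' y'⟩
      (by
        have h1 : 1 ≤ Nat.card (pairCentralizer x y) := Nat.card_pos
        nlinarith)
      (h.restrict hxy) (h'.restrict hxy') (fun c => Subtype.ext (by simpa using he (c : E)))
      (fun c => Subtype.ext (by simpa using he' (c : E')))
      (Nat.eq_of_mul_eq_mul_left (by omega) (hc ▸ hc' ▸ hcard))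
    exact h.glue h' hxy hxy' 0 0 (by rw [he, pow_zero]) (by rw [he, pow_zero]) (by rw [he', pow_zero])
      (by rw [he', pow_zero]) ψ hψ

/-! ### The prime two -/

/-- The number of solutions of `g ^ 2 = 1`. -/
noncomputable def numInv (E : Type u) [Group E] : ℕ := Nat.card {g : E // g ^ 2 = 1}

variable {E : Type u} [Group E] [Finite E] {z : E}

theorem ES.eq_one_or (h : ES 2 E z) {w : E} (hw : w ∈ zpowers z) : w = 1 ∨ w = z := by
  haveI : Fact (Nat.Prime 2) := ⟨Nat.prime_two⟩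
  obtain ⟨i, rfl⟩ := (Submonoid.mem_powers_iff _ _).1 ((isOfFinOrder_of_finite z).mem_powers_iff_mem_zpowers.2 hw)
  rw [← pow_mod_orderOf, h.ord]
  rcases Nat.mod_two_eq_zero_or_one i with e | e
  · exact Or.inl (by rw [e, pow_zero])
  · exact Or.inr (by rw [e, pow_one])

theorem ES.z_ne_one (h : ES 2 E z) : z ≠ 1 := fun e => by
  have := h.ord
  rw [e, orderOf_one] at this
  omega

/-- A group with a non-central involution has a dihedral pair. -/
theorem ES.exists_dihedral_pair (h : ES 2 E z) {x : E} (hx : x ∉ center E) (hx2 : x ^ 2 = 1) :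
    ∃ y : E, ⁅y, x⁆ = z ∧ y ^ 2 = 1 := by
  haveI : Fact (Nat.Prime 2) := ⟨Nat.prime_two⟩
  obtain ⟨y, hxy⟩ := h.exists_pair hx
  rcases h.eq_one_or (h.pow y) with hy | hy
  · exact ⟨y, hxy, hy⟩
  · refine ⟨x * y, ?_, ?_⟩
    · rw [Cfsg.Lib.PGroups.commutator_mul_left_of_central (h.mem_center (h.comm _ _)), hxy,
        commutatorElement_self, one_mul]
    · rw [Cfsg.Lib.PGroups.mul_pow_of_central (h.mem_center (hxy ▸ mem_zpowers z)), hx2, one_mul, hy, hxy,
        show (2 : ℕ).choose 2 = 1 by decide, pow_one, ← pow_two, ← h.ord, pow_orderOf_eq_one]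

/-- Either a dihedral pair exists, or the group is the quaternion group. -/
theorem ES.kind (h : ES 2 E z) {x₀ : E} (hx₀ : x₀ ∉ center E) :
    (∃ x y : E, x ∉ center E ∧ ⁅y, x⁆ = z ∧ x ^ 2 = 1 ∧ y ^ 2 = 1) ∨
      ((∀ w : E, w ∉ center E → w ^ 2 = z) ∧ ∀ (x y : E), ⁅y, x⁆ = z → ∀ c : pairCentralizer x y, c ∈ center _) := by
  haveI : Fact (Nat.Prime 2) := ⟨Nat.prime_two⟩
  by_cases hi : ∃ x : E, x ∉ center E ∧ x ^ 2 = 1
  · obtain ⟨x, hx, hx2⟩ := hi
    obtain ⟨y, hxy, hy⟩ := h.exists_dihedral_pair hx hx2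
    exact Or.inl ⟨x, y, hx, hxy, hx2, hy⟩
  push Not at hi
  have hall : ∀ w : E, w ∉ center E → w ^ 2 = z := fun w hw => (h.eq_one_or (h.pow w)).resolve_left (hi w hw)
  refine Or.inr ⟨hall, fun x y hxy c => ?_⟩
  by_contra hc
  have hcE : (c : E) ∉ center E := fun hh => hc (mem_center_iff.2 fun g => Subtype.ext (mem_center_iff.1 hh g))
  have hxE : x ∉ center E := fun hh => h.z_ne_one (by
    rw [← hxy, commutatorElement_eq_one_iff_mul_comm]; exact mem_center_iff.1 hh y)
  obtain ⟨hcx, hcy⟩ := mem_pairCentralizer.1 c.2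
  have hxc : x * (c : E) ∉ center E := fun hh => h.z_ne_one (by
    have h1 := mem_center_iff.1 hh y
    rw [← hxy, commutatorElement_eq_one_iff_mul_comm]
    refine mul_right_cancel (b := (c : E)) ?_
    rw [mul_assoc, h1, mul_assoc, hcy.eq, mul_assoc])
  refine hi (x * c) hxc ?_
  rw [hcx.symm.mul_pow, hall x hxE, hall c hcE, ← pow_two, ← h.ord, pow_orderOf_eq_one]

theorem ES.numInv_dihedral (h : ES 2 E z) {x y : E} (hxy : ⁅y, x⁆ = z) (hx : x ^ 2 = 1) (hy : y ^ 2 = 1) :
    numInv E = 2 * numInv (pairCentralizer x y) + Nat.card (pairCentralizer x y) := by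
  classical
  haveI : Fact (Nat.Prime 2) := ⟨Nat.prime_two⟩
  set C := pairCentralizer x y
  haveI := Fintype.ofFinite C
  haveI := Fintype.ofFinite E
  let e := Equiv.ofBijective _ (h.coordMap_bijective hxy)
  have hsq : ∀ w, (e w) ^ 2 = 1 ↔ (w.2 : E) ^ 2 = z ^ ((w.1.1 : ℕ) * w.1.2) := by
    intro w
    obtain ⟨hcx, hcy⟩ := mem_pairCentralizer.1 w.2.2
    show (x ^ (w.1.1 : ℕ) * y ^ (w.1.2 : ℕ) * (w.2 : E)) ^ 2 = 1 ↔ _
    rw [pow_two, h.mul_coord hxy hcx hcy, show x ^ ((w.1.1 : ℕ) + w.1.1) = 1 by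
        rw [← two_mul, pow_mul, hx, one_pow], show y ^ ((w.1.2 : ℕ) + w.1.2) = 1 by
        rw [← two_mul, pow_mul, hy, one_pow], one_mul, one_mul, mul_assoc, ← pow_two, mul_eq_one_iff_inv_eq,
      ← inv_pow, inv_eq_of_mul_eq_one_right (show z * z = 1 by rw [← pow_two, ← h.ord, pow_orderOf_eq_one]), eq_comm]
  have h1 : numInv E = Nat.card {w : (Fin 2 × Fin 2) × C // (w.2 : E) ^ 2 = z ^ ((w.1.1 : ℕ) * w.1.2)} :=
    Nat.card_congr (e.subtypeEquiv fun w => (hsq w).symm).symm
  have hcen2 : ∀ c : C, (c : E) ^ 2 = z ↔ ¬ c ^ 2 = 1 := fun c => by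
    constructor
    · intro e1 e2
      exact h.z_ne_one (e1.symm.trans (by simpa using congrArg Subtype.val e2))
    · intro e2
      exact (h.eq_one_or (h.pow c)).resolve_left fun e1 => e2 (Subtype.ext (by simpa using e1))
  have hone : ∀ c : C, (c : E) ^ 2 = 1 ↔ c ^ 2 = 1 := fun c =>
    ⟨fun e1 => Subtype.ext (by simpa using e1), fun e1 => by simpa using congrArg Subtype.val e1⟩
  rw [h1, numInv, Nat.card_eq_fintype_card, Nat.card_eq_fintype_card, Nat.card_eq_fintype_card,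
    Fintype.card_subtype, Fintype.card_subtype, Finset.card_filter, Fintype.sum_prod_type, Fintype.sum_prod_type,
    Fin.sum_univ_two, Fin.sum_univ_two, Fin.sum_univ_two]
  simp only [Fin.val_zero, Fin.val_one, mul_zero, zero_mul, mul_one, pow_zero, pow_one, hone, hcen2]
  rw [← Finset.card_filter, ← Finset.card_filter]
  have := Finset.card_filter_add_card_filter_not (s := (Finset.univ : Finset C)) (fun c => c ^ 2 = 1)
  rw [Finset.card_univ] at this
  omega

theorem ES.quaternion_facts (h : ES 2 E z) {x₀ : E} (hx₀ : x₀ ∉ center E) (hall : ∀ w : E, w ∉ center E → w ^ 2 = z)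
    (hC : ∀ (x y : E), ⁅y, x⁆ = z → ∀ c : pairCentralizer x y, c ∈ center _) :
    Nat.card E = 8 ∧ numInv E = 2 := by
  haveI : Fact (Nat.Prime 2) := ⟨Nat.prime_two⟩
  obtain ⟨y, hxy⟩ := h.exists_pair hx₀
  refine ⟨?_, ?_⟩
  · rw [h.card_eq hxy, (h.restrict hxy).card_of_all (hC x₀ y hxy)]
  · refine Nat.card_eq_two_iff.2 ⟨⟨1, one_pow 2⟩, ⟨z, by rw [← h.ord, pow_orderOf_eq_one]⟩, fun e =>
      h.z_ne_one (congrArg Subtype.val e).symm, Set.eq_univ_of_forall fun g => ?_⟩
    have hg : (g : E) ∈ center E := by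
      by_contra hg
      exact h.z_ne_one ((hall g hg).symm.trans g.2)
    rcases h.eq_one_or (h.cen.le hg) with e | e
    · exact Or.inl (Subtype.ext e)
    · exact Or.inr (Subtype.ext e)

/-- The order and the number of solutions of `g ^ 2 = 1`. -/
theorem numInv_values : ∀ (n : ℕ) (E : Type u) [Group E] [Finite E] (z : E), Nat.card E ≤ n → ES 2 E z →
    ∃ m : ℕ, Nat.card E = 2 ^ (2 * m + 1) ∧
      (numInv E = 2 ^ (2 * m) + 2 ^ m ∨ numInv E + 2 ^ m = 2 ^ (2 * m)) := by
  intro n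
  induction n with
  | zero => intro E _ _ _ h; exact absurd h (by have := Nat.card_pos (α := E); omega)
  | succ n ih =>
    intro E _ _ z hn h
    haveI : Fact (Nat.Prime 2) := ⟨Nat.prime_two⟩
    by_cases hall : ∀ x : E, x ∈ center E
    · refine ⟨0, by simpa using h.card_of_all hall, Or.inl ?_⟩
      have h1 : ∀ g : E, g ^ 2 = 1 := fun g => by
        rw [← h.card_of_all hall]; exact pow_card_eq_one'
      rw [numInv, Nat.card_congr (Equiv.subtypeUnivEquiv h1), h.card_of_all hall]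
      norm_num
    push Not at hall
    obtain ⟨x₀, hx₀⟩ := hall
    rcases h.kind hx₀ with ⟨x, y, -, hxy, hx, hy⟩ | ⟨hq, hC⟩
    · have hc := h.card_eq hxy
      have h1 : 1 ≤ Nat.card (pairCentralizer x y) := Nat.card_pos
      obtain ⟨m, hm, hi⟩ := ih (pairCentralizer x y) ⟨z, h.z_mem x y⟩ (by omega) (h.restrict hxy)
      refine ⟨m + 1, ?_, ?_⟩
      · rw [hc, hm]; ring
      · rw [h.numInv_dihedral hxy hx hy, hm]
        have e1 : 2 ^ (2 * (m + 1)) = 4 * 2 ^ (2 * m) := by ring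
        have e2 : 2 ^ (2 * m + 1) = 2 * 2 ^ (2 * m) := by ring
        have e3 : 2 ^ (m + 1) = 2 * 2 ^ m := by ring
        omega
    · obtain ⟨h8, h2⟩ := h.quaternion_facts hx₀ hq hC
      exact ⟨1, h8, Or.inr (by rw [h2]; norm_num)⟩

theorem six_le_numInv (h : ES 2 E z) {x y : E} (hxy : ⁅y, x⁆ = z) (hx : x ^ 2 = 1) (hy : y ^ 2 = 1)
    (h8 : Nat.card E = 8) : numInv E = 6 := by
  haveI : Fact (Nat.Prime 2) := ⟨Nat.prime_two⟩
  have hc := h.card_eq hxy
  have hC : Nat.card (pairCentralizer x y) = 2 := by omega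
  have h1 : ∀ g : pairCentralizer x y, g ^ 2 = 1 := fun g => by rw [← hC]; exact pow_card_eq_one'
  rw [h.numInv_dihedral hxy hx hy, numInv, Nat.card_congr (Equiv.subtypeUnivEquiv h1), hC]

/-- Extraspecial two-groups are determined by the order and the number of involutions. -/
theorem iso_two : ∀ (n : ℕ) (E : Type u) [Group E] [Finite E] (z : E) (E' : Type v) [Group E'] [Finite E']
    (z' : E'), Nat.card E ≤ n → ES 2 E z → ES 2 E' z' →
    Nat.card E = Nat.card E' → numInv E = numInv E' → ∃ f : E ≃* E', f z = z' := by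
  intro n
  induction n with
  | zero => intro E _ _ _ _ _ _ _ h; exact absurd h (by have := Nat.card_pos (α := E); omega)
  | succ n ih =>
    intro E _ _ z E' _ _ z' hn h h' hcard hinv
    haveI : Fact (Nat.Prime 2) := ⟨Nat.prime_two⟩
    by_cases hall : ∀ x : E, x ∈ center E
    · refine h.iso_base h' hall ?_
      by_contra hh
      push Not at hh
      obtain ⟨x', hx'⟩ := hh
      exact absurd (h'.lt_card_of_not_all hx') (by rw [← hcard, h.card_of_all hall]; exact lt_irrefl 2)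
    push Not at hall
    obtain ⟨x₀, hx₀⟩ := hall
    obtain ⟨x₀', hx₀'⟩ : ∃ x', x' ∉ center E' := by
      by_contra hh
      push Not at hh
      exact absurd (h.lt_card_of_not_all hx₀) (by rw [hcard, h'.card_of_all hh]; exact lt_irrefl 2)
    have hz2 : z ^ 2 = 1 := by rw [← h.ord]; exact pow_orderOf_eq_one z
    rcases h.kind hx₀ with ⟨x, y, hxc, hxy, hx, hy⟩ | ⟨hq, hC⟩ <;>
      rcases h'.kind hx₀' with ⟨x', y', hxc', hxy', hx', hy'⟩ | ⟨hq', hC'⟩
    · have hc := h.card_eq hxy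
      have hc' := h'.card_eq hxy'
      have h1 : 1 ≤ Nat.card (pairCentralizer x y) := Nat.card_pos
      rw [h.numInv_dihedral hxy hx hy, h'.numInv_dihedral hxy' hx' hy'] at hinv
      obtain ⟨ψ, hψ⟩ := ih (pairCentralizer x y) ⟨z, h.z_mem x y⟩ (pairCentralizer x' y') ⟨z', h'.z_mem x' y'⟩ (by omega)
        (h.restrict hxy) (h'.restrict hxy') (by omega) (by omega)
      exact h.glue h' hxy hxy' 0 0 (by rw [hx, pow_zero]) (by rw [hy, pow_zero]) (by rw [hx', pow_zero])
        (by rw [hy', pow_zero]) ψ hψ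
    · obtain ⟨h8, h2⟩ := h'.quaternion_facts hx₀' hq' hC'
      have := six_le_numInv h hxy hx hy (hcard.trans h8)
      omega
    · obtain ⟨h8, h2⟩ := h.quaternion_facts hx₀ hq hC
      have := six_le_numInv h' hxy' hx' hy' (hcard.symm.trans h8)
      omega
    · obtain ⟨y, hxy⟩ := h.exists_pair hx₀
      obtain ⟨y', hxy'⟩ := h'.exists_pair hx₀'
      have hyc : y ∉ center E := fun hh => h.z_ne_one (by
        rw [← hxy, commutatorElement_eq_one_iff_mul_comm]; exact (mem_center_iff.1 hh x₀).symm)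
      have hyc' : y' ∉ center E' := fun hh => h'.z_ne_one (by
        rw [← hxy', commutatorElement_eq_one_iff_mul_comm]; exact (mem_center_iff.1 hh x₀').symm)
      obtain ⟨ψ, hψ⟩ := (h.restrict hxy).iso_base (h'.restrict hxy') (hC x₀ y hxy) (hC' x₀' y' hxy')
      exact h.glue h' hxy hxy' 1 1 (by rw [hq _ hx₀, pow_one]) (by rw [hq _ hyc, pow_one])
        (by rw [hq' _ hx₀', pow_one]) (by rw [hq' _ hyc', pow_one]) ψ hψ

end Cfsg.Lib.PGroups.ExtraspecialIso
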