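/-
The automorphism group of the extraspecial group of order 32 of minus type.
-/
import Cfsg.Agent.PGroups.ExtraspecialIso

set_option linter.style.haveILetI false
set_option linter.unusedSectionVars false
set_option maxRecDepth 8000

namespace Cfsg.Lib.ExtraMinusFive

open Subgroup Cfsg.Lib.PGroups.ExtraspecialIso
open scoped commutatorElement

/-- Four pairwise anticommuting involutions: a model of the group. -/
@[ext] structure Cl where
  s : ZMod 2
  a : ZMod 2
  b : ZMod 2
  c : ZMod 2
  d : ZMod 2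
deriving DecidableEq, Fintype

namespace Cl

instance : Mul Cl := ⟨fun g h =>
  ⟨g.s + h.s + (g.b * h.a + g.c * (h.a + h.b) + g.d * (h.a + h.b + h.c)), g.a + h.a, g.b + h.b, g.c + h.c,
    g.d + h.d⟩⟩

instance : One Cl := ⟨⟨0, 0, 0, 0, 0⟩⟩

instance : Inv Cl := ⟨fun g => ⟨g.s + (g.b * g.a + g.c * (g.a + g.b) + g.d * (g.a + g.b + g.c)), g.a, g.b, g.c, g.d⟩⟩

theorem mul_def (g h : Cl) : g * h =
  ⟨g.s + h.s + (g.b * h.a + g.c * (h.a + h.b) + g.d * (h.a + h.b + h.c)), g.a + h.a, g.b + h.b, g.c + h.c,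
    g.d + h.d⟩ := rfl

theorem one_def : (1 : Cl) = ⟨0, 0, 0, 0, 0⟩ := rfl

instance : Group Cl :=
  Group.ofLeftAxioms (fun g h k => by simp only [mul_def]; ext <;> ring)
    (fun g => by simp only [mul_def, one_def]; ext <;> simp)
    (by decide)

/-- The central involution. -/
def zz : Cl := ⟨1, 0, 0, 0, 0⟩

/-- The five classes of non-central involutions. -/
def t : Fin 5 → Cl :=
  ![⟨0, 1, 0, 0, 0⟩, ⟨0, 0, 1, 0, 0⟩, ⟨0, 0, 0, 1, 0⟩, ⟨0, 0, 0, 0, 1⟩, ⟨0, 1, 1, 1, 1⟩]

/-- Forget the sign. -/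
def vec (g : Cl) : Cl := ⟨0, g.a, g.b, g.c, g.d⟩

/-- The class of an involution. -/
def idx (g : Cl) : Fin 5 :=
  if g.a = 1 ∧ g.b = 1 then 4 else if g.a = 1 then 0 else if g.b = 1 then 1 else if g.c = 1 then 2 else 3

theorem zz_mul (g : Cl) : zz * g = g * zz := by revert g; decide
theorem zz_sq : zz * zz = 1 := by decide
theorem zz_ne : zz ≠ 1 := by decide
theorem t_sq : ∀ i, t i * t i = 1 := by decide
theorem idx_spec : ∀ g : Cl, g * g = 1 → g ≠ 1 → g ≠ zz → vec g = t (idx g) := by decide
theorem idx_vec : ∀ g : Cl, idx (vec g) = idx g := by decide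
theorem idx_t : ∀ i, idx (t i) = i := by decide
theorem vec_t : ∀ i, vec (t i) = t i := by decide
theorem vec_eq : ∀ g : Cl, g = vec g ∨ g = zz * vec g := by decide
theorem t_ne : ∀ i, t i ≠ 1 ∧ t i ≠ zz := by decide
theorem t_anti : ∀ i j, i ≠ j → t j * t i = zz * (t i * t j) := by decide
theorem center_eq : ∀ g : Cl, (∀ h, g * h = h * g) → g = 1 ∨ g = zz := by decide
theorem exists_anti : ∀ g : Cl, g ≠ 1 → g ≠ zz → ∃ h, g * h = zz * (h * g) := by decide
theorem decomp : ∀ g : Cl, g = (if g.s = 0 then 1 else zz) * ((if g.a = 0 then 1 else t 0) *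
    ((if g.b = 0 then 1 else t 1) * ((if g.c = 0 then 1 else t 2) * (if g.d = 0 then 1 else t 3)))) := by decide
theorem vec_conj : ∀ g : Cl, ∀ i : Fin 5, vec (g * t i * g⁻¹) = t i := by decide

end Cl

/-- `x` or `1` according to a bit. -/
def pw {M : Type*} [One M] (x : M) (a : ZMod 2) : M := if a = 0 then 1 else x

/-- An anticommuting quadruple with central element `z`. -/
structure Quad {M : Type*} [Group M] (z : M) (q : Fin 4 → M) : Prop where
  cz : ∀ g, z * g = g * z
  zsq : z * z = 1
  sq : ∀ i, q i * q i = 1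
  anti : ∀ i j, i < j → q j * q i = z * (q i * q j)

/-- The value of the extension of a quadruple. -/
def word {M : Type*} [Group M] (z : M) (q : Fin 4 → M) (g : Cl) : M :=
  pw z g.s * (pw (q 0) g.a * (pw (q 1) g.b * (pw (q 2) g.c * pw (q 3) g.d)))

theorem bit_cases : ∀ x : ZMod 2, x = 0 ∨ x = 1 := by decide

theorem bit_add : (1 : ZMod 2) + 1 = 0 := by decide

section

variable {M : Type*} [Group M] {z : M} {q : Fin 4 → M} (h : Quad z q)
include h

theorem pw_z_add (s u : ZMod 2) : pw z (s + u) = pw z s * pw z u := by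
  rcases bit_cases s with rfl | rfl <;> rcases bit_cases u with rfl | rfl <;> simp [pw, h.zsq, bit_add]

theorem word_mul_gen (g : Cl) (i : Fin 4) : word z q g * q i = word z q (g * Cl.t i.castSucc) := by
  have a10 : ∀ x, q 1 * (q 0 * x) = z * (q 0 * (q 1 * x)) := fun x => by
    rw [← mul_assoc, h.anti 0 1 (by decide)]; simp [mul_assoc]
  have a20 : ∀ x, q 2 * (q 0 * x) = z * (q 0 * (q 2 * x)) := fun x => by
    rw [← mul_assoc, h.anti 0 2 (by decide)]; simp [mul_assoc]
  have a30 : ∀ x, q 3 * (q 0 * x) = z * (q 0 * (q 3 * x)) := fun x => by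
    rw [← mul_assoc, h.anti 0 3 (by decide)]; simp [mul_assoc]
  have a21 : ∀ x, q 2 * (q 1 * x) = z * (q 1 * (q 2 * x)) := fun x => by
    rw [← mul_assoc, h.anti 1 2 (by decide)]; simp [mul_assoc]
  have a31 : ∀ x, q 3 * (q 1 * x) = z * (q 1 * (q 3 * x)) := fun x => by
    rw [← mul_assoc, h.anti 1 3 (by decide)]; simp [mul_assoc]
  have a32 : ∀ x, q 3 * (q 2 * x) = z * (q 2 * (q 3 * x)) := fun x => by
    rw [← mul_assoc, h.anti 2 3 (by decide)]; simp [mul_assoc]
  have b10 := h.anti 0 1 (by decide)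
  have b20 := h.anti 0 2 (by decide)
  have b30 := h.anti 0 3 (by decide)
  have b21 := h.anti 1 2 (by decide)
  have b31 := h.anti 1 3 (by decide)
  have b32 := h.anti 2 3 (by decide)
  have hz : ∀ (j : Fin 4) x, q j * (z * x) = z * (q j * x) := fun j x => by
    rw [← mul_assoc, ← h.cz, mul_assoc]
  have hzz : ∀ x, z * (z * x) = x := fun x => by rw [← mul_assoc, h.zsq, one_mul]
  have hqq : ∀ (j : Fin 4) x, q j * (q j * x) = x := fun j x => by rw [← mul_assoc, h.sq, one_mul]
  have hz1 : ∀ j : Fin 4, q j * z = z * q j := fun j => (h.cz _).symm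
  obtain ⟨s, a, b, c, d⟩ := g
  have hs : ∀ u : ZMod 2, pw z (s + u) = pw z s * pw z u := fun u => pw_z_add h s u
  simp only [word, Cl.mul_def]
  fin_cases i <;> simp only [Cl.t] <;> rcases bit_cases s with rfl | rfl <;> rcases bit_cases a with rfl | rfl <;> rcases bit_cases b with rfl | rfl <;>
    rcases bit_cases c with rfl | rfl <;> rcases bit_cases d with rfl | rfl <;>
    simp [pw_z_add h, pw, mul_assoc, a10, a20, a30, a21, a31, a32, b10, b20, b30, b21, b31, b32, hz, hzz, hqq, hz1,
      h.sq, h.zsq, bit_add]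

theorem word_mul_z (g : Cl) : word z q g * z = word z q (g * Cl.zz) := by
  have e : ∀ u : ZMod 2, pw z (u + 1) = z * pw z u := fun u => by
    rw [pw_z_add h, show pw z (1 : ZMod 2) = z from if_neg (by decide), ← h.cz]
  rw [← h.cz]
  simp [word, Cl.mul_def, Cl.zz, e, mul_assoc]

theorem word_mul (g g' : Cl) : word z q (g * g') = word z q g * word z q g' := by
  have hgen : ∀ g (x : ZMod 2) (i : Fin 4),
      word z q (g * (if x = 0 then 1 else Cl.t i.castSucc)) = word z q g * pw (q i) x := by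
    intro g x i
    by_cases hx : x = 0 <;> simp [pw, hx, word_mul_gen h]
  have hzg : ∀ g (x : ZMod 2), word z q (g * (if x = 0 then 1 else Cl.zz)) = word z q g * pw z x := by
    intro g x
    by_cases hx : x = 0 <;> simp [pw, hx, word_mul_z h]
  conv_lhs => rw [Cl.decomp g']
  rw [← mul_assoc, ← mul_assoc, ← mul_assoc, ← mul_assoc]
  rw [show Cl.t 3 = Cl.t (3 : Fin 4).castSucc from rfl, hgen, show Cl.t 2 = Cl.t (2 : Fin 4).castSucc from rfl, hgen,
    show Cl.t 1 = Cl.t (1 : Fin 4).castSucc from rfl, hgen, show Cl.t 0 = Cl.t (0 : Fin 4).castSucc from rfl, hgen, hzg]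
  simp only [word, mul_assoc]

/-- The extension of a quadruple. -/
def extend : Cl →* M := MonoidHom.mk' (word z q) (word_mul h)

theorem extend_t (i : Fin 4) : extend h (Cl.t i.castSucc) = q i := by
  show word z q _ = _
  fin_cases i <;> simp [word, Cl.t, pw]

theorem extend_zz : extend h Cl.zz = z := by
  show word z q _ = _
  simp [word, Cl.zz, pw]

end

theorem hom_ext {M : Type*} [Group M] {f f' : Cl →* M} (hz : f Cl.zz = f' Cl.zz)
    (h : ∀ i : Fin 4, f (Cl.t i.castSucc) = f' (Cl.t i.castSucc)) : f = f' := by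
  refine MonoidHom.ext fun g => ?_
  rw [Cl.decomp g]
  simp only [map_mul]
  have h0 : f (Cl.t 0) = f' (Cl.t 0) := h 0
  have h1 : f (Cl.t 1) = f' (Cl.t 1) := h 1
  have h2 : f (Cl.t 2) = f' (Cl.t 2) := h 2
  have h3 : f (Cl.t 3) = f' (Cl.t 3) := h 3
  congr 1; · split_ifs <;> simp [hz]
  congr 1; · split_ifs <;> simp [h0]
  congr 1; · split_ifs <;> simp [h1]
  congr 1; · split_ifs <;> simp [h2]
  split_ifs <;> simp [h3]

/-- The images of the generators. -/
def qs (σ : Equiv.Perm (Fin 5)) (e : Fin 4 → ZMod 2) (i : Fin 4) : Cl := pw Cl.zz (e i) * Cl.t (σ i.castSucc)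

theorem quad_aux : ∀ (a b : ZMod 2) (i j : Fin 5),
    pw Cl.zz a * Cl.t i * (pw Cl.zz a * Cl.t i) = 1 ∧
      (i ≠ j → pw Cl.zz b * Cl.t j * (pw Cl.zz a * Cl.t i) =
        Cl.zz * (pw Cl.zz a * Cl.t i * (pw Cl.zz b * Cl.t j))) := by
  decide

theorem quad_qs (σ : Equiv.Perm (Fin 5)) (e : Fin 4 → ZMod 2) : Quad Cl.zz (qs σ e) where
  cz := Cl.zz_mul
  zsq := Cl.zz_sq
  sq i := (quad_aux (e i) 0 (σ i.castSucc) (σ i.castSucc)).1
  anti i j hij := (quad_aux (e i) (e j) (σ i.castSucc) (σ j.castSucc)).2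
    fun he => hij.ne (Fin.castSucc_injective 4 (σ.injective he))

theorem extend_bijective (σ : Equiv.Perm (Fin 5)) (e : Fin 4 → ZMod 2) :
    Function.Bijective (extend (quad_qs σ e)) := by
  refine Finite.injective_iff_bijective.1 ((injective_iff_map_eq_one _).2 fun g hg => ?_)
  by_contra hg1
  rcases eq_or_ne g Cl.zz with rfl | hgz
  · exact Cl.zz_ne ((extend_zz _).symm.trans hg)
  obtain ⟨h, hh⟩ := Cl.exists_anti g hg1 hgz
  have := congrArg (extend (quad_qs σ e)) hh
  rw [map_mul, map_mul, map_mul, hg, one_mul, mul_one, extend_zz] at this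
  exact Cl.zz_ne (mul_eq_right.1 this.symm)

/-- The automorphism with given class permutation and signs. -/
noncomputable def mkAut (σ : Equiv.Perm (Fin 5)) (e : Fin 4 → ZMod 2) : MulAut Cl :=
  MulEquiv.ofBijective (extend (quad_qs σ e)) (extend_bijective σ e)

theorem aut_zz (f : MulAut Cl) : f Cl.zz = Cl.zz := by
  rcases Cl.center_eq (f Cl.zz) (fun h => by
    conv_lhs => rw [← f.apply_symm_apply h, ← map_mul, Cl.zz_mul, map_mul, f.apply_symm_apply]) with h | h
  · exact absurd (f.injective (h.trans f.map_one.symm)) Cl.zz_ne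
  · exact h

theorem idx_zz_mul : ∀ g : Cl, Cl.idx (Cl.zz * g) = Cl.idx g := by decide

theorem aut_t_spec (f : MulAut Cl) (i : Fin 5) : Cl.vec (f (Cl.t i)) = Cl.t (Cl.idx (f (Cl.t i))) := by
  refine Cl.idx_spec _ ?_ ?_ ?_
  · rw [← map_mul, Cl.t_sq, map_one]
  · exact fun h => (Cl.t_ne i).1 (f.injective (h.trans f.map_one.symm))
  · exact fun h => (Cl.t_ne i).2 (f.injective (h.trans (aut_zz f).symm))

theorem idx_aut_of_vec (f : MulAut Cl) (g : Cl) : Cl.idx (f g) = Cl.idx (f (Cl.vec g)) := by
  rcases Cl.vec_eq g with h | h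
  · rw [← h]
  · conv_lhs => rw [h, map_mul, aut_zz, idx_zz_mul]

theorem permFun_comp (f f' : MulAut Cl) (i : Fin 5) :
    Cl.idx (f (f' (Cl.t i))) = Cl.idx (f (Cl.t (Cl.idx (f' (Cl.t i))))) := by
  rw [idx_aut_of_vec f (f' (Cl.t i)), aut_t_spec f' i]

/-- The action on the five classes. -/
def classPerm : MulAut Cl →* Equiv.Perm (Fin 5) where
  toFun f :=
    { toFun := fun i => Cl.idx (f (Cl.t i))
      invFun := fun i => Cl.idx (f.symm (Cl.t i))
      left_inv := fun i => by
        show Cl.idx (f.symm (Cl.t (Cl.idx (f (Cl.t i))))) = i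
        rw [← permFun_comp f.symm f, f.symm_apply_apply, Cl.idx_t]
      right_inv := fun i => by
        show Cl.idx (f (Cl.t (Cl.idx (f.symm (Cl.t i))))) = i
        rw [← permFun_comp f f.symm, f.apply_symm_apply, Cl.idx_t] }
  map_one' := Equiv.ext fun i => Cl.idx_t i
  map_mul' f f' := Equiv.ext fun i => permFun_comp f f' i

theorem perm_ext {σ τ : Equiv.Perm (Fin 5)} (h : ∀ i : Fin 4, σ i.castSucc = τ i.castSucc) : σ = τ := by
  refine Equiv.ext fun i => ?_
  rcases Fin.eq_castSucc_or_eq_last i with ⟨j, rfl⟩ | rfl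
  · exact h j
  · by_contra hne
    obtain ⟨k, hk⟩ := τ.surjective (σ (Fin.last 4))
    rcases Fin.eq_castSucc_or_eq_last k with ⟨j, rfl⟩ | rfl
    · rw [← h j] at hk
      exact (Fin.castSucc_lt_last j).ne (σ.injective hk)
    · exact hne hk.symm

theorem sign_recover : ∀ g : Cl, g = pw Cl.zz g.s * Cl.vec g := by decide

theorem idx_pw_t : ∀ (a : ZMod 2) (i : Fin 5), Cl.idx (pw Cl.zz a * Cl.t i) = i ∧ (pw Cl.zz a * Cl.t i).s = a := by
  decide

/-- Automorphisms correspond to a permutation and four signs. -/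
noncomputable def autEquiv : MulAut Cl ≃ Equiv.Perm (Fin 5) × (Fin 4 → ZMod 2) where
  toFun f := (classPerm f, fun i => (f (Cl.t i.castSucc)).s)
  invFun w := mkAut w.1 w.2
  left_inv f := by
    refine MulEquiv.ext fun g => ?_
    refine DFunLike.congr_fun (hom_ext (f := extend (quad_qs (classPerm f) fun i => (f (Cl.t i.castSucc)).s))
      (f' := f.toMonoidHom) ?_ ?_) g
    · rw [extend_zz]; exact (aut_zz f).symm
    · intro i
      rw [extend_t, qs]
      show pw Cl.zz _ * Cl.t (Cl.idx (f (Cl.t i.castSucc))) = f (Cl.t i.castSucc)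
      rw [← aut_t_spec, ← sign_recover]
  right_inv w := by
    obtain ⟨σ, e⟩ := w
    have key : ∀ i : Fin 4, mkAut σ e (Cl.t i.castSucc) = pw Cl.zz (e i) * Cl.t (σ i.castSucc) :=
      fun i => extend_t (quad_qs σ e) i
    refine Prod.ext (perm_ext fun i => ?_) (funext fun i => ?_)
    · show Cl.idx _ = _
      rw [key]
      exact (idx_pw_t _ _).1
    · show (mkAut σ e (Cl.t i.castSucc)).s = e i
      rw [key]
      exact (idx_pw_t _ _).2

theorem card_aut : Nat.card (MulAut Cl) = 1920 := by
  rw [Nat.card_congr autEquiv, Nat.card_prod, Nat.card_perm, Nat.card_fun, Nat.card_fin, Nat.card_fin, Nat.card_zmod]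
  rfl

theorem classPerm_surjective : Function.Surjective classPerm := fun σ =>
  ⟨mkAut σ 0, congrArg Prod.fst (autEquiv.apply_symm_apply (σ, 0))⟩

theorem center_card : Nat.card (center Cl) = 2 := by
  have h : (center Cl : Set Cl) = {1, Cl.zz} := by
    ext g
    refine ⟨fun hg => Cl.center_eq g fun h => (mem_center_iff.1 hg h).symm, ?_⟩
    rintro (rfl | rfl)
    · exact one_mem _
    · exact mem_center_iff.2 fun h => (Cl.zz_mul h).symm
  rw [← SetLike.coe_sort_coe, h, Nat.card_coe_set_eq, Set.ncard_pair Cl.zz_ne.symm]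

theorem card_range_conj : Nat.card (MulAut.conj : Cl →* MulAut Cl).range = 16 := by
  have h := (MulAut.conj : Cl →* MulAut Cl).ker.card_mul_index
  have hk : (MulAut.conj : Cl →* MulAut Cl).ker = center Cl := by
    ext g
    rw [MonoidHom.mem_ker, mem_center_iff]
    constructor
    · intro hg x
      have := DFunLike.congr_fun hg x
      rw [MulAut.conj_apply, MulAut.one_apply, mul_inv_eq_iff_eq_mul] at this
      exact this.symm
    · exact fun hg => MulEquiv.ext fun x => by rw [MulAut.conj_apply, MulAut.one_apply, ← hg x, mul_inv_cancel_right]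
  rw [Subgroup.index_ker, hk, center_card, Nat.card_eq_fintype_card (α := Cl)] at h
  have h32 : Fintype.card Cl = 32 := by decide
  omega

theorem ker_classPerm : classPerm.ker = (MulAut.conj : Cl →* MulAut Cl).range := by
  refine (eq_of_le_of_card_ge ?_ ?_).symm
  · rintro _ ⟨g, rfl⟩
    refine MonoidHom.mem_ker.2 (Equiv.ext fun i => ?_)
    show Cl.idx (g * Cl.t i * g⁻¹) = i
    rw [← Cl.idx_vec, Cl.vec_conj, Cl.idx_t]
  · have h := classPerm.ker.card_mul_index
    rw [Subgroup.index_ker, MonoidHom.range_eq_top.2 classPerm_surjective, Subgroup.card_top, Nat.card_perm,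
      Nat.card_fin, card_aut] at h
    rw [card_range_conj]
    rw [show Nat.factorial 5 = 120 from rfl] at h
    omega

theorem isES : ES 2 Cl Cl.zz := by
  have hsq : ∀ g : Cl, g ^ 2 = 1 ∨ g ^ 2 = Cl.zz := by simp only [pow_two]; decide
  have hcomm : ∀ g h : Cl, g * h * g⁻¹ * h⁻¹ = 1 ∨ g * h * g⁻¹ * h⁻¹ = Cl.zz := by decide
  have hmem : ∀ {g : Cl}, g = 1 ∨ g = Cl.zz → g ∈ zpowers Cl.zz := by
    rintro g (rfl | rfl)
    · exact one_mem _
    · exact mem_zpowers _
  refine ⟨orderOf_eq_prime ?_ Cl.zz_ne, le_antisymm (fun g hg => hmem (Cl.center_eq g fun h => (mem_center_iff.1 hg h).symm))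
    (zpowers_le.2 (mem_center_iff.2 fun h => (Cl.zz_mul h).symm)), fun g h => hmem ?_, fun g => hmem (hsq g)⟩
  · rw [pow_two, Cl.zz_sq]
  · rw [commutatorElement_def]; exact hcomm g h

theorem numInv_model : numInv Cl = 12 := by
  rw [numInv, Nat.card_eq_fintype_card]
  simp only [pow_two]
  decide

variable {P : Type*} [Group P] [Finite P]

/-- An extraspecial group of order 32 without elementary abelian subgroups of order 8 is the model. -/
theorem nonempty_iso (hex : Cfsg.IsExtraspecial 2 P) (h32 : Nat.card P = 32)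
    (hminus : ∀ A : Subgroup P, Cfsg.IsElementaryAbelian 2 A → Nat.card A ≤ 4) : Nonempty (P ≃* Cl) := by
  haveI : Fact (Nat.Prime 2) := ⟨Nat.prime_two⟩
  obtain ⟨z, hz, hz1⟩ := exists_z hex
  have h : ES 2 P z := ES.of_isExtraspecial hex hz hz1
  have hn : ¬ ∀ x : P, x ∈ center P := fun hall => by
    have := h.card_of_all hall
    omega
  push Not at hn
  obtain ⟨x₀, hx₀⟩ := hn
  rcases h.kind hx₀ with ⟨x, y, hxc, hxy, hx, hy⟩ | ⟨hq, hC⟩
  swap
  · have := (h.quaternion_facts hx₀ hq hC).1
    omega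
  have hC8 : Nat.card (pairCentralizer x y) = 8 := by
    have := h.card_eq hxy
    omega
  have hinv : numInv P = 12 := by
    rw [h.numInv_dihedral hxy hx hy, hC8]
    have hC := h.restrict hxy
    have hn : ¬ ∀ c : pairCentralizer x y, c ∈ center _ := fun hall => by
      have := hC.card_of_all hall
      omega
    push Not at hn
    obtain ⟨c₀, hc₀⟩ := hn
    rcases hC.kind hc₀ with ⟨a, b, hac, hab, ha, hb⟩ | ⟨hq, hC'⟩
    · -- an elementary abelian subgroup of order eight
      exfalso
      obtain ⟨hax, -⟩ := mem_pairCentralizer.1 a.2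
      set A : Subgroup P := closure {z, x, (a : P)} with hA
      have hgen : ∀ u ∈ ({z, x, (a : P)} : Set P), u ^ 2 = 1 := by
        rintro u (rfl | rfl | rfl)
        · rw [← h.ord, pow_orderOf_eq_one]
        · exact hx
        · simpa using congrArg Subtype.val ha
      have hcomm : ∀ u ∈ ({z, x, (a : P)} : Set P), ∀ v ∈ ({z, x, (a : P)} : Set P), u * v = v * u := by
        rintro u (rfl | rfl | rfl) v (rfl | rfl | rfl)
        all_goals first | rfl | exact (h.commute_z _).symm.eq | exact (h.commute_z _).eq | exact hax.eq | exact hax.symm.eq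
      haveI hAc : IsMulCommutative A := isMulCommutative_closure hcomm
      have hAe : Cfsg.IsElementaryAbelian 2 A := by
        refine ⟨hAc, fun u hu => ?_⟩
        induction hu using closure_induction with
        | mem u hu => exact hgen u hu
        | one => exact one_pow 2
        | inv u _ ih => rw [inv_pow, ih, inv_one]
        | mul u v hu hv ihu ihv =>
          rw [Commute.mul_pow (congrArg Subtype.val (mul_comm' (⟨u, hu⟩ : A) ⟨v, hv⟩)), ihu, ihv, one_mul]
      have hlt1 : zpowers z < closure {z, x} := by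
        refine lt_of_le_of_ne (zpowers_le.2 (subset_closure (Set.mem_insert _ _))) fun e => hxc ?_
        have h1 : x ∈ zpowers z := e ▸ subset_closure (Set.mem_insert_of_mem _ rfl)
        exact h.mem_center h1
      have hlt2 : closure {z, x} < A := by
        refine lt_of_le_of_ne (closure_mono (Set.insert_subset_insert (by simp))) fun e => ?_
        have h1 : (a : P) ∈ closure {z, x} := e ▸ subset_closure (by simp)
        have h2 : closure {z, x} ≤ centralizer {(b : P)} := by
          rw [closure_le]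
          rintro u (rfl | rfl)
          · exact mem_centralizer_singleton_iff.2 (h.commute_z _).symm.eq
          · exact mem_centralizer_singleton_iff.2 (mem_pairCentralizer.1 b.2).1.symm.eq
        refine hC.z_ne_one ?_
        rw [← hab, commutatorElement_eq_one_iff_mul_comm]
        exact Subtype.ext (mem_centralizer_singleton_iff.1 (h2 h1)).symm
      have key : ∀ {H1 H2 : Subgroup P}, H1 < H2 → 2 * Nat.card H1 ≤ Nat.card H2 := by
        intro H1 H2 hlt
        obtain ⟨k, hk⟩ := card_dvd_of_le hlt.le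
        rcases k with _ | _ | k
        · have := Nat.card_pos (α := H2)
          rw [hk, mul_zero] at this
          omega
        · rw [zero_add, mul_one] at hk
          exact absurd (eq_of_le_of_card_ge hlt.le hk.le) hlt.ne
        · rw [hk, mul_comm 2]
          exact Nat.mul_le_mul_left _ (by omega)
      have h4 := hminus A hAe
      have h5 := key hlt1
      have h6 := key hlt2
      rw [Nat.card_zpowers, h.ord] at h5
      omega
    · rw [(hC.quaternion_facts hc₀ hq hC').2]
  obtain ⟨f, -⟩ := iso_two 32 P z Cl Cl.zz h32.le h isES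
    (by rw [h32, Nat.card_eq_fintype_card]; decide) (by rw [hinv, numInv_model])
  exact ⟨f⟩

theorem main (hex : Cfsg.IsExtraspecial 2 P) (h32 : Nat.card P = 32)
    (hminus : ∀ A : Subgroup P, Cfsg.IsElementaryAbelian 2 A → Nat.card A ≤ 4)
    [(MulAut.conj : P →* MulAut P).range.Normal] :
    Nat.card (MulAut.conj : P →* MulAut P).range = 16 ∧ Nat.card (MulAut P) = 1920 ∧
      Nonempty ((MulAut P ⧸ (MulAut.conj : P →* MulAut P).range) ≃* Equiv.Perm (Fin 5)) := by
  obtain ⟨e⟩ := nonempty_iso hex h32 hminus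
  set E := MulAut.congr e
  have hE : ∀ x : P, E (MulAut.conj x) = MulAut.conj (e x) := fun x => MulEquiv.ext fun g => by
    show e (x * e.symm g * x⁻¹) = e x * g * (e x)⁻¹
    rw [map_mul, map_mul, e.apply_symm_apply, map_inv]
  have hmap : (MulAut.conj : P →* MulAut P).range.map E.toMonoidHom = (MulAut.conj : Cl →* MulAut Cl).range := by
    ext f
    constructor
    · rintro ⟨_, ⟨x, rfl⟩, rfl⟩
      exact ⟨e x, (hE x).symm⟩
    · rintro ⟨g, rfl⟩
      exact ⟨_, ⟨e.symm g, rfl⟩, (hE (e.symm g)).trans (by rw [e.apply_symm_apply])⟩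
  refine ⟨?_, ?_, ?_⟩
  · rw [← card_map_of_injective (f := E.toMonoidHom) E.injective, hmap, card_range_conj]
  · rw [Nat.card_congr E.toEquiv, card_aut]
  · let φ : MulAut P →* Equiv.Perm (Fin 5) := classPerm.comp E.toMonoidHom
    have hφs : Function.Surjective φ := classPerm_surjective.comp E.surjective
    have hφk : φ.ker = (MulAut.conj : P →* MulAut P).range := by
      rw [← MonoidHom.comap_ker, ker_classPerm, ← hmap, comap_map_eq_self_of_injective]
      exact E.injective
    exact ⟨(QuotientGroup.quotientMulEquivOfEq hφk.symm).trans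
      (QuotientGroup.quotientKerEquivOfSurjective φ hφs)⟩

end Cfsg.Lib.ExtraMinusFive
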