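/-
The power formula in class three and its consequences for primes greater than three.
-/
import Cfsg.Agent.PGroups.Commutators

set_option linter.style.haveILetI false
set_option linter.unusedSectionVars false

namespace Cfsg.Lib.PGroups

open scoped commutatorElement

variable {G : Type*} [Group G]

theorem mul_eq_commutator_mul_of_central {x c e : G} (he : ⁅x, c⁆ = e) (hc : e ∈ Subgroup.center G)
    (n : ℕ) : x * c ^ n = e ^ n * c ^ n * x := by
  have h := commutator_pow_right_of_commute (x := x) (y := c)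
    (by rw [he]; exact (Subgroup.mem_center_iff.1 hc c).symm) n
  rw [he, commutatorElement_def] at h
  calc x * c ^ n = (x * c ^ n * x⁻¹ * (c ^ n)⁻¹) * c ^ n * x := by group
    _ = e ^ n * c ^ n * x := by rw [h]

theorem mul_pow_class_three {x y : G} (he : ⁅x, ⁅y, x⁆⁆ ∈ Subgroup.center G)
    (hf : ⁅y, ⁅y, x⁆⁆ ∈ Subgroup.center G) (n : ℕ) :
    y ^ n * x = ⁅y, ⁅y, x⁆⁆ ^ n.choose 2 * ⁅y, x⁆ ^ n * x * y ^ n ∧
    y * x ^ n = ⁅x, ⁅y, x⁆⁆ ^ n.choose 2 * ⁅y, x⁆ ^ n * x ^ n * y ∧
    (x * y) ^ n = ⁅x, ⁅y, x⁆⁆ ^ (2 * n.choose 3 + n.choose 2) * ⁅y, ⁅y, x⁆⁆ ^ n.choose 3 *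
      ⁅y, x⁆ ^ n.choose 2 * x ^ n * y ^ n := by
  set c := ⁅y, x⁆ with hc
  set e := ⁅x, c⁆ with he'
  set f := ⁅y, c⁆ with hf'
  have hyx : y * x = c * x * y := by rw [hc, commutatorElement_def]; group
  have hxc := fun m => mul_eq_commutator_mul_of_central he'.symm he m
  have hyc := fun m => mul_eq_commutator_mul_of_central hf'.symm hf m
  have ce : ∀ (m : ℕ) (g : G), g * e ^ m = e ^ m * g :=
    fun m g => Subgroup.mem_center_iff.1 (pow_mem he m) g
  have cf : ∀ (m : ℕ) (g : G), g * f ^ m = f ^ m * g :=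
    fun m g => Subgroup.mem_center_iff.1 (pow_mem hf m) g
  induction n with
  | zero => simp
  | succ n ih =>
    obtain ⟨ih1, ih2, ih3⟩ := ih
    have h2 : (n + 1).choose 2 = n + n.choose 2 := by
      rw [Nat.choose_succ_succ, Nat.choose_one_right]
    have h3 : (n + 1).choose 3 = n.choose 2 + n.choose 3 := Nat.choose_succ_succ _ _
    refine ⟨?_, ?_, ?_⟩
    · calc y ^ (n + 1) * x = y * (y ^ n * x) := by rw [pow_succ', mul_assoc]
        _ = (y * f ^ n.choose 2) * c ^ n * x * y ^ n := by rw [ih1]; simp only [mul_assoc]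
        _ = f ^ n.choose 2 * (y * c ^ n) * x * y ^ n := by rw [cf]; simp only [mul_assoc]
        _ = f ^ n.choose 2 * f ^ n * c ^ n * (y * x) * y ^ n := by rw [hyc]; simp only [mul_assoc]
        _ = f ^ n.choose 2 * f ^ n * (c ^ n * c) * x * (y * y ^ n) := by
          rw [hyx]; simp only [mul_assoc]
        _ = _ := by rw [← pow_add, ← pow_succ, ← pow_succ', h2, Nat.add_comm n (n.choose 2)]
    · calc y * x ^ (n + 1) = (y * x) * x ^ n := by rw [pow_succ', mul_assoc]
        _ = c * x * (y * x ^ n) := by rw [hyx]; simp only [mul_assoc]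
        _ = c * ((x * e ^ n.choose 2) * c ^ n * x ^ n * y) := by rw [ih2]; simp only [mul_assoc]
        _ = c * (e ^ n.choose 2 * (x * c ^ n) * x ^ n * y) := by rw [ce]; simp only [mul_assoc]
        _ = (c * (e ^ n.choose 2 * e ^ n)) * c ^ n * x * x ^ n * y := by
          rw [hxc]; simp only [mul_assoc]
        _ = e ^ (n.choose 2 + n) * (c * c ^ n) * (x * x ^ n) * y := by
          rw [← pow_add, ce]; simp only [mul_assoc]
        _ = _ := by rw [← pow_succ', ← pow_succ', h2, Nat.add_comm n (n.choose 2)]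
    · set A := n.choose 2
      set B := 2 * n.choose 3 + n.choose 2
      set D := n.choose 3
      calc (x * y) ^ (n + 1) = x * (y * (e ^ B * f ^ D * c ^ A * x ^ n * y ^ n)) := by
            rw [pow_succ', ih3]; simp only [mul_assoc]
        _ = x * ((y * (e ^ B * f ^ D)) * c ^ A * x ^ n * y ^ n) := by simp only [mul_assoc]
        _ = x * ((e ^ B * f ^ D) * (y * c ^ A) * x ^ n * y ^ n) := by
            rw [Subgroup.mem_center_iff.1 (mul_mem (pow_mem he B) (pow_mem hf D)) y]
            simp only [mul_assoc]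
        _ = x * ((e ^ B * f ^ D * f ^ A) * c ^ A * (y * x ^ n) * y ^ n) := by
            rw [hyc]; simp only [mul_assoc]
        _ = x * ((e ^ B * f ^ D * f ^ A) * (c ^ A * e ^ A) * c ^ n * x ^ n * y * y ^ n) := by
            rw [ih2]; simp only [mul_assoc]
        _ = x * ((e ^ B * f ^ D * f ^ A * e ^ A) * c ^ (A + n) * x ^ n * (y * y ^ n)) := by
            rw [ce, pow_add c]; simp only [mul_assoc]
        _ = (e ^ B * f ^ D * f ^ A * e ^ A) * (x * c ^ (A + n)) * x ^ n * (y * y ^ n) := by
            rw [← mul_assoc x, ← mul_assoc x, ← mul_assoc x,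
              Subgroup.mem_center_iff.1 (mul_mem (mul_mem (mul_mem (pow_mem he B) (pow_mem hf D))
                (pow_mem hf A)) (pow_mem he A)) x]
            simp only [mul_assoc]
        _ = (e ^ B * f ^ D * f ^ A * e ^ A * e ^ (A + n)) * c ^ (A + n) * (x * x ^ n) * (y * y ^ n) := by
            rw [hxc]; simp only [mul_assoc]
        _ = _ := by
            rw [← pow_succ', ← pow_succ', h2, h3, mul_assoc _ (e ^ A), ← pow_add e, mul_assoc (e ^ B),
              ← pow_add f, mul_assoc (e ^ B), ce (A + (A + n)) (f ^ (D + A)), ← mul_assoc (e ^ B), ← pow_add e]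
            congr 4
            · congr 1; omega
            · congr 1; omega
            · omega

theorem dvd_choose_three {p : ℕ} (hp : p.Prime) (h3 : 3 < p) : p ∣ p.choose 3 :=
  hp.dvd_choose_self (by norm_num) h3

theorem commutator_three_mem_center
    (hc : ⁅⁅commutator G, (⊤ : Subgroup G)⁆, (⊤ : Subgroup G)⁆ = ⊥) (a y x : G) :
    ⁅a, ⁅y, x⁆⁆ ∈ Subgroup.center G := by
  rw [Subgroup.commutator_eq_bot_iff_le_centralizer, Subgroup.coe_top,
    Subgroup.centralizer_univ, Subgroup.commutator_comm] at hc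
  exact hc (Subgroup.commutator_mem_commutator (Subgroup.mem_top a)
    (Subgroup.commutator_mem_commutator (Subgroup.mem_top y) (Subgroup.mem_top x)))

theorem commutator_pow_eq_one_of_central {a b : G} {n : ℕ} (h : ⁅a, b⁆ ∈ Subgroup.center G)
    (ha : a ^ n = 1) : ⁅a, b⁆ ^ n = 1 := by
  rw [← commutator_pow_left_of_commute (Subgroup.mem_center_iff.1 h a).symm, ha,
    commutatorElement_one_left]

/-- In class at most three with `p > 3` the elements of order dividing `p` form a subgroup. -/
theorem pow_eq_one_of_mem_closure_class_three {p : ℕ} (hp : p.Prime) (h3 : 3 < p)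
    (hc : ⁅⁅commutator G, (⊤ : Subgroup G)⁆, (⊤ : Subgroup G)⁆ = ⊥) {g : G}
    (hg : g ∈ Subgroup.closure {x : G | x ^ p = 1}) : g ^ p = 1 := by
  induction hg using Subgroup.closure_induction with
  | mem x hx => exact hx
  | one => simp
  | inv x _ ih => rw [inv_pow, ih, inv_one]
  | mul x y _ _ hx hy =>
    have he := commutator_three_mem_center hc x y x
    have hf := commutator_three_mem_center hc y y x
    obtain ⟨h1, -, h⟩ := mul_pow_class_three he hf p
    obtain ⟨k, hk⟩ := dvd_choose_two hp (by omega)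
    obtain ⟨l, hl⟩ := dvd_choose_three hp h3
    have he1 := commutator_pow_eq_one_of_central he hx
    have hf1 := commutator_pow_eq_one_of_central hf hy
    rw [hy, hk, pow_mul, hf1, one_pow, one_mul, one_mul, mul_one] at h1
    have hc1 : ⁅y, x⁆ ^ p = 1 := mul_eq_right.1 h1.symm
    rw [h, hx, hy, hk, hl, show 2 * (p * l) + p * k = p * (2 * l + k) by ring, pow_mul, pow_mul,
      pow_mul, he1, hf1, hc1]
    simp

end Cfsg.Lib.PGroups
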