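/-
Quasi-dihedral 2-groups.
-/
import Cfsg.Agent.PGroups.CyclicMaximal

set_option linter.style.haveILetI false
set_option linter.unusedSectionVars false
set_option linter.unusedVariables false

namespace Cfsg.Lib.QD

open Subgroup Cfsg.Lib.CyclicMax

universe u

variable {S : Type u} [Group S] [Finite S] {a b : S} {m : ℕ}

/-- the standard presentation of a quasi-dihedral group -/
abbrev Gen (a b : S) (m : ℕ) : Prop := 3 ≤ m ∧ TwoGen a b m (2 ^ (m - 1) - 1) 0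

theorem exists_gen (hS : Cfsg.IsQuasiDihedral S) : ∃ (m : ℕ) (a b : S), Gen a b m := by
  obtain ⟨n, hn, -, a, b, h⟩ := twoGen_of_quasiDihedral hS
  exact ⟨n, a, b, hn, h⟩

theorem pows (h : Gen a b m) :
    (2 : ℤ) ^ m = 2 * 2 ^ (m - 1) ∧ (2 : ℤ) ^ (m - 1) = 2 * 2 ^ (m - 2) ∧ (2 : ℤ) ^ (m - 2) = 2 * 2 ^ (m - 3) := by
  obtain ⟨k, hk⟩ : ∃ k, m = k + 3 := ⟨m - 3, by have := h.1; omega⟩
  subst hk
  refine ⟨?_, ?_, ?_⟩
  · rw [show k + 3 - 1 = k + 2 by omega, pow_succ']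
  · rw [show k + 3 - 1 = k + 2 by omega, show k + 3 - 2 = k + 1 by omega, pow_succ']
  · rw [show k + 3 - 2 = k + 1 by omega, show k + 3 - 3 = k by omega, pow_succ']

theorem sq_b (h : Gen a b m) (i : ℤ) : (a ^ i * b) * (a ^ i * b) = a ^ (i * 2 ^ (m - 1)) := by
  rw [mul_b_mul_b h.2]; congr 1; ring

/-- any involution outside the cyclic subgroup can replace `b` -/
theorem replace_b (h : Gen a b m) (t : ℤ) : Gen a (a ^ (2 * t) * b) m := by
  have T := shift h.2 (2 * t)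
  refine ⟨h.1, T.ord, T.card, T.notMem, T.conj, T.sq.trans ?_⟩
  rw [zpow_eq_iff h.2]
  exact ⟨-t, by rw [(pows h).1]; ring⟩

/-- conjugacy of elements outside the cyclic subgroup -/
theorem conj_parity (h : Gen a b m) {i j : ℤ} (hij : (2 : ℤ) ∣ j - i) :
    ∃ t : ℤ, a ^ t * (a ^ i * b) * (a ^ t)⁻¹ = a ^ j * b := by
  obtain ⟨d, hd⟩ := hij
  obtain ⟨h1, h2, h3⟩ := pows h
  refine ⟨d * (1 + 2 ^ (m - 2)), ?_⟩
  rw [conj_a h.2, b_eq_iff h.2]
  refine ⟨d * 2 ^ (m - 3), ?_⟩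
  rw [h1, h2, h3, show j = i + 2 * d by linarith]
  ring

theorem parity_invariant (h : Gen a b m) {i : ℤ} {g : S} {j : ℤ} (hg : g * (a ^ i * b) * g⁻¹ = a ^ j * b) :
    (2 : ℤ) ∣ j - i := by
  obtain ⟨h1, h2, -⟩ := pows h
  have hev : ∀ k l : ℤ, (2 : ℤ) ^ m ∣ l - k → (2 : ℤ) ∣ l - k := fun k l hkl =>
    (dvd_pow_self 2 (by have := h.1; omega)).trans hkl
  rcases cases h.2 g with ⟨k, rfl⟩ | ⟨k, rfl⟩
  · rw [conj_a h.2, b_eq_iff h.2] at hg
    obtain ⟨c, hc⟩ := hev _ _ hg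
    exact ⟨c + k * (1 - 2 ^ (m - 2)), by rw [h2] at hc; linear_combination hc⟩
  · rw [show a ^ k * b * (a ^ i * b) * (a ^ k * b)⁻¹ = a ^ k * (b * (a ^ i * b) * b⁻¹) * (a ^ k)⁻¹ by group,
      show b * (a ^ i * b) * b⁻¹ = b * a ^ i by group, conj_b h.2, conj_a h.2, b_eq_iff h.2] at hg
    obtain ⟨c, hc⟩ := hev _ _ hg
    exact ⟨c + k * (1 - 2 ^ (m - 2)) + i * (2 ^ (m - 2) - 1), by rw [h2] at hc; linear_combination hc⟩

theorem zpow_order_two (h : Gen a b m) {i : ℤ} : orderOf (a ^ i) = 2 ↔ a ^ i = a ^ ((2 : ℤ) ^ (m - 1)) := by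
  haveI : Fact (Nat.Prime 2) := ⟨Nat.prime_two⟩
  obtain ⟨h1, -, -⟩ := pows h
  have hz : orderOf (a ^ ((2 : ℤ) ^ (m - 1))) = 2 := by
    refine orderOf_two_of_mul_self ?_ ?_
    · rw [← zpow_add, zpow_eq_one h.2, h1, ← two_mul]
    · intro hc
      rw [zpow_eq_one h.2] at hc
      have h3 := Int.le_of_dvd (pow_pos two_pos _) hc
      rw [h1] at h3
      linarith [pow_pos (show (0 : ℤ) < 2 by norm_num) (m - 1)]
  refine ⟨fun ho => ?_, fun e => e ▸ hz⟩
  have h2 : a ^ i * a ^ i = 1 := by rw [← pow_two, ← ho]; exact pow_orderOf_eq_one _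
  rw [← zpow_add, zpow_eq_one h.2, h1, ← two_mul] at h2
  obtain ⟨c, hc⟩ := Int.dvd_of_mul_dvd_mul_left two_ne_zero h2
  rcases Int.even_or_odd c with ⟨t, rfl⟩ | ⟨t, rfl⟩
  · exfalso
    rw [(zpow_eq_one h.2 i).2 ⟨t, by rw [h1, hc]; ring⟩, orderOf_one] at ho
    norm_num at ho
  · exact (zpow_eq_iff h.2 _ _).2 ⟨-t, by rw [h1, hc]; ring⟩

theorem orderOf_z (h : Gen a b m) : orderOf (a ^ ((2 : ℤ) ^ (m - 1))) = 2 := (zpow_order_two h).2 rfl

theorem orderOf_b (h : Gen a b m) (i : ℤ) :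
    ((2 : ℤ) ∣ i → orderOf (a ^ i * b) = 2) ∧ (¬ (2 : ℤ) ∣ i → orderOf (a ^ i * b) = 4) := by
  haveI : Fact (Nat.Prime 2) := ⟨Nat.prime_two⟩
  obtain ⟨h1, -, -⟩ := pows h
  have hne : a ^ i * b ≠ 1 := fun e => notMem_mul h.2 i (e ▸ one_mem _)
  refine ⟨fun hi => orderOf_two_of_mul_self ?_ hne, fun hi => ?_⟩
  · obtain ⟨t, rfl⟩ := hi
    rw [sq_b h, zpow_eq_one h.2, h1]
    exact ⟨t, by ring⟩
  · refine orderOf_eq_prime_pow (p := 2) (n := 1) ?_ ?_
    · rw [pow_one, pow_two, sq_b h, zpow_eq_one h.2, h1, mul_comm i, mul_comm (2 : ℤ)]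
      exact fun hc => hi (Int.dvd_of_mul_dvd_mul_left (pow_ne_zero _ two_ne_zero) hc)
    · rw [show (2 : ℕ) ^ (1 + 1) = 2 * 2 by norm_num, pow_mul, pow_two (a ^ i * b), sq_b h, pow_two, ← zpow_add, zpow_eq_one h.2, h1]
      exact ⟨i, by ring⟩

/-- the involutions -/
theorem order_two_cases (h : Gen a b m) {g : S} (hg : orderOf g = 2) :
    g = a ^ ((2 : ℤ) ^ (m - 1)) ∨ ∃ t : ℤ, g = a ^ (2 * t) * b := by
  rcases cases h.2 g with ⟨i, rfl⟩ | ⟨i, rfl⟩
  · exact Or.inl ((zpow_order_two h).1 hg)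
  · by_cases hi : (2 : ℤ) ∣ i
    · obtain ⟨t, rfl⟩ := hi
      exact Or.inr ⟨t, rfl⟩
    · rw [(orderOf_b h i).2 hi] at hg
      norm_num at hg

theorem orderOf_w (h : Gen a b m) : orderOf (a ^ ((2 : ℤ) ^ (m - 2))) = 4 := by
  haveI : Fact (Nat.Prime 2) := ⟨Nat.prime_two⟩
  obtain ⟨h1, h2, -⟩ := pows h
  refine orderOf_eq_prime_pow (p := 2) (n := 1) ?_ ?_
  · rw [pow_one, pow_two, ← zpow_add, ← two_mul, ← h2]
    intro e
    have := orderOf_z h
    rw [e, orderOf_one] at this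
    norm_num at this
  · rw [show (2 : ℕ) ^ (1 + 1) = 2 * 2 by norm_num, pow_mul, pow_two (a ^ ((2 : ℤ) ^ (m - 2))), ← zpow_add, ← two_mul, ← h2,
      pow_two, ← zpow_add, ← two_mul, ← h1, zpow_eq_one h.2]

theorem mem_w_of_pow_four (h : Gen a b m) {i : ℤ} (hi : (a ^ i) ^ 4 = 1) :
    a ^ i ∈ zpowers (a ^ ((2 : ℤ) ^ (m - 2))) := by
  obtain ⟨h1, h2, -⟩ := pows h
  rw [← zpow_natCast, ← zpow_mul, zpow_eq_one h.2, h1, h2] at hi
  obtain ⟨c, hc⟩ := hi
  refine ⟨c, ?_⟩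
  show (a ^ ((2 : ℤ) ^ (m - 2))) ^ c = a ^ i
  rw [← zpow_mul]
  congr 1
  push_cast at hc
  linarith

theorem zpow_comm_b_iff (h : Gen a b m) (i : ℤ) :
    b * a ^ i = a ^ i * b ↔ a ^ i = 1 ∨ a ^ i = a ^ ((2 : ℤ) ^ (m - 1)) := by
  obtain ⟨h1, h2, h3⟩ := pows h
  constructor
  · intro e
    rw [conj_b h.2, b_eq_iff h.2, h1,
      show i - (2 ^ (m - 1) - 1) * i = 2 * (i * (1 - 2 ^ (m - 2))) by rw [h2]; ring] at e
    have e2 := Int.dvd_of_mul_dvd_mul_left two_ne_zero e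
    have hco : IsCoprime ((2 : ℤ) ^ (m - 1)) (1 - 2 ^ (m - 2)) :=
      IsCoprime.pow_left ⟨2 ^ (m - 3), 1, by rw [h3]; ring⟩
    obtain ⟨c, hc⟩ := hco.dvd_of_dvd_mul_right e2
    rcases Int.even_or_odd c with ⟨t, rfl⟩ | ⟨t, rfl⟩
    · exact Or.inl ((zpow_eq_one h.2 i).2 ⟨t, by rw [h1, hc]; ring⟩)
    · exact Or.inr ((zpow_eq_iff h.2 _ _).2 ⟨-t, by rw [h1, hc]; ring⟩)
  · rintro (e | e) <;> rw [e]
    · simp
    · rw [conj_b h.2, b_eq_iff h.2, h1]
      exact ⟨1 - 2 ^ (m - 2), by rw [h2]; ring⟩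

/-- the four group containing `b` -/
theorem centralizer_b (h : Gen a b m) :
    (∀ g, g ∈ centralizer {b} ↔ g = 1 ∨ g = a ^ ((2 : ℤ) ^ (m - 1)) ∨ g = b ∨ g = a ^ ((2 : ℤ) ^ (m - 1)) * b) ∧
      Nat.card (centralizer ({b} : Set S)) = 4 ∧ centralizer (centralizer ({b} : Set S) : Set S) = centralizer {b} := by
  set z := a ^ ((2 : ℤ) ^ (m - 1)) with hz
  have hzb : b * z = z * b := (zpow_comm_b_iff h _).2 (Or.inr rfl)
  have hiff : ∀ g, g ∈ centralizer {b} ↔ g = 1 ∨ g = z ∨ g = b ∨ g = z * b := by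
    intro g
    rw [mem_centralizer_singleton_iff]
    constructor
    · intro hg
      rcases cases h.2 g with ⟨i, rfl⟩ | ⟨i, rfl⟩
      · exact ((zpow_comm_b_iff h i).1 hg.symm).imp_right Or.inl
      · have h' : b * a ^ i = a ^ i * b := by
          have := congrArg (· * b⁻¹) hg
          simpa [mul_assoc] using this.symm
        rcases (zpow_comm_b_iff h i).1 h' with e | e
        · exact Or.inr (Or.inr (Or.inl (by rw [e, one_mul])))
        · exact Or.inr (Or.inr (Or.inr (by rw [e])))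
    · rintro (rfl | rfl | rfl | rfl)
      · simp
      · exact hzb.symm
      · rfl
      · rw [← mul_assoc b z b, hzb]
  have hz1 : z ≠ 1 := fun e => by
    have := orderOf_z h
    rw [← hz, e, orderOf_one] at this
    norm_num at this
  have hb1 : b ≠ 1 := fun e => h.2.notMem (e ▸ one_mem _)
  have hzA : z ∈ zpowers a := zpow_mem (mem_zpowers a) _
  refine ⟨hiff, ?_, ?_⟩
  · classical
    haveI : Fintype S := Fintype.ofFinite S
    have e : (centralizer ({b} : Set S) : Set S) = (({1, z, b, z * b} : Finset S) : Set S) := by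
      ext g
      simp [hiff g]
    rw [← SetLike.coe_sort_coe, e, Nat.card_coe_set_eq, Set.ncard_coe_finset, Finset.card_insert_of_notMem,
      Finset.card_insert_of_notMem, Finset.card_insert_of_notMem, Finset.card_singleton]
    · simp only [Finset.mem_singleton]
      intro e'; exact hz1 (mul_eq_right.1 e'.symm)
    · simp only [Finset.mem_insert, Finset.mem_singleton]
      rintro (e' | e')
      · exact h.2.notMem (e' ▸ hzA)
      · exact hb1 (mul_eq_left.1 e'.symm)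
    · simp only [Finset.mem_insert, Finset.mem_singleton]
      rintro (e' | e' | e')
      · exact hz1 e'.symm
      · exact hb1 e'.symm
      · exact h.2.notMem (by rw [eq_inv_of_mul_eq_one_right e'.symm]; exact inv_mem hzA)
  · refine le_antisymm (centralizer_le (Set.singleton_subset_iff.2 (mem_centralizer_singleton_iff.2 rfl))) ?_
    intro g hg
    refine mem_centralizer_iff.2 fun k hk => ?_
    have hcz : Commute b z := hzb
    rcases (hiff g).1 hg with e | e | e | e <;> rcases (hiff k).1 hk with e' | e' | e' | e' <;> rw [e, e'] <;>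
      first
        | simp
        | exact hcz.eq
        | exact hcz.symm.eq
        | exact (hcz.symm.mul_left (Commute.refl b)).eq
        | exact (hcz.symm.mul_left (Commute.refl b)).symm.eq
        | exact ((Commute.refl z).mul_left hcz).eq
        | exact ((Commute.refl z).mul_left hcz).symm.eq

theorem maxClass (h : Gen a b m) [Group.IsNilpotent S] : Group.nilpotencyClass S = m := by
  haveI : Fact (Nat.Prime 2) := ⟨Nat.prime_two⟩
  obtain ⟨-, h4, hself⟩ := centralizer_b h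
  have := Cfsg.Lib.MaxClass.of_self_centralizing (p := 2) (m + 1) S h.2.card _ (by rw [h4]; rfl) hself
  simpa using this

theorem isPGroup (h : Gen a b m) : IsPGroup 2 S :=
  haveI : Fact (Nat.Prime 2) := ⟨Nat.prime_two⟩
  IsPGroup.of_card h.2.card

theorem commutator_eq (h : Gen a b m) :
    commutator S = frattini S ∧ commutator S = zpowers (a ^ (2 : ℤ)) ∧ Nat.card (commutator S) = 2 ^ (m - 1) ∧
      Nat.card (center S) = 2 := by
  haveI : Fact (Nat.Prime 2) := ⟨Nat.prime_two⟩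
  have hm := h.1
  haveI : Group.IsNilpotent S := (isPGroup h).isNilpotent
  have hc := maxClass h
  have hΦ := Cfsg.Lib.MaxClass.frattini_eq_commutator (p := 2) (m + 1) S h.2.card (by omega) (by simpa using hc)
  have hi := Cfsg.Lib.MaxClass.commutator_index (p := 2) (m + 1) S h.2.card (by omega) (by simpa using hc)
  have hcard : Nat.card (_root_.commutator S) = 2 ^ (m - 1) := by
    have h1 := (_root_.commutator S).card_mul_index
    rw [hi, h.2.card, show m + 1 = m - 1 + 2 by omega, pow_add] at h1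
    exact Nat.eq_of_mul_eq_mul_right (by norm_num) h1
  refine ⟨hΦ.symm, (eq_of_le_of_card_ge (zpowers_le.2 ?_) ?_).symm, hcard,
    (Cfsg.Lib.MaxClass.center_facts (p := 2) (m + 1) S h.2.card (by omega) (by simpa using hc)).1⟩
  · rw [← hΦ, show a ^ (2 : ℤ) = a ^ (2 : ℕ) by rw [← zpow_natCast]; rfl]
    exact Cfsg.Lib.PGroups.pow_mem_frattini (isPGroup h) a
  · rw [hcard, Nat.card_zpowers, show a ^ (2 : ℤ) = a ^ (2 : ℕ) by rw [← zpow_natCast]; rfl, orderOf_pow, h.2.ord,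
      show 2 ^ m = 2 * 2 ^ (m - 1) by rw [← pow_succ', show m - 1 + 1 = m by omega],
      Nat.gcd_eq_right (Dvd.intro _ rfl), Nat.mul_div_cancel_left _ two_pos]

/-- the maximal subgroup of parity `e` -/
def half (h : Gen a b m) (e : ℤ) : Subgroup S where
  carrier := {g | (∃ i : ℤ, g = a ^ (2 * i)) ∨ ∃ i : ℤ, g = a ^ (2 * i + e) * b}
  one_mem' := Or.inl ⟨0, by simp⟩
  mul_mem' := by
    obtain ⟨h1, h2, -⟩ := pows h
    rintro _ _ (⟨i, rfl⟩ | ⟨i, rfl⟩) (⟨j, rfl⟩ | ⟨j, rfl⟩)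
    · exact Or.inl ⟨i + j, by rw [← zpow_add]; congr 1; ring⟩
    · exact Or.inr ⟨i + j, by rw [← mul_assoc, ← zpow_add]; congr 2; ring⟩
    · exact Or.inr ⟨i + (2 ^ (m - 1) - 1) * j, by rw [mul_b_zpow h.2]; congr 2; ring⟩
    · exact Or.inl ⟨i + (2 ^ (m - 1) - 1) * j + e * 2 ^ (m - 2), by rw [mul_b_mul_b h.2]; congr 1; rw [h2]; ring⟩
  inv_mem' := by
    obtain ⟨h1, h2, -⟩ := pows h
    rintro _ (⟨i, rfl⟩ | ⟨i, rfl⟩)
    · exact Or.inl ⟨-i, by rw [← zpow_neg]; congr 1; ring⟩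
    · refine Or.inr ⟨i - (2 * i + e) * 2 ^ (m - 2), ?_⟩
      refine inv_eq_of_mul_eq_one_right ?_
      rw [mul_b_mul_b h.2, zpow_eq_one h.2, h1, h2]
      exact ⟨(i + e * 1) - (2 * i + e) * 2 ^ (m - 2) + (2 * i + e) * 1 - i - e, by ring⟩

theorem half_not_top (h : Gen a b m) (e : ℤ) : a ∉ half h e := by
  rintro (⟨i, hi⟩ | ⟨i, hi⟩)
  · rw [← zpow_one a] at hi
    nth_rw 2 [zpow_one a] at hi
    rw [zpow_eq_iff h.2] at hi
    have := (dvd_pow_self (2 : ℤ) (show m ≠ 0 by have := h.1; omega)).trans hi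
    omega
  · exact notMem_mul h.2 _ (Eq.subst (motive := fun y => y ∈ zpowers a) hi (mem_zpowers a))

theorem half_gen (h : Gen a b m) (e : ℤ) :
    ∃ x y : half h e, (x : S) = a ^ (2 : ℤ) ∧ (y : S) = a ^ e * b ∧ TwoGen x y (m - 1) (-1) (e * 2 ^ (m - 2)) := by
  haveI : Fact (Nat.Prime 2) := ⟨Nat.prime_two⟩
  obtain ⟨h1, h2, h3⟩ := pows h
  have hm := h.1
  refine ⟨⟨a ^ (2 : ℤ), Or.inl ⟨1, by norm_num⟩⟩, ⟨a ^ e * b, Or.inr ⟨0, by norm_num⟩⟩, rfl, rfl, ?_⟩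
  have hord : orderOf (a ^ (2 : ℤ)) = 2 ^ (m - 1) := by
    rw [show a ^ (2 : ℤ) = a ^ (2 : ℕ) by rw [← zpow_natCast]; rfl, orderOf_pow, h.2.ord,
      show 2 ^ m = 2 * 2 ^ (m - 1) by rw [← pow_succ', show m - 1 + 1 = m by omega],
      Nat.gcd_eq_right (Dvd.intro _ rfl), Nat.mul_div_cancel_left _ two_pos]
  have hidx : (half h e).index = 2 := by
    have hlow : ∀ g : S, g ∈ half h e ∨ g * a ∈ half h e := by
      intro g
      rcases cases h.2 g with ⟨i, rfl⟩ | ⟨i, rfl⟩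
      · rcases Int.even_or_odd i with ⟨t, rfl⟩ | ⟨t, rfl⟩
        · exact Or.inl (Or.inl ⟨t, by rw [two_mul]⟩)
        · exact Or.inr (Or.inl ⟨t + 1, by rw [← zpow_add_one]; congr 1; ring⟩)
      · rcases Int.even_or_odd (i - e) with ⟨t, ht⟩ | ⟨t, ht⟩
        · exact Or.inl (Or.inr ⟨t, by congr 2; linarith⟩)
        · refine Or.inr (Or.inr ⟨t + 2 ^ (m - 2), ?_⟩)
          nth_rw 2 [← zpow_one a]
          rw [mul_b_zpow h.2]
          congr 2
          rw [show i = e + (2 * t + 1) by linarith, h2]; ring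
    refine Subgroup.index_eq_two_iff.2 ⟨a, fun g => ?_⟩
    rcases hlow g with hg | hg
    · refine Or.inr ⟨hg, fun hga => half_not_top h e ?_⟩
      simpa using mul_mem (inv_mem hg) hga
    · refine Or.inl ⟨hg, fun hg' => half_not_top h e ?_⟩
      simpa using mul_mem (inv_mem hg') hg
  refine ⟨by rw [← Subgroup.orderOf_coe]; exact hord, ?_, fun hmem => ?_, Subtype.ext ?_, Subtype.ext ?_⟩
  · have hc := (half h e).card_mul_index
    rw [hidx, h.2.card, show m + 1 = m - 1 + 1 + 1 by omega, pow_succ] at hc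
    exact Nat.eq_of_mul_eq_mul_right two_pos hc
  · obtain ⟨i, hi⟩ := mem_zpowers_iff.1 hmem
    have hi' := congrArg Subtype.val hi
    rw [coe_zpow] at hi'
    exact notMem_mul h.2 e ((show (a ^ (2 : ℤ)) ^ i = a ^ e * b from hi') ▸ zpow_mem (zpow_mem (mem_zpowers a) 2) i)
  · simp only [Subgroup.coe_mul, Subgroup.coe_inv, Subgroup.coe_zpow]
    rw [mul_inv_eq_iff_eq_mul, ← zpow_mul, ← mul_assoc, ← zpow_add, mul_b_zpow h.2, b_eq_iff h.2, h1]
    exact ⟨-1, by ring⟩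
  · simp only [Subgroup.coe_mul, Subgroup.coe_zpow]
    rw [sq_b h, ← zpow_mul, h2]
    congr 1
    ring

end Cfsg.Lib.QD
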