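import Cfsg.Agent.PGroups.CyclicMaximal
import Cfsg.Agent.PGroups.MaxClass
import Cfsg.Agent.PGroups.AutOrder
import Cfsg.Prelude.Def_OddOrderLocal
import Cfsg.Prelude.Def_CaseTheorems

/-!
A subgroup of a metacyclic 2-group with an automorphism of odd order.
-/

set_option autoImplicit false
set_option linter.unusedSectionVars false

namespace Cfsg.Lib.MetaTwo

open Subgroup

universe u

/-- The automorphisms acting trivially on the Frattini quotient. -/
def stab (Q : Type*) [Group Q] : Subgroup (MulAut Q) where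
  carrier := {a | ∀ q, a q * q⁻¹ ∈ frattini Q}
  one_mem' := fun q => by simp
  mul_mem' := fun {a b} ha hb q => by
    have h1 : a (b q * q⁻¹) ∈ frattini Q := by
      have hc : (frattini Q).Characteristic := inferInstance
      rw [characteristic_iff_map_le] at hc
      exact hc a ⟨_, hb q, rfl⟩
    have h2 := mul_mem h1 (ha q)
    rw [map_mul, map_inv] at h2
    rw [MulAut.mul_apply]
    convert h2 using 1
    group
  inv_mem' := fun {a} ha q => by
    have h := inv_mem (ha (a⁻¹ q))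
    rw [MulAut.apply_inv_self] at h
    simpa using h

instance stab_normal (Q : Type*) [Group Q] : (stab Q).Normal := ⟨fun a ha b q => by
  have hc : (frattini Q).Characteristic := inferInstance
  rw [characteristic_iff_map_le] at hc
  have h := hc b ⟨_, ha (b⁻¹ q), rfl⟩
  simpa using h⟩

/-- An automorphism of odd order which is trivial on the Frattini quotient is trivial. -/
theorem eq_one_of_mem_stab {Q : Type*} [Group Q] [Finite Q] (hQ : IsPGroup 2 Q) {a : MulAut Q}
    (hodd : Odd (orderOf a)) (ha : a ∈ stab Q) : a = 1 := by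
  haveI : Fact (Nat.Prime 2) := ⟨Nat.prime_two⟩
  haveI : Finite (MulAut Q) := Finite.of_injective (fun f : MulAut Q => (f : Q → Q)) DFunLike.coe_injective
  obtain ⟨n, hn⟩ := IsPGroup.iff_card.mp hQ
  obtain ⟨r, -, hr⟩ := (Nat.dvd_prime_pow Nat.prime_two).mp (hn ▸ (frattini Q).index_dvd_card)
  have h := Cfsg.Lib.PGroups.card_stabilizing_dvd hn hr (zpowers a) fun b hb x =>
    (zpowers_le.mpr ha) hb x
  rw [Nat.card_zpowers] at h
  refine orderOf_eq_one_iff.mp (Nat.eq_one_of_dvd_coprimes ?_ dvd_rfl h)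
  exact (Nat.coprime_two_right.mpr hodd).pow_right _

/-- A fixed-point-free automorphism of odd order of a group of order at most four. -/
theorem four_fpf {V : Type*} [Group V] [Finite V] (hV : ∀ v : V, v * v = 1) (h4 : Nat.card V ≤ 4)
    {f : MulAut V} (hodd : Odd (orderOf f)) (hf : f ≠ 1) :
    ∀ v : V, v ≠ 1 → f v ≠ v ∧ ∀ w : V, w = 1 ∨ w = v ∨ w = f v ∨ w = v * f v := by
  have hinv : ∀ v : V, v⁻¹ = v := fun v => inv_eq_of_mul_eq_one_right (hV v)
  have hall : ∀ v w : V, v ≠ 1 → w ≠ 1 → w ≠ v → ∀ x, x = 1 ∨ x = v ∨ x = w ∨ x = v * w := by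
    intro v w hv hw hwv x
    by_contra h
    push Not at h
    let g : Fin 5 → V := ![1, v, w, v * w, x]
    have hg : Function.Injective g := by
      have hvw1 : v * w ≠ 1 := fun e => hwv (by rw [← hinv v, inv_eq_of_mul_eq_one_right e])
      intro i j hij
      fin_cases i <;> fin_cases j <;> simp [g] at hij ⊢ <;>
        first
          | exact hv hij
          | exact hv hij.symm
          | exact hw hij
          | exact hw hij.symm
          | exact hwv hij
          | exact hwv hij.symm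
          | exact hvw1 hij
          | exact hvw1 hij.symm
          | exact h.1 hij
          | exact h.1 hij.symm
          | exact h.2.1 hij
          | exact h.2.1 hij.symm
          | exact h.2.2.1 hij
          | exact h.2.2.1 hij.symm
          | exact h.2.2.2 hij
          | exact h.2.2.2 hij.symm
    have := Nat.card_le_card_of_injective g hg
    rw [Nat.card_fin] at this
    omega
  intro v hv
  have hne : f v ≠ v := by
    intro hfv
    have hsq : ∀ w, f (f w) = w := by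
      intro w
      by_cases hw : w = 1
      · simp [hw]
      by_cases hwv : w = v
      · rw [hwv, hfv, hfv]
      rcases hall v w hv hw hwv (f w) with h | h | h | h
      · exact absurd ((map_eq_one_iff f f.injective).mp h) hw
      · exact absurd (f.injective (h.trans hfv.symm)) hwv
      · rw [h, h]
      · rw [h, map_mul, hfv, h, ← mul_assoc, hV, one_mul]
    refine hf ?_
    have h2 : f ^ 2 = 1 := by
      rw [pow_two]
      exact MulEquiv.ext hsq
    refine orderOf_eq_one_iff.mp (Nat.eq_one_of_dvd_coprimes ?_ dvd_rfl (orderOf_dvd_of_pow_eq_one h2))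
    exact Nat.coprime_two_right.mpr hodd
  exact ⟨hne, hall v (f v) hv (fun h => hv ((map_eq_one_iff f f.injective).mp h)) hne⟩

/-- An odd root of unity modulo a power of two. -/
theorem pow_eq_self_of_odd {Q : Type*} [Group Q] {c : Q} {r : ℤ} {d : ℕ} (hd : Odd d)
    (h2 : ∃ k, c ^ (2 ^ k : ℕ) = 1) (hr : Odd r) (h : c ^ (r ^ d) = c) : c ^ r = c := by
  obtain ⟨k, hk⟩ := h2
  have h1 : c ^ (r ^ d - 1) = 1 := by rw [zpow_sub, h, zpow_one, mul_inv_cancel]
  have h3 : ((orderOf c : ℕ) : ℤ) ∣ (∑ i ∈ Finset.range d, r ^ i) * (r - 1) := by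
    rw [geom_sum_mul]
    exact orderOf_dvd_iff_zpow_eq_one.mpr h1
  have hsum : Odd (∑ i ∈ Finset.range d, r ^ i) := by
    have h : ∀ e : ℕ, Even ((∑ i ∈ Finset.range e, r ^ i) - e) := by
      intro e
      induction e with
      | zero => simp
      | succ e ih =>
        rw [Finset.sum_range_succ, Nat.cast_succ,
          show ∀ A B C : ℤ, A + B - (C + 1) = A - C + (B - 1) from fun A B C => by ring]
        exact ih.add (hr.pow.sub_odd odd_one)
    have h' := (h d).add_odd (show Odd (d : ℤ) by exact_mod_cast hd)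
    rwa [sub_add_cancel] at h'
  have hco : IsCoprime ((orderOf c : ℕ) : ℤ) (∑ i ∈ Finset.range d, r ^ i) := by
    obtain ⟨j, -, hj⟩ := (Nat.dvd_prime_pow Nat.prime_two).mp (orderOf_dvd_of_pow_eq_one hk)
    rw [hj]
    push_cast
    obtain ⟨t, ht⟩ := hsum
    exact IsCoprime.pow_left ⟨-t, 1, by rw [ht]; ring⟩
  have h4 := orderOf_dvd_iff_zpow_eq_one.mp (hco.dvd_of_dvd_mul_left h3)
  rwa [zpow_sub, zpow_one, mul_inv_eq_one] at h4

variable {W : Type u} [Group W] [Finite W]

/-- A commutator in a metacyclic 2-group is a square in the cyclic normal subgroup. -/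
theorem commutator_sq (hW : IsPGroup 2 W) {N : Subgroup W} [N.Normal] [IsCyclic N] [IsCyclic (W ⧸ N)]
    (a b : W) : ∃ w ∈ N, a * b * a⁻¹ * b⁻¹ = w * w := by
  obtain ⟨t, ht⟩ := IsCyclic.exists_zpow_surjective (G := W ⧸ N)
  obtain ⟨t, rfl⟩ := QuotientGroup.mk_surjective t
  have hdec : ∀ x : W, ∃ k : ℤ, ∃ n ∈ N, x = n * t ^ k := fun x => by
    obtain ⟨k, hk⟩ := ht (x : W ⧸ N)
    refine ⟨k, x * (t ^ k)⁻¹, ?_, by group⟩
    rw [← QuotientGroup.eq_one_iff, QuotientGroup.mk_mul, QuotientGroup.mk_inv, QuotientGroup.mk_zpow]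
    exact mul_inv_eq_one.mpr hk.symm
  obtain ⟨u, hu⟩ := IsCyclic.exists_zpow_surjective (G := N)
  -- the squares of `N`
  let Sq : Subgroup W :=
    { carrier := {x | ∃ w ∈ N, x = w * w}
      one_mem' := ⟨1, one_mem _, by simp⟩
      mul_mem' := by
        rintro _ _ ⟨w, hw, rfl⟩ ⟨w', hw', rfl⟩
        refine ⟨w * w', mul_mem hw hw', ?_⟩
        obtain ⟨i, hi⟩ := hu ⟨w, hw⟩
        obtain ⟨j, hj⟩ := hu ⟨w', hw'⟩
        have hc : Commute w w' := by
          have e1 : ((u : W)) ^ i = w := congrArg Subtype.val hi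
          have e2 : ((u : W)) ^ j = w' := congrArg Subtype.val hj
          rw [← e1, ← e2]
          exact (Commute.refl _).zpow_zpow i j
        calc w * w * (w' * w') = w * (w * w') * w' := by group
          _ = w * (w' * w) * w' := by rw [hc.eq]
          _ = _ := by group
      inv_mem' := by
        rintro _ ⟨w, hw, rfl⟩
        exact ⟨w⁻¹, inv_mem hw, by group⟩ }
  haveI hSn : Sq.Normal := ⟨by
    rintro _ ⟨w, hw, rfl⟩ g
    exact ⟨g * w * g⁻¹, (inferInstance : N.Normal).conj_mem w hw g, by group⟩⟩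
  show a * b * a⁻¹ * b⁻¹ ∈ Sq
  have hNc : ∀ n ∈ N, ∀ x : W, x * n * x⁻¹ * n⁻¹ ∈ Sq := by
    intro n hn x
    obtain ⟨i, hi⟩ := hu ⟨n, hn⟩
    have hi' : ((u : W)) ^ i = n := congrArg Subtype.val hi
    obtain ⟨r, hr⟩ := hu ⟨x * u * x⁻¹, (inferInstance : N.Normal).conj_mem u u.2 x⟩
    have hr' : ((u : W)) ^ r = x * u * x⁻¹ := congrArg Subtype.val hr
    by_cases hu1 : (u : W) = 1
    · rw [← hi', hu1, one_zpow]
      simp
    have hrodd : Odd r := by
      rw [← Int.not_even_iff_odd]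
      rintro ⟨s, hs⟩
      have h1 : orderOf (x * u * x⁻¹) = orderOf (u : W) := by
        rw [← MulAut.conj_apply, MulEquiv.orderOf_eq]
      obtain ⟨k, hk⟩ := (IsPGroup.iff_orderOf.mp hW) (u : W)
      rcases k with _ | k
      · exact hu1 (orderOf_eq_one_iff.mp (by rw [hk, pow_zero]))
      have h2 : (x * u * x⁻¹) ^ (2 ^ k : ℕ) = 1 := by
        rw [← hr', hs, ← zpow_natCast, ← zpow_mul,
          show (s + s) * ((2 ^ k : ℕ) : ℤ) = ((2 ^ (k + 1) : ℕ) : ℤ) * s by push_cast; ring,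
          zpow_mul, zpow_natCast, ← hk, pow_orderOf_eq_one, one_zpow]
      have h3 := orderOf_dvd_of_pow_eq_one h2
      rw [h1, hk, Nat.pow_dvd_pow_iff_le_right one_lt_two] at h3
      omega
    obtain ⟨s, hs⟩ := hrodd
    refine ⟨(u : W) ^ (s * i), zpow_mem u.2 _, ?_⟩
    rw [← hi', ← conj_zpow, ← hr', ← zpow_mul, ← zpow_neg, ← zpow_add, ← zpow_add, hs]
    congr 1
    ring
  obtain ⟨i, n₁, hn₁, rfl⟩ := hdec a
  obtain ⟨j, n₂, hn₂, rfl⟩ := hdec b
  rw [← QuotientGroup.eq_one_iff]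
  have hc : ∀ n ∈ N, ∀ x : W, Commute (x : W ⧸ Sq) (n : W ⧸ Sq) := fun n hn x => by
    have h := (QuotientGroup.eq_one_iff _).mpr (hNc n hn x)
    simp only [QuotientGroup.mk_mul, QuotientGroup.mk_inv] at h
    exact mul_inv_eq_iff_eq_mul.mp (mul_inv_eq_one.mp h)
  have h2 : Commute ((n₁ * t ^ i : W) : W ⧸ Sq) ((n₂ * t ^ j : W) : W ⧸ Sq) := by
    have e1 := hc n₁ hn₁ (n₂ * t ^ j)
    have e2 : Commute ((t ^ i : W) : W ⧸ Sq) ((n₂ * t ^ j : W) : W ⧸ Sq) := by
      rw [QuotientGroup.mk_mul]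
      refine (hc n₂ hn₂ (t ^ i)).mul_right ?_
      rw [QuotientGroup.mk_zpow, QuotientGroup.mk_zpow]
      exact (Commute.refl _).zpow_zpow i j
    rw [QuotientGroup.mk_mul (G := W) Sq n₁]
    exact e1.symm.mul_left e2
  simp only [QuotientGroup.mk_mul, QuotientGroup.mk_inv]
  rw [← QuotientGroup.mk_mul, ← QuotientGroup.mk_mul]
  exact mul_inv_eq_one.mpr (mul_inv_eq_iff_eq_mul.mpr h2.eq)

/-- Group of maximal class: the three types. -/
theorem shape_of_maxClass {n : ℕ} (hn : Nat.card W = 2 ^ n) (h3 : 3 ≤ n) [Group.IsNilpotent W]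
    (hc : Group.nilpotencyClass W = n - 1) :
    (∃ m : ℕ, 2 ≤ m ∧ Nonempty (W ≃* DihedralGroup m)) ∨ Cfsg.IsQuasiDihedral W ∨
      (∃ m : ℕ, 2 ≤ m ∧ Nonempty (W ≃* QuaternionGroup m)) := by
  haveI : Fact (Nat.Prime 2) := ⟨Nat.prime_two⟩
  obtain ⟨C, hC, hCi⟩ := Cfsg.Lib.MaxClass.exists_cyclic_index_two n W hn h3 hc
  have hna : ∃ x y : W, x * y ≠ y * x := by
    by_contra h
    push Not at h
    exact Cfsg.Lib.MaxClass.not_comm h3 hc h
  have hpow : ∀ m, 1 ≤ m → 2 ≤ 2 ^ m := fun m hm => Nat.le_self_pow (by omega) 2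
  obtain ⟨a, b, -, h | h | ⟨h4, h⟩ | ⟨h4, h⟩⟩ := Cfsg.Lib.CyclicMax.classify n h3 hn C hC hCi hna
  · exact Or.inl ⟨_, hpow _ (by omega), Cfsg.Lib.CyclicMax.toDihedral h (by omega)⟩
  · rw [show n - 2 = n - 1 - 1 by omega] at h
    exact Or.inr (Or.inr ⟨_, hpow _ (by omega), Cfsg.Lib.CyclicMax.toQuaternion h (by omega)⟩)
  · exfalso
    obtain ⟨k, rfl⟩ : ∃ k, n = k + 4 := ⟨n - 4, by omega⟩
    rw [show k + 4 - 1 = k + 3 by omega, show k + 4 - 2 = k + 2 by omega] at h
    obtain ⟨hz, ho⟩ := Cfsg.Lib.CyclicMax.sq_mem_center_of_modular h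
    have hle := Subgroup.orderOf_dvd_natCard (Subgroup.center W) hz
    rw [(Cfsg.Lib.MaxClass.center_facts (k + 4) W hn h3 hc).1,
      show a ^ (2 : ℤ) = a ^ (2 : ℕ) by rw [← zpow_natCast]; rfl, ho] at hle
    have := Nat.le_of_dvd two_pos hle
    have : 2 ^ 2 ≤ 2 ^ (k + 2) := Nat.pow_le_pow_right two_pos (by omega)
    omega
  · rw [show n - 2 = n - 1 - 1 by omega] at h
    exact Or.inr (Or.inl (Cfsg.Lib.CyclicMax.quasiDihedral_of_twoGen (by omega) h))

/-- The action on the Frattini quotient of an automorphism of odd order of a metacyclic 2-group. -/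
theorem odd_aut_facts {Q : Type*} [Group Q] [Finite Q] (hQp : IsPGroup 2 Q)
    (hQm : Cfsg.IsMetacyclic Q) (α : MulAut Q) (hodd : Odd (orderOf α)) (hα : α ∉ stab Q) :
    (∀ x : Q, x ∉ frattini Q → α x ∉ frattini Q ∧ x * α x ∉ frattini Q ∧
      α x * x⁻¹ ∉ frattini Q ∧ closure ({x, α x} : Set Q) = ⊤ ∧
      α (α x) * (x * α x)⁻¹ ∈ frattini Q) ∧
    ∃ M : Subgroup Q, M.Normal ∧ ∃ m ∈ M, m ∉ frattini Q ∧ ∀ x ∈ M, ∃ i : ℤ, m ^ i = x := by
  haveI : Fact (Nat.Prime 2) := ⟨Nat.prime_two⟩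
  obtain ⟨M, hMn, hMc, hQM⟩ := hQm
  set Φ := frattini Q
  haveI hΦn : Φ.Normal := inferInstance
  set π := QuotientGroup.mk' Φ
  have hπeq : ∀ a b : Q, π a = π b ↔ b * a⁻¹ ∈ Φ := fun a b => by
    rw [← QuotientGroup.eq_one_iff (N := Φ), QuotientGroup.mk_mul, QuotientGroup.mk_inv, mul_inv_eq_one]
    exact eq_comm
  have hπ1 : ∀ a : Q, π a = 1 ↔ a ∈ Φ := fun a => QuotientGroup.eq_one_iff a
  have hV2 : ∀ v : Q ⧸ Φ, v * v = 1 := fun v => by
    rw [← pow_two]; exact Cfsg.Lib.PGroups.pow_prime_quotient_frattini hQp v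
  obtain ⟨m, hmgen⟩ := IsCyclic.exists_zpow_surjective (G := M)
  have hMmem : ∀ x : Q, x ∈ M → ∃ i : ℤ, (m : Q) ^ i = x := fun x hx => by
    obtain ⟨i, hi⟩ := hmgen ⟨x, hx⟩
    exact ⟨i, congrArg Subtype.val hi⟩
  obtain ⟨yv, hygen⟩ := IsCyclic.exists_zpow_surjective (G := Q ⧸ M)
  obtain ⟨y, rfl⟩ := QuotientGroup.mk_surjective yv
  have hdec : ∀ x : Q, ∃ i j : ℤ, x = (m : Q) ^ i * y ^ j := fun x => by
    obtain ⟨j, hj⟩ := hygen (x : Q ⧸ M)
    obtain ⟨i, hi⟩ := hMmem (x * (y ^ j)⁻¹) (by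
      rw [← QuotientGroup.eq_one_iff, QuotientGroup.mk_mul, QuotientGroup.mk_inv, QuotientGroup.mk_zpow]
      exact mul_inv_eq_one.mpr hj.symm)
    exact ⟨i, j, by rw [hi]; group⟩
  -- powers in a quotient of exponent two
  have hzp : ∀ (v : Q ⧸ Φ) (i : ℤ), v ^ i = if Even i then 1 else v := fun v i => by
    split_ifs with h
    · obtain ⟨t, rfl⟩ := h
      rw [zpow_add, ← (Commute.refl v).mul_zpow, hV2, one_zpow]
    · obtain ⟨t, rfl⟩ := Int.not_even_iff_odd.mp h
      rw [zpow_add, zpow_one, two_mul, zpow_add, ← (Commute.refl v).mul_zpow, hV2, one_zpow, one_mul]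
  have hV4 : Nat.card (Q ⧸ Φ) ≤ 4 := by
    let s : Bool × Bool → Q ⧸ Φ := fun t =>
      (if t.1 then π m else 1) * (if t.2 then π y else 1)
    refine (Nat.card_le_card_of_surjective s fun v => ?_).trans
      (by simp [Nat.card_eq_fintype_card])
    obtain ⟨x, rfl⟩ := QuotientGroup.mk'_surjective Φ v
    obtain ⟨i, j, rfl⟩ := hdec x
    refine ⟨(decide ¬ Even i, decide ¬ Even j), ?_⟩
    show _ = π _
    rw [map_mul, map_zpow, map_zpow, hzp, hzp]
    by_cases hi : Even i <;> by_cases hj : Even j <;> simp [s, hi, hj]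
  -- the induced automorphism
  have hchar : ∀ (b : MulAut Q) (x : Q), x ∈ Φ → b x ∈ Φ := fun b x hx => by
    have hc : Φ.Characteristic := inferInstance
    rw [characteristic_iff_map_le] at hc
    exact hc b ⟨x, hx, rfl⟩
  let fb : MulAut Q →* MulAut (Q ⧸ Φ) := MonoidHom.mk' (fun b =>
    QuotientGroup.congr Φ Φ b (le_antisymm (by rintro _ ⟨x, hx, rfl⟩; exact hchar b x hx)
      (fun x hx => ⟨b⁻¹ x, hchar _ x hx, by simp⟩))) fun a b => by
      ext v
      obtain ⟨x, rfl⟩ := QuotientGroup.mk_surjective v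
      rfl
  set f := fb α
  have hfapp : ∀ x : Q, f (π x) = π (α x) := fun x => rfl
  have hfodd : Odd (orderOf f) := hodd.of_dvd_nat (orderOf_map_dvd fb α)
  have hf1 : f ≠ 1 := fun h => hα fun q => (hπeq _ _).mp (by rw [← hfapp, h]; rfl)
  have hfpf := four_fpf hV2 hV4 hfodd hf1
  have hm0 : π m ≠ 1 := by
    intro h0
    obtain ⟨x, hx⟩ : ∃ x : Q, f (π x) ≠ π x := by
      by_contra h
      push Not at h
      exact hf1 (MulEquiv.ext fun v => by obtain ⟨x, rfl⟩ := QuotientGroup.mk'_surjective Φ v; exact h x)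
    have hone : ∀ v : Q ⧸ Φ, v = 1 ∨ v = π y := fun v => by
      obtain ⟨x, rfl⟩ := QuotientGroup.mk'_surjective Φ v
      obtain ⟨i, j, rfl⟩ := hdec x
      show π _ = 1 ∨ π _ = π y
      rw [map_mul, map_zpow, map_zpow, h0, one_zpow, one_mul, hzp]
      split_ifs <;> simp
    rcases hone (π x) with h | h
    · rw [h, map_one] at hx; exact hx rfl
    · rcases hone (f (π x)) with h' | h'
      · rw [(map_eq_one_iff f f.injective).mp h', map_one] at hx; exact hx rfl
      · exact hx (h'.trans h.symm)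
  refine ⟨fun x hx => ?_, M, hMn, m, m.2, fun h => hm0 ((hπ1 _).mpr h), hMmem⟩
  have hx0 : π x ≠ 1 := fun h => hx ((hπ1 _).mp h)
  obtain ⟨hne, hall⟩ := hfpf _ hx0
  have hfx : f (π x) ≠ 1 := fun h => hx0 ((map_eq_one_iff f f.injective).mp h)
  obtain ⟨hne', -⟩ := hfpf _ hfx
  refine ⟨fun h => hfx ((hfapp x).trans ((hπ1 _).mpr h)), fun h => hne ?_, fun h => hne ?_, ?_, ?_⟩
  · have h' : π x * π (α x) = 1 := by rw [← map_mul]; exact (hπ1 _).mpr h
    rw [hfapp, ← inv_eq_of_mul_eq_one_right h', inv_eq_of_mul_eq_one_right (hV2 _)]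
  · rw [hfapp, (hπeq x (α x)).mpr h]
  · refine frattini_nongenerating (eq_top_iff.mpr fun z _ => ?_)
    set K := closure ({x, α x} : Set Q)
    have hxK : x ∈ K := subset_closure (Or.inl rfl)
    have hyK : α x ∈ K := subset_closure (Or.inr rfl)
    have hkey : ∀ w ∈ K, π z = π w → z ∈ K ⊔ Φ := fun w hw h => by
      rw [show z = (z * w⁻¹) * w by group]
      exact mul_mem (mem_sup_right ((hπeq w z).mp h.symm)) (mem_sup_left hw)
    rcases hall (π z) with h | h | h | h
    · exact hkey 1 K.one_mem (by rw [h, map_one])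
    · exact hkey x hxK h
    · exact hkey (α x) hyK (by rw [h, hfapp])
    · exact hkey (x * α x) (mul_mem hxK hyK) (by rw [h, map_mul, hfapp])
  · refine (hπeq _ _).mp ?_
    rw [map_mul, ← hfapp, ← hfapp, ← hfapp]
    rcases hall (f (f (π x))) with h | h | h | h
    · exact absurd ((map_eq_one_iff f f.injective).mp h) hfx
    · exfalso
      have hf2 : ∀ w, f (f w) = w := fun w => by
        rcases hall w with e | e | e | e <;> rw [e]
        · rw [map_one, map_one]
        · exact h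
        · rw [h]
        · rw [map_mul, map_mul, h]
      have h2 : f ^ 2 = 1 := by rw [pow_two]; exact MulEquiv.ext hf2
      exact hf1 (orderOf_eq_one_iff.mp (Nat.eq_one_of_dvd_coprimes
        (Nat.coprime_two_right.mpr hfodd) dvd_rfl (orderOf_dvd_of_pow_eq_one h2)))
    · exact absurd h hne'
    · exact h.symm

/-- A metacyclic 2-group with an automorphism of odd order is homocyclic or has order eight with
centre of order two. -/
theorem odd_aut_structure {Q : Type*} [Group Q] [Finite Q] (hQp : IsPGroup 2 Q)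
    (hQm : Cfsg.IsMetacyclic Q) (α : MulAut Q) (hodd : Odd (orderOf α)) (hα : α ∉ stab Q) :
    ((∀ x y : Q, x * y = y * x) ∧
      ∃ k : ℕ, Nonempty (Q ≃* Multiplicative (Fin 2 → ZMod (2 ^ k)))) ∨
    (Nat.card Q = 8 ∧ ∃ c : Q, c ≠ 1 ∧ c * c = 1 ∧ c ∈ frattini Q ∧ (∀ x, Commute c x) ∧
      (∀ x : Q, (∀ z : Q, x * z = z * x) → x = 1 ∨ x = c) ∧
      ∀ x z : Q, x * z * x⁻¹ * z⁻¹ ∈ zpowers c) := by
  haveI : Fact (Nat.Prime 2) := ⟨Nat.prime_two⟩
  obtain ⟨hfacts, M, hMn, m, hmM, hm0, hMmem⟩ := odd_aut_facts hQp hQm α hodd hα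
  set Φ := frattini Q
  set π := QuotientGroup.mk' Φ
  have hπ1 : ∀ a : Q, π a = 1 ↔ a ∈ Φ := fun a => QuotientGroup.eq_one_iff a
  have hV2 : ∀ v : Q ⧸ Φ, v * v = 1 := fun v => by
    rw [← pow_two]; exact Cfsg.Lib.PGroups.pow_prime_quotient_frattini hQp v
  have hzp : ∀ (v : Q ⧸ Φ) (i : ℤ), v ^ i = if Even i then 1 else v := fun v i => by
    split_ifs with h
    · obtain ⟨t, rfl⟩ := h
      rw [zpow_add, ← (Commute.refl v).mul_zpow, hV2, one_zpow]
    · obtain ⟨t, rfl⟩ := Int.not_even_iff_odd.mp h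
      rw [zpow_add, zpow_one, two_mul, zpow_add, ← (Commute.refl v).mul_zpow, hV2, one_zpow, one_mul]
  obtain ⟨hm₁0, hmm0, hmne, htop, hm₂Φ⟩ := hfacts m hm0
  set m₁ := α m
  set m₂ := α m₁
  -- the commutator of the generators
  set c := m * m₁ * m⁻¹ * m₁⁻¹ with hc
  have hcM : c ∈ M := by
    rw [hc, show m * m₁ * m⁻¹ * m₁⁻¹ = m * (m₁ * m⁻¹ * m₁⁻¹) by group]
    exact mul_mem hmM (hMn.conj_mem _ (inv_mem hmM) m₁)
  set M₁ := M.map α.toMonoidHom
  have hM₁n : M₁.Normal := hMn.map _ α.surjective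
  have hcM₁ : c ∈ M₁ := by
    have h1 : m₁ ∈ M₁ := ⟨m, hmM, rfl⟩
    rw [hc]
    exact mul_mem (hM₁n.conj_mem _ h1 m) (inv_mem h1)
  obtain ⟨i, hi⟩ := hMmem c hcM
  have hcm : Commute c m := by rw [← hi]; exact (Commute.refl _).zpow_left i
  have hcm₁ : Commute c m₁ := by
    obtain ⟨x, hx, hxc⟩ := hcM₁
    obtain ⟨k, hk⟩ := hMmem x hx
    rw [← hxc, ← hk]
    exact ((Commute.refl m).zpow_left k).map α.toMonoidHom
  have hcZ : ∀ x : Q, Commute c x := fun x => by
    have hle : closure ({m, m₁} : Set Q) ≤ centralizer ({c} : Set Q) := by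
      rw [closure_le]
      rintro _ (rfl | rfl)
      · exact mem_centralizer_singleton_iff.mpr hcm.symm.eq
      · exact mem_centralizer_singleton_iff.mpr hcm₁.symm.eq
    exact (mem_centralizer_singleton_iff.mp (hle (htop ▸ mem_top x))).symm
  have hconj : ∀ k : ℤ, m₁ * m ^ k * m₁⁻¹ = m ^ k * c ^ (-k) := by
    intro k
    have e : m₁ * m * m₁⁻¹ = m * c⁻¹ := by
      rw [← (hcZ m).inv_left.eq, hc]; group
    rw [← conj_zpow, e, ((hcZ m).inv_left.symm).mul_zpow, inv_zpow, zpow_neg]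
  have hdec2 : ∀ x : Q, ∃ i j k : ℤ, x = m ^ i * m₁ ^ j * c ^ k := by
    intro x
    have hsw : ∀ j k : ℤ, ∃ s : ℤ, m₁ ^ j * m ^ k = m ^ k * m₁ ^ j * c ^ s := by
      intro j
      induction j using Int.induction_on with
      | zero => exact fun k => ⟨0, by simp⟩
      | succ j ih =>
        intro k
        obtain ⟨s, hs⟩ := ih k
        refine ⟨s + -k, ?_⟩
        have h1 : m₁ * m ^ k = m ^ k * c ^ (-k) * m₁ := by rw [← hconj]; group
        calc m₁ ^ ((j : ℤ) + 1) * m ^ k = m₁ ^ (j : ℤ) * (m₁ * m ^ k) := by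
              rw [zpow_add, zpow_one, mul_assoc]
          _ = (m₁ ^ (j : ℤ) * m ^ k) * c ^ (-k) * m₁ := by rw [h1]; group
          _ = m ^ k * m₁ ^ (j : ℤ) * (c ^ (s + -k) * m₁) := by rw [hs, zpow_add]; group
          _ = _ := by rw [((hcZ m₁).zpow_left _).eq]; group
      | pred j ih =>
        intro k
        obtain ⟨s, hs⟩ := ih k
        refine ⟨s + k, ?_⟩
        have h1 : m₁⁻¹ * m ^ k = m ^ k * c ^ k * m₁⁻¹ := by
          have h := hconj k
          have hc' : Commute (c ^ k) m₁ := (hcZ m₁).zpow_left k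
          calc m₁⁻¹ * m ^ k = m₁⁻¹ * (m ^ k * c ^ (-k) * (c ^ k * m₁)) * m₁⁻¹ := by group
            _ = m₁⁻¹ * (m₁ * m ^ k * m₁⁻¹ * (m₁ * c ^ k)) * m₁⁻¹ := by rw [← h, hc'.eq]
            _ = _ := by group
        calc m₁ ^ (-(j : ℤ) - 1) * m ^ k = m₁ ^ (-(j : ℤ)) * (m₁⁻¹ * m ^ k) := by
              rw [zpow_sub, zpow_one, mul_assoc]
          _ = (m₁ ^ (-(j : ℤ)) * m ^ k) * c ^ k * m₁⁻¹ := by rw [h1]; group
          _ = m ^ k * m₁ ^ (-(j : ℤ)) * (c ^ (s + k) * m₁⁻¹) := by rw [hs, zpow_add]; group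
          _ = _ := by rw [(((hcZ m₁).zpow_left _).inv_right).eq]; group
    have hx : x ∈ closure ({m, m₁} : Set Q) := htop ▸ mem_top x
    induction hx using closure_induction with
    | mem z hz =>
      rcases hz with rfl | rfl
      · exact ⟨1, 0, 0, by simp⟩
      · exact ⟨0, 1, 0, by simp⟩
    | one => exact ⟨0, 0, 0, by simp⟩
    | mul z z' _ _ ih ih' =>
      obtain ⟨i, j, k, rfl⟩ := ih
      obtain ⟨i', j', k', rfl⟩ := ih'
      obtain ⟨s, hs⟩ := hsw j i'
      refine ⟨i + i', j + j', s + k + k', ?_⟩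
      calc m ^ i * m₁ ^ j * c ^ k * (m ^ i' * m₁ ^ j' * c ^ k')
          = m ^ i * m₁ ^ j * (c ^ k * m ^ i') * m₁ ^ j' * c ^ k' := by group
        _ = m ^ i * (m₁ ^ j * m ^ i') * (c ^ k * m₁ ^ j') * c ^ k' := by
            rw [((hcZ _).zpow_left k).eq]; group
        _ = m ^ (i + i') * m₁ ^ j * (c ^ s * m₁ ^ j') * c ^ (k + k') := by
            rw [hs, ((hcZ _).zpow_left k).eq, zpow_add, zpow_add]; group
        _ = _ := by
            rw [((hcZ _).zpow_left s).eq]
            simp only [zpow_add]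
            group
    | inv z _ ih =>
      obtain ⟨i, j, k, rfl⟩ := ih
      obtain ⟨s, hs⟩ := hsw (-j) (-i)
      refine ⟨-i, -j, s - k, ?_⟩
      calc (m ^ i * m₁ ^ j * c ^ k)⁻¹ = c ^ (-k) * (m₁ ^ (-j) * m ^ (-i)) := by group
        _ = c ^ (-k) * m ^ (-i) * m₁ ^ (-j) * c ^ s := by rw [hs]; group
        _ = m ^ (-i) * (c ^ (-k) * m₁ ^ (-j)) * c ^ s := by
            rw [((hcZ _).zpow_left (-k)).eq]; group
        _ = _ := by
            rw [((hcZ _).zpow_left (-k)).eq, sub_eq_neg_add, zpow_add]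
            group
  have hcomm : ∀ x z : Q, x * z * x⁻¹ * z⁻¹ ∈ zpowers c := by
    haveI : (zpowers c).Normal := ⟨fun a ha g => by
      obtain ⟨k, rfl⟩ := ha
      refine ⟨k, ?_⟩
      show c ^ k = g * c ^ k * g⁻¹
      rw [← ((hcZ g).zpow_left k).eq, mul_inv_cancel_right]⟩
    intro x z
    rw [← QuotientGroup.eq_one_iff]
    have hgc : Commute (m : Q ⧸ zpowers c) (m₁ : Q ⧸ zpowers c) := by
      have h : ((m * m₁ * m⁻¹ * m₁⁻¹ : Q) : Q ⧸ zpowers c) = 1 :=
        (QuotientGroup.eq_one_iff _).mpr (hc ▸ mem_zpowers c)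
      simp only [QuotientGroup.mk_mul, QuotientGroup.mk_inv] at h
      exact mul_inv_eq_iff_eq_mul.mp (mul_inv_eq_one.mp h)
    obtain ⟨i, j, k, rfl⟩ := hdec2 x
    obtain ⟨i', j', k', rfl⟩ := hdec2 z
    have hk : ∀ k : ℤ, ((c ^ k : Q) : Q ⧸ zpowers c) = 1 := fun k =>
      (QuotientGroup.eq_one_iff _).mpr ⟨k, rfl⟩
    simp only [QuotientGroup.mk_mul, QuotientGroup.mk_inv, hk, mul_one, QuotientGroup.mk_zpow]
    have h1 : Commute ((m : Q ⧸ zpowers c) ^ i * ((m₁ : Q ⧸ zpowers c)) ^ j)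
        ((m : Q ⧸ zpowers c) ^ i' * ((m₁ : Q ⧸ zpowers c)) ^ j') :=
      (((Commute.refl _).zpow_zpow i i').mul_right (hgc.zpow_zpow i j')).mul_left
        ((hgc.symm.zpow_zpow j i').mul_right ((Commute.refl _).zpow_zpow j j'))
    exact mul_inv_eq_one.mpr (mul_inv_eq_iff_eq_mul.mpr h1.eq)
  -- parities of the second image
  obtain ⟨i₂, j₂, k₂, hm₂⟩ := hdec2 m₂
  have hcΦ' : c ∈ Φ := by
    rw [hc]
    exact Cfsg.Lib.PGroups.commutator_le_frattini hQp
      (commutator_mem_commutator (mem_top m) (mem_top m₁))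
  have hpar : Odd i₂ ∧ Odd j₂ := by
    have h1 : π m₂ = π m * π m₁ := by
      rw [← map_mul, ← mul_inv_eq_one, ← map_inv, ← map_mul]
      exact (hπ1 _).mpr hm₂Φ
    rw [hm₂, map_mul, map_mul, map_zpow, map_zpow, map_zpow, (hπ1 c).mpr hcΦ', one_zpow, mul_one, hzp,
      hzp] at h1
    have hne : π m * π m₁ ≠ 1 := by rw [← map_mul]; exact fun h => hmm0 ((hπ1 _).mp h)
    refine ⟨Int.not_even_iff_odd.mp fun he => ?_, Int.not_even_iff_odd.mp fun he => ?_⟩
    · rw [if_pos he, one_mul] at h1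
      split_ifs at h1
      · exact hne h1.symm
      · exact hm0 ((hπ1 _).mp (mul_eq_right.mp h1.symm))
    · rw [if_pos he, mul_one] at h1
      split_ifs at h1
      · exact hne h1.symm
      · exact hm₁0 ((hπ1 _).mp (mul_eq_left.mp h1.symm))
  by_cases hc1 : c = 1
  · -- the homocyclic case
    left
    have hab : ∀ x y : Q, x * y = y * x := fun x y => by
      obtain ⟨s, hs⟩ := hcomm x y
      simp only [hc1, one_zpow] at hs
      exact mul_inv_eq_iff_eq_mul.mp (mul_inv_eq_one.mp hs.symm)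
    obtain ⟨k, hk⟩ := IsPGroup.iff_orderOf.mp hQp m
    rcases k with _ | k
    · exfalso
      rw [pow_zero, orderOf_eq_one_iff] at hk
      exact hm0 (hk ▸ one_mem _)
    refine ⟨hab, k + 1, ?_⟩
    set P := 2 ^ k with hP
    set j := m ^ P
    set j₁ := m₁ ^ P
    have hk₁ : orderOf m₁ = 2 ^ (k + 1) := by rw [α.orderOf_eq, hk]
    have hord : ∀ y : Q, orderOf y = 2 ^ (k + 1) → y ^ P ≠ 1 ∧ y ^ P * y ^ P = 1 := fun y hy => by
      refine ⟨fun h => ?_, ?_⟩
      · have := orderOf_dvd_of_pow_eq_one h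
        rw [hy, hP, Nat.pow_dvd_pow_iff_le_right one_lt_two] at this
        omega
      · rw [← pow_add, ← two_mul, hP, ← pow_succ', ← hy, pow_orderOf_eq_one]
    obtain ⟨hj0, hj2⟩ := hord m hk
    obtain ⟨hj₁0, hj₁2⟩ := hord m₁ hk₁
    have hj2' : j * j = 1 := hj2
    have hj₁2' : j₁ * j₁ = 1 := hj₁2
    have hzj : ∀ (s : ℤ) (z : Q), z * z = 1 → z ^ s = if Even s then 1 else z := fun s z hz => by
      split_ifs with h
      · obtain ⟨t, rfl⟩ := h
        rw [zpow_add, ← (Commute.refl z).mul_zpow, hz, one_zpow]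
      · obtain ⟨t, rfl⟩ := Int.not_even_iff_odd.mp h
        rw [zpow_add, zpow_one, two_mul, zpow_add, ← (Commute.refl z).mul_zpow, hz, one_zpow, one_mul]
    have hne : j ≠ j₁ := by
      intro h
      have h2 : m₂ ^ P = j := by
        show (α m₁) ^ P = j
        rw [← map_pow, show m₁ ^ P = j₁ from rfl, ← h, map_pow, show (α m) ^ P = j₁ from rfl, ← h]
      rw [hm₂, hc1, one_zpow, mul_one, (show Commute (m ^ i₂) (m₁ ^ j₂) from hab _ _).mul_pow,
        ← zpow_natCast (m ^ i₂), ← zpow_mul, mul_comm i₂, zpow_mul, zpow_natCast,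
        ← zpow_natCast (m₁ ^ j₂), ← zpow_mul, mul_comm j₂, zpow_mul, zpow_natCast,
        show m ^ P = j from rfl, show m₁ ^ P = j₁ from rfl, hzj _ _ hj2', hzj _ _ hj₁2',
        if_neg (Int.not_even_iff_odd.mpr hpar.1), if_neg (Int.not_even_iff_odd.mpr hpar.2), ← h, hj2'] at h2
      exact hj0 h2.symm
    have hind : ∀ a b : ℤ, m ^ a * m₁ ^ b = 1 →
        ((2 ^ (k + 1) : ℕ) : ℤ) ∣ a ∧ ((2 ^ (k + 1) : ℕ) : ℤ) ∣ b := by
      intro a b hab1
      suffices h : ∀ s ≤ k + 1, ((2 ^ s : ℕ) : ℤ) ∣ a ∧ ((2 ^ s : ℕ) : ℤ) ∣ b from h _ le_rfl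
      intro s
      induction s with
      | zero => simp
      | succ s ih =>
        intro hs
        obtain ⟨⟨a', rfl⟩, ⟨b', rfl⟩⟩ := ih (by omega)
        have h2 : j ^ a' * j₁ ^ b' = 1 := by
          have h3 := congrArg (fun z : Q => z ^ ((2 ^ (k - s) : ℕ) : ℤ)) hab1
          simp only [one_zpow] at h3
          rw [(show Commute _ _ from hab _ _).mul_zpow, ← zpow_mul, ← zpow_mul] at h3
          have e : ∀ d : ℤ, ((2 ^ s : ℕ) : ℤ) * d * ((2 ^ (k - s) : ℕ) : ℤ) = ((P : ℕ) : ℤ) * d := by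
            intro d
            rw [mul_right_comm, ← Nat.cast_mul, ← pow_add, Nat.add_sub_cancel' (by omega : s ≤ k)]
          rwa [e, e, zpow_mul, zpow_mul, zpow_natCast, zpow_natCast] at h3
        rw [hzj _ _ hj2', hzj _ _ hj₁2'] at h2
        have heven : Even a' ∧ Even b' := by
          by_cases ha : Even a' <;> by_cases hb : Even b' <;> simp [ha, hb] at h2 ⊢
          · exact hj₁0 h2
          · exact hj0 h2
          · exact hne ((eq_inv_of_mul_eq_one_left h2).trans (inv_eq_of_mul_eq_one_right hj₁2'))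
        obtain ⟨⟨t, rfl⟩, ⟨u, rfl⟩⟩ := heven
        exact ⟨⟨t, by push_cast; ring⟩, ⟨u, by push_cast; ring⟩⟩
    have hmod : ∀ y : Q, orderOf y = 2 ^ (k + 1) → ∀ a : ℕ, y ^ (a % 2 ^ (k + 1)) = y ^ a :=
      fun y hy a => by rw [← hy, pow_mod_orderOf]
    let φ : Multiplicative (Fin 2 → ZMod (2 ^ (k + 1))) →* Q := MonoidHom.mk'
      (fun v => m ^ (((v.toAdd 0).val : ℕ) : ℤ) * m₁ ^ (((v.toAdd 1).val : ℕ) : ℤ)) fun v w => by
        simp only [zpow_natCast, toAdd_mul, Pi.add_apply, ZMod.val_add]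
        rw [hmod m hk, hmod m₁ hk₁, pow_add m, pow_add m₁,
          (show Commute (m ^ (w.toAdd 0).val) (m₁ ^ (v.toAdd 1).val) from hab _ _).mul_mul_mul_comm]
    refine ⟨(MulEquiv.ofBijective φ ⟨?_, ?_⟩).symm⟩
    · rw [injective_iff_map_eq_one]
      intro v hv
      obtain ⟨h0, h1⟩ := hind _ _ hv
      have hv0 : v.toAdd = 0 := funext fun i => by
        haveI : NeZero (2 ^ (k + 1)) := ⟨(Nat.two_pow_pos _).ne'⟩
        fin_cases i
        · exact (ZMod.val_eq_zero _).mp (Nat.eq_zero_of_dvd_of_lt (Int.natCast_dvd_natCast.mp h0) (ZMod.val_lt _))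
        · exact (ZMod.val_eq_zero _).mp (Nat.eq_zero_of_dvd_of_lt (Int.natCast_dvd_natCast.mp h1) (ZMod.val_lt _))
      exact toAdd_eq_zero.mp hv0
    · intro x
      obtain ⟨a, b, d, rfl⟩ := hdec2 x
      refine ⟨Multiplicative.ofAdd ![(a : ZMod (2 ^ (k + 1))), (b : ZMod (2 ^ (k + 1)))], ?_⟩
      haveI : NeZero (2 ^ (k + 1)) := ⟨(Nat.two_pow_pos _).ne'⟩
      show m ^ ((((a : ZMod (2 ^ (k + 1)))).val : ℕ) : ℤ) * m₁ ^ ((((b : ZMod (2 ^ (k + 1)))).val : ℕ) : ℤ) = _
      have hm' : ∀ (y : Q) (d : ℤ), orderOf y = 2 ^ (k + 1) →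
          y ^ ((((d : ZMod (2 ^ (k + 1)))).val : ℕ) : ℤ) = y ^ d := fun y d hy => by
        rw [ZMod.val_intCast, ← hy, zpow_mod_orderOf]
      rw [hm' _ _ hk, hm' _ _ hk₁, hc1, one_zpow, mul_one]
  -- the quaternion case
  right
  obtain ⟨b, u, hu, hiu⟩ := Nat.exists_eq_two_pow_mul_odd (n := i.natAbs) (fun h => hc1 (by
    rw [← hi, Int.natAbs_eq_zero.mp h, zpow_zero]))
  set q := 2 ^ b with hq
  have h2pow : ∀ x : Q, ∃ k, x ^ (2 ^ k : ℕ) = 1 := fun x => by
    obtain ⟨k, hk⟩ := IsPGroup.iff_orderOf.mp hQp x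
    exact ⟨k, by rw [← hk, pow_orderOf_eq_one]⟩
  have hodd1 : ∀ k : ℤ, Odd k → c ^ k ≠ 1 := fun k hk h => by
    obtain ⟨l, hl⟩ := IsPGroup.iff_orderOf.mp hQp c
    have h1 := orderOf_dvd_iff_zpow_eq_one.mpr h
    rcases l with _ | l
    · exact hc1 (orderOf_eq_one_iff.mp (by rw [hl, pow_zero]))
    · rw [hl] at h1
      push_cast at h1
      have h2 : (2 : ℤ) ∣ k := (dvd_pow_self 2 l.succ_ne_zero).trans h1
      exact (Int.not_even_iff_odd.mpr hk) (even_iff_two_dvd.mpr h2)
  -- `m ^ q` is an odd power of `c`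
  have hmq : (m ^ q) ^ u = c ∨ (m ^ q) ^ u = c⁻¹ := by
    rcases Int.natAbs_eq i with e | e
    · left; rw [← pow_mul, ← hiu, ← zpow_natCast, ← e, hi]
    · right; rw [← pow_mul, ← hiu, ← zpow_natCast, ← hi, ← zpow_neg]; congr 1; omega
  obtain ⟨v, hv, hvm⟩ : ∃ v : ℤ, Odd v ∧ m ^ q = c ^ v := by
    have hmem : m ^ q ∈ zpowers c := by
      obtain ⟨k, hk⟩ := h2pow (m ^ q)
      obtain ⟨l, hl⟩ := Nat.exists_mul_mod_eq_one_of_coprime (n := u) (k := 2 ^ (k + 1))
        ((Nat.coprime_two_right.mpr hu).pow_right _) (Nat.one_lt_two_pow (by omega))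
      have hx : (m ^ q) ^ (2 ^ (k + 1)) = 1 := by rw [pow_succ, pow_mul, hk, one_pow]
      have e : ((m ^ q) ^ u) ^ l = m ^ q := by
        rw [← pow_mul, ← Nat.div_add_mod (u * l) (2 ^ (k + 1)), hl.2, pow_add, pow_mul, hx,
          one_pow, one_mul, pow_one]
      rw [← e]
      refine pow_mem ?_ _
      rcases hmq with h | h <;> rw [h]
      · exact mem_zpowers c
      · exact inv_mem (mem_zpowers c)
    obtain ⟨v, hv'⟩ := hmem
    refine ⟨v, ?_, hv'.symm⟩
    rw [← Int.not_even_iff_odd]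
    rintro ⟨t, ht⟩
    rcases hmq with h | h <;> rw [← show c ^ v = m ^ q from hv', ← zpow_natCast, ← zpow_mul] at h
    · refine hodd1 (v * u - 1) ?_ (by rw [zpow_sub, h, zpow_one, mul_inv_cancel])
      exact ⟨t * u - 1, by rw [ht]; ring⟩
    · refine hodd1 (v * u + 1) ?_ (by rw [zpow_add, h, zpow_one, inv_mul_cancel])
      exact ⟨t * u, by rw [ht]; ring⟩
  -- the commutator subgroup
  have hb : 1 ≤ b := by
    by_contra hb0
    have h1 : q = 1 := by rw [hq, show b = 0 by omega, pow_zero]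
    rw [h1, pow_one] at hvm
    refine hc1 ?_
    rw [hc, hvm]
    have hh := ((hcZ m₁).zpow_left v).eq
    rw [hh]
    group
  have hcq : c ^ (q : ℤ) = 1 := by
    have h := hconj q
    rw [zpow_natCast, hvm] at h
    rw [← ((hcZ m₁).zpow_left v).eq, mul_inv_cancel_right, left_eq_mul, zpow_neg, inv_eq_one] at h
    exact h
  -- `α` fixes `c`
  have hαc : α c = c := by
    have h1 : α c ∈ zpowers c := by
      rw [hc, map_mul, map_mul, map_mul, map_inv, map_inv]; exact hcomm _ _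
    obtain ⟨r, hr⟩ := h1
    have hr' : c ^ r = α c := hr
    have hrodd : Odd r := by
      rw [← Int.not_even_iff_odd]
      rintro ⟨s, rfl⟩
      obtain ⟨l, hl⟩ := IsPGroup.iff_orderOf.mp hQp c
      rcases l with _ | l
      · exact hc1 (orderOf_eq_one_iff.mp (by rw [hl, pow_zero]))
      have h2 : (α c) ^ (2 ^ l : ℕ) = 1 := by
        rw [← hr', ← zpow_natCast, ← zpow_mul,
          show (s + s) * ((2 ^ l : ℕ) : ℤ) = ((2 ^ (l + 1) : ℕ) : ℤ) * s by push_cast; ring,
          zpow_mul, zpow_natCast, ← hl, pow_orderOf_eq_one, one_zpow]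
      have h3 := orderOf_dvd_of_pow_eq_one h2
      rw [α.orderOf_eq, hl, Nat.pow_dvd_pow_iff_le_right one_lt_two] at h3
      omega
    have hiter : ∀ d : ℕ, (α ^ d) c = c ^ (r ^ d) := by
      intro d
      induction d with
      | zero => simp
      | succ d ih => rw [pow_succ', MulAut.mul_apply, ih, map_zpow, ← hr', ← zpow_mul, ← pow_succ']
    rw [← hr']
    refine pow_eq_self_of_odd hodd (h2pow c) hrodd ?_
    rw [← hiter, pow_orderOf_eq_one, MulAut.one_apply]
  have hv₁ : m₁ ^ q = c ^ v := by rw [← map_pow, hvm, map_zpow, hαc]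
  have hv₂ : m₂ ^ q = c ^ v := by rw [← map_pow, hv₁, map_zpow, hαc]
  -- the exponent is two
  have hb1 : b = 1 := by
    by_contra hb2
    set E := zpowers (c * c)
    haveI : E.Normal := ⟨fun a ha g => by
      obtain ⟨k, rfl⟩ := ha
      refine ⟨k, ?_⟩
      show (c * c) ^ k = g * (c * c) ^ k * g⁻¹
      rw [← (((hcZ g).mul_left (hcZ g)).zpow_left k).eq, mul_inv_cancel_right]⟩
    set ρ := QuotientGroup.mk' E
    have hρc : ρ c * ρ c = 1 := by
      rw [← map_mul]; exact (QuotientGroup.eq_one_iff _).mpr (mem_zpowers _)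
    have hρcZ : ∀ x, Commute (ρ c) (ρ x) := fun x => (hcZ x).map ρ
    -- squares are central and additive
    have hswap : ∀ x z : Q, ρ z * ρ x = ρ x * ρ z ∨ ρ z * ρ x = ρ x * ρ z * ρ c := by
      intro x z
      obtain ⟨s, hs⟩ := hcomm z x
      have hs' : c ^ s = z * x * z⁻¹ * x⁻¹ := hs
      have e : ρ z * ρ x = (ρ c) ^ s * (ρ x * ρ z) := by
        rw [← map_zpow, hs', ← map_mul, ← map_mul, ← map_mul]
        congr 1
        group
      rcases Int.even_or_odd s with ⟨t, rfl⟩ | ⟨t, rfl⟩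
      · left; rw [e, zpow_add, ← (Commute.refl (ρ c)).mul_zpow, hρc, one_zpow, one_mul]
      · right
        rw [e, zpow_add, zpow_one, two_mul, zpow_add, ← (Commute.refl (ρ c)).mul_zpow, hρc,
          one_zpow, one_mul]
        exact ((hρcZ x).mul_right (hρcZ z)).eq
    have hsqc : ∀ x z : Q, Commute (ρ x * ρ x) (ρ z) := by
      intro x z
      rcases hswap x z with e | e
      · exact ((show Commute (ρ x) (ρ z) from e.symm)).mul_left (show Commute (ρ x) (ρ z) from e.symm)
      · show ρ x * ρ x * ρ z = ρ z * (ρ x * ρ x)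
        calc ρ x * ρ x * ρ z = ρ x * ((ρ x * ρ z * ρ c) * ρ c) := by
              rw [mul_assoc _ (ρ c) (ρ c), hρc, mul_one, mul_assoc]
          _ = ρ x * (ρ z * ρ x) * ρ c := by rw [← e]; group
          _ = (ρ x * ρ z * ρ c) * ρ x := by
            rw [mul_assoc (ρ x * ρ z), (hρcZ x).eq]; group
          _ = ρ z * ρ x * ρ x := by rw [← e]
          _ = _ := mul_assoc _ _ _
    have hfour : ∀ x z : Q, (ρ x * ρ z) ^ 4 = ρ x ^ 4 * ρ z ^ 4 := by
      intro x z
      have h2 : (ρ x * ρ z) * (ρ x * ρ z) = ρ x * ρ x * (ρ z * ρ z) ∨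
          (ρ x * ρ z) * (ρ x * ρ z) = ρ x * ρ x * (ρ z * ρ z) * ρ c := by
        rcases hswap x z with e | e
        · left
          calc ρ x * ρ z * (ρ x * ρ z) = ρ x * (ρ z * ρ x) * ρ z := by group
            _ = _ := by rw [e]; group
        · right
          calc ρ x * ρ z * (ρ x * ρ z) = ρ x * (ρ z * ρ x) * ρ z := by group
            _ = ρ x * ρ x * ρ z * (ρ c * ρ z) := by rw [e]; group
            _ = _ := by rw [(hρcZ z).eq]; group
      have hcz : Commute (ρ x * ρ x) (ρ z * ρ z) := (hsqc x z).mul_right (hsqc x z)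
      have key : (ρ x * ρ z) ^ 4 = (ρ x * ρ x * (ρ z * ρ z)) * (ρ x * ρ x * (ρ z * ρ z)) := by
        rw [show (4 : ℕ) = 2 + 2 by rfl, pow_add, pow_two]
        rcases h2 with e | e <;> rw [e]
        have hc' : Commute (ρ c) (ρ x * ρ x * (ρ z * ρ z)) :=
          (((hρcZ x).mul_right (hρcZ x)).mul_right ((hρcZ z).mul_right (hρcZ z)))
        calc _ = ρ x * ρ x * (ρ z * ρ z) * (ρ c * (ρ x * ρ x * (ρ z * ρ z))) * ρ c := by group
          _ = ρ x * ρ x * (ρ z * ρ z) * (ρ x * ρ x * (ρ z * ρ z)) * (ρ c * ρ c) := by rw [hc'.eq]; group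
          _ = _ := by rw [hρc, mul_one]
      rw [key, hcz.symm.mul_mul_mul_comm]
      simp only [pow_succ, pow_zero, one_mul, mul_assoc]
    have hpow : ∀ x z : Q, (ρ x * ρ z) ^ q = ρ x ^ q * ρ z ^ q := by
      intro x z
      have hq4 : q = 4 * 2 ^ (b - 2) := by
        rw [hq, show (4 : ℕ) = 2 ^ 2 by rfl, ← pow_add]; congr 1; omega
      have hc4 : Commute (ρ x ^ 4) (ρ z ^ 4) := by
        have h := ((hsqc x z).mul_right (hsqc x z)).pow_pow 2 2
        simpa [← pow_two, ← pow_mul] using h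
      rw [hq4, pow_mul, hfour, hc4.mul_pow, ← pow_mul, ← pow_mul]
    have hkey : ρ (m₂ ^ q) = ρ c ^ (v * i₂ + v * j₂ + k₂ * q) := by
      have e1 : ∀ (x : Q) (k : ℤ), x ^ q = c ^ v → ρ (x ^ k) ^ q = ρ c ^ (v * k) := fun x k hx => by
        rw [← map_pow, ← zpow_natCast, ← zpow_mul, mul_comm, zpow_mul, zpow_natCast, hx, ← zpow_mul,
          map_zpow]
      rw [hm₂, map_pow, map_mul, hpow, map_mul, hpow, e1 _ _ hvm, e1 _ _ hv₁, map_zpow,
        ← zpow_natCast, ← zpow_mul, zpow_add, zpow_add]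
    rw [hv₂, map_zpow] at hkey
    have h1 : ρ c ^ (v * i₂ + v * j₂ + k₂ * q - v) = 1 := by rw [zpow_sub, ← hkey, mul_inv_cancel]
    have hoddk : Odd (v * i₂ + v * j₂ + k₂ * q - v) := by
      obtain ⟨hi₂, hj₂⟩ := hpar
      have hqe : Even (k₂ * (q : ℤ)) := by
        rw [hq]; push_cast
        exact ((Int.even_pow (n := b)).mpr ⟨even_two, by omega⟩).mul_left k₂
      exact ((((hv.mul hi₂).add_odd (hv.mul hj₂))).add hqe).sub_odd hv
    obtain ⟨t, ht⟩ := hoddk
    rw [ht, zpow_add, zpow_one, two_mul, zpow_add, ← (Commute.refl (ρ c)).mul_zpow, hρc, one_zpow,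
      one_mul] at h1
    obtain ⟨s, hs⟩ := (QuotientGroup.eq_one_iff _).mp h1
    have hs' : (c * c) ^ s = c := hs
    refine hodd1 (2 * s - 1) ⟨s - 1, by ring⟩ ?_
    rw [zpow_sub, two_mul, zpow_add, ← (Commute.refl c).mul_zpow, hs', zpow_one, mul_inv_cancel]
  subst hb1
  have hq2 : q = 2 := by rw [hq, pow_one]
  have hc2 : c * c = 1 := by rw [hq2] at hcq; simpa [sq] using hcq
  have hvc : c ^ v = c := by
    obtain ⟨t, rfl⟩ := hv
    rw [zpow_add, zpow_one, two_mul, zpow_add, ← (Commute.refl c).mul_zpow, hc2, one_zpow, one_mul]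
  have hm2 : m * m = c := by rw [← pow_two, ← hq2, hvm, hvc]
  have hm12 : m₁ * m₁ = c := by rw [← pow_two, ← hq2, hv₁, hvc]
  have hcΦ : c ∈ Φ := by rw [← hm2, ← pow_two]; exact Cfsg.Lib.PGroups.pow_mem_frattini hQp _
  -- the centre of `Q`
  have hzc : ∀ x : Q, (∀ z : Q, x * z = z * x) → x = 1 ∨ x = c := by
    have hpar : ∀ (x : Q) (s : ℤ), x * x = c → x ^ s ∈ ({1, c, x, x * c} : Set Q) := by
      intro x s hx
      rcases Int.even_or_odd s with ⟨t, rfl⟩ | ⟨t, rfl⟩
      · rw [zpow_add, ← (Commute.refl x).mul_zpow, hx]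
        rcases Int.even_or_odd t with ⟨u, rfl⟩ | ⟨u, rfl⟩
        · left; rw [zpow_add, ← (Commute.refl c).mul_zpow, hc2, one_zpow]
        · right; left
          rw [zpow_add, zpow_one, two_mul, zpow_add, ← (Commute.refl c).mul_zpow, hc2, one_zpow, one_mul]
      · rw [zpow_add, zpow_one, two_mul, zpow_add, ← (Commute.refl x).mul_zpow, hx]
        rcases Int.even_or_odd t with ⟨u, rfl⟩ | ⟨u, rfl⟩
        · right; right; left
          rw [zpow_add, ← (Commute.refl c).mul_zpow, hc2, one_zpow, one_mul]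
        · right; right; right
          rw [zpow_add, zpow_one, two_mul, zpow_add, ← (Commute.refl c).mul_zpow, hc2, one_zpow,
            one_mul, (hcZ x).eq]
          rfl
    have hmm₁ : m * m₁ = c * (m₁ * m) := by rw [hc]; group
    intro x hx
    obtain ⟨i, j, k, rfl⟩ := hdec2 x
    have hck : c ^ k = 1 ∨ c ^ k = c := by
      rcases Int.even_or_odd k with ⟨u, rfl⟩ | ⟨u, rfl⟩
      · left; rw [zpow_add, ← (Commute.refl c).mul_zpow, hc2, one_zpow]
      · right
        rw [zpow_add, zpow_one, two_mul, zpow_add, ← (Commute.refl c).mul_zpow, hc2, one_zpow, one_mul]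
    -- the components are central
    have key : ∀ (s t : ℤ), (∀ z, Commute (m ^ s * m₁ ^ t) z) →
        m ^ s * m₁ ^ t = 1 ∨ m ^ s * m₁ ^ t = c := by
      intro s t hst
      have hcases : ∀ (y : Q) (a : Q), a ∈ ({1, c, y, y * c} : Set Q) →
          (a = 1 ∨ a = c) ∨ ∃ e, (e = 1 ∨ e = c) ∧ a = y * e := by
        rintro y a (rfl | rfl | rfl | rfl)
        · exact Or.inl (Or.inl rfl)
        · exact Or.inl (Or.inr rfl)
        · exact Or.inr ⟨1, Or.inl rfl, (mul_one _).symm⟩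
        · exact Or.inr ⟨c, Or.inr rfl, rfl⟩
      have hec : ∀ e : Q, (e = 1 ∨ e = c) → ∀ z, Commute e z := by
        rintro e (rfl | rfl) z
        · exact Commute.one_left z
        · exact hcZ z
      have hprod : ∀ a e : Q, (a = 1 ∨ a = c) → (e = 1 ∨ e = c) → a * e = 1 ∨ a * e = c := by
        rintro a e (rfl | rfl) (rfl | rfl) <;> simp [hc2]
      have hnm : ¬ Commute m m₁ := fun h => hc1 (by rw [hc, h.eq]; group)
      rcases hcases _ _ (hpar m s hm2) with ha | ⟨e₁, he₁, ha⟩ <;>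
        rcases hcases _ _ (hpar m₁ t hm12) with hb | ⟨e₂, he₂, hb⟩
      · exact hprod _ _ ha hb
      · exfalso
        have h1 := hst m
        rw [hb] at h1
        have hu := hec _ ha m
        have h2 : Commute (m₁ * e₂) m := by
          have := (hu.inv_left).mul_left h1
          rwa [inv_mul_cancel_left] at this
        have h3 := h2.mul_left (hec _ he₂ m).inv_left
        rw [mul_inv_cancel_right] at h3
        exact hnm h3.symm
      · exfalso
        have h1 := hst m₁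
        rw [ha] at h1
        have hu := hec _ hb m₁
        have h2 : Commute (m * e₁) m₁ := by
          have := h1.mul_left hu.inv_left
          rwa [mul_inv_cancel_right] at this
        have h3 := h2.mul_left (hec _ he₁ m₁).inv_left
        rw [mul_inv_cancel_right] at h3
        exact hnm h3
      · exfalso
        have h1 := hst m
        rw [ha, hb, show m * e₁ * (m₁ * e₂) = m * (e₁ * m₁) * e₂ by group,
          (hec _ he₁ m₁).eq, show m * (m₁ * e₁) * e₂ = m * m₁ * (e₁ * e₂) by group] at h1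
        have h2 := h1.mul_left (hec _ (hprod _ _ he₁ he₂) m).inv_left
        rw [mul_inv_cancel_right] at h2
        exact hnm (show Commute m₁ m from mul_left_cancel (a := m)
          (by rw [← mul_assoc]; exact h2.eq)).symm
    have hst : ∀ z, Commute (m ^ i * m₁ ^ j) z := fun z => by
      have h := (show Commute _ z from hx z).mul_left ((hcZ z).zpow_left k).inv_left
      rwa [mul_inv_cancel_right] at h
    rcases key i j hst with h | h <;> rcases hck with h' | h' <;> rw [h, h'] <;> simp [hc2]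
  refine ⟨?_, c, hc1, hc2, hcΦ, hcZ, hzc, hcomm⟩
  let T : Bool × Bool × Bool → Q := fun t =>
    (if t.1 then m else 1) * (if t.2.1 then m₁ else 1) * (if t.2.2 then c else 1)
  have hTs : Function.Surjective T := by
    intro x
    obtain ⟨a, b, d, rfl⟩ := hdec2 x
    have hred : ∀ (y : Q) (s : ℤ), y * y = c → ∃ (e : Bool) (t : ℤ), y ^ s = (if e then y else 1) * c ^ t :=
      fun y s hy => by
        rcases Int.even_or_odd s with ⟨t, rfl⟩ | ⟨t, rfl⟩
        · exact ⟨false, t, by rw [zpow_add, ← (Commute.refl y).mul_zpow, hy]; simp⟩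
        · refine ⟨true, t, ?_⟩
          rw [zpow_add, zpow_one, two_mul, zpow_add, ← (Commute.refl y).mul_zpow, hy,
            ((hcZ y).zpow_left t).eq]
          rfl
    obtain ⟨e₁, t₁, h₁⟩ := hred m a hm2
    obtain ⟨e₂, t₂, h₂⟩ := hred m₁ b hm12
    refine ⟨(e₁, e₂, decide ¬ Even (t₁ + t₂ + d)), ?_⟩
    have he : c ^ (t₁ + t₂ + d) = if decide ¬ Even (t₁ + t₂ + d) then c else 1 := by
      rcases Int.even_or_odd (t₁ + t₂ + d) with hev | hod
      · rw [if_neg (by simpa using hev)]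
        obtain ⟨t, ht⟩ := hev
        rw [ht, zpow_add, ← (Commute.refl c).mul_zpow, hc2, one_zpow]
      · rw [if_pos (by simpa using hod)]
        obtain ⟨t, ht⟩ := hod
        rw [ht, zpow_add, zpow_one, two_mul, zpow_add, ← (Commute.refl c).mul_zpow, hc2, one_zpow,
          one_mul]
    show _ * _ * _ = _
    rw [← he, h₁, h₂]
    generalize (if e₁ = true then m else 1) = A
    generalize (if e₂ = true then m₁ else 1) = B
    calc A * B * c ^ (t₁ + t₂ + d) = A * (B * c ^ t₁) * (c ^ t₂ * c ^ d) := by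
          rw [add_assoc, zpow_add, zpow_add]; group
      _ = A * (c ^ t₁ * B) * (c ^ t₂ * c ^ d) := by rw [((hcZ B).zpow_left t₁).eq]
      _ = _ := by group
  have h8 : Nat.card Q ≤ 8 :=
    (Nat.card_le_card_of_surjective T hTs).trans (by simp [Nat.card_eq_fintype_card])
  obtain ⟨n, hn⟩ := IsPGroup.iff_card.mp hQp
  rcases Nat.lt_or_ge n 3 with h3 | h3
  · exfalso
    haveI : Group.IsNilpotent Q := hQp.isNilpotent
    refine hc1 ?_
    have hcomm2 : ∀ x y : Q, x * y = y * x := by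
      rcases (show n = 0 ∨ n = 1 ∨ n = 2 by omega) with rfl | rfl | rfl
      · haveI : Subsingleton Q := (Nat.card_eq_one_iff_unique.mp (by simpa using hn)).1
        exact fun x y => Subsingleton.elim _ _
      · haveI : IsCyclic Q := isCyclic_of_prime_card (p := 2) (by simpa using hn)
        exact fun x y => (IsCyclic.commutative (α := Q)).is_comm.comm x y
      · exact (IsPGroup.isMulCommutative_of_card_eq_prime_sq (p := 2) hn).is_comm.comm
    rw [hc, hcomm2 m m₁]
    group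
  · have := Nat.pow_le_pow_right two_pos h3
    omega

/-- A subgroup with an automorphism of odd order, containing every element of its normaliser
acting trivially on its Frattini quotient, and normalised by an element acting non-trivially. -/
theorem maxClass_of_odd_aut (hW : IsPGroup 2 W) (hm : Cfsg.IsMetacyclic W) (Q : Subgroup W)
    (α : MulAut Q) (hodd : Odd (orderOf α)) (hα : α ∉ stab Q)
    (hself : ∀ h : W, ∀ hh : ∀ q : Q, h * q * h⁻¹ ∈ Q,
      (∀ q : Q, (⟨h * q * h⁻¹, hh q⟩ : Q) * q⁻¹ ∈ frattini Q) → h ∈ Q)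
    {g : W} (hgn : ∀ q : Q, g * q * g⁻¹ ∈ Q) {y₀ : Q}
    (hg : (⟨g * y₀ * g⁻¹, hgn y₀⟩ : Q) * y₀⁻¹ ∉ frattini Q) :
    (∃ m : ℕ, 2 ≤ m ∧ Nonempty (W ≃* DihedralGroup m)) ∨ Cfsg.IsQuasiDihedral W ∨
      (∃ m : ℕ, 2 ≤ m ∧ Nonempty (W ≃* QuaternionGroup m)) := by
  haveI : Fact (Nat.Prime 2) := ⟨Nat.prime_two⟩
  haveI : Group.IsNilpotent W := hW.isNilpotent
  obtain ⟨N, hNn, hNc, hWN⟩ := hm
  have hQp : IsPGroup 2 Q := hW.to_subgroup Q
  obtain ⟨n, hn⟩ := IsPGroup.iff_card.mp hW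
  set Φ := frattini Q
  have hQm : Cfsg.IsMetacyclic Q := by
    refine ⟨N.subgroupOf Q, inferInstance, isCyclic_of_injective
      (f := ((Q.subtype).comp (N.subgroupOf Q).subtype).codRestrict N fun x => x.2)
      (fun a b h => Subtype.ext (Subtype.ext (congrArg (fun w : N => (w : W)) h))), ?_⟩
    refine isCyclic_of_injective (f := QuotientGroup.map (N.subgroupOf Q) N Q.subtype le_rfl) ?_
    rw [← MonoidHom.ker_eq_bot_iff, eq_bot_iff]
    intro x hx
    obtain ⟨y, rfl⟩ := QuotientGroup.mk_surjective x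
    rw [mem_bot, QuotientGroup.eq_one_iff]
    exact (QuotientGroup.eq_one_iff (y : W)).mp hx
  set x₀ : Q := (⟨g * y₀ * g⁻¹, hgn y₀⟩ : Q) * y₀⁻¹ with hx₀
  obtain ⟨w, hwN, hw⟩ := commutator_sq hW (N := N) g y₀
  have hx₀v : (x₀ : W) = w * w := by rw [← hw, hx₀]; rfl
  -- centralisers
  have hCQ : ∀ h : W, (∀ q : Q, h * q = q * h) → h ∈ Q := fun h hh => by
    have he : ∀ q : Q, h * q * h⁻¹ = q := fun q => by rw [hh q, mul_inv_cancel_right]
    refine hself h (fun q => by rw [he q]; exact q.2) fun q => ?_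
    rw [show (⟨h * q * h⁻¹, _⟩ : Q) = q from Subtype.ext (he q), mul_inv_cancel]
    exact one_mem _
  obtain ⟨hfacts, -⟩ := odd_aut_facts hQp hQm α hodd hα
  rcases odd_aut_structure hQp hQm α hodd hα with ⟨hab, -⟩ | ⟨hQ8, c, hc1, hc2, hcΦ, hcZ, hzc, hcomm⟩
  · -- the commutative case: a four-group
    obtain ⟨u, hu⟩ := IsCyclic.exists_zpow_surjective (G := N)
    have hNab : ∀ a ∈ N, ∀ b ∈ N, Commute a b := fun a ha b hb => by
      obtain ⟨i, hi⟩ := hu ⟨a, ha⟩
      obtain ⟨j, hj⟩ := hu ⟨b, hb⟩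
      rw [← show ((u : W)) ^ i = a from congrArg Subtype.val hi,
        ← show ((u : W)) ^ j = b from congrArg Subtype.val hj]
      exact (Commute.refl _).zpow_zpow i j
    have hx₀N : (x₀ : W) ∈ N := hx₀v ▸ mul_mem hwN hwN
    -- the displacement of `w` by `Q`
    have hd : ∀ q : Q, (q : W) * w * (q : W)⁻¹ * w⁻¹ ∈ N ∧
        ((q : W) * w * (q : W)⁻¹ * w⁻¹) * ((q : W) * w * (q : W)⁻¹ * w⁻¹) = 1 := by
      intro q
      set d := (q : W) * w * (q : W)⁻¹ * w⁻¹ with hd'
      have hdN : d ∈ N := mul_mem (hNn.conj_mem w hwN q) (inv_mem hwN)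
      refine ⟨hdN, ?_⟩
      have hqx : (q : W) * (w * w) * (q : W)⁻¹ = w * w := by
        rw [← hx₀v, ← show ((q * x₀ : Q) : W) = q * x₀ from rfl, hab q x₀,
          show ((x₀ * q : Q) : W) = x₀ * q from rfl, mul_inv_cancel_right]
      have h2 : (q : W) * w * (q : W)⁻¹ = d * w := by rw [hd']; group
      have h3 : d * w * (d * w) = w * w := by
        rw [← h2, show (q : W) * w * (q : W)⁻¹ * ((q : W) * w * (q : W)⁻¹) = q * (w * w) * (q : W)⁻¹ by
          group, hqx]
      have hdw := hNab d hdN w hwN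
      calc d * d = d * d * (w * w) * (w * w)⁻¹ := by group
        _ = d * (d * w) * w * (w * w)⁻¹ := by group
        _ = d * (w * d) * w * (w * w)⁻¹ := by rw [hdw.eq]
        _ = d * w * (d * w) * (w * w)⁻¹ := by group
        _ = 1 := by rw [h3, mul_inv_cancel]
    have hj : ∀ d ∈ N, d * d = 1 → d = 1 ∨ ∃ k : ℕ, orderOf (x₀ : W) = 2 ^ (k + 1) ∧
        d = (x₀ : W) ^ (2 ^ k) := by
      intro d hdN hd2
      by_cases hd1 : d = 1
      · exact Or.inl hd1
      right
      obtain ⟨k, hk⟩ := IsPGroup.iff_orderOf.mp hW (x₀ : W)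
      rcases k with _ | k
      · exfalso
        rw [pow_zero, orderOf_eq_one_iff] at hk
        exact hg (show x₀ ∈ Φ from (show x₀ = 1 from Subtype.ext hk) ▸ one_mem _)
      refine ⟨k, hk, ?_⟩
      set j := (x₀ : W) ^ (2 ^ k)
      have hj1 : orderOf j = 2 := by
        rw [orderOf_pow, hk, Nat.gcd_eq_right (pow_dvd_pow 2 k.le_succ), Nat.pow_div k.le_succ two_pos,
          show k + 1 - k = 1 by omega, pow_one]
      have hd' : orderOf d = 2 := orderOf_eq_prime (by rw [pow_two, hd2]) hd1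
      classical
      haveI : Fintype N := Fintype.ofFinite N
      have e1 := IsCyclic.card_orderOf_eq_totient (α := N) (d := 2) (by
        rw [← hd', ← Subgroup.orderOf_mk d hdN]; exact orderOf_dvd_card)
      rw [Nat.totient_two] at e1
      have hmem : ∀ z : W, ∀ hz : z ∈ N, orderOf z = 2 → (⟨z, hz⟩ : N) ∈
          Finset.univ.filter (fun a : N => orderOf a = 2) := fun z hz h => by
        simp [Subgroup.orderOf_mk, h]
      exact congrArg Subtype.val (Finset.card_le_one.mp e1.le _ (hmem d hdN hd') _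
        (hmem j (pow_mem hx₀N _) hj1))
    have hdQ : ∀ q : Q, (q : W) * w * (q : W)⁻¹ * w⁻¹ ∈ Q := fun q => by
      rcases hj _ (hd q).1 (hd q).2 with h | ⟨k, -, h⟩ <;> rw [h]
      · exact Q.one_mem
      · exact pow_mem x₀.2 _
    have hwq : ∀ q : Q, w * q * w⁻¹ = ((q : W) * w * (q : W)⁻¹ * w⁻¹)⁻¹ * q := fun q => by group
    have hwQ : ∀ q : Q, w * q * w⁻¹ ∈ Q := fun q => by rw [hwq]; exact mul_mem (inv_mem (hdQ q)) q.2
    obtain ⟨q₀, hq₀⟩ : ∃ q : Q, (⟨w * q * w⁻¹, hwQ q⟩ : Q) * q⁻¹ ∉ Φ := by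
      by_contra h
      push Not at h
      have hw' := hself w hwQ h
      refine hg (show x₀ ∈ Φ from ?_)
      rw [show x₀ = ⟨w, hw'⟩ * ⟨w, hw'⟩ from Subtype.ext hx₀v, ← pow_two]
      exact Cfsg.Lib.PGroups.pow_mem_frattini hQp _
    have hx₀2 : x₀ * x₀ = 1 := by
      rcases hj _ (hd q₀).1 (hd q₀).2 with h | ⟨k, hk, h⟩
      · exfalso
        refine hq₀ ?_
        have e1 : (⟨w * q₀ * w⁻¹, hwQ q₀⟩ : Q) = q₀ := Subtype.ext (show w * q₀ * w⁻¹ = q₀ by rw [hwq, h, inv_one, one_mul])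
        rw [e1, mul_inv_cancel]
        exact one_mem _
      · rcases k with _ | k
        · exact Subtype.ext (by
            show (x₀ : W) * x₀ = 1
            rw [← pow_two, show 2 = orderOf (x₀ : W) by rw [hk]; rfl, pow_orderOf_eq_one])
        · exfalso
          refine hq₀ ?_
          have e1 : (⟨w * q₀ * w⁻¹, hwQ q₀⟩ : Q) * q₀⁻¹ = ((x₀ ^ (2 ^ k)) ^ 2)⁻¹ := by
            refine Subtype.ext ?_
            show w * q₀ * w⁻¹ * (q₀ : W)⁻¹ = (((x₀ : W) ^ (2 ^ k)) ^ 2)⁻¹
            rw [hwq, h, ← pow_mul, pow_succ]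
            group
          rw [e1]
          exact inv_mem (Cfsg.Lib.PGroups.pow_mem_frattini hQp _)
    set x₁ := α x₀
    have hx₁2 : x₁ * x₁ = 1 := by rw [← map_mul, hx₀2, map_one]
    obtain ⟨hx₁0, hne, h01, htop', -⟩ := hfacts x₀ hg
    let T : Bool × Bool → Q := fun t => (if t.1 then x₀ else 1) * (if t.2 then x₁ else 1)
    have hT : Function.Surjective T := by
      intro z
      have hle : closure ({x₀, x₁} : Set Q) ≤
          { carrier := Set.range T
            one_mem' := ⟨(false, false), by simp [T]⟩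
            mul_mem' := by
              rintro _ _ ⟨⟨a, b⟩, rfl⟩ ⟨⟨a', b'⟩, rfl⟩
              refine ⟨(xor a a', xor b b'), ?_⟩
              simp only [T]
              rw [show ∀ p q r s : Q, (p * q) * (r * s) = (p * r) * (q * s) from fun p q r s => by
                rw [mul_assoc, ← mul_assoc q, hab q r]; group]
              cases a <;> cases b <;> cases a' <;> cases b' <;> simp [hx₀2, hx₁2]
            inv_mem' := by
              rintro _ ⟨⟨a, b⟩, rfl⟩
              refine ⟨(a, b), ?_⟩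
              simp only [T]
              rw [mul_inv_rev, hab]
              cases a <;> cases b <;>
                simp [inv_eq_of_mul_eq_one_right hx₀2, inv_eq_of_mul_eq_one_right hx₁2] } := by
        rw [closure_le]
        rintro _ (rfl | rfl)
        · exact ⟨(true, false), by simp [T]⟩
        · exact ⟨(false, true), by simp [T]⟩
      exact hle (htop' ▸ mem_top z)
    have hTi : Function.Injective T := by
      intro s t hst
      have e : ∀ a b : Q, a = b → b * a⁻¹ ∈ Φ := fun a b h => by rw [h, mul_inv_cancel]; exact one_mem _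
      have h10 : x₁ * x₀⁻¹ ∉ Φ := h01
      rcases s with ⟨_ | _, _ | _⟩ <;> rcases t with ⟨_ | _, _ | _⟩ <;> simp [T] at hst ⊢ <;>
        first
          | exact hg (show x₀ ∈ Φ by rw [hst]; exact one_mem _)
          | exact hg (show x₀ ∈ Φ by rw [← hst]; exact one_mem _)
          | exact hx₁0 (show x₁ ∈ Φ by rw [hst]; exact one_mem _)
          | exact hx₁0 (show x₁ ∈ Φ by rw [← hst]; exact one_mem _)
          | exact hne (show x₀ * x₁ ∈ Φ by rw [hst]; exact one_mem _)
          | exact hne (show x₀ * x₁ ∈ Φ by rw [← hst]; exact one_mem _)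
          | exact h10 (e _ _ hst)
          | exact h10 (e _ _ hst.symm)
    have hQ4 : Nat.card Q = 4 := by
      rw [← Nat.card_congr (Equiv.ofBijective T ⟨hTi, hT⟩)]
      simp [Nat.card_eq_fintype_card]
    have hcent : centralizer (Q : Set W) = Q := by
      refine le_antisymm (fun h (hh : h ∈ centralizer (Q : Set W)) => hCQ h fun q => (mem_centralizer_iff.mp hh q q.2).symm) fun q hq =>
        mem_centralizer_iff.mpr fun r hr => congrArg Subtype.val (hab ⟨r, hr⟩ ⟨q, hq⟩)
    have hcl := Cfsg.Lib.MaxClass.of_self_centralizing n W hn Q hQ4 hcent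
    refine shape_of_maxClass hn ?_ hcl
    by_contra h
    push Not at h
    have hle : Nat.card W ≤ Nat.card Q := by
      rw [hn, hQ4]; exact Nat.pow_le_pow_right two_pos (show n ≤ 2 by omega)
    have htopQ : Q = ⊤ := Subgroup.eq_top_of_le_card Q hle
    refine hg (show x₀ ∈ Φ from ?_)
    have e : x₀ = 1 := Subtype.ext (by
      show g * y₀ * g⁻¹ * (y₀ : W)⁻¹ = 1
      have := congrArg Subtype.val (hab ⟨g, htopQ ▸ mem_top g⟩ y₀)
      rw [show g * (y₀ : W) = y₀ * g from this]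
      group)
    rw [e]
    exact one_mem _
  · -- the quaternion case
    have hcne : (c : W) ≠ 1 := fun h => hc1 (Subtype.ext h)
    have hCle : ∀ h : W, (∀ q : Q, h * q = q * h) → h = 1 ∨ h = (c : W) := fun h hh =>
      (hzc ⟨h, hCQ h hh⟩ fun z => Subtype.ext (hh z)).imp (congrArg Subtype.val) (congrArg Subtype.val)
    haveI : Nontrivial W := ⟨⟨(c : W), 1, hcne⟩⟩
    have hZ2 : center W = zpowers (c : W) := by
      have hle : center W ≤ zpowers (c : W) := fun h hh => by
        rcases hCle h (fun q => (mem_center_iff.mp hh q).symm) with rfl | rfl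
        · exact one_mem _
        · exact mem_zpowers _
      refine le_antisymm hle ?_
      haveI := hW.center_nontrivial
      obtain ⟨⟨z, hz⟩, hz1⟩ := exists_ne (1 : center W)
      rw [zpowers_le]
      rcases hCle z (fun q => (mem_center_iff.mp hz q).symm) with rfl | rfl
      · exact absurd rfl hz1
      · exact hz
    have hcord : orderOf (c : W) = 2 :=
      orderOf_eq_prime (by rw [pow_two]; exact congrArg Subtype.val hc2) hcne
    set ρ := QuotientGroup.mk' (center W)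
    set A := Q.map ρ
    have hnW : Nat.card (W ⧸ center W) * 2 = 2 ^ n := by
      rw [← hn, card_eq_card_quotient_mul_card_subgroup (center W)]
      congr 1
      rw [hZ2, Nat.card_zpowers, hcord]
    obtain ⟨n', hn'⟩ := IsPGroup.iff_card.mp (hW.to_quotient (center W))
    have hnn : n = n' + 1 := by
      rw [hn', ← pow_succ] at hnW
      exact (Nat.pow_right_injective le_rfl hnW).symm
    have hρ : ∀ x z : W, ρ x = ρ z ↔ x⁻¹ * z = 1 ∨ x⁻¹ * z = (c : W) := fun x z => by
      show (x : W ⧸ center W) = z ↔ _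
      rw [QuotientGroup.eq, hZ2]
      constructor
      · rintro ⟨k, hk⟩
        have hk' : (c : W) ^ k = x⁻¹ * z := hk
        rcases Int.even_or_odd k with ⟨u, rfl⟩ | ⟨u, rfl⟩
        · left
          rw [← hk', zpow_add, ← (Commute.refl (c : W)).mul_zpow, ← Subgroup.coe_mul, hc2,
            Subgroup.coe_one, one_zpow]
        · right
          rw [← hk', zpow_add, zpow_one, two_mul, zpow_add, ← (Commute.refl (c : W)).mul_zpow,
            ← Subgroup.coe_mul, hc2, Subgroup.coe_one, one_zpow, one_mul]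
      · rintro (h | h) <;> rw [h]
        · exact one_mem _
        · exact mem_zpowers _
    have hA4 : Nat.card A = 4 := by
      let ψ : Q →* W ⧸ center W := ρ.comp Q.subtype
      have hker : ψ.ker = zpowers c := by
        ext x
        rw [MonoidHom.mem_ker]
        show ((x : W) : W ⧸ center W) = 1 ↔ _
        rw [QuotientGroup.eq_one_iff, hZ2]
        constructor
        · rintro ⟨k, hk⟩
          exact ⟨k, Subtype.ext (by simpa using hk)⟩
        · rintro ⟨k, rfl⟩
          exact ⟨k, (SubgroupClass.coe_zpow c k).symm⟩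
      have hrange : ψ.range = A := by rw [MonoidHom.range_comp, Subgroup.range_subtype]
      have h := card_eq_card_quotient_mul_card_subgroup ψ.ker
      rw [Nat.card_congr (QuotientGroup.quotientKerEquivRange ψ).toEquiv, hrange, hQ8, hker,
        Nat.card_zpowers, ← Subgroup.orderOf_coe, hcord] at h
      omega
    have hcent : centralizer (A : Set (W ⧸ center W)) = A := by
      refine le_antisymm (fun hbar hh => ?_) ?_
      · obtain ⟨h, rfl⟩ := QuotientGroup.mk'_surjective _ hbar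
        have hd : ∀ q : Q, h * q * h⁻¹ = q ∨ h * q * h⁻¹ = c * q := fun q => by
          have e : ρ (q : W) = ρ (h * q * h⁻¹) := by
            have := mem_centralizer_iff.mp hh (ρ q) (mem_map_of_mem _ q.2)
            rw [map_mul, map_mul, map_inv, ← this, mul_inv_cancel_right]
          rcases (hρ _ _).mp e with e' | e'
          · left; exact (inv_mul_eq_one.mp e').symm
          · right
            rw [show h * q * h⁻¹ = (q : W) * c from inv_mul_eq_iff_eq_mul.mp e']
            exact congrArg Subtype.val (hcZ q).symm.eq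
        refine mem_map_of_mem _ (hself h (fun q => ?_) fun q => ?_)
        · rcases hd q with e | e <;> rw [e]
          · exact q.2
          · exact mul_mem c.2 q.2
        · rcases hd q with e | e
          · rw [show (⟨h * q * h⁻¹, _⟩ : Q) = q from Subtype.ext e, mul_inv_cancel]; exact one_mem _
          · rw [show (⟨h * q * h⁻¹, _⟩ : Q) = c * q from Subtype.ext e, mul_inv_cancel_right]; exact hcΦ
      · intro a ha
        refine mem_centralizer_iff.mpr fun b hb => ?_
        obtain ⟨x, hx, rfl⟩ := ha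
        obtain ⟨z, hz, rfl⟩ := hb
        obtain ⟨s, hs⟩ := hcomm ⟨z, hz⟩ ⟨x, hx⟩
        have hs' : (c : W) ^ s = z * x * z⁻¹ * x⁻¹ := by
          have := congrArg Subtype.val hs
          simpa using this
        have e1 : ρ (z * x * z⁻¹ * x⁻¹) = 1 := by
          refine (QuotientGroup.eq_one_iff _).mpr ?_
          rw [hZ2, ← hs']
          exact ⟨s, rfl⟩
        rw [map_mul, map_mul, map_mul, map_inv, map_inv] at e1
        exact mul_inv_eq_iff_eq_mul.mp (mul_inv_eq_one.mp e1)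
    have hcl := Cfsg.Lib.MaxClass.of_self_centralizing n' (W ⧸ center W) hn' A hA4 hcent
    have hn2 : 2 ≤ n' := by
      have h1 := A.card_subgroup_dvd_card
      rw [hA4, hn', show (4 : ℕ) = 2 ^ 2 by rfl, Nat.pow_dvd_pow_iff_le_right one_lt_two] at h1
      exact h1
    refine shape_of_maxClass hn (by omega) ?_
    rw [Group.nilpotencyClass_eq_quotient_center_plus_one, hcl]
    omega

end Cfsg.Lib.MetaTwo
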