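import Cfsg.Agent.Fusion.EssentialShape
import Cfsg.Agent.PGroups.SpecialCoprime

/-!
Abelian `p`-groups of rank two: either there is a characteristic subgroup of index `p` or the group
is homocyclic; automorphisms of order `p` of homocyclic groups.
-/

set_option autoImplicit false

namespace Cfsg.Lib.PGroups

open Subgroup

variable {p : ℕ} [hp : Fact p.Prime] {H : Type*} [CommGroup H] [Finite H]

theorem frattini_eq_range_pow (hH : IsPGroup p H) : frattini H = (powMonoidHom p : H →* H).range := by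
  refine le_antisymm ?_ ?_
  · refine Cfsg.Lib.PGroups.SpecialCoprime.frattini_le_of_elementary (p := p) _ (fun g => ⟨g, rfl⟩) ?_
    rw [Abelianization.commutator_subset_ker (MonoidHom.id H) |> fun h =>
      le_bot_iff.1 (h.trans (by rw [MonoidHom.ker_id]))]
    exact bot_le
  · rintro _ ⟨g, rfl⟩
    exact Cfsg.Lib.PGroups.pow_mem_frattini hH g

theorem card_torsion (hH : IsPGroup p H) :
    Nat.card (powMonoidHom p : H →* H).ker = (frattini H).index := by
  rw [frattini_eq_range_pow hH]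
  have h1 := (powMonoidHom p : H →* H).ker.card_mul_index
  rw [Subgroup.index_ker] at h1
  have h2 := (powMonoidHom p : H →* H).range.card_mul_index
  exact Nat.eq_of_mul_eq_mul_left Nat.card_pos ((mul_comm _ _).trans (h1.trans h2.symm))

/-- An abelian group of rank two has a characteristic subgroup of index `p` or is homocyclic. -/
theorem char_index_or_homocyclic (hH : IsPGroup p H) (hr : (frattini H).index = p ^ 2) :
    (∃ M : Subgroup H, M.index = p ∧ ∀ a : MulAut H, ∀ q ∈ M, a q ∈ M) ∨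
      ∃ k : ℕ, 1 ≤ k ∧ (∀ x : H, x ^ p ^ k = 1) ∧
        Nonempty (H ≃* Multiplicative (ZMod (p ^ k) × ZMod (p ^ k))) := by
  classical
  obtain ⟨a, -, ha⟩ := (Nat.dvd_prime_pow hp.out).1
    ((IsPGroup.iff_card.1 hH).choose_spec ▸ Group.exponent_dvd_nat_card (G := H))
  have hexp : ∀ x : H, x ^ p ^ a = 1 := fun x => ha ▸ Monoid.pow_exponent_eq_one x
  have ha1 : 1 ≤ a := by
    by_contra h
    have h0 : a = 0 := by omega
    have hsub : Subsingleton H := ⟨fun x y => by
      have hx := hexp x; have hy := hexp y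
      rw [h0, pow_zero, pow_one] at hx hy
      rw [hx, hy]⟩
    have h1 := (frattini H).index_dvd_card
    rw [hr, Nat.card_unique, Nat.dvd_one] at h1
    have := hp.out.two_le
    nlinarith
  set f : H →* H := powMonoidHom (p ^ (a - 1)) with hf
  set T : Subgroup H := (powMonoidHom p : H →* H).ker with hT
  have hTc : Nat.card T = p ^ 2 := by rw [hT, card_torsion hH, hr]
  have hrange : f.range ≤ T := by
    rintro _ ⟨x, rfl⟩
    show (x ^ p ^ (a - 1)) ^ p = 1
    rw [← pow_mul, ← pow_succ, Nat.sub_add_cancel ha1, hexp]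
  obtain ⟨j, hj, hjc⟩ := (Nat.dvd_prime_pow hp.out).1
    (hTc ▸ Subgroup.card_dvd_of_le hrange)
  interval_cases j
  · exfalso
    rw [pow_zero, Subgroup.card_eq_one] at hjc
    have h1 : ∀ x : H, x ^ p ^ (a - 1) = 1 := fun x => Subgroup.mem_bot.1 (hjc ▸ ⟨x, rfl⟩)
    have h2 := Monoid.exponent_dvd_of_forall_pow_eq_one h1
    rw [ha, Nat.pow_dvd_pow_iff_le_right hp.out.one_lt] at h2
    omega
  · refine Or.inl ⟨f.ker, by rw [Subgroup.index_ker, hjc, pow_one], fun e q hq => ?_⟩
    have hq' : q ^ p ^ (a - 1) = 1 := hq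
    show (e q) ^ p ^ (a - 1) = 1
    rw [← map_pow, hq', map_one]
  · refine Or.inr ⟨a, ha1, hexp, ?_⟩
    have hfT : f.range = T := Subgroup.eq_of_le_of_card_ge hrange (by rw [hjc, hTc])
    obtain ⟨u, hu, hu1⟩ : ∃ u ∈ T, u ≠ 1 := by
      by_contra h
      push Not at h
      have : T = ⊥ := (Subgroup.eq_bot_iff_forall T).2 h
      rw [this, Subgroup.card_bot] at hTc
      have := hp.out.two_le
      nlinarith
    have huo : orderOf u = p := orderOf_eq_prime hu hu1
    obtain ⟨v, hv, hvu⟩ : ∃ v ∈ T, v ∉ zpowers u := by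
      by_contra h
      push Not at h
      have := Subgroup.card_le_of_le (H := T) (K := zpowers u) h
      rw [hTc, Nat.card_zpowers, huo] at this
      have := hp.out.two_le
      nlinarith
    obtain ⟨x, hx⟩ : u ∈ f.range := hfT ▸ hu
    obtain ⟨y, hy⟩ : v ∈ f.range := hfT ▸ hv
    have hx' : x ^ p ^ (a - 1) = u := hx
    have hy' : y ^ p ^ (a - 1) = v := hy
    haveI : NeZero (p ^ a) := ⟨pow_ne_zero _ hp.out.ne_zero⟩
    have hpw : ∀ (z : H) (i j : ZMod (p ^ a)), z ^ (i + j).val = z ^ i.val * z ^ j.val := fun z i j => by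
      rw [← pow_add, ZMod.val_add, ← pow_eq_pow_mod _ (hexp z)]
    let t : Multiplicative (ZMod (p ^ a) × ZMod (p ^ a)) →* H :=
      { toFun := fun s => x ^ (Multiplicative.toAdd s).1.val * y ^ (Multiplicative.toAdd s).2.val
        map_one' := by simp
        map_mul' := fun r s => by
          simp only [toAdd_mul, Prod.fst_add, Prod.snd_add, hpw]
          exact mul_mul_mul_comm _ _ _ _ }
    -- a kernel element has both coordinates divisible by every power of `p`
    have hstep : ∀ (e : ℕ) (i j : ℕ), e < a → p ^ e ∣ i → p ^ e ∣ j → x ^ i * y ^ j = 1 →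
        p ^ (e + 1) ∣ i ∧ p ^ (e + 1) ∣ j := by
      rintro e _ _ he ⟨i', rfl⟩ ⟨j', rfl⟩ h
      have h' : u ^ i' * v ^ j' = 1 := by
        have := congrArg (fun z : H => z ^ p ^ (a - 1 - e)) h
        simp only [one_pow, mul_pow, ← pow_mul] at this
        rw [show p ^ e * i' * p ^ (a - 1 - e) = p ^ (a - 1) * i' by
            rw [mul_right_comm, ← pow_add]; congr 2; omega,
          show p ^ e * j' * p ^ (a - 1 - e) = p ^ (a - 1) * j' by
            rw [mul_right_comm, ← pow_add]; congr 2; omega,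
          pow_mul, pow_mul, hx', hy'] at this
        exact this
      have hpj : p ∣ j' := by
        by_contra hnd
        refine hvu ?_
        have hcop : (orderOf v).Coprime j' := (Nat.Prime.coprime_iff_not_dvd hp.out).2 hnd
          |> fun hc => hc.coprime_dvd_left (orderOf_dvd_of_pow_eq_one hv)
        obtain ⟨m, hm⟩ := exists_pow_eq_self_of_coprime hcop.symm
        rw [← hm, eq_inv_of_mul_eq_one_right h']
        exact Subgroup.pow_mem _ (Subgroup.inv_mem _ (Subgroup.pow_mem _ (mem_zpowers u) _)) _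
      have hpi : p ∣ i' := by
        rw [← huo]
        refine orderOf_dvd_of_pow_eq_one ?_
        obtain ⟨w, rfl⟩ := hpj
        rwa [pow_mul v, (show v ^ p = 1 from hv), one_pow, mul_one] at h'
      exact ⟨by rw [pow_succ]; exact mul_dvd_mul_left _ hpi, by rw [pow_succ]; exact mul_dvd_mul_left _ hpj⟩
    have hinj : Function.Injective t := by
      rw [injective_iff_map_eq_one]
      intro s hs
      have hall : ∀ e ≤ a, p ^ e ∣ (Multiplicative.toAdd s).1.val ∧
          p ^ e ∣ (Multiplicative.toAdd s).2.val := by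
        intro e
        induction e with
        | zero => intro _; simp
        | succ e ih =>
          intro he
          obtain ⟨h1, h2⟩ := ih (by omega)
          exact hstep e _ _ (by omega) h1 h2 hs
      obtain ⟨h1, h2⟩ := hall a le_rfl
      have e1 := Nat.eq_zero_of_dvd_of_lt h1 (ZMod.val_lt _)
      have e2 := Nat.eq_zero_of_dvd_of_lt h2 (ZMod.val_lt _)
      exact Multiplicative.toAdd.injective (Prod.ext ((ZMod.val_eq_zero _).1 e1) ((ZMod.val_eq_zero _).1 e2))
    have hsurj : Function.Surjective t := by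
      rw [← MonoidHom.range_eq_top]
      refine frattini_nongenerating ?_
      -- modulo the Frattini subgroup
      have hk : f.ker ≤ t.range ⊔ frattini H := by
        intro z hz
        have hrel : f.ker = frattini H := by
          refine (Subgroup.eq_of_le_of_card_ge ?_ ?_).symm
          · rw [frattini_eq_range_pow hH]
            rintro _ ⟨w, rfl⟩
            show (w ^ p) ^ p ^ (a - 1) = 1
            rw [← pow_mul, ← pow_succ', Nat.sub_add_cancel ha1, hexp]
          · have h1 := f.ker.card_mul_index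
            have h2 := (frattini H).card_mul_index
            rw [Subgroup.index_ker, hjc] at h1
            rw [hr, ← h1] at h2
            exact (Nat.eq_of_mul_eq_mul_right (pow_pos hp.out.pos 2) h2).ge
        exact Subgroup.mem_sup_right (hrel ▸ hz)
      refine (Subgroup.eq_top_iff' _).2 fun z => ?_
      -- the images of `x` and `y` generate the torsion subgroup
      have hgen : zpowers u ⊔ zpowers v = T := by
        refine Subgroup.eq_of_le_of_card_ge (sup_le (zpowers_le.2 hu) (zpowers_le.2 hv)) ?_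
        obtain ⟨i, hi, hic⟩ := (Nat.dvd_prime_pow hp.out).1
          (hTc ▸ Subgroup.card_dvd_of_le (sup_le (zpowers_le.2 hu) (zpowers_le.2 hv) :
            zpowers u ⊔ zpowers v ≤ T))
        rw [hTc, hic]
        refine Nat.pow_le_pow_right hp.out.pos ?_
        by_contra hlt
        have hle : Nat.card ↥(zpowers u ⊔ zpowers v) ≤ Nat.card ↥(zpowers u) := by
          rw [hic, Nat.card_zpowers, huo]
          exact (Nat.pow_le_pow_right hp.out.pos (show i ≤ 1 by omega)).trans_eq (pow_one p)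
        refine hvu ?_
        rw [Subgroup.eq_of_le_of_card_ge le_sup_left hle]
        exact Subgroup.mem_sup_right (mem_zpowers v)
      have hzT : f z ∈ zpowers u ⊔ zpowers v := by rw [hgen, ← hfT]; exact ⟨z, rfl⟩
      obtain ⟨_, ⟨i, rfl⟩, _, ⟨j, rfl⟩, hij⟩ := Subgroup.mem_sup.1 hzT
      have hxr : x ∈ t.range := ⟨Multiplicative.ofAdd (1, 0), by
        show x ^ (1 : ZMod (p ^ a)).val * y ^ (0 : ZMod (p ^ a)).val = x
        haveI : Fact (1 < p ^ a) := ⟨Nat.one_lt_pow (by omega) hp.out.one_lt⟩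
        simp [ZMod.val_one]⟩
      have hyr : y ∈ t.range := ⟨Multiplicative.ofAdd (0, 1), by
        show x ^ (0 : ZMod (p ^ a)).val * y ^ (1 : ZMod (p ^ a)).val = y
        haveI : Fact (1 < p ^ a) := ⟨Nat.one_lt_pow (by omega) hp.out.one_lt⟩
        simp [ZMod.val_one]⟩
      have hker : (x ^ i * y ^ j)⁻¹ * z ∈ f.ker := by
        rw [MonoidHom.mem_ker, map_mul, map_inv, map_mul, map_zpow, map_zpow, hx, hy, hij, inv_mul_cancel]
      have := Subgroup.mul_mem _ (Subgroup.mem_sup_left (T := frattini H)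
        (t.range.mul_mem (t.range.zpow_mem hxr i) (t.range.zpow_mem hyr j))) (hk hker)
      rwa [mul_inv_cancel_left] at this
    exact ⟨(MulEquiv.ofBijective t ⟨hinj, hsurj⟩).symm⟩

/-- For `p ≥ 5` an automorphism of order `p` of a homocyclic group of rank two and exponent at least
`p²` is trivial on the Frattini quotient. -/
theorem trivial_on_frattini_of_order_p (hH : IsPGroup p H) (hp5 : 5 ≤ p) {k : ℕ} (hk : 2 ≤ k)
    (hexp : ∀ x : H, x ^ p ^ k = 1) (hr : (frattini H).index = p ^ 2)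
    (hom : Nat.card H = p ^ k * p ^ k)
    (g : MulAut H) (hg : g ^ p = 1) (x : H) : g x * x⁻¹ ∈ frattini H := by
  classical
  set Φ := frattini H with hΦdef
  have hΦ : Φ = (powMonoidHom p : H →* H).range := frattini_eq_range_pow hH
  have hgΦ : ∀ q ∈ Φ, g q ∈ Φ := fun q hq => by
    rw [hΦ] at hq ⊢
    obtain ⟨w, rfl⟩ := hq
    exact ⟨g w, (map_pow g w p).symm⟩
  let δ : H →* H := g.toMonoidHom / MonoidHom.id H
  have hδ : ∀ z, δ z = g z * z⁻¹ := fun z => div_eq_mul_inv (g z) z
  -- an invariant subgroup of index `p`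
  have hmap : Φ.map (g : H ≃* H).toMonoidHom = Φ := by
    refine Subgroup.eq_of_le_of_card_ge ?_ (le_of_eq
      (Nat.card_congr (Φ.equivMapOfInjective (g : H ≃* H).toMonoidHom g.injective).toEquiv))
    rintro _ ⟨q, hq, rfl⟩
    exact hgΦ q hq
  let gb : MulAut (H ⧸ Φ) := QuotientGroup.congr _ _ g hmap
  have hgb : ∀ z : H, gb (z : H ⧸ Φ) = ((g z : H) : H ⧸ Φ) := fun z => rfl
  have hgbp : gb ^ p = 1 := by
    have hiter : ∀ (j : ℕ) (z : H), (gb ^ j) (z : H ⧸ Φ) = (((g ^ j) z : H) : H ⧸ Φ) := by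
      intro j
      induction j with
      | zero => intro z; rfl
      | succ j ih => intro z; rw [pow_succ, MulAut.mul_apply, hgb, ih, pow_succ, MulAut.mul_apply]
    refine MulEquiv.ext fun z => ?_
    obtain ⟨z, rfl⟩ := QuotientGroup.mk_surjective z
    rw [hiter, hg]; rfl
  have hcV : Nat.card (H ⧸ Φ) = p ^ 2 := by rw [← Subgroup.index_eq_card, hr]
  haveI : Finite (MulAut (H ⧸ Φ)) :=
    Finite.of_injective (fun f : MulAut (H ⧸ Φ) => (f : H ⧸ Φ → H ⧸ Φ)) DFunLike.coe_injective
  have hP : IsPGroup p (zpowers gb) := by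
    obtain ⟨l, -, hl⟩ := (Nat.dvd_prime_pow hp.out).1
      (show orderOf gb ∣ p ^ 1 by rw [pow_one]; exact orderOf_dvd_of_pow_eq_one hgbp)
    exact IsPGroup.of_card (n := l) (by rw [Nat.card_zpowers, hl])
  obtain ⟨v, hv, hv1⟩ := hP.exists_fixed_point_of_prime_dvd_card_of_fixed_point (H ⧸ Φ)
    (hcV ▸ dvd_pow_self p two_ne_zero) (a := 1) (fun r => map_one (r : MulAut (H ⧸ Φ)))
  have hv' : gb v = v := hv ⟨gb, mem_zpowers gb⟩
  set M : Subgroup H := (zpowers v).comap (QuotientGroup.mk' Φ) with hM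
  have hMi : M.index = p := by
    rw [hM, Subgroup.index_comap_of_surjective _ (QuotientGroup.mk'_surjective _)]
    have h1 := (zpowers v).card_mul_index
    rw [Nat.card_zpowers, orderOf_eq_prime (Cfsg.Lib.PGroups.pow_prime_quotient_frattini hH v) (Ne.symm hv1),
      hcV, pow_two] at h1
    exact Nat.eq_of_mul_eq_mul_left hp.out.pos h1
  have hgM : ∀ q ∈ M, g q ∈ M := by
    intro q hq
    obtain ⟨i, hi⟩ := Subgroup.mem_zpowers_iff.1 hq
    refine Subgroup.mem_zpowers_iff.2 ⟨i, ?_⟩
    show v ^ i = ((g q : H) : H ⧸ Φ)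
    rw [← hgb, show ((q : H) : H ⧸ Φ) = v ^ i from hi.symm, map_zpow, hv']
  have hΦM : Φ ≤ M := fun q hq => by
    show ((q : H) : H ⧸ Φ) ∈ zpowers v
    rw [(QuotientGroup.eq_one_iff q).2 hq]
    exact Subgroup.one_mem _
  have hd1 : ∀ z, δ z ∈ M := fun z => by
    rw [hδ]
    exact Cfsg.Lib.Fusion.mul_inv_mem_of_index_dvd M (show M.index ∣ p by rw [hMi]) g hgM ⟨1, by rw [pow_one, hg]⟩ z
  have hd2 : ∀ z ∈ M, δ z ∈ Φ := fun z hz => by
    rw [hδ]
    obtain ⟨i, hi⟩ := Subgroup.mem_zpowers_iff.1 hz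
    rw [← QuotientGroup.eq_one_iff, QuotientGroup.mk_mul, QuotientGroup.mk_inv, ← hgb,
      show ((z : H) : H ⧸ Φ) = v ^ i from hi.symm, map_zpow, hv', mul_inv_cancel]
  set P2 : Subgroup H := (powMonoidHom (p ^ 2) : H →* H).range with hP2
  have hd2' : ∀ z, δ (δ z) ∈ Φ := fun z => hd2 _ (hd1 z)
  have hd3 : ∀ z, δ (δ (δ z)) ∈ Φ := fun z => hd2' (δ z)
  have hd4 : ∀ z, δ (δ (δ (δ z))) ∈ P2 := fun z => by
    obtain ⟨w, hw⟩ := (hΦ ▸ hd2' z : δ (δ z) ∈ (powMonoidHom p : H →* H).range)
    obtain ⟨w', hw'⟩ := (hΦ ▸ hd2' w : δ (δ w) ∈ (powMonoidHom p : H →* H).range)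
    refine ⟨w', ?_⟩
    have e : δ (δ z) = w ^ p := hw.symm
    have e' : δ (δ w) = w' ^ p := hw'.symm
    show w' ^ p ^ 2 = _
    rw [e, map_pow, map_pow, e', ← pow_mul, pow_two]
  have hgP2 : ∀ q ∈ P2, g q ∈ P2 := by
    rintro _ ⟨w, rfl⟩
    exact ⟨g w, (map_pow g w _).symm⟩
  have hgd : ∀ z, g z = δ z * z := fun z => by rw [hδ, inv_mul_cancel_right]
  have hexpand : ∀ n : ℕ, ∃ r ∈ P2, (g ^ n) x =
      r * (x * δ x ^ n * δ (δ x) ^ n.choose 2 * δ (δ (δ x)) ^ n.choose 3) := by
    intro n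
    induction n with
    | zero => exact ⟨1, P2.one_mem, by simp⟩
    | succ n ih =>
      obtain ⟨r, hr', e⟩ := ih
      refine ⟨g r * δ (δ (δ (δ x))) ^ n.choose 3, P2.mul_mem (hgP2 r hr') (P2.pow_mem (hd4 x) _), ?_⟩
      rw [pow_succ', MulAut.mul_apply, e]
      simp only [map_mul, map_pow]
      rw [hgd x, hgd (δ x), hgd (δ (δ x)), hgd (δ (δ (δ x)))]
      rw [Nat.choose_succ_succ' n 1, Nat.choose_succ_succ' n 2, Nat.choose_one_right]
      simp only [mul_pow, pow_succ, pow_add]
      ac_rfl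
  obtain ⟨r, hrP, er⟩ := hexpand p
  rw [hg, MulAut.one_apply] at er
  have hdiv : ∀ i, i ≠ 0 → i < p → ∀ z ∈ Φ, z ^ p.choose i ∈ P2 := by
    intro i h0 hi z hz
    obtain ⟨c, hc⟩ := hp.out.dvd_choose_self h0 hi
    rw [hΦ] at hz
    obtain ⟨w, hw⟩ := hz
    refine ⟨w ^ c, ?_⟩
    show (w ^ c) ^ p ^ 2 = z ^ p.choose i
    rw [← (show w ^ p = z from hw), hc, ← pow_mul, ← pow_mul, pow_two]
    congr 1; ring
  have hpow : δ x ^ p ∈ P2 := by
    have h23 : δ (δ x) ^ p.choose 2 * δ (δ (δ x)) ^ p.choose 3 ∈ P2 :=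
      P2.mul_mem (hdiv 2 two_ne_zero (by omega) _ (hd2' x)) (hdiv 3 three_ne_zero (by omega) _ (hd3 x))
    have e : δ x ^ p = (r * (δ (δ x) ^ p.choose 2 * δ (δ (δ x)) ^ p.choose 3))⁻¹ := by
      have e2 : x = x * ((r * (δ (δ x) ^ p.choose 2 * δ (δ (δ x)) ^ p.choose 3)) * δ x ^ p) := by
        conv_lhs => rw [er]
        ac_rfl
      exact eq_inv_of_mul_eq_one_right (left_eq_mul.1 e2)
    rw [e]
    exact P2.inv_mem (P2.mul_mem hrP h23)
  obtain ⟨w, hw⟩ := hpow
  -- torsion of order `p` lies in the Frattini subgroup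
  have htor : (powMonoidHom p : H →* H).ker ≤ Φ := by
    have hle : (powMonoidHom (p ^ (k - 1)) : H →* H).range ≤ (powMonoidHom p : H →* H).ker := by
      rintro _ ⟨z, rfl⟩
      show (z ^ p ^ (k - 1)) ^ p = 1
      rw [← pow_mul, ← pow_succ, Nat.sub_add_cancel (by omega), hexp]
    -- the kernel of the map to the socle is small
    have hkc : ∀ m, Nat.card (powMonoidHom (p ^ m) : H →* H).ker ≤ (p ^ m) * (p ^ m) := by
      intro m
      induction m with
      | zero =>
        have : (powMonoidHom (p ^ 0) : H →* H).ker = ⊥ := by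
          ext z; simp [MonoidHom.mem_ker]
        rw [this, Subgroup.card_bot]; simp
      | succ m ih =>
        let ψ : (powMonoidHom (p ^ (m + 1)) : H →* H).ker →* (powMonoidHom p : H →* H).ker :=
          ((powMonoidHom (p ^ m)).comp (Subgroup.subtype _)).codRestrict _ fun z => by
            show ((z : H) ^ p ^ m) ^ p = 1
            rw [← pow_mul, ← pow_succ]; exact z.2
        have h1 := ψ.ker.card_mul_index
        rw [Subgroup.index_ker] at h1
        have h2 : Nat.card ψ.range ≤ p ^ 2 := by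
          refine (Subgroup.card_le_card_group _).trans_eq ?_
          rw [card_torsion hH, hr]
        have h3 : Nat.card ψ.ker ≤ Nat.card (powMonoidHom (p ^ m) : H →* H).ker := by
          refine Nat.card_le_card_of_injective (fun z => ⟨((z : (powMonoidHom (p ^ (m + 1)) : H →* H).ker) : H),
            congrArg Subtype.val z.2⟩) fun z z' e => ?_
          have e' := Subtype.ext_iff.1 e
          exact Subtype.ext (Subtype.ext e')
        rw [← h1]
        exact (Nat.mul_le_mul (h3.trans ih) h2).trans_eq (by ring)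
    have hc : Nat.card (powMonoidHom p : H →* H).ker ≤ Nat.card (powMonoidHom (p ^ (k - 1)) : H →* H).range := by
      have h1 := (powMonoidHom (p ^ (k - 1)) : H →* H).ker.card_mul_index
      rw [Subgroup.index_ker, hom] at h1
      have h2 := hkc (k - 1)
      rw [card_torsion hH, hr]
      by_contra hlt
      push Not at hlt
      have h4 : Nat.card (powMonoidHom (p ^ (k - 1)) : H →* H).ker *
          Nat.card (powMonoidHom (p ^ (k - 1)) : H →* H).range < p ^ (k - 1) * p ^ (k - 1) * p ^ 2 :=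
        Nat.mul_lt_mul_of_le_of_lt h2 hlt (by positivity)
      rw [h1, show p ^ (k - 1) * p ^ (k - 1) * p ^ 2 = p ^ (k - 1 + 1) * p ^ (k - 1 + 1) by ring,
        Nat.sub_add_cancel (by omega)] at h4
      exact lt_irrefl _ h4
    rw [← Subgroup.eq_of_le_of_card_ge hle hc, hΦ]
    rintro _ ⟨z, rfl⟩
    refine ⟨z ^ p ^ (k - 2), ?_⟩
    show (z ^ p ^ (k - 2)) ^ p = z ^ p ^ (k - 1)
    rw [← pow_mul, ← pow_succ, show k - 2 + 1 = k - 1 by omega]
  have hmem : δ x * (w ^ p)⁻¹ ∈ Φ := htor (by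
    show (δ x * (w ^ p)⁻¹) ^ p = 1
    rw [mul_pow, inv_pow, ← pow_mul, ← pow_two, show w ^ p ^ 2 = δ x ^ p from hw, mul_inv_cancel])
  have hwΦ : w ^ p ∈ Φ := hΦ ▸ ⟨w, rfl⟩
  have := Φ.mul_mem hmem hwΦ
  rwa [inv_mul_cancel_right, hδ] at this

end Cfsg.Lib.PGroups
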