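/-
`2`-groups with derived subgroup of index four, and their automorphisms of odd order.
-/
import Cfsg.Agent.PGroups.CyclicMaximal
import Cfsg.Agent.Coprime.SolvableBasics

set_option autoImplicit false
set_option linter.style.haveILetI false
set_option linter.unusedSectionVars false

namespace Cfsg.Lib.IndexFour

open Subgroup Cfsg.Lib.MaxClass
open scoped commutatorElement

universe u

/-- a nonabelian `2`-group with derived subgroup of index `4` has maximal class -/
theorem class_eq : ∀ (n : ℕ) (X : Type u) [Group X] [Finite X] [Group.IsNilpotent X], Nat.card X = 2 ^ n → 3 ≤ n →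
    (commutator X).index = 4 → Group.nilpotencyClass X = n - 1 := by
  haveI : Fact (Nat.Prime 2) := ⟨Nat.prime_two⟩
  intro n
  induction n using Nat.strong_induction_on with
  | _ n ih =>
  intro X _ _ _ hX hn h4
  have hP : IsPGroup 2 X := IsPGroup.of_card hX
  have hcard : Nat.card (commutator X) = 2 ^ (n - 2) := by
    have h1 := (commutator X).card_mul_index
    rw [h4, hX, show 2 ^ n = 2 ^ (n - 2) * 4 by
      rw [show (4 : ℕ) = 2 ^ 2 by norm_num, ← pow_add]; congr 1; omega] at h1
    exact Nat.eq_of_mul_eq_mul_right (by norm_num) h1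
  have hne : commutator X ≠ ⊥ := fun hb => by
    rw [hb, card_bot] at hcard
    have : 2 ^ 1 ≤ 2 ^ (n - 2) := Nat.pow_le_pow_right two_pos (by omega)
    omega
  have hnc : ¬ ∀ a b : X, a * b = b * a := fun h => hne <| by
    rw [_root_.commutator_def, commutator_eq_bot_iff_le_centralizer]
    exact fun a _ => mem_centralizer_iff.2 fun b _ => h b a
  rcases Nat.lt_or_ge n 4 with h | h
  · obtain rfl : n = 3 := by omega
    have h1 := class_le 3 X hX (by omega)
    have h2 : ¬ Group.nilpotencyClass X ≤ 1 := fun hle => by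
      rw [← Subgroup.lowerCentralSeries_eq_bot_iff_nilpotencyClass_le, top_lowerCentralSeries_one] at hle
      exact hne hle
    omega
  obtain ⟨z, hz, hzc, hz2⟩ : ∃ z ∈ commutator X, z ∈ center X ∧ orderOf z = 2 := by
    have h1 := Cfsg.Lib.Coprime.inf_center_ne_bot (commutator X) hne
    haveI := Fact.mk Nat.prime_two
    have h2 : 2 ∣ Nat.card ↥(commutator X ⊓ center X) := by
      obtain ⟨k, hk⟩ := IsPGroup.iff_card.1 (hP.to_subgroup (commutator X ⊓ center X))
      rcases Nat.eq_zero_or_pos k with rfl | hk0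
      · exact absurd (card_eq_one.1 (by rw [hk, pow_zero])) h1
      · rw [hk]; exact dvd_pow_self 2 hk0.ne'
    obtain ⟨⟨z, hz⟩, hz2⟩ := exists_prime_orderOf_dvd_card' 2 h2
    exact ⟨z, hz.1, hz.2, by rwa [Subgroup.orderOf_mk] at hz2⟩
  set Z := zpowers z with hZdef
  have hZc : Z ≤ center X := zpowers_le.2 hzc
  haveI : Z.Normal := ⟨fun y hy g => by
    rw [mem_center_iff.1 (hZc hy) g, mul_inv_cancel_right]; exact hy⟩
  have hZcard : Nat.card Z = 2 := by rw [hZdef, Nat.card_zpowers, hz2]
  set π := QuotientGroup.mk' Z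
  have hf : Function.Surjective π := QuotientGroup.mk'_surjective _
  have hker : π.ker = Z := QuotientGroup.ker_mk' Z
  have hq : Nat.card (X ⧸ Z) = 2 ^ (n - 1) := by
    have h1 := card_eq_card_quotient_mul_card_subgroup Z
    rw [hX, hZcard, show 2 ^ n = 2 ^ (n - 1) * 2 by rw [← pow_succ]; congr 1; omega] at h1
    exact (Nat.eq_of_mul_eq_mul_right two_pos h1).symm
  have hq4 : (commutator (X ⧸ Z)).index = 4 := by
    rw [_root_.commutator_def, ← map_top_of_surjective _ hf, ← map_commutator, ← _root_.commutator_def,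
      index_map_eq _ hf (by rw [hker]; exact zpowers_le.2 hz), h4]
  have hqc := ih (n - 1) (by omega) (X ⧸ Z) hq (by omega) hq4
  obtain ⟨C', hC', hCi⟩ := exists_cyclic_index_two (n - 1) (X ⧸ Z) hq (by omega) hqc
  set C := C'.comap π with hCdef
  have hCindex : C.index = 2 := by rw [hCdef, index_comap_of_surjective _ hf, hCi]
  haveI : C.Normal := normal_of_index_eq_two hCindex
  have hCc : ∀ y ∈ C, ∀ w ∈ C, y * w = w * y := by
    obtain ⟨⟨c, hc'⟩, hgen⟩ := hC'.exists_generator
    obtain ⟨a, rfl⟩ := hf c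
    have hdec : ∀ y ∈ C, ∃ i : ℤ, ∃ w ∈ center X, y = a ^ i * w := by
      intro y hy
      obtain ⟨i, hi⟩ := mem_zpowers_iff.1 (hgen ⟨π y, hy⟩)
      refine ⟨i, (a ^ i)⁻¹ * y, hZc ?_, by group⟩
      rw [← hker, MonoidHom.mem_ker, map_mul, map_inv, map_zpow]
      have h1 := congrArg Subtype.val hi
      rw [coe_zpow] at h1
      rw [show (π a) ^ i = π y from h1, inv_mul_cancel]
    intro y hy w hw
    obtain ⟨i, z₁, hz₁, rfl⟩ := hdec y hy
    obtain ⟨j, z₂, hz₂, rfl⟩ := hdec w hw
    exact ((((Commute.refl a).zpow_zpow i j).mul_right (show Commute (a ^ i) z₂ from mem_center_iff.1 hz₂ _)).mul_left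
      (((show Commute z₁ (a ^ j) from (mem_center_iff.1 hz₁ _).symm)).mul_right (show Commute z₁ z₂ from mem_center_iff.1 hz₂ _))).eq
  have hZA : center X ≤ C := fun w hw => by
    by_contra hwC
    refine hnc fun x y => ?_
    have hall : ∀ g : X, ∀ c ∈ C, g * c = c * g := fun g c hc => by
      have hle : C ⊔ zpowers w ≤ centralizer {c} := sup_le
        (fun d hd => mem_centralizer_singleton_iff.2 (hCc d hd c hc))
        (zpowers_le.2 (mem_centralizer_singleton_iff.2 (mem_center_iff.1 hw c).symm))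
      rw [sup_zpowers_eq_top hCindex hwC] at hle
      exact mem_centralizer_singleton_iff.1 (hle (mem_top g))
    have hle : C ⊔ zpowers w ≤ centralizer {y} := sup_le
      (fun d hd => mem_centralizer_singleton_iff.2 (hall y d hd).symm)
      (zpowers_le.2 (mem_centralizer_singleton_iff.2 (mem_center_iff.1 hw y).symm))
    rw [sup_zpowers_eq_top hCindex hwC] at hle
    exact mem_centralizer_singleton_iff.1 (hle (mem_top x))
  obtain ⟨b, hb⟩ : ∃ b, b ∉ C := by
    by_contra hall
    push Not at hall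
    rw [(eq_top_iff' C).2 hall, index_top] at hCindex
    omega
  have h5 := card_commutator_mul_card_center C hCc b (sup_zpowers_eq_top hCindex hb) hZA
  have hCcard : Nat.card C = 2 ^ (n - 2) * 2 := by
    have h1 := C.card_mul_index
    rw [hCindex, hX, show 2 ^ n = 2 ^ (n - 2) * 2 * 2 by rw [← pow_succ, ← pow_succ]; congr 1; omega] at h1
    exact Nat.eq_of_mul_eq_mul_right two_pos h1
  rw [hcard, hCcard] at h5
  have hcent : center X = Z :=
    (eq_of_le_of_card_ge hZc (by rw [Nat.eq_of_mul_eq_mul_left (Nat.two_pow_pos _) h5, hZcard])).symm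
  have e : Group.nilpotencyClass (X ⧸ center X) = Group.nilpotencyClass (X ⧸ Z) :=
    le_antisymm
      (nilpotencyClass_le_of_surjective (QuotientGroup.quotientMulEquivOfEq hcent).symm.toMonoidHom (MulEquiv.surjective _))
      (nilpotencyClass_le_of_surjective (QuotientGroup.quotientMulEquivOfEq hcent).toMonoidHom (MulEquiv.surjective _))
  haveI : Nontrivial X := Finite.one_lt_card_iff_nontrivial.1 (hX ▸ Nat.one_lt_pow (by omega) one_lt_two)
  rw [Group.nilpotencyClass_eq_quotient_center_plus_one, e, hqc]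
  omega

theorem quaternion_of_aut {P : Type u} [Group P] [Finite P] (hP : IsPGroup 2 P)
    (hna : ¬ IsMulCommutative P) (h4 : (commutator P).index = 4) (haut : ¬ IsPGroup 2 (MulAut P)) :
    Nonempty (P ≃* QuaternionGroup 2) := by
  haveI hF : Fact (Nat.Prime 2) := ⟨Nat.prime_two⟩
  haveI := hP.isNilpotent
  obtain ⟨n, hX⟩ := IsPGroup.iff_card.1 hP
  have hn : 3 ≤ n := by
    by_contra hlt
    refine hna ?_
    obtain h | h : n = 2 ∨ n ≤ 1 := by omega
    · exact IsPGroup.isMulCommutative_of_card_eq_prime_sq (p := 2) (h ▸ hX)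
    · haveI : IsCyclic P := by
        interval_cases n
        · haveI : Subsingleton P := (Nat.card_eq_one_iff_unique.1 (by simpa using hX)).1
          infer_instance
        · exact isCyclic_of_prime_card (p := 2) (by simpa using hX)
      letI : CommGroup P := IsCyclic.commGroup
      exact ⟨⟨mul_comm⟩⟩
  have hc := class_eq n P hX hn h4
  obtain ⟨C, hC, hCi⟩ := exists_cyclic_index_two n P hX hn hc
  haveI : C.Normal := normal_of_index_eq_two hCi
  obtain ⟨hZA, hout⟩ := outside hX hn hc hC hCi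
  obtain ⟨hZ2, -, -⟩ := center_facts n P hX hn hc
  have hCcard : Nat.card C = 2 ^ (n - 1) := by
    have h1 := C.card_mul_index
    rw [hCi, hX, show 2 ^ n = 2 ^ (n - 1) * 2 by rw [← pow_succ]; congr 1; omega] at h1
    exact Nat.eq_of_mul_eq_mul_right two_pos h1
  obtain ⟨⟨a, ha⟩, hgen⟩ := hC.exists_generator
  have hCa : C = zpowers a := le_antisymm (fun x hx => by
    obtain ⟨i, hi⟩ := mem_zpowers_iff.1 (hgen ⟨x, hx⟩)
    exact mem_zpowers_iff.2 ⟨i, by simpa using congrArg Subtype.val hi⟩) (zpowers_le.2 ha)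
  have hao : orderOf a = 2 ^ (n - 1) := by rw [← Nat.card_zpowers, ← hCa, hCcard]
  -- an automorphism of odd prime order
  obtain ⟨φ, q, hq, hq2, hφ⟩ : ∃ (φ : MulAut P) (q : ℕ), q.Prime ∧ q ≠ 2 ∧ orderOf φ = q := by
    by_contra! hno
    refine haut (IsPGroup.of_card (n := (Nat.card (MulAut P)).factorization 2) ?_)
    refine Nat.eq_of_factorization_eq Nat.card_pos.ne' (Nat.two_pow_pos _).ne' fun r => ?_
    rw [Nat.Prime.factorization_pow Nat.prime_two, Finsupp.single_apply]
    split_ifs with h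
    · rw [h]
    · by_contra hr
      have hrp := Nat.prime_of_mem_primeFactors (Nat.support_factorization _ ▸ Finsupp.mem_support_iff.2 hr)
      haveI := Fact.mk hrp
      obtain ⟨ψ, hψ⟩ := exists_prime_orderOf_dvd_card' r (Nat.dvd_of_factorization_pos hr)
      exact hno ψ r hrp (fun e => h e.symm) hψ
  have hφ1 : φ ≠ 1 := fun h => by
    rw [h, orderOf_one] at hφ
    exact hq.one_lt.ne hφ
  by_cases hfix : φ a ∈ C
  · -- `φ` stabilizes `C`, hence is trivial
    exfalso
    have hC' : ∀ x ∈ C, φ x ∈ C := fun x hx => by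
      rw [hCa] at hx
      obtain ⟨i, rfl⟩ := mem_zpowers_iff.1 hx
      rw [map_zpow]
      exact zpow_mem hfix i
    have hφC : ∀ x ∈ C, φ x = x := by
      obtain ⟨i, hi⟩ := mem_zpowers_iff.1 (hCa ▸ hfix)
      have hpow : ∀ j : ℕ, (φ ^ j) a = a ^ (i ^ j) := by
        intro j
        induction j with
        | zero => simp
        | succ j ih =>
          rw [pow_succ', MulAut.mul_apply, ih, map_zpow, ← hi, ← zpow_mul, pow_succ', mul_comm]
      have h1 := hpow q
      rw [← hφ, pow_orderOf_eq_one, MulAut.one_apply, hφ] at h1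
      have h2 : a ^ (i ^ q - 1) = 1 := by rw [zpow_sub, ← h1, zpow_one, mul_inv_cancel]
      have h3 := orderOf_dvd_iff_zpow_eq_one.2 h2
      rw [hao] at h3
      push_cast at h3
      -- `i ^ q ≡ 1` forces `i ≡ 1`
      obtain ⟨t, ht⟩ : Odd i := by
        rcases Int.even_or_odd i with ⟨t, ht⟩ | h
        · exfalso
          have h4 : (2 : ℤ) ∣ i ^ q - 1 := (dvd_pow_self 2 (by omega : n - 1 ≠ 0)).trans h3
          have h5 : (2 : ℤ) ∣ i ^ q := Dvd.dvd.pow ⟨t, by rw [ht]; ring⟩ hq.ne_zero
          have h6 := Int.dvd_sub h5 h4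
          norm_num at h6
        · exact h
      have hq' : Odd q := hq.odd_of_ne_two hq2
      have hodd : Odd (∑ j ∈ Finset.range q, i ^ j) := by
        have hi' : ((i : ℤ) : ZMod 2) = 1 := by
          have h0 : (2 : ZMod 2) = 0 := rfl
          rw [ht]; push_cast; rw [h0, zero_mul, zero_add]
        have : (((∑ j ∈ Finset.range q, i ^ j : ℤ)) : ZMod 2) = 1 := by
          push_cast
          rw [hi']
          simp only [one_pow, Finset.sum_const, Finset.card_range, nsmul_eq_mul, mul_one]
          exact ZMod.natCast_eq_one_iff_odd.2 hq'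
        rw [← Int.not_even_iff_odd, even_iff_two_dvd]
        intro hd
        rw [(ZMod.intCast_zmod_eq_zero_iff_dvd _ 2).2 (by exact_mod_cast hd)] at this
        exact zero_ne_one this
      rw [← geom_sum_mul i q] at h3
      have hcop : IsCoprime ((2 : ℤ) ^ (n - 1)) (∑ j ∈ Finset.range q, i ^ j) := by
        refine IsCoprime.pow_left ?_
        obtain ⟨s, hs⟩ := hodd
        exact ⟨-s, 1, by rw [hs]; ring⟩
      have h7 : a ^ (i - 1) = 1 := orderOf_dvd_iff_zpow_eq_one.1 (by
        rw [hao]; push_cast; exact hcop.dvd_of_dvd_mul_left h3)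
      rw [zpow_sub, zpow_one, mul_inv_eq_one] at h7
      intro x hx
      rw [hCa] at hx
      obtain ⟨j, rfl⟩ := mem_zpowers_iff.1 hx
      rw [map_zpow, ← hi, h7]
    refine hφ1 (MulEquiv.ext fun x => ?_)
    by_cases hx : x ∈ C
    · exact hφC x hx
    have hφx : φ x ∉ C := fun h => by
      have h1 : ∀ j : ℕ, (φ ^ (j + 1)) x ∈ C := by
        intro j
        induction j with
        | zero => simpa using h
        | succ j ih => rw [pow_succ', MulAut.mul_apply]; exact hC' _ ih
      have h2 := h1 (q - 1)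
      rw [Nat.sub_add_cancel hq.one_lt.le, ← hφ, pow_orderOf_eq_one] at h2
      exact hx h2
    have hd : x⁻¹ * φ x ∈ C :=
      (mul_mem_iff_of_index_two hCi).2 (by simp [inv_mem_iff, hx, hφx])
    have hpow : ∀ j : ℕ, (φ ^ j) x = x * (x⁻¹ * φ x) ^ j := by
      intro j
      induction j with
      | zero => simp
      | succ j ih =>
        rw [pow_succ', MulAut.mul_apply, ih, map_mul, map_pow, hφC _ hd, pow_succ' (x⁻¹ * φ x) j, ← mul_assoc x, mul_inv_cancel_left]
    have h1 := hpow q
    rw [← hφ, pow_orderOf_eq_one, MulAut.one_apply, hφ] at h1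
    have h2 : (x⁻¹ * φ x) ^ q = 1 := (mul_eq_left.1 h1.symm)
    have h3 : orderOf (x⁻¹ * φ x) ∣ 2 ^ (n - 1) := hCcard ▸ Subgroup.orderOf_dvd_natCard C hd
    have h4 := Nat.eq_one_of_dvd_coprimes
      (Nat.Coprime.pow_right _ ((Nat.coprime_primes hq Nat.prime_two).2 hq2)) (orderOf_dvd_of_pow_eq_one h2) h3
    exact (inv_mul_eq_one.1 (orderOf_eq_one_iff.1 h4)).symm
  · -- a second cyclic maximal subgroup
    set x := φ a with hxdef
    have hxo : orderOf x = 2 ^ (n - 1) := by rw [hxdef, MulEquiv.orderOf_eq, hao]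
    obtain ⟨hxsq, -⟩ := hout x hfix
    have hx4 : (x ^ 2) ^ 2 = 1 := by
      have h1 := pow_card_eq_one' (G := center P) (x := ⟨_, hxsq⟩)
      rw [hZ2] at h1
      exact congrArg Subtype.val h1
    have h1 : 2 ^ (n - 1) ∣ 2 ^ 2 := by
      rw [← hxo]
      exact orderOf_dvd_of_pow_eq_one (by rwa [← pow_mul] at hx4)
    have hn3 : n = 3 := by
      have := (Nat.pow_dvd_pow_iff_le_right one_lt_two).1 h1
      omega
    subst hn3
    have ho4 : orderOf x = 4 := by rw [hxo]; norm_num
    have ha4 : orderOf a = 4 := by rw [hao]; norm_num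
    have hsqne : ∀ g : P, orderOf g = 4 → g ^ 2 ≠ 1 := fun g hg h => by
      have := orderOf_dvd_of_pow_eq_one h
      rw [hg] at this
      norm_num at this
    -- the nontrivial central element
    have ha2 : a ^ 2 ∈ center P := by
      obtain ⟨w, hw, hw1⟩ : ∃ w ∈ center P, w ≠ 1 := ⟨x ^ 2, hxsq, hsqne x ho4⟩
      have hwC := hZA hw
      rw [hCa] at hwC
      obtain ⟨j, rfl⟩ := mem_zpowers_iff.1 hwC
      have hj : (a ^ j) ^ 2 = 1 := by
        have h1 := pow_card_eq_one' (G := center P) (x := ⟨_, hw⟩)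
        rw [hZ2] at h1
        exact congrArg Subtype.val h1
      rw [← zpow_natCast (a ^ j), ← zpow_mul, ← orderOf_dvd_iff_zpow_eq_one, ha4] at hj
      rcases Int.even_or_odd j with ⟨t, rfl⟩ | ⟨t, rfl⟩
      · rcases Int.even_or_odd t with ⟨s, rfl⟩ | ⟨s, rfl⟩
        · exact absurd (orderOf_dvd_iff_zpow_eq_one.1 (by rw [ha4]; exact ⟨s, by push_cast; ring⟩)) hw1
        · have e : a ^ (2 : ℕ) = a ^ (2 * s + 1 + (2 * s + 1)) * (a ^ (4 : ℤ)) ^ (-s) := by
            rw [← zpow_mul, ← zpow_add, show (2 * s + 1 + (2 * s + 1)) + 4 * -s = ((2 : ℕ) : ℤ) by push_cast; ring,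
              zpow_natCast]
          have h4' : a ^ (4 : ℤ) = 1 := orderOf_dvd_iff_zpow_eq_one.1 (by rw [ha4]; rfl)
          rw [e, h4', one_zpow, mul_one]
          exact hw
      · exfalso
        push_cast at hj
        omega
    have hu : ∀ w ∈ center P, w ≠ 1 → w = a ^ 2 := fun w hw hw1 => by
      obtain ⟨u, -, hu⟩ := (Nat.card_eq_two_iff' (1 : center P)).1 hZ2
      have e1 := hu ⟨w, hw⟩ fun h => hw1 (congrArg Subtype.val h)
      have e2 := hu ⟨a ^ 2, ha2⟩ fun h => hsqne a ha4 (congrArg Subtype.val h)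
      exact congrArg Subtype.val (e1.trans e2.symm)
    have hnotcomm : ¬ Commute x a := fun h => hfix <| by
      have := (hout x hfix).2.le ⟨ha, mem_centralizer_singleton_iff.2 h.eq.symm⟩
      exfalso
      have h2 := pow_card_eq_one' (G := center P) (x := ⟨a, this⟩)
      rw [hZ2] at h2
      exact hsqne a ha4 (congrArg Subtype.val h2)
    have hconj : x * a * x⁻¹ = a ^ (-1 : ℤ) := by
      have hm : x * a * x⁻¹ ∈ zpowers a := hCa ▸ (inferInstance : C.Normal).conj_mem a ha x
      obtain ⟨j, hj⟩ := mem_zpowers_iff.1 hm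
      rw [← hj]
      have hjo : orderOf (a ^ j) = 4 := by
        rw [hj, ← ha4]
        exact (orderOf_injective (MulAut.conj x).toMonoidHom (MulAut.conj x).injective a)
      rw [← zpow_mod_orderOf, ← zpow_mod_orderOf a (-1), ha4]
      have h0 : 0 ≤ j % 4 := Int.emod_nonneg j (by norm_num)
      have h3 : j % 4 < 4 := Int.emod_lt_of_pos j (by norm_num)
      push_cast
      have hj4 : a ^ j = a ^ (j % 4) := by rw [← zpow_mod_orderOf, ha4]; rfl
      rw [hj4] at hjo hj
      interval_cases h : j % 4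
      · rw [zpow_zero, orderOf_one] at hjo; omega
      · refine absurd ?_ hnotcomm
        rw [zpow_one] at hj
        exact mul_inv_eq_iff_eq_mul.1 hj.symm
      · exfalso
        have h2 : (a ^ (2 : ℤ)) ^ 2 = 1 := by
          rw [← zpow_natCast (a ^ (2 : ℤ)), ← zpow_mul, ← orderOf_dvd_iff_zpow_eq_one, ha4]; rfl
        exact hsqne _ hjo h2
      · rfl
    have hsq : x * x = a ^ ((2 : ℤ) ^ (2 - 1)) := by
      rw [show (2 : ℤ) ^ (2 - 1) = ((2 : ℕ) : ℤ) by norm_num, zpow_natCast, ← pow_two]
      exact hu _ hxsq (hsqne x ho4)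
    exact Cfsg.Lib.CyclicMax.toQuaternion
      ⟨by rw [ha4]; norm_num, by rw [hX], hCa ▸ hfix, hconj, hsq⟩ (le_refl 2)

end Cfsg.Lib.IndexFour
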