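/-
The Hall–Petrescu identity `a^n b^n = (ab)^n c₂^(n choose 2) ⋯ cₙ^(n choose n)` with `cᵢ` in the
`i`-th term of the lower central series, and the regularity of `p`-groups of class less than `p`.
-/
import Cfsg.Prelude

set_option autoImplicit false
set_option linter.unusedSectionVars false

namespace Cfsg.Lib.PGroups.HallPetrescu

open Subgroup
open scoped commutatorElement

universe u

variable {G : Type u} [Group G]

/-- `(ab)^(-n) a^n b^n`. -/
def defect (a b : G) (n : ℕ) : G := ((a * b) ^ n)⁻¹ * a ^ n * b ^ n

/-- The partial product `c₀^(n choose 0) ⋯ c_{k-1}^(n choose k-1)`. -/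
def partialProd (a b : G) : ℕ → ℕ → G
  | 0, _ => 1
  | k + 1, n => partialProd a b k n * ((partialProd a b k k)⁻¹ * defect a b k) ^ n.choose k

/-- The Hall–Petrescu elements. -/
def coeff (a b : G) (k : ℕ) : G := (partialProd a b k k)⁻¹ * defect a b k

theorem defect_eq (a b : G) (n : ℕ) : defect a b n = partialProd a b (n + 1) n := by
  simp [partialProd]

theorem partialProd_mem (a b : G) (H : Subgroup G) (n : ℕ) :
    ∀ k, (∀ i < k, coeff a b i ^ n.choose i ∈ H) → partialProd a b k n ∈ H
  | 0, _ => one_mem H
  | k + 1, h => mul_mem (partialProd_mem a b H n k fun i hi => h i (by omega)) (h k (by omega))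

theorem list_prod_ite {α : Type*} (l : List α) (q : α → Prop) [DecidablePred q] (f : α → G) :
    (l.map fun i => if q i then f i else 1).prod = ((l.filter (fun i => decide (q i))).map f).prod := by
  induction l with
  | nil => rfl
  | cons x l ih => by_cases hx : q x <;> simp [hx, ih]

section Free

variable (m : ℕ)

abbrev Gen := Fin m × Bool

abbrev F := FreeGroup (Gen m)

def genX (i : Fin m) : F m := FreeGroup.of (i, true)

def genY (i : Fin m) : F m := FreeGroup.of (i, false)

def word (S : Finset (Fin m)) : F m :=
  let l := (List.finRange m).filter (fun i => decide (i ∈ S))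
  ((l.map fun i => genX m i * genY m i).prod)⁻¹ * (l.map (genX m)).prod * (l.map (genY m)).prod

noncomputable def level (k : ℕ) : List (Finset (Fin m)) := (Finset.univ.powersetCard k).toList

noncomputable def pre : ℕ → Finset (Fin m) → F m
  | 0, _ => 1
  | k + 1, S => pre k S * ((level m k).map fun T => if T ⊆ S then (pre k T)⁻¹ * word m T else 1).prod

noncomputable def piece (S : Finset (Fin m)) : F m := (pre m S.card S)⁻¹ * word m S

def erase (t : Fin m) : F m →* F m := FreeGroup.lift fun x => if x.1 = t then 1 else FreeGroup.of x

theorem erase_word (t : Fin m) (S : Finset (Fin m)) : erase m t (word m S) = word m (S.erase t) := by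
  have key : ∀ f : Fin m → F m, (∀ i, erase m t (f i) = if i ≠ t then f i else 1) →
      erase m t (((List.finRange m).filter (fun i => decide (i ∈ S))).map f).prod =
        (((List.finRange m).filter (fun i => decide (i ∈ S.erase t))).map f).prod := by
    intro f hf
    rw [map_list_prod, List.map_map, show (erase m t : F m → F m) ∘ f = fun i => if i ≠ t then f i else 1 from
      funext hf, list_prod_ite, List.filter_filter]
    congr 2
    refine List.filter_congr fun i _ => ?_
    simp [Finset.mem_erase]
  simp only [word, map_mul, map_inv]
  rw [key _ fun i => ?_, key _ fun i => ?_, key _ fun i => ?_]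
  all_goals by_cases h : i = t <;> simp [erase, genX, genY, h]

theorem mem_level {k : ℕ} {T : Finset (Fin m)} : T ∈ level m k ↔ T.card = k := by
  simp [level, Finset.mem_powersetCard]

theorem erase_piece_fix (t : Fin m) : ∀ (k : ℕ) (T : Finset (Fin m)), t ∉ T → erase m t (pre m k T) = pre m k T
  | 0, T, _ => map_one _
  | k + 1, T, hT => by
    rw [pre, map_mul, erase_piece_fix t k T hT, map_list_prod, List.map_map]
    congr 2
    refine List.map_congr_left fun U _ => ?_
    by_cases hU : U ⊆ T
    · simp [hU, erase_piece_fix t k U fun h => hT (hU h), erase_word,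
        Finset.erase_eq_of_notMem fun h => hT (hU h)]
    · simp [hU]

theorem pre_succ_self (S : Finset (Fin m)) : pre m (S.card + 1) S = word m S := by
  rw [pre, list_prod_ite]
  have h : (level m S.card).filter (fun T => decide (T ⊆ S)) = [S] := by
    have hn : ((level m S.card).filter (fun T => decide (T ⊆ S))).Nodup := (Finset.nodup_toList _).filter _
    refine List.perm_singleton.1 ((List.perm_ext_iff_of_nodup hn (List.nodup_singleton S)).2 fun T => ?_)
    simp only [List.mem_filter, mem_level, decide_eq_true_eq, List.mem_singleton]
    exact ⟨fun ⟨h1, h2⟩ => Finset.eq_of_subset_of_card_le h2 h1.ge, fun h => by subst h; exact ⟨rfl, subset_rfl⟩⟩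
  rw [h]
  simp

theorem erase_piece (t : Fin m) : ∀ (n : ℕ) (S : Finset (Fin m)), S.card = n → t ∈ S → erase m t (piece m S) = 1 := by
  intro n
  induction n using Nat.strong_induction_on with
  | _ n ih =>
    intro S hS ht
    have hlev : ∀ k, k ≤ n → erase m t (pre m k S) = pre m k (S.erase t) := by
      intro k
      induction k with
      | zero => exact fun _ => map_one _
      | succ k ihk =>
        intro hk
        rw [pre, pre, map_mul, ihk (by omega), map_list_prod, List.map_map]
        congr 2
        refine List.map_congr_left fun U hU => ?_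
        have hUc := (mem_level m).1 hU
        by_cases hUt : t ∈ U
        · have h1 : ¬ U ⊆ S.erase t := fun h => (Finset.mem_erase.1 (h hUt)).1 rfl
          by_cases hUS : U ⊆ S
          · have := ih k (by omega) U hUc hUt
            rw [piece, hUc] at this
            simp only [Function.comp, hUS, h1, if_true, if_false]
            exact this
          · simp [hUS, h1]
        · by_cases hUS : U ⊆ S
          · simp [hUS, Finset.subset_erase.2 ⟨hUS, hUt⟩, erase_piece_fix m t k U hUt, erase_word,
              Finset.erase_eq_of_notMem hUt]
          · have h1 : ¬ U ⊆ S.erase t := fun h => hUS (h.trans (Finset.erase_subset _ _))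
            simp [hUS, h1]
    rw [piece, map_mul, map_inv, hlev S.card hS.le, erase_word]
    have : S.card = (S.erase t).card + 1 := (Finset.card_erase_add_one ht).symm
    rw [this, pre_succ_self, inv_mul_cancel]

def letter (x : Gen m × Bool) : F m := if x.2 then FreeGroup.of x.1 else (FreeGroup.of x.1)⁻¹

def iterComm (x : Gen m × Bool) (l : List (Gen m × Bool)) : F m :=
  l.foldl (fun c y => ⁅c, letter m y⁆) (letter m x)

/-- Generated by the iterated commutators of letters involving every index in `T`. -/
def involving (T : Finset (Fin m)) : Subgroup (F m) :=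
  closure {g | ∃ x l, T ⊆ ((x :: l).map fun y => y.1.1).toFinset ∧ iterComm m x l = g}

theorem letter_conj_mem (T : Finset (Fin m)) (y : Gen m × Bool) :
    ∀ g ∈ involving m T, letter m y * g * (letter m y)⁻¹ ∈ involving m T := by
  intro g hg
  have : involving m T ≤ (involving m T).comap (MulAut.conj (letter m y)).toMonoidHom := by
    refine (closure_le _).2 ?_
    rintro _ ⟨x, l, hT, rfl⟩
    show letter m y * iterComm m x l * (letter m y)⁻¹ ∈ involving m T
    have h1 : iterComm m x (l ++ [y]) ∈ involving m T := subset_closure
      ⟨x, l ++ [y], hT.trans (fun i => by simp; tauto), rfl⟩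
    have e : letter m y * iterComm m x l * (letter m y)⁻¹ = (iterComm m x (l ++ [y]))⁻¹ * iterComm m x l := by
      simp only [iterComm, List.foldl_append, List.foldl_cons, List.foldl_nil, commutatorElement_def]
      group
    rw [e]
    exact mul_mem (inv_mem h1) (subset_closure ⟨x, l, hT, rfl⟩)
  exact this hg

theorem involving_normal (T : Finset (Fin m)) : (involving m T).Normal := by
  refine normalizer_eq_top_iff.1 (top_le_iff.1 (FreeGroup.closure_range_of (Gen m) ▸ (closure_le _).2 ?_))
  rintro _ ⟨x, rfl⟩
  refine mem_normalizer_iff.2 fun g => ⟨fun h => letter_conj_mem m T (x, true) g h, fun h => ?_⟩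
  have := letter_conj_mem m T (x, false) _ h
  simpa [letter, mul_assoc] using this

theorem mem_involving {g : F m} : ∀ T : Finset (Fin m), (∀ t ∈ T, erase m t g = 1) → g ∈ involving m T := by
  intro T
  induction T using Finset.induction_on with
  | empty =>
    intro _
    have h : (⊤ : Subgroup (F m)) ≤ involving m ∅ := by
      rw [← FreeGroup.closure_range_of (Gen m), closure_le]
      rintro _ ⟨x, rfl⟩
      exact subset_closure ⟨(x, true), [], Finset.empty_subset _, rfl⟩
    exact h (mem_top g)
  | @insert t T ht ih =>
    intro h
    haveI := involving_normal m (insert t T)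
    let π := QuotientGroup.mk' (involving m (insert t T))
    have hle : involving m T ≤ π.eqLocus (π.comp (erase m t)) := by
      refine (closure_le _).2 ?_
      rintro _ ⟨x, l, hT, rfl⟩
      show π (iterComm m x l) = π (erase m t (iterComm m x l))
      by_cases htl : t ∈ ((x :: l).map fun y => y.1.1).toFinset
      · have h1 : iterComm m x l ∈ involving m (insert t T) :=
          subset_closure ⟨x, l, Finset.insert_subset htl hT, rfl⟩
        have h2 : erase m t (iterComm m x l) = 1 ∨ erase m t (iterComm m x l) = iterComm m x l := by
          left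
          have hkill : ∀ (l : List (Gen m × Bool)) (c : F m), (erase m t c = 1 ∨ ∃ y ∈ l, y.1.1 = t) →
              erase m t (l.foldl (fun c y => ⁅c, letter m y⁆) c) = 1 := by
            intro l
            induction l with
            | nil => rintro c (hc | ⟨y, hy, _⟩); exacts [hc, absurd hy List.not_mem_nil]
            | cons y l ihl =>
              rintro c (hc | ⟨z, hz, hzt⟩)
              · exact ihl _ (Or.inl (by rw [map_commutatorElement, hc, commutatorElement_one_left]))
              · rcases List.mem_cons.1 hz with rfl | hz
                · refine ihl _ (Or.inl ?_)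
                  have : erase m t (letter m z) = 1 := by
                    unfold letter; split <;> simp [erase, hzt]
                  rw [map_commutatorElement, this, commutatorElement_one_right]
                · exact ihl _ (Or.inr ⟨z, hz, hzt⟩)
          simp only [List.map_cons, List.toFinset_cons, Finset.mem_insert, List.mem_toFinset, List.mem_map] at htl
          rcases htl with hx | ⟨y, hy, hyt⟩
          · exact hkill l _ (Or.inl (by unfold letter; split <;> simp [erase, ← hx]))
          · exact hkill l _ (Or.inr ⟨y, hy, hyt⟩)
        rcases h2 with h2 | h2 <;> rw [h2]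
        rw [map_one]
        exact (QuotientGroup.eq_one_iff _).2 h1
      · have hfix : ∀ y ∈ x :: l, erase m t (letter m y) = letter m y := fun y hy => by
          have : y.1.1 ≠ t := fun e => htl (List.mem_toFinset.2 (List.mem_map.2 ⟨y, hy, e⟩))
          unfold letter; split <;> simp [erase, this]
        have hfold : ∀ (l : List (Gen m × Bool)) (c : F m), erase m t c = c →
            (∀ y ∈ l, erase m t (letter m y) = letter m y) →
            erase m t (l.foldl (fun c y => ⁅c, letter m y⁆) c) = l.foldl (fun c y => ⁅c, letter m y⁆) c := by
          intro l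
          induction l with
          | nil => exact fun c hc _ => hc
          | cons y l ihl =>
            intro c hc hl
            exact ihl _ (by rw [map_commutatorElement, hc, hl y List.mem_cons_self])
              fun z hz => hl z (List.mem_cons_of_mem _ hz)
        unfold iterComm
        rw [hfold l _ (hfix x List.mem_cons_self) fun y hy => hfix y (List.mem_cons_of_mem _ hy)]
    have h3 := hle (ih fun s hs => h s (Finset.mem_insert_of_mem hs))
    have h4 : π g = π (erase m t g) := h3
    rw [h t (Finset.mem_insert_self t T), map_one] at h4
    exact (QuotientGroup.eq_one_iff _).1 h4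

theorem involving_univ_le : involving m Finset.univ ≤ (⊤ : Subgroup (F m)).lowerCentralSeries (m - 1) := by
  refine (closure_le _).2 ?_
  rintro _ ⟨x, l, hT, rfl⟩
  have hlen : m ≤ l.length + 1 := by
    have := (Finset.card_le_card hT).trans (List.toFinset_card_le _)
    simpa using this
  have hl : ∀ (l : List (Gen m × Bool)) (c : F m) (j : ℕ), c ∈ (⊤ : Subgroup (F m)).lowerCentralSeries j →
      l.foldl (fun c y => ⁅c, letter m y⁆) c ∈ (⊤ : Subgroup (F m)).lowerCentralSeries (j + l.length) := by
    intro l
    induction l with
    | nil => exact fun c j h => h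
    | cons y l ihl =>
      intro c j h
      have := ihl ⁅c, letter m y⁆ (j + 1) (commutator_mem_commutator h (mem_top _))
      rwa [List.length_cons, show j + (l.length + 1) = j + 1 + l.length by omega]
  exact Subgroup.lowerCentralSeries_antitone _ (show m - 1 ≤ 0 + l.length by omega) (hl l _ 0 (mem_top _))

variable {m}

def spec (a b : G) : F m →* G := FreeGroup.lift fun x => if x.2 then a else b

theorem spec_word (a b : G) (S : Finset (Fin m)) : spec a b (word m S) = defect a b S.card := by
  have hlen : ((List.finRange m).filter (fun i => decide (i ∈ S))).length = S.card := by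
    rw [← List.toFinset_card_of_nodup ((List.nodup_finRange m).filter _)]
    congr 1
    ext i
    simp
  have key : ∀ (f : Fin m → F m) (v : G), (∀ i, spec a b (f i) = v) →
      spec a b (((List.finRange m).filter (fun i => decide (i ∈ S))).map f).prod = v ^ S.card := by
    intro f v hf
    rw [map_list_prod, List.map_map, List.prod_eq_pow_card _ v (fun z hz => ?_), List.length_map, hlen]
    obtain ⟨i, -, rfl⟩ := List.mem_map.1 hz
    exact hf i
  simp only [word, map_mul, map_inv, defect]
  rw [key _ (a * b) fun i => by simp [spec, genX, genY], key _ a fun i => by simp [spec, genX],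
    key _ b fun i => by simp [spec, genY]]

theorem spec_pre (a b : G) : ∀ (k : ℕ) (S : Finset (Fin m)), spec a b (pre m k S) = partialProd a b k S.card
  | 0, S => map_one _
  | k + 1, S => by
    rw [pre, partialProd, map_mul, spec_pre a b k S, map_list_prod, List.map_map]
    congr 1
    have e : ((level m k).map ((spec a b : F m → G) ∘ fun T => if T ⊆ S then (pre m k T)⁻¹ * word m T else 1)) =
        (level m k).map fun T => if T ⊆ S then (partialProd a b k k)⁻¹ * defect a b k else 1 := by
      refine List.map_congr_left fun T hT => ?_
      by_cases hTS : T ⊆ S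
      · simp [hTS, spec_pre a b k T, spec_word, (mem_level m).1 hT]
      · simp [hTS]
    rw [e, list_prod_ite, List.map_const', List.prod_replicate]
    congr 1
    rw [← List.toFinset_card_of_nodup (show ((level m k).filter fun T => decide (T ⊆ S)).Nodup from (Finset.nodup_toList _).filter _),
      ← Finset.card_powersetCard]
    congr 1
    ext T
    simp [mem_level, Finset.mem_powersetCard, and_comm]

end Free

theorem coeff_mem (a b : G) (k : ℕ) :
    coeff a b k ∈ (closure ({a, b} : Set G)).lowerCentralSeries (k - 1) := by
  have hc : spec a b (piece k Finset.univ) = coeff a b k := by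
    simp [piece, coeff, spec_pre, spec_word]
  rw [← hc]
  have hr : (⊤ : Subgroup (F k)).map (spec a b) ≤ closure ({a, b} : Set G) := by
    rw [← FreeGroup.closure_range_of (Gen k), MonoidHom.map_closure, closure_le]
    rintro _ ⟨_, ⟨⟨i, s⟩, rfl⟩, rfl⟩
    cases s
    · exact subset_closure (by simp [spec])
    · exact subset_closure (by simp [spec])
  have h2 : spec a b (piece k Finset.univ) ∈
      ((⊤ : Subgroup (F k)).lowerCentralSeries (k - 1)).map (spec a b) :=
    mem_map_of_mem _ (involving_univ_le k (mem_involving k _ fun t _ => erase_piece k t _ _ rfl (Finset.mem_univ t)))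
  rw [map_lowerCentralSeries] at h2
  have hm : ∀ j, ((⊤ : Subgroup (F k)).map (spec a b)).lowerCentralSeries j ≤
      (closure ({a, b} : Set G)).lowerCentralSeries j := by
    intro j
    induction j with
    | zero => exact hr
    | succ j ihj => exact commutator_mono ihj hr
  exact hm _ h2

theorem pow_dvd_choose {p : ℕ} (hp : p.Prime) {i : ℕ} (h1 : 1 ≤ i) (h2 : i < p) (n : ℕ) :
    p ^ n ∣ (p ^ n).choose i := by
  have hN : 0 < p ^ n := pow_pos hp.pos n
  obtain ⟨N, hNe⟩ : ∃ N, p ^ n = N + 1 := ⟨p ^ n - 1, by omega⟩
  obtain ⟨j, rfl⟩ : ∃ j, i = j + 1 := ⟨i - 1, by omega⟩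
  have h := Nat.add_one_mul_choose_eq N j
  refine (Nat.Coprime.dvd_of_dvd_mul_right ?_ ⟨N.choose j, (hNe ▸ h).symm⟩)
  exact Nat.Coprime.pow_left n ((hp.coprime_iff_not_dvd).2 fun hd => by
    have := Nat.le_of_dvd (by omega) hd
    omega)

/-- A `p`-group of class less than `p` is regular. -/
theorem isRegular_of_class_lt {p : ℕ} [hp : Fact p.Prime] (hG : IsPGroup p G)
    (hcl : (⊤ : Subgroup G).lowerCentralSeries (p - 1) = ⊥) : Cfsg.IsRegularPGroup p G := by
  refine ⟨hG, fun a b n => ⟨(defect a b (p ^ n))⁻¹, inv_mem ?_, by simp [defect, mul_assoc]⟩⟩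
  rw [defect_eq]
  refine partialProd_mem a b _ _ _ fun i _ => ?_
  have hmem := coeff_mem a b i
  rcases Nat.lt_or_ge i p with hip | hip
  · rcases Nat.lt_or_ge i 2 with hi2 | hi2
    · have h0 : coeff a b 0 = 1 := by simp [coeff, partialProd, defect]
      have h1 : coeff a b 1 = 1 := by simp [coeff, partialProd, defect, mul_assoc]
      interval_cases i <;> simp [h0, h1]
    · obtain ⟨e, he⟩ := pow_dvd_choose hp.out (show 1 ≤ i by omega) hip n
      refine subset_closure ⟨coeff a b i ^ e, pow_mem ?_ e, by rw [← pow_mul, mul_comm e, ← he]⟩
      exact Subgroup.lowerCentralSeries_antitone _ (show 1 ≤ i - 1 by omega) hmem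
  · have h : coeff a b i ∈ (⊤ : Subgroup G).lowerCentralSeries (p - 1) := by
      refine Subgroup.lowerCentralSeries_antitone _ (show p - 1 ≤ i - 1 by omega) ?_
      have hm : ∀ j, (closure ({a, b} : Set G)).lowerCentralSeries j ≤ (⊤ : Subgroup G).lowerCentralSeries j := by
        intro j
        induction j with
        | zero => exact le_top
        | succ j ihj => exact commutator_mono ihj le_top
      exact hm _ hmem
    rw [hcl, mem_bot] at h
    rw [h, one_pow]
    exact one_mem _

end Cfsg.Lib.PGroups.HallPetrescu
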