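/-
Basic properties of regular p-groups (P. Hall).
-/
import Cfsg.Agent.PGroups.Basic
import Cfsg.Prelude

set_option linter.style.haveILetI false
set_option linter.unusedSectionVars false

namespace Cfsg.Lib.PGroups.Regular

open Subgroup
open scoped commutatorElement

variable {G : Type*} [Group G] [Finite G] {p : ℕ} [Fact p.Prime]

theorem eq_of_sup_commutator (hG : IsPGroup p G) {H X : Subgroup G} (hH : H ≤ X) (h : H ⊔ ⁅X, X⁆ = X) : H = X := by
  have h1 : H.subgroupOf X ⊔ frattini X = ⊤ := by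
    refine eq_top_iff.2 (le_trans ?_ (sup_le_sup_left (Cfsg.Lib.PGroups.commutator_le_frattini (hG.to_subgroup X)) _))
    rw [← Subgroup.map_subtype_le_map_subtype, Subgroup.map_sup, subgroupOf_map_subtype, inf_eq_left.2 hH,
      commutator_def, Subgroup.map_commutator, ← MonoidHom.range_eq_map, range_subtype, h]
  exact le_antisymm hH (subgroupOf_eq_top.1 (frattini_nongenerating h1))

theorem card_lt_of_lt {H X : Subgroup G} (h : H < X) : Nat.card H < Nat.card X :=
  lt_of_le_of_ne (Nat.le_of_dvd Nat.card_pos (card_dvd_of_le h.le)) fun e => h.ne (eq_of_le_of_card_ge h.le e.ge)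

theorem pow_eq_iff_aux (hG : Cfsg.IsRegularPGroup p G) (k : ℕ) : ∀ (n : ℕ) (a b : G),
    Nat.card (closure ({a, b} : Set G)) ≤ n → (a ^ p ^ k = b ^ p ^ k ↔ (a * b⁻¹) ^ p ^ k = 1) := by
  intro n
  induction n with
  | zero => intro a b h; exact absurd h (by have := Nat.card_pos (α := closure ({a, b} : Set G)); omega)
  | succ n ih =>
    intro a b hn
    set q := p ^ k
    set X := closure ({a, b} : Set G) with hX
    have haX : a ∈ X := subset_closure (Set.mem_insert a _)
    have hbX : b ∈ X := subset_closure (Set.mem_insert_of_mem a rfl)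
    by_cases hab : Commute a b
    · rw [(hab.inv_right).mul_pow, inv_pow, mul_inv_eq_one]
    set D := ⁅X, X⁆
    have hDX : D ≤ X := commutator_le.2 fun x hx y hy => by
      rw [commutatorElement_def]; exact mul_mem (mul_mem (mul_mem hx hy) (inv_mem hx)) (inv_mem hy)
    have hDlt : D < X := lt_of_le_of_ne hDX fun e => hab (by
      have h0 : (⊥ : Subgroup G) = X := eq_of_sup_commutator hG.1 bot_le (by rw [bot_sup_eq]; exact e)
      rw [← h0, mem_bot] at haX
      rw [haX]; exact Commute.one_left b)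
    -- any two elements generating a proper subgroup
    have hsmall : ∀ x y : G, closure ({x, y} : Set G) < X → (x ^ q = y ^ q ↔ (x * y⁻¹) ^ q = 1) := fun x y h =>
      ih x y (by have := card_lt_of_lt h; omega)
    -- the elements killed by `q` in the derived group form a subgroup
    have hD : ∀ x ∈ D, ∀ y ∈ D, x ^ q = 1 → y ^ q = 1 → (x * y) ^ q = 1 := by
      intro x hx y hy h1 h2
      have h := (hsmall x y⁻¹ (lt_of_le_of_lt ((closure_le _).2 (Set.insert_subset hx
        (Set.singleton_subset_iff.2 (inv_mem hy)))) hDlt)).1 (by rw [h1, inv_pow, h2, inv_one])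
      rwa [inv_inv] at h
    let K : Subgroup G :=
      { carrier := {x | x ∈ D ∧ x ^ q = 1}
        one_mem' := ⟨one_mem D, one_pow q⟩
        mul_mem' := fun {x y} hx hy => ⟨mul_mem hx.1 hy.1, hD x hx.1 y hy.1 hx.2 hy.2⟩
        inv_mem' := fun {x} hx => ⟨inv_mem hx.1, by rw [inv_pow, hx.2, inv_one]⟩ }
    have hKX : X ≤ normalizer (K : Set G) := fun z hz => by
      refine Subgroup.mem_normalizer_iff.2 fun x => ?_
      have hDn : X ≤ normalizer (D : Set G) := fun w hw => by
        refine Subgroup.mem_normalizer_iff_map_conj_eq.2 ?_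
        show Subgroup.map (MulAut.conj w).toMonoidHom D = D
        rw [Subgroup.map_commutator]
        have hw' : Subgroup.map (MulAut.conj w).toMonoidHom X = X :=
          Subgroup.mem_normalizer_iff_map_conj_eq.1 (le_normalizer hw)
        rw [hw']
      show x ∈ D ∧ x ^ q = 1 ↔ z * x * z⁻¹ ∈ D ∧ (z * x * z⁻¹) ^ q = 1
      rw [← Subgroup.mem_normalizer_iff.1 (hDn hz) x, conj_pow, conj_eq_one_iff]
    -- if the commutator is killed by `q`, so is the whole derived group
    have hexp : (a⁻¹ * b⁻¹ * a * b) ^ q = 1 → ∀ x ∈ D, x ^ q = 1 := by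
      intro hc
      have hcD : a⁻¹ * b⁻¹ * a * b ∈ D := by
        have := commutator_mem_commutator (inv_mem haX) (inv_mem hbX) (H₁ := X) (H₂ := X)
        rw [commutatorElement_def, inv_inv, inv_inv] at this
        exact this
      have hle : D ≤ K := by
        haveI : (K.subgroupOf X).Normal :=
          (normal_subgroupOf_iff_le_normalizer (fun x (hx : x ∈ D ∧ x ^ q = 1) => hDX hx.1)).2 hKX
        set π := QuotientGroup.mk' (K.subgroupOf X)
        have hcomm : Commute (π ⟨a, haX⟩) (π ⟨b, hbX⟩) := by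
          have : π (⟨a, haX⟩⁻¹ * ⟨b, hbX⟩⁻¹ * ⟨a, haX⟩ * ⟨b, hbX⟩) = 1 :=
            (QuotientGroup.eq_one_iff _).2 ⟨hcD, hc⟩
          rw [map_mul, map_mul, map_mul, map_inv, map_inv] at this
          rw [Commute, SemiconjBy]
          calc π ⟨a, haX⟩ * π ⟨b, hbX⟩ = π ⟨b, hbX⟩ * π ⟨a, haX⟩ *
              ((π ⟨a, haX⟩)⁻¹ * (π ⟨b, hbX⟩)⁻¹ * π ⟨a, haX⟩ * π ⟨b, hbX⟩) := by group
            _ = _ := by rw [this, mul_one]
        have key : ∀ (z : G) (hz : z ∈ X), Commute (π ⟨z, hz⟩) (π ⟨a, haX⟩) ∧ Commute (π ⟨z, hz⟩) (π ⟨b, hbX⟩) := by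
          intro z hz
          induction hz using Subgroup.closure_induction with
          | mem y hy =>
            rcases hy with rfl | hy
            · exact ⟨Commute.refl _, hcomm⟩
            · cases hy; exact ⟨hcomm.symm, Commute.refl _⟩
          | one => exact ⟨by rw [show (⟨1, one_mem X⟩ : X) = 1 from rfl, map_one]; exact Commute.one_left _,
              by rw [show (⟨1, one_mem X⟩ : X) = 1 from rfl, map_one]; exact Commute.one_left _⟩
          | mul y w hy hw h1 h2 =>
            rw [show (⟨y * w, mul_mem hy hw⟩ : X) = ⟨y, hy⟩ * ⟨w, hw⟩ from rfl, map_mul]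
            exact ⟨h1.1.mul_left h2.1, h1.2.mul_left h2.2⟩
          | inv y hy h1 =>
            rw [show (⟨y⁻¹, inv_mem hy⟩ : X) = ⟨y, hy⟩⁻¹ from rfl, map_inv]
            exact ⟨h1.1.inv_left, h1.2.inv_left⟩
        rw [commutator_le]
        intro x hx y hy
        have hcx : Commute (π ⟨x, hx⟩) (π ⟨y, hy⟩) := by
          obtain ⟨h1, h2⟩ := key x hx
          clear hcomm
          induction hy using Subgroup.closure_induction with
          | mem w hw =>
            rcases hw with rfl | hw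
            · exact h1
            · cases hw; exact h2
          | one => rw [show (⟨1, one_mem X⟩ : X) = 1 from rfl, map_one]; exact Commute.one_right _
          | mul y w hy hw e1 e2 =>
            rw [show (⟨y * w, mul_mem hy hw⟩ : X) = ⟨y, hy⟩ * ⟨w, hw⟩ from rfl, map_mul]
            exact e1.mul_right e2
          | inv y hy e1 =>
            rw [show (⟨y⁻¹, inv_mem hy⟩ : X) = ⟨y, hy⟩⁻¹ from rfl, map_inv]
            exact e1.inv_right
        have h3 : π ⁅(⟨x, hx⟩ : X), ⟨y, hy⟩⁆ = 1 := by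
          rw [map_commutatorElement]; exact commutatorElement_eq_one_iff_mul_comm.2 hcx.eq
        exact mem_subgroupOf.1 ((QuotientGroup.eq_one_iff (N := K.subgroupOf X) (⁅(⟨x, hx⟩ : X), (⟨y, hy⟩ : X)⁆)).1 h3)
      exact fun x hx => (hle hx).2
    have hpc : ∀ x y : G, x ∈ X → y ∈ X → (∀ z ∈ D, z ^ q = 1) → (x * y) ^ q = x ^ q * y ^ q := by
      intro x y hx hy hE
      obtain ⟨c, hc, e⟩ := hG.2 x y k
      have hle : ⁅closure ({x, y} : Set G), closure ({x, y} : Set G)⁆ ≤ D :=
        commutator_mono ((closure_le _).2 (Set.insert_subset hx (Set.singleton_subset_iff.2 hy)))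
          ((closure_le _).2 (Set.insert_subset hx (Set.singleton_subset_iff.2 hy)))
      have : c = 1 := by
        rw [← mem_bot]
        refine (closure_le (⊥ : Subgroup G)).2 ?_ hc
        rintro _ ⟨z, hz, rfl⟩
        exact mem_bot.2 (hE z (hle hz))
      rw [e, this, mul_one]
    -- a proper subgroup containing a given element and one of its conjugates
    have hprop : ∀ x t : G, x ∈ X → t ∈ X → zpowers x ≠ X → closure ({x, t * x * t⁻¹} : Set G) < X := by
      intro x t hx ht hne
      refine lt_of_le_of_lt ((closure_le _).2 (Set.insert_subset (mem_sup_left (mem_zpowers x))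
        (Set.singleton_subset_iff.2 ?_)) : closure ({x, t * x * t⁻¹} : Set G) ≤ zpowers x ⊔ D) ?_
      · have e : t * x * t⁻¹ = ⁅t, x⁆ * x := by rw [commutatorElement_def]; group
        rw [e]
        exact mul_mem (mem_sup_right (commutator_mem_commutator ht hx)) (mem_sup_left (mem_zpowers x))
      · exact lt_of_le_of_ne (sup_le (zpowers_le.2 hx) hDX) fun e =>
          hne (eq_of_sup_commutator hG.1 (zpowers_le.2 hx) e)
    have hncyc : ∀ x : G, zpowers x ≠ X := fun x e => hab (by
      obtain ⟨i, hi⟩ := mem_zpowers_iff.1 (e.ge haX)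
      obtain ⟨j, hj⟩ := mem_zpowers_iff.1 (e.ge hbX)
      rw [← hi, ← hj]; exact Commute.zpow_zpow_self x i j)
    constructor
    · intro h
      -- `a` and its conjugate under `b` have the same power
      have h1 : a ^ q = (b⁻¹ * a * b⁻¹⁻¹) ^ q := by
        rw [conj_pow, h, inv_inv, mul_assoc, ← pow_succ, pow_succ', inv_mul_cancel_left]
      have h2 := (hsmall _ _ (hprop a b⁻¹ haX (inv_mem hbX) (hncyc a))).1 h1
      have hc : (a⁻¹ * b⁻¹ * a * b) ^ q = 1 := by
        have e : a⁻¹ * b⁻¹ * a * b = (a⁻¹ * (a * (b⁻¹ * a * b⁻¹⁻¹)⁻¹) * a⁻¹⁻¹)⁻¹ := by group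
        rw [e, inv_pow, conj_pow, h2, mul_one, mul_inv_cancel, inv_one]
      rw [hpc a b⁻¹ haX (inv_mem hbX) (hexp hc), inv_pow, h, mul_inv_cancel]
    · intro h
      set d := a * b⁻¹ with hd
      have hdX : d ∈ X := mul_mem haX (inv_mem hbX)
      have h1 : d ^ q = (b⁻¹ * d * b⁻¹⁻¹) ^ q := by rw [conj_pow, h, mul_one, mul_inv_cancel]
      have h2 := (hsmall _ _ (hprop d b⁻¹ hdX (inv_mem hbX) (hncyc d))).1 h1
      have hc : (a⁻¹ * b⁻¹ * a * b) ^ q = 1 := by
        have e : a⁻¹ * b⁻¹ * a * b = (a⁻¹ * (d * (b⁻¹ * d * b⁻¹⁻¹)⁻¹) * a⁻¹⁻¹)⁻¹ := by rw [hd]; group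
        rw [e, inv_pow, conj_pow, h2, mul_one, mul_inv_cancel, inv_one]
      have h3 := hpc d b hdX hbX (hexp hc)
      rw [h, one_mul, hd, inv_mul_cancel_right] at h3
      exact h3

theorem pow_eq_iff (hG : Cfsg.IsRegularPGroup p G) (a b : G) (k : ℕ) :
    a ^ p ^ k = b ^ p ^ k ↔ (a * b⁻¹) ^ p ^ k = 1 :=
  pow_eq_iff_aux hG k _ a b le_rfl

theorem commute_iff (hG : Cfsg.IsRegularPGroup p G) (a b : G) (k : ℕ) :
    a ^ p ^ k * b = b * a ^ p ^ k ↔ (a⁻¹ * b⁻¹ * a * b) ^ p ^ k = 1 := by
  have h := pow_eq_iff hG a (b⁻¹ * a * b⁻¹⁻¹) k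
  have e : a⁻¹ * b⁻¹ * a * b = (a⁻¹ * (a * (b⁻¹ * a * b⁻¹⁻¹)⁻¹) * a⁻¹⁻¹)⁻¹ := by group
  rw [e, inv_pow, inv_eq_one, conj_pow, conj_eq_one_iff, ← h, conj_pow, inv_inv]
  constructor
  · intro h1
    rw [mul_assoc, h1, inv_mul_cancel_left]
  · intro h1
    conv_rhs => rw [h1]
    group

theorem exists_omega (hG : Cfsg.IsRegularPGroup p G) (k : ℕ) :
    ∃ H : Subgroup G, H.Characteristic ∧ (H : Set G) = {x : G | x ^ p ^ k = 1} := by
  refine ⟨{ carrier := {x : G | x ^ p ^ k = 1}
            one_mem' := one_pow _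
            mul_mem' := fun {x y} hx hy => by
              have hx : x ^ p ^ k = 1 := hx
              have hy : y ^ p ^ k = 1 := hy
              have h := (pow_eq_iff hG x y⁻¹ k).1 (by rw [hx, inv_pow, hy, inv_one])
              show (x * y) ^ p ^ k = 1
              rwa [inv_inv] at h
            inv_mem' := fun {x} hx => by
              have hx : x ^ p ^ k = 1 := hx
              show x⁻¹ ^ p ^ k = 1
              rw [inv_pow, hx, inv_one] }, ?_, rfl⟩
  refine characteristic_iff_le_comap.2 fun φ x hx => ?_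
  show φ x ^ p ^ k = 1
  rw [← map_pow, (hx : x ^ p ^ k = 1), map_one]

end Cfsg.Lib.PGroups.Regular
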