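/-
Nilpotent groups in which the centralisers of non-central elements are cyclic.
-/
import Cfsg.Agent.OddLocal.CNSolvable
import Cfsg.Agent.SolvStruct.CyclicProduct

set_option linter.style.haveILetI false
set_option linter.unusedSectionVars false

namespace Cfsg.Lib.PGroups.CyclicCentralisers

open Subgroup

theorem two_torsion {n : ℕ} [NeZero n] {x : ZMod (2 * n)} (h : x + x = 0) :
    x = 0 ∨ x = (n : ZMod (2 * n)) := by
  have hlt := ZMod.val_lt x
  have h1 : ((x.val + x.val : ℕ) : ZMod (2 * n)) = 0 := by
    rw [Nat.cast_add, ZMod.natCast_zmod_val, h]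
  rw [ZMod.natCast_eq_zero_iff] at h1
  obtain ⟨c, hc⟩ := h1
  rcases (show c = 0 ∨ c = 1 by
    rcases c with _ | _ | c
    · exact Or.inl rfl
    · exact Or.inr rfl
    · exfalso
      have : 2 * n * 2 ≤ 2 * n * (c + 1 + 1) := Nat.mul_le_mul_left _ (by omega)
      omega) with rfl | rfl
  · exact Or.inl ((ZMod.val_eq_zero x).1 (by omega))
  · refine Or.inr ?_
    rw [← ZMod.natCast_zmod_val x, show x.val = n by omega]

theorem quaternion_centralizer_cyclic {n : ℕ} [NeZero n] (q : QuaternionGroup n)
    (hq : q ∉ center (QuaternionGroup n)) : IsCyclic (centralizer ({q} : Set (QuaternionGroup n))) := by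
  have htt : ∀ x : ZMod (2 * n), x + x = 0 → ∀ j, (QuaternionGroup.a x : QuaternionGroup n) ∈
      zpowers (QuaternionGroup.xa j : QuaternionGroup n) := by
    intro x hx j
    rcases two_torsion hx with rfl | rfl
    · rw [QuaternionGroup.a_zero]; exact one_mem _
    · rw [← QuaternionGroup.xa_sq j]; exact npow_mem_zpowers _ 2
  cases q with
  | a i =>
    have hi : i + i ≠ 0 := by
      intro h0
      refine hq (mem_center_iff.2 fun y => ?_)
      cases y with
      | a j => simp [add_comm]
      | xa j =>
        simp only [QuaternionGroup.xa_mul_a, QuaternionGroup.a_mul_xa]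
        congr 1
        linear_combination h0
    refine isCyclic_of_le (H' := zpowers (QuaternionGroup.a 1 : QuaternionGroup n)) fun y hy => ?_
    cases y with
    | a j =>
      refine mem_zpowers_iff.2 ⟨(j.val : ℤ), ?_⟩
      rw [zpow_natCast, QuaternionGroup.a_one_pow, ZMod.natCast_zmod_val]
    | xa j =>
      have := mem_centralizer_singleton_iff.1 hy
      simp only [QuaternionGroup.xa_mul_a, QuaternionGroup.a_mul_xa, QuaternionGroup.xa.injEq] at this
      exact absurd (by linear_combination this) hi
  | xa j =>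
    refine isCyclic_of_le (H' := zpowers (QuaternionGroup.xa j : QuaternionGroup n)) fun y hy => ?_
    have := mem_centralizer_singleton_iff.1 hy
    cases y with
    | a i =>
      simp only [QuaternionGroup.xa_mul_a, QuaternionGroup.a_mul_xa, QuaternionGroup.xa.injEq] at this
      exact htt i (by linear_combination (norm := ring_nf) -this) j
    | xa i =>
      simp only [QuaternionGroup.xa_mul_xa, QuaternionGroup.a.injEq] at this
      rcases two_torsion (x := i - j) (by linear_combination (norm := ring_nf) -this) with h | h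
      · rw [sub_eq_zero.1 h]; exact mem_zpowers _
      · have e : (QuaternionGroup.xa j : QuaternionGroup n) * QuaternionGroup.a (n : ZMod (2 * n)) = QuaternionGroup.xa i := by
          rw [QuaternionGroup.xa_mul_a]
          congr 1
          linear_combination (norm := ring_nf) -h
        rw [← e]
        refine mul_mem (mem_zpowers _) ?_
        rw [← QuaternionGroup.xa_sq j]
        exact npow_mem_zpowers _ 2

theorem forward {G : Type*} [Group G] [Finite G] [hG : Group.IsNilpotent G] (hna : ¬ IsMulCommutative G)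
    (h : ∀ x : G, x ∉ center G → IsCyclic (centralizer ({x} : Set G))) :
    ∃ (k m : ℕ), 1 ≤ k ∧ Odd m ∧ Nonempty (G ≃* QuaternionGroup (2 ^ k) × Multiplicative (ZMod m)) := by
  obtain ⟨x₀, hx₀⟩ : ∃ x : G, x ∉ center G := by
    by_contra hh
    push Not at hh
    exact hna ⟨⟨fun a b => (mem_center_iff.1 (hh b) a)⟩⟩
  have hZc : IsCyclic (center G) := by
    haveI := h x₀ hx₀
    exact isCyclic_of_le (H' := centralizer ({x₀} : Set G)) fun z hz =>
      mem_centralizer_singleton_iff.2 (mem_center_iff.1 hz x₀).symm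
  -- prime order elements are central
  have hcen : ∀ (p : ℕ) [Fact p.Prime] (z : G), orderOf z = p → z ∈ center G := by
    intro p hp z hz
    by_contra hzc
    obtain ⟨P⟩ := (inferInstance : Nonempty (Sylow p G))
    haveI : (P : Subgroup G).Normal := inferInstance
    have hzP : z ∈ (P : Subgroup G) := by
      have hzp : IsPGroup p (zpowers z) := IsPGroup.of_card (n := 1) (by rw [Nat.card_zpowers, hz, pow_one])
      obtain ⟨R, hR⟩ := hzp.exists_le_sylow
      haveI := Sylow.unique_of_normal P ‹_›
      rw [Subsingleton.elim P R]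
      exact hR (mem_zpowers z)
    haveI : Nontrivial (P : Subgroup G) := ⟨⟨⟨z, hzP⟩, 1, fun e => hp.out.ne_one (by
      rw [← hz, show z = 1 from congrArg Subtype.val e, orderOf_one])⟩⟩
    -- a central element of order `p`
    obtain ⟨w, hw, hwo⟩ : ∃ w ∈ center G, orderOf w = p := by
      haveI hne : Nontrivial ↥(center G ⊓ (P : Subgroup G)) := (nontrivial_iff_ne_bot _).2 (by
        rw [inf_comm]
        exact Cfsg.Lib.Coprime.inf_center_ne_bot (N := (P : Subgroup G)) ((nontrivial_iff_ne_bot _).1 ‹_›))
      obtain ⟨j, hj, hjc⟩ := (P.2.to_le (inf_le_right : center G ⊓ (P : Subgroup G) ≤ P)).nontrivial_iff_card.mp hne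
      obtain ⟨⟨w, hw⟩, hwo⟩ := exists_prime_orderOf_dvd_card' (G := ↥(center G ⊓ (P : Subgroup G))) p
        (hjc ▸ dvd_pow_self p (by omega))
      rw [Subgroup.orderOf_mk] at hwo
      exact ⟨w, hw.1, hwo⟩
    haveI := h z hzc
    have hwC : w ∈ centralizer ({z} : Set G) := mem_centralizer_singleton_iff.2 (mem_center_iff.1 hw z).symm
    have h1 : zpowers w = zpowers z := Cfsg.Lib.SolvStruct.CyclicProduct.eq_of_card_eq_of_isCyclic
      (zpowers_le.2 hwC) (zpowers_le.2 (mem_centralizer_singleton_iff.2 rfl))
      (by rw [Nat.card_zpowers, Nat.card_zpowers, hwo, hz])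
    exact hzc ((zpowers_le.2 hw) (h1.ge (mem_zpowers z)))
  have huniq : ∀ (p : ℕ) [Fact p.Prime] (x y : G), orderOf x = p → orderOf y = p → y ∈ zpowers x := by
    intro p hp x y hx hy
    haveI := hZc
    have h1 : zpowers x = zpowers y := Cfsg.Lib.SolvStruct.CyclicProduct.eq_of_card_eq_of_isCyclic
      (zpowers_le.2 (hcen p x hx)) (zpowers_le.2 (hcen p y hy)) (by rw [Nat.card_zpowers, Nat.card_zpowers, hx, hy])
    exact h1.ge (mem_zpowers y)
  have hsub : ∀ (p : ℕ) [Fact p.Prime] (P : Subgroup G), ∀ x y : P, orderOf x = p → orderOf y = p → y ∈ zpowers x := by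
    intro p hp P x y hx hy
    obtain ⟨i, hi⟩ := mem_zpowers_iff.1 (huniq p (x : G) y (by rw [orderOf_coe, hx]) (by rw [orderOf_coe, hy]))
    exact mem_zpowers_iff.2 ⟨i, Subtype.ext (by simpa using hi)⟩
  haveI : Fact (Nat.Prime 2) := ⟨Nat.prime_two⟩
  obtain ⟨S⟩ := (inferInstance : Nonempty (Sylow 2 G))
  obtain ⟨C, hC⟩ := exists_right_complement'_of_coprime S.card_coprime_index
  have hidx : (S : Subgroup G).index = Nat.card C := hC.symm.index_eq_card
  have hodd : Odd (Nat.card C) := by
    rw [← hidx, Nat.odd_iff, ← Nat.two_dvd_ne_zero]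
    exact S.not_dvd_index
  haveI : IsZGroup C := by
    refine ⟨fun p hp P => ?_⟩
    haveI := Fact.mk hp
    rcases Cfsg.Lib.UniqueSub.isCyclic_or_quaternion (P.2.map C.subtype) (hsub p _) with h1 | ⟨rfl, -⟩
    · haveI := h1
      exact isCyclic_of_surjective _
        ((P : Subgroup C).equivMapOfInjective C.subtype C.subtype_injective).symm.surjective
    · have : Nat.card (P : Subgroup C) = 1 := by
        rw [P.card_eq_multiplicity, Nat.factorization_eq_zero_of_not_dvd, pow_zero]
        rw [Nat.two_dvd_ne_zero]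
        exact Nat.odd_iff.1 hodd
      haveI : Subsingleton (P : Subgroup C) := (Nat.card_eq_one_iff_unique.1 this).1
      infer_instance
  haveI : Group.IsNilpotent C := inferInstance
  have hCcyc : IsCyclic C := inferInstance
  have hcomm : ∀ (s : (S : Subgroup G)) (c : C), Commute (s : G) (c : G) := by
    intro s c
    refine Cfsg.Lib.FittingHall.commute_coprime ?_
    refine (S.card_coprime_index.coprime_dvd_left ?_).coprime_dvd_right ?_
    · rw [orderOf_coe]; exact orderOf_dvd_natCard _
    · rw [hidx, orderOf_coe]; exact orderOf_dvd_natCard _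
  let e : ↥(S : Subgroup G) × ↥C ≃* G :=
    MulEquiv.ofBijective ((S : Subgroup G).subtype.noncommCoprod C.subtype hcomm) hC
  rcases Cfsg.Lib.UniqueSub.isCyclic_or_quaternion S.2 (hsub 2 _) with hS | ⟨-, k, ⟨eQ⟩⟩
  · exact absurd ⟨⟨fun a b => by
      obtain ⟨x, rfl⟩ := e.surjective a
      obtain ⟨y, rfl⟩ := e.surjective b
      rw [← map_mul, ← map_mul]
      refine congrArg e (Prod.ext ?_ ?_)
      · exact IsMulCommutative.is_comm.comm x.1 y.1
      · exact IsMulCommutative.is_comm.comm x.2 y.2⟩⟩ hna
  · refine ⟨k, Nat.card C, ?_, hodd, ⟨e.symm.trans (eQ.prodCongr (zmodCyclicMulEquiv hCcyc).symm)⟩⟩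
    rcases Nat.eq_zero_or_pos k with rfl | hk
    · haveI : IsCyclic (QuaternionGroup (2 ^ 0)) := QuaternionGroup.quaternionGroup_one_isCyclic
      exact absurd ⟨⟨fun a b => e.symm.injective ((eQ.prodCongr (MulEquiv.refl C)).injective (by
        rw [map_mul, map_mul, map_mul, map_mul]
        exact Prod.ext (IsMulCommutative.is_comm.comm _ _) (IsMulCommutative.is_comm.comm _ _)))⟩⟩ hna
    · exact hk

theorem backward {G : Type*} [Group G] {k m : ℕ} (hm : Odd m)
    (e : G ≃* QuaternionGroup (2 ^ k) × Multiplicative (ZMod m)) (x : G) (hx : x ∉ center G) :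
    IsCyclic (centralizer ({x} : Set G)) := by
  haveI : NeZero (2 ^ k) := ⟨(Nat.two_pow_pos k).ne'⟩
  haveI : NeZero m := ⟨by rintro rfl; exact Nat.not_odd_zero hm⟩
  set q := (e x).1
  have hq : q ∉ center _ := by
    intro hq
    refine hx (mem_center_iff.2 fun y => e.injective ?_)
    rw [map_mul, map_mul]
    exact Prod.ext (mem_center_iff.1 hq _) (mul_comm _ _)
  haveI := quaternion_centralizer_cyclic q hq
  haveI : IsCyclic (centralizer ({q} : Set (QuaternionGroup (2 ^ k))) × Multiplicative (ZMod m)) := by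
    refine Group.isCyclic_prod_iff.2 ⟨inferInstance, inferInstance, ?_⟩
    have h1 : Nat.card (centralizer ({q} : Set (QuaternionGroup (2 ^ k)))) ∣ 2 ^ (k + 2) := by
      refine (card_subgroup_dvd_card _).trans ?_
      rw [Nat.card_eq_fintype_card, QuaternionGroup.card, show k + 2 = 2 + k by omega, pow_add]
      exact dvd_refl _
    rw [Nat.card_congr Multiplicative.toAdd, Nat.card_zmod]
    exact (Nat.Coprime.pow_left _ (Nat.coprime_two_left.2 hm)).coprime_dvd_left h1
  refine isCyclic_of_injective
    (MonoidHom.prod (((MonoidHom.fst _ _).comp (e.toMonoidHom.comp (centralizer ({x} : Set G)).subtype)).codRestrict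
        (centralizer ({q} : Set (QuaternionGroup (2 ^ k)))) fun y => mem_centralizer_singleton_iff.2 ?_)
      ((MonoidHom.snd _ _).comp (e.toMonoidHom.comp (centralizer ({x} : Set G)).subtype)) :
      centralizer ({x} : Set G) →* centralizer ({q} : Set (QuaternionGroup (2 ^ k))) × Multiplicative (ZMod m)) ?_
  · have h2 := congrArg (fun g => (e g).1) (mem_centralizer_singleton_iff.1 y.2)
    simpa using h2
  · intro a b hab
    have h1 := congrArg (fun z => (z.1 : QuaternionGroup (2 ^ k))) hab
    have h2 := congrArg Prod.snd hab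
    exact Subtype.ext (e.injective (Prod.ext h1 h2))

end Cfsg.Lib.PGroups.CyclicCentralisers
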