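import Cfsg.Agent.PGroups.RankTwoOdd

/-!
The p-groups of rank two (p odd) with an element of order p outside the centraliser of a normal
subgroup of type (p, p).
-/

set_option autoImplicit false
set_option linter.unusedSectionVars false
set_option linter.unusedVariables false
set_option linter.style.haveILetI false

namespace Cfsg.Lib.PGroups.RankTwoOdd

open Subgroup
open scoped commutatorElement

universe u

variable {R : Type u} [Group R] [Finite R] {p : ℕ} [hp : Fact p.Prime]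

/-- The common data: a normal `p × p` subgroup absorbing the elements of order p of its centraliser,
and an element of order p outside this centraliser. -/
theorem outside_or_class (hp2 : p ≠ 2) [Group.IsNilpotent R] {n : ℕ} (hn : Nat.card R = p ^ n)
    (A : Subgroup R) [A.Normal] (hAc : Nat.card A = p ^ 2) (hA1 : ∀ v ∈ A, v ^ p = 1)
    (hmax : ∀ u ∈ centralizer (A : Set R), u ^ p = 1 → u ∈ A)
    (x : R) (hxC : x ∉ centralizer (A : Set R)) (hxp : x ^ p = 1) :
    IsCyclic (centralizer (A : Set R) ⧸ A.subgroupOf (centralizer (A : Set R))) ∨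
      (p = 3 ∧ Group.nilpotencyClass R = n - 1) := by
  have hR : IsPGroup p R := IsPGroup.of_card hn
  have hnc : ¬ A ≤ center R := fun h => hxC (mem_centralizer_iff.mpr fun v hv =>
    (mem_center_iff.mp (h hv) x).symm)
  obtain ⟨z, hzA, hzc, hz, hfix, hcom⟩ := noncentral_sq hR A hAc hnc
  have hCi := index_centralizer_sq hR A hAc hnc
  set C := centralizer (A : Set R) with hC
  haveI hCn : C.Normal := Cfsg.Lib.PGroups.CyclicIndexOdd.normal_of_index hR hCi
  have hzC : z ∈ C := mem_centralizer_iff.mpr fun a _ => mem_center_iff.mp hzc a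
  have hAC : ∀ v ∈ A, ∀ c ∈ C, Commute c v := fun v hv c hc => (mem_centralizer_iff.mp hc v hv).symm
  have hgen : ∀ w : R, (∀ c ∈ C, Commute c w) → Commute x w → w ∈ center R := by
    intro w hwC hwx
    refine mem_center_iff.mpr fun r => ?_
    have h1 : C ⊔ zpowers x ≤ centralizer {w} :=
      sup_le (fun c hc => mem_centralizer_singleton_iff.mpr (hwC c hc).eq)
        (zpowers_le.mpr (mem_centralizer_singleton_iff.mpr hwx.eq))
    rw [sup_zpowers_of_index hCi hxC] at h1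
    exact mem_centralizer_singleton_iff.mp (h1 (mem_top r))
  have hcC : ∀ w : C, w ^ p = 1 → w ∈ center C := fun w hw => mem_center_iff.mpr fun y => Subtype.ext
    (hAC _ (hmax _ w.2 (by rw [← Subgroup.coe_pow, hw, Subgroup.coe_one])) _ y.2).eq
  have hmul : ∀ a ∈ C, ∀ b ∈ C, a ^ p ∈ A → (a * b) ^ p = a ^ p * b ^ p := fun a ha b hb hap => by
    exact congrArg Subtype.val (mul_pow_prime hp2 (hR.to_subgroup C) hcC (a := (⟨a, ha⟩ : C))
      (mem_center_iff.mpr fun y => Subtype.ext (hAC _ hap _ y.2).eq) ⟨b, hb⟩)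
  by_cases hsm : ∀ u ∈ C, u ^ p ∈ A → u ^ p ∈ zpowers z
  · left
    have hA'c : A.subgroupOf C ≤ center C := fun u hu => mem_center_iff.mpr fun y =>
      Subtype.ext (hAC _ hu _ y.2).eq
    refine cyclic_quotient hp2 (hR.to_subgroup C) hcC (A.subgroupOf C) hA'c
      (fun v hv => Subtype.ext ((Subgroup.coe_pow _ _ _).trans (hA1 _ hv)))
      ((zpowers z).subgroupOf C) (fun u hu => hA'c (zpowers_le.mpr hzA hu)) ?_
      (fun u hu => hmax _ u.2 (congrArg Subtype.val hu))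
      (fun u hu => hsm _ u.2 hu)
    rw [Nat.card_congr (subgroupOfEquivOfLe (zpowers_le.mpr hzC)).toEquiv, Nat.card_zpowers, hz]
  right
  push Not at hsm
  obtain ⟨d, hdC, hdA, hdZ⟩ := hsm
  set c := ⁅x, d⁆ with hcdef
  have hxdC : x * d * x⁻¹ ∈ C := hCn.conj_mem d hdC x
  have hcC' : c ∈ C := by
    rw [hcdef, commutatorElement_def]; exact mul_mem hxdC (inv_mem hdC)
  have hcp : c ^ p = ⁅x, d ^ p⁆ := by
    rw [hcdef, commutatorElement_def, hmul _ hxdC _ (inv_mem hdC) (by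
      rw [conj_pow]; exact (inferInstance : A.Normal).conj_mem _ hdA x), conj_pow, inv_pow,
      commutatorElement_def]
  have hcpZ : c ^ p ∈ zpowers z := hcp ▸ hcom x _ hdA
  have hcp1 : c ^ p ≠ 1 := fun h => hdZ (hfix _ hdA (hgen _ (hAC _ hdA)
    (commutatorElement_eq_one_iff_mul_comm.mp (hcp ▸ h))))
  set v1 := ⁅x, c⁆ with hv1def
  have hxcC : x * c * x⁻¹ ∈ C := hCn.conj_mem c hcC' x
  have hv1C : v1 ∈ C := by
    rw [hv1def, commutatorElement_def]; exact mul_mem hxcC (inv_mem hcC')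
  have hv1A : v1 ∈ A := by
    refine hmax _ hv1C ?_
    rw [hv1def, commutatorElement_def, hmul _ hxcC _ (inv_mem hcC') (by
      rw [conj_pow]; exact (inferInstance : A.Normal).conj_mem _ (zpowers_le.mpr hzA hcpZ) x), conj_pow,
      inv_pow, mem_center_iff.mp (zpowers_le.mpr hzc hcpZ) x, mul_inv_cancel_right, mul_inv_cancel]
  set t := ⁅x, v1⁆ with htdef
  have htZ : t ∈ zpowers z := hcom x _ hv1A
  have htc : ∀ r : R, r * t = t * r := mem_center_iff.mp (zpowers_le.mpr hzc htZ)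
  have hiter : ∀ m : ℕ, x ^ m * d * (x ^ m)⁻¹ = t ^ m.choose 3 * v1 ^ m.choose 2 * c ^ m * d := by
    intro m
    induction m with
    | zero => simp
    | succ m ih =>
      have e1 : MulAut.conj x t = t := by rw [MulAut.conj_apply, htc x, mul_inv_cancel_right]
      have e2 : MulAut.conj x v1 = t * v1 := by
        rw [MulAut.conj_apply, htdef, commutatorElement_def, inv_mul_cancel_right]
      have e3 : MulAut.conj x c = v1 * c := by
        rw [MulAut.conj_apply, hv1def, commutatorElement_def, inv_mul_cancel_right]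
      have e4 : MulAut.conj x d = c * d := by
        rw [MulAut.conj_apply, hcdef, commutatorElement_def, inv_mul_cancel_right]
      rw [pow_succ', show x * x ^ m * d * (x * x ^ m)⁻¹ = MulAut.conj x (x ^ m * d * (x ^ m)⁻¹) by
        rw [MulAut.conj_apply]; group, ih, map_mul, map_mul, map_mul, map_pow, map_pow, map_pow, e1, e2, e3, e4,
        (show Commute t v1 from (htc v1).symm).mul_pow, (hAC _ hv1A _ hcC').symm.mul_pow,
        Nat.choose_succ_succ' m 2, Nat.choose_succ_succ' m 1, Nat.choose_one_right, add_comm (m.choose 2),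
        pow_add t, add_comm m (m.choose 2), pow_add v1, pow_succ c]
      group
  have hp3 : p = 3 := by
    by_contra hp3
    have h := hiter p
    obtain ⟨q, hq⟩ := hp.out.dvd_choose_self (k := 3) (by norm_num) (by
      have := hp.out.two_le; omega)
    rw [hxp, inv_one, one_mul, mul_one, pow_choose_two hp2 (hA1 _ hv1A), hq, pow_mul,
      hA1 t (zpowers_le.mpr hzA htZ), one_pow, one_mul, one_mul] at h
    exact hcp1 (mul_eq_right.mp h.symm)
  refine ⟨hp3, ?_⟩
  by_cases hfixed : ∃ u ∈ C, Commute x u ∧ u ^ p ≠ 1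
  · exfalso
    obtain ⟨u, huC, hux, hup⟩ := hfixed
    obtain ⟨k, hk⟩ := IsPGroup.iff_orderOf.mp hR u
    have hk2 : 2 ≤ k := by
      by_contra hlt
      exact hup (orderOf_dvd_iff_pow_eq_one.mp (hk ▸ (pow_dvd_pow p (show k ≤ 1 by omega)).trans (pow_one p).dvd))
    set e := u ^ p ^ (k - 2) with hedef
    have heC : e ∈ C := pow_mem huC _
    have hepA : e ^ p ∈ A := hmax _ (pow_mem heC p) (by
      rw [hedef, ← pow_mul u, ← pow_succ, ← pow_mul u, ← pow_succ, show k - 2 + 1 + 1 = k by omega, ← hk,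
        pow_orderOf_eq_one])
    have hep1 : e ^ p ≠ 1 := fun h => by
      rw [hedef, ← pow_mul, ← pow_succ] at h
      have h1 := orderOf_dvd_of_pow_eq_one h
      rw [hk, Nat.pow_dvd_pow_iff_le_right hp.out.one_lt] at h1
      omega
    have hepZ : e ^ p ∈ zpowers z := hfix _ hepA (hgen _ (hAC _ hepA) ((hux.pow_right _).pow_right _))
    have heq : zpowers (e ^ p) = zpowers z := eq_of_le_of_card_ge (zpowers_le.mpr hepZ)
      (by rw [Nat.card_zpowers, Nat.card_zpowers, hz, orderOf_eq_prime (hA1 _ hepA) hep1])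
    obtain ⟨i, hi⟩ := mem_zpowers_iff.mp (heq.ge hcpZ)
    set w := c * (e ^ i)⁻¹ with hwdef
    have hwA : w ∈ A := by
      refine hmax _ (mul_mem hcC' (inv_mem (zpow_mem heC i))) ?_
      rw [hwdef, hmul _ hcC' _ (inv_mem (zpow_mem heC i)) (zpowers_le.mpr hzA hcpZ), inv_pow,
        ← zpow_natCast (e ^ i), ← zpow_mul, mul_comm i, zpow_mul, zpow_natCast, hi, mul_inv_cancel]
    have hv1Z : v1 ∈ zpowers z := by
      have h1 : v1 = ⁅x, w⁆ * (w * ⁅x, e ^ i⁆ * w⁻¹) := by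
        rw [hv1def, show c = w * e ^ i by rw [hwdef, inv_mul_cancel_right]]
        simp only [commutatorElement_def]; group
      rw [h1, commutatorElement_eq_one_iff_mul_comm.mpr (((hux.pow_right _).zpow_right i).eq), mul_one,
        mul_inv_cancel, mul_one]
      exact hcom x w hwA
    have ht1 : t = 1 := by
      rw [htdef, commutatorElement_eq_one_iff_mul_comm]
      exact mem_center_iff.mp (zpowers_le.mpr hzc hv1Z) x
    have h := hiter p
    rw [hxp, inv_one, one_mul, mul_one, pow_choose_two hp2 (hA1 _ hv1A), ht1, one_pow, one_mul, one_mul] at h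
    exact hcp1 (mul_eq_right.mp h.symm)
  push Not at hfixed
  haveI hZn : (zpowers z).Normal := ⟨fun u hu g => by
    rw [mem_center_iff.mp (zpowers_le.mpr hzc hu) g, mul_inv_cancel_right]; exact hu⟩
  set B := zpowers z ⊔ zpowers x with hB
  have hBcomm : B ≤ centralizer (B : Set R) := by
    have hx1 : B ≤ centralizer {x} := sup_le
      (zpowers_le.mpr (mem_centralizer_singleton_iff.mpr (mem_center_iff.mp hzc x).symm))
      (zpowers_le.mpr (mem_centralizer_singleton_iff.mpr rfl))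
    refine sup_le (zpowers_le.mpr (mem_centralizer_iff.mpr fun b _ => mem_center_iff.mp hzc b))
      (zpowers_le.mpr (mem_centralizer_iff.mpr fun b hb => mem_centralizer_singleton_iff.mp (hx1 hb)))
  have hcx : centralizer (B : Set R) ≤ B := by
    intro g hg
    have hgx : Commute x g := (mem_centralizer_iff.mp hg x (mem_sup_right (mem_zpowers x)))
    have htop : g ∈ C ⊔ zpowers x := sup_zpowers_of_index hCi hxC ▸ mem_top g
    obtain ⟨a, ha, b, hb, rfl⟩ := mem_sup_of_normal_left.mp htop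
    obtain ⟨j, rfl⟩ := mem_zpowers_iff.mp hb
    have hax : Commute x a := by
      have := hgx.mul_right ((Commute.refl x).zpow_right j).inv_right
      simpa using this
    have haA : a ∈ A := hmax _ ha (hfixed a ha hax)
    exact mul_mem (mem_sup_left (hfix _ haA (hgen _ (hAC _ haA) hax))) (mem_sup_right (zpow_mem (mem_zpowers x) j))
  refine Cfsg.Lib.MaxClass.of_self_centralizing n R hn B ?_ (le_antisymm hcx hBcomm)
  have hxz : x ∉ zpowers z := fun h => hxC (zpowers_le.mpr hzC h)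
  have h1 := card_map_mul (zpowers z) B le_sup_left
  rw [Nat.card_zpowers, hz] at h1
  have h2 : B.map (QuotientGroup.mk' (zpowers z)) = zpowers (QuotientGroup.mk' (zpowers z) x) := by
    rw [hB, Subgroup.map_sup, MonoidHom.map_zpowers, MonoidHom.map_zpowers]
    refine sup_eq_right.mpr (zpowers_le.mpr ?_)
    rw [show QuotientGroup.mk' (zpowers z) z = 1 from (QuotientGroup.eq_one_iff z).mpr (mem_zpowers z)]
    exact one_mem _
  have h3 : orderOf (QuotientGroup.mk' (zpowers z) x) = p :=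
    orderOf_eq_prime (by rw [← map_pow, hxp, map_one]) (fun h => hxz ((QuotientGroup.eq_one_iff x).mp h))
  rw [← h1, h2, Nat.card_zpowers, h3, pow_two]

/-- The defining relations in the two non-metacyclic families. -/
theorem presentation (hp2 : p ≠ 2) {n : ℕ} (hn : Nat.card R = p ^ n)
    (A : Subgroup R) [A.Normal] (hAc : Nat.card A = p ^ 2) (hA1 : ∀ v ∈ A, v ^ p = 1)
    (hmax : ∀ u ∈ centralizer (A : Set R), u ^ p = 1 → u ∈ A)
    (x : R) (hxC : x ∉ centralizer (A : Set R)) (hxp : x ^ p = 1)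
    (hq : IsCyclic (centralizer (A : Set R) ⧸ A.subgroupOf (centralizer (A : Set R)))) :
    (3 ≤ n ∧ ∃ x y z : R, closure ({x, y, z} : Set R) = ⊤ ∧ x ^ p = 1 ∧ y ^ p = 1 ∧ z ^ p ^ (n - 2) = 1 ∧
        x * z = z * x ∧ y * z = z * y ∧ x⁻¹ * y * x = y * z ^ p ^ (n - 3)) ∨
    (4 ≤ n ∧ ∃ (s : ℕ) (x y z : R), (s = 1 ∨ ¬ IsSquare (s : ZMod p)) ∧ closure ({x, y, z} : Set R) = ⊤ ∧
        x ^ p = 1 ∧ y ^ p = 1 ∧ z ^ p ^ (n - 2) = 1 ∧ y * z = z * y ∧ x⁻¹ * y * x = y * z ^ (s * p ^ (n - 3)) ∧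
        x⁻¹ * z * x = y * z) := by
  have hR : IsPGroup p R := IsPGroup.of_card hn
  have hnc : ¬ A ≤ center R := fun h => hxC (mem_centralizer_iff.mpr fun v hv =>
    (mem_center_iff.mp (h hv) x).symm)
  obtain ⟨z₀, hzA, hzc, hz, hfix, hcom⟩ := noncentral_sq hR A hAc hnc
  have hCi := index_centralizer_sq hR A hAc hnc
  set C := centralizer (A : Set R) with hC
  haveI hCn : C.Normal := Cfsg.Lib.PGroups.CyclicIndexOdd.normal_of_index hR hCi
  have hAC : ∀ v ∈ A, ∀ c ∈ C, Commute c v := fun v hv c hc => (mem_centralizer_iff.mp hc v hv).symm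
  have hA_C : A ≤ C := fun v hv => mem_centralizer_iff.mpr fun w hw =>
    (show IsMulCommutative A from ⟨⟨fun a b => IsPGroup.commutative_of_card_eq_prime_sq hAc a b⟩⟩).is_comm.comm
      (⟨w, hw⟩ : A) ⟨v, hv⟩ |> congrArg Subtype.val
  have hgen : ∀ w : R, (∀ c ∈ C, Commute c w) → Commute x w → w ∈ center R := by
    intro w hwC hwx
    refine mem_center_iff.mpr fun r => ?_
    have h1 : C ⊔ zpowers x ≤ centralizer {w} :=
      sup_le (fun c hc => mem_centralizer_singleton_iff.mpr (hwC c hc).eq)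
        (zpowers_le.mpr (mem_centralizer_singleton_iff.mpr hwx.eq))
    rw [sup_zpowers_of_index hCi hxC] at h1
    exact mem_centralizer_singleton_iff.mp (h1 (mem_top r))
  -- an element of A moved by x
  obtain ⟨y₀, hy₀A, hy₀c⟩ := SetLike.not_le_iff_exists.mp hnc
  have hAgen : ∀ w ∈ A, w ∉ center R → ∀ ζ ∈ zpowers z₀, ζ ≠ 1 → A ≤ closure ({w, ζ} : Set R) := by
    intro w hwA hwc ζ hζ hζ1
    have hle : closure ({w, ζ} : Set R) ≤ A :=
      (closure_le _).mpr (Set.insert_subset hwA (Set.singleton_subset_iff.mpr (zpowers_le.mpr hzA hζ)))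
    refine (eq_of_le_of_card_ge hle ?_).ge
    have h1 : Nat.card ↥(closure ({w, ζ} : Set R)) ∣ p ^ 2 := hAc ▸ card_dvd_of_le hle
    by_contra hlt
    have h2 := dvd_sq_cases h1 (fun e => hlt (by rw [e, hAc]))
    have h3 : zpowers ζ = closure ({w, ζ} : Set R) :=
      eq_of_le_of_card_ge (zpowers_le.mpr (subset_closure (Set.mem_insert_of_mem _ rfl))) (by
        rw [Nat.card_zpowers, orderOf_eq_prime (hA1 _ (zpowers_le.mpr hzA hζ)) hζ1]
        exact Nat.le_of_dvd hp.out.pos h2)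
    exact hwc (zpowers_le.mpr (zpowers_le.mpr hzc hζ) (h3.ge (subset_closure (Set.mem_insert _ _))))
  have hcardC : Nat.card C * p = p ^ n := by
    have h1 := C.card_mul_index
    rwa [hCi, hn] at h1
  have hn3 : 3 ≤ n := by
    have h1 : Nat.card A ∣ Nat.card C := card_dvd_of_le hA_C
    have h2 : p ^ 3 ∣ p ^ n := by rw [← hcardC, pow_succ, ← hAc]; exact Nat.mul_dvd_mul_right h1 p
    exact (Nat.pow_dvd_pow_iff_le_right hp.out.one_lt).mp h2
  have hσC : ∀ u ∈ C, x⁻¹ * u * x ∈ C := fun u hu => by simpa using hCn.conj_mem u hu x⁻¹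
  have hσA : ∀ u ∈ A, x⁻¹ * u * x ∈ A := fun u hu => by
    simpa using (inferInstance : A.Normal).conj_mem u hu x⁻¹
  -- conjugation by x moves the noncentral elements of A along the centre
  have hmove : ∀ w ∈ A, w⁻¹ * (x⁻¹ * w * x) ∈ zpowers z₀ ∧ (w ∉ center R → w⁻¹ * (x⁻¹ * w * x) ≠ 1) := by
    intro w hw
    refine ⟨?_, fun hwc h => hwc (hgen w (hAC w hw) ?_)⟩
    · have h1 : w⁻¹ * (x⁻¹ * w * x) = w⁻¹ * ⁅x⁻¹, w⁆ * w := by rw [commutatorElement_def]; group
      rw [h1, mul_assoc, ← mem_center_iff.mp (zpowers_le.mpr hzc (hcom x⁻¹ w hw)) w, inv_mul_cancel_left]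
      exact hcom x⁻¹ w hw
    · show x * w = w * x
      rw [inv_mul_eq_one] at h
      nth_rewrite 1 [h]
      group
  obtain ⟨g', hg'⟩ := IsCyclic.exists_ofOrder_eq_natCard (α := C ⧸ A.subgroupOf C)
  obtain ⟨⟨g, hgC⟩, rfl⟩ := QuotientGroup.mk'_surjective (A.subgroupOf C) g'
  have hcardQ : Nat.card (C ⧸ A.subgroupOf C) = p ^ (n - 3) := by
    have h1 := Subgroup.card_eq_card_quotient_mul_card_subgroup (A.subgroupOf C)
    rw [Nat.card_congr (subgroupOfEquivOfLe hA_C).toEquiv, hAc] at h1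
    refine Nat.eq_of_mul_eq_mul_right (pow_pos hp.out.pos 3) ?_
    rw [← pow_add, show n - 3 + 3 = n by omega, ← hcardC, h1, pow_succ p 2, mul_assoc]
  have hdec : ∀ u ∈ C, ∃ i : ℕ, ∃ v ∈ A, u = g ^ i * v := by
    intro u hu
    have htop : zpowers (QuotientGroup.mk' (A.subgroupOf C) ⟨g, hgC⟩) = ⊤ :=
      eq_top_of_card_eq _ (by rw [Nat.card_zpowers, hg'])
    obtain ⟨i, hi⟩ := (Submonoid.mem_powers_iff _ _).mp
      (mem_powers_iff_mem_zpowers.mpr (htop.ge (mem_top (QuotientGroup.mk' (A.subgroupOf C) ⟨u, hu⟩))))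
    refine ⟨i, (g ^ i)⁻¹ * u, ?_, (mul_inv_cancel_left _ _).symm⟩
    have h1 : (⟨g, hgC⟩ : C) ^ i = (⟨g ^ i, pow_mem hgC i⟩ : C) := Subtype.ext (Subgroup.coe_pow _ _ _)
    rw [← map_pow, h1] at hi
    exact mem_subgroupOf.mp (QuotientGroup.eq.mp hi)
  have hclos : ∀ x' y' z' : R, x ∈ closure ({x', y', z'} : Set R) → g ∈ closure ({x', y', z'} : Set R) →
      A ≤ closure ({x', y', z'} : Set R) → closure ({x', y', z'} : Set R) = ⊤ := by
    intro x' y' z' hx hg hA
    rw [eq_top_iff, ← sup_zpowers_of_index hCi hxC]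
    refine sup_le (fun u hu => ?_) (zpowers_le.mpr hx)
    obtain ⟨i, v, hv, rfl⟩ := hdec u hu
    exact mul_mem (pow_mem hg i) (hA hv)
  rcases Nat.eq_or_lt_of_le hn3 with rfl | hn4
  · -- the extraspecial group of order p³
    left
    obtain ⟨hζ, hζ1⟩ := hmove y₀ hy₀A
    set ζ := y₀⁻¹ * (x⁻¹ * y₀ * x)
    have hζc : ∀ r, r * ζ = ζ * r := mem_center_iff.mp (zpowers_le.mpr hzc hζ)
    refine ⟨le_rfl, x, y₀, ζ, hclos _ _ _ (subset_closure (Set.mem_insert _ _)) ?_ ?_, hxp, hA1 _ hy₀A, ?_,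
      hζc x, hζc y₀, ?_⟩
    · have hle : A ≤ closure ({x, y₀, ζ} : Set R) := (hAgen y₀ hy₀A hy₀c ζ hζ (hζ1 hy₀c)).trans
        (closure_mono (Set.subset_insert _ _))
      refine hle ?_
      have h1 : QuotientGroup.mk' (A.subgroupOf C) ⟨g, hgC⟩ = 1 :=
        orderOf_eq_one_iff.mp (by rw [hg', hcardQ, Nat.sub_self, pow_zero])
      exact mem_subgroupOf.mp ((QuotientGroup.eq_one_iff _).mp h1)
    · exact (hAgen y₀ hy₀A hy₀c ζ hζ (hζ1 hy₀c)).trans (closure_mono (Set.subset_insert _ _))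
    · rw [show 3 - 2 = 1 from rfl, pow_one]; exact hA1 _ (zpowers_le.mpr hzA hζ)
    · rw [show 3 - 3 = 0 from rfl, pow_zero, pow_one, mul_inv_cancel_left]
  -- the order of g
  obtain ⟨k, hk⟩ := IsPGroup.iff_orderOf.mp hR g
  have hgA : ∀ m : ℕ, g ^ m ∈ A ↔ p ^ (n - 3) ∣ m := fun m => by
    rw [← hcardQ, ← hg', orderOf_dvd_iff_pow_eq_one, ← map_pow]
    refine Iff.trans ?_ (QuotientGroup.eq_one_iff _).symm
    rw [mem_subgroupOf, Subgroup.coe_pow]
  have hk2 : k = n - 2 := by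
    have h1 : p ^ (n - 3) ∣ p ^ k := (hgA _).mp (by rw [← hk, pow_orderOf_eq_one]; exact one_mem A)
    rw [Nat.pow_dvd_pow_iff_le_right hp.out.one_lt] at h1
    have h2 : g ^ p ^ (n - 2) = 1 := by
      rw [show n - 2 = n - 3 + 1 by omega, pow_succ, pow_mul]
      exact hA1 _ ((hgA _).mpr dvd_rfl)
    have h3 := orderOf_dvd_of_pow_eq_one h2
    rw [hk, Nat.pow_dvd_pow_iff_le_right hp.out.one_lt] at h3
    by_contra hne
    have h4 : k = n - 3 := by omega
    have h5 := (hgA (p ^ (k - 1))).mp (hmax _ (pow_mem hgC _) (by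
      rw [← pow_mul, ← pow_succ, show k - 1 + 1 = k by omega, ← hk, pow_orderOf_eq_one]))
    rw [Nat.pow_dvd_pow_iff_le_right hp.out.one_lt] at h5
    omega
  subst hk2
  set t := g ^ p ^ (n - 3) with htdef
  have htA : t ∈ A := (hgA _).mpr dvd_rfl
  have ht1 : t ≠ 1 := fun h => by
    have h1 := orderOf_dvd_of_pow_eq_one h
    rw [hk, Nat.pow_dvd_pow_iff_le_right hp.out.one_lt] at h1
    omega
  have htp : orderOf t = p := orderOf_eq_prime (hA1 _ htA) ht1
  -- conjugation by x on g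
  obtain ⟨i, v, hvA, hσg⟩ := hdec _ (hσC g hgC)
  have hgv : Commute g v := hAC v hvA g hgC
  have hpow : ∀ m : ℕ, p ∣ m → x⁻¹ * g ^ m * x = g ^ (i * m) := fun m ⟨q, hq⟩ => by
    have h1 : (x⁻¹ * g * x) ^ m = x⁻¹ * g ^ m * x := by
      have := conj_pow (i := m) (a := x⁻¹) (b := g)
      rwa [inv_inv] at this
    rw [← h1, hσg, (hgv.pow_left i).mul_pow, ← pow_mul, hq, pow_mul v, hA1 v hvA, one_pow, mul_one]
  have htc : t ∈ center R := by
    refine hgen t (hAC t htA) ?_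
    have h1 : x⁻¹ * t * x = t ^ i := by
      rw [htdef, hpow _ (dvd_pow_self p (by omega)), ← pow_mul, mul_comm]
    have h2 : t⁻¹ * (x⁻¹ * t * x) ∈ zpowers z₀ := (hmove t htA).1
    by_contra hne
    have hnc' : t ∉ center R := fun h => hne (show x * t = t * x from mem_center_iff.mp h x)
    have h3 := (hmove t htA).2 hnc'
    rw [h1] at h2 h3
    have h4 : t⁻¹ * t ^ i ∈ zpowers t := mul_mem (inv_mem (mem_zpowers t)) (pow_mem (mem_zpowers t) i)
    have h5 : zpowers (t⁻¹ * t ^ i) = zpowers t := eq_of_le_of_card_ge (zpowers_le.mpr h4) (by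
      rw [Nat.card_zpowers, Nat.card_zpowers, htp,
        orderOf_eq_prime (hA1 _ (zpowers_le.mpr htA h4)) h3])
    exact hnc' (zpowers_le.mpr hzc (zpowers_le.mpr h2 (h5.ge (mem_zpowers t))))
  have htZ : t ∈ zpowers z₀ := hfix t htA htc
  have hZt : zpowers t = zpowers z₀ := eq_of_le_of_card_ge (zpowers_le.mpr htZ)
    (by rw [Nat.card_zpowers, Nat.card_zpowers, htp, hz])
  -- the exponent i is congruent to one modulo p^(n-3)
  have hiter : ∀ m : ℕ, (x ^ m)⁻¹ * g ^ p * x ^ m = g ^ (i ^ m * p) := by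
    intro m
    induction m with
    | zero => simp
    | succ m ih =>
      rw [pow_succ x, mul_inv_rev, show x⁻¹ * (x ^ m)⁻¹ * g ^ p * (x ^ m * x) =
        x⁻¹ * ((x ^ m)⁻¹ * g ^ p * x ^ m) * x by group, ih, hpow _ (dvd_mul_left _ _), pow_succ' i, mul_assoc]
  have hip : (i : ℤ) ^ p ≡ 1 [ZMOD (p : ℤ) ^ (n - 3)] := by
    have h1 := hiter p
    rw [hxp, inv_one, one_mul, mul_one, pow_eq_pow_iff_modEq, hk,
      show p ^ (n - 2) = p ^ (n - 3) * p by rw [← pow_succ]; congr 1; omega] at h1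
    have h2 : i ^ p * p ≡ 1 * p [MOD p ^ (n - 3) * p] := by rw [one_mul]; exact h1.symm
    have h3 := Nat.ModEq.mul_right_cancel' hp.out.ne_zero h2
    have h4 := Int.natCast_modEq_iff.mpr h3
    push_cast at h4
    exact h4
  have hi4 : ((p : ℤ) ^ (n - 4)) ∣ (i : ℤ) - 1 := by
    refine Cfsg.Lib.PGroups.CyclicIndexOdd.pow_dvd_sub_one hp.out hp2 ?_
    rw [show n - 4 + 1 = n - 3 by omega]
    exact Int.ModEq.dvd hip.symm
  have hi1 : (p : ℤ) ∣ (i : ℤ) - 1 := by
    have h1 : (p : ℤ) ∣ (i : ℤ) ^ p - 1 := (dvd_pow_self _ (by omega)).trans (Int.ModEq.dvd hip.symm)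
    rw [← ZMod.intCast_zmod_eq_zero_iff_dvd] at h1 ⊢
    push_cast at h1 ⊢
    rwa [ZMod.pow_card] at h1
  set σ := MulAut.conj x⁻¹ with hσdef
  have hσ : ∀ u, σ u = x⁻¹ * u * x := fun u => by rw [hσdef, MulAut.conj_apply, inv_inv]
  set b := g⁻¹ * σ g with hbdef
  have hbg : σ g = g * b := (mul_inv_cancel_left _ _).symm
  have hb' : b = g ^ ((i : ℤ) - 1) * v := by
    rw [hbdef, hσ, hσg, zpow_sub_one, zpow_natCast]; group
  set ζv := v⁻¹ * σ v with hζvdef
  have hζv : ζv ∈ zpowers z₀ := by rw [hζvdef, hσ]; exact (hmove v hvA).1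
  have hbp : b ^ p = g ^ (((i : ℤ) - 1) * p) := by
    rw [hb', (hgv.zpow_left _).mul_pow, hA1 v hvA, mul_one, zpow_mul, zpow_natCast]
  have hbpZ : b ^ p ∈ zpowers z₀ := by
    obtain ⟨j, hj⟩ := hi4
    rw [← hZt, hbp, hj, mul_comm ((p : ℤ) ^ (n - 4)), mul_assoc, ← pow_succ, show n - 4 + 1 = n - 3 by omega]
    refine ⟨j, ?_⟩
    show t ^ j = _
    rw [htdef, ← zpow_natCast g, ← zpow_mul, mul_comm j]
    push_cast
    rfl
  have hbC : b ∈ C := by rw [hbdef, hσ]; exact mul_mem (inv_mem hgC) (hσC g hgC)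
  have hgb : Commute g b := by
    rw [hb']; exact ((Commute.refl g).zpow_right _).mul_right hgv
  obtain ⟨v1, hv1c, hσb⟩ : ∃ v1 ∈ zpowers z₀, σ b = b * v1 := by
    obtain ⟨j, hj⟩ := hi1
    refine ⟨(b ^ p) ^ j * ζv, mul_mem (zpow_mem hbpZ j) hζv, ?_⟩
    have h1 : (b ^ p) ^ j = b ^ ((i : ℤ) - 1) := by rw [hj, zpow_mul, zpow_natCast]
    have h2 : Commute (b ^ ((i : ℤ) - 1)) v := (hAC v hvA b hbC).zpow_left _
    rw [h1]
    nth_rewrite 1 [hb']
    rw [map_mul, map_zpow, hbg, hgb.mul_zpow, show σ v = v * ζv from (mul_inv_cancel_left _ _).symm,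
      show b * (b ^ ((i : ℤ) - 1) * ζv) = g ^ ((i : ℤ) - 1) * v * b ^ ((i : ℤ) - 1) * ζv by rw [← hb']; exact (mul_assoc _ _ _).symm,
      mul_assoc (g ^ ((i : ℤ) - 1)) v, ← h2.eq]
    group
  have hσv1 : σ v1 = v1 := by
    rw [hσ, mul_assoc, ← mem_center_iff.mp (zpowers_le.mpr hzc hv1c) x, inv_mul_cancel_left]
  have hiter2 : ∀ m : ℕ, (x ^ m)⁻¹ * g * x ^ m = g * b ^ m * v1 ^ m.choose 2 := by
    intro m
    induction m with
    | zero => simp
    | succ m ih =>
      have hbv : Commute b v1 := mem_center_iff.mp (zpowers_le.mpr hzc hv1c) b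
      rw [pow_succ x, mul_inv_rev, show x⁻¹ * (x ^ m)⁻¹ * g * (x ^ m * x) =
        x⁻¹ * ((x ^ m)⁻¹ * g * x ^ m) * x by group, ih, ← hσ, map_mul, map_mul, map_pow, map_pow, hσb, hσv1,
        hbg, hbv.mul_pow, Nat.choose_succ_succ' m 1, Nat.choose_one_right, pow_succ' b, pow_add v1]
      group
  have hi3 : ((p : ℤ) ^ (n - 3)) ∣ (i : ℤ) - 1 := by
    have h := hiter2 p
    rw [hxp, inv_one, one_mul, mul_one, pow_choose_two hp2 (hA1 _ (zpowers_le.mpr hzA hv1c)), mul_one] at h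
    have h1 : b ^ p = 1 := mul_eq_left.mp h.symm
    rw [hbp, ← orderOf_dvd_iff_zpow_eq_one, hk] at h1
    refine Int.dvd_of_mul_dvd_mul_right (a := (p : ℤ)) (by exact_mod_cast hp.out.ne_zero) ?_
    refine dvd_trans (dvd_of_eq ?_) h1
    rw [← pow_succ, show n - 3 + 1 = n - 2 by omega]
    push_cast
    rfl
  have hbA : b ∈ A := by
    obtain ⟨j, hj⟩ := hi3
    rw [hb', hj]
    refine mul_mem ?_ hvA
    rw [zpow_mul, show (p : ℤ) ^ (n - 3) = ((p ^ (n - 3) : ℕ) : ℤ) by push_cast; rfl, zpow_natCast]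
    exact zpow_mem htA j
  obtain ⟨hζb, hζb1⟩ := hmove b hbA
  rw [← hσ] at hζb hζb1
  set ζ := b⁻¹ * σ b with hζdef
  have hζc : ∀ r, r * ζ = ζ * r := mem_center_iff.mp (zpowers_le.mpr hzc hζb)
  by_cases hbc : b ∈ center R
  · -- an element outside A which commutes with x
    left
    obtain ⟨hε, hε1⟩ := hmove y₀ hy₀A
    rw [← hσ] at hε hε1
    set ε := y₀⁻¹ * σ y₀ with hεdef
    have hσy : σ y₀ = y₀ * ε := (mul_inv_cancel_left _ _).symm
    have hεp : orderOf ε = p := orderOf_eq_prime (hA1 _ (zpowers_le.mpr hzA hε)) (hε1 hy₀c)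
    have hZε : zpowers ε = zpowers z₀ := eq_of_le_of_card_ge (zpowers_le.mpr hε)
      (by rw [Nat.card_zpowers, Nat.card_zpowers, hεp, hz])
    have hεc : ∀ r, r * ε = ε * r := mem_center_iff.mp (zpowers_le.mpr hzc hε)
    obtain ⟨l, hl⟩ := mem_zpowers_iff.mp (hZε.ge (hfix b hbA hbc))
    set g2 := g * (y₀ ^ l)⁻¹ with hg2def
    have hσg2 : σ g2 = g2 := by
      rw [hg2def, map_mul, map_inv, map_zpow, hbg, hσy, ← hl, (show Commute y₀ ε from hεc y₀).mul_zpow,
        mul_inv_rev]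
      group
    have hgy : Commute g y₀ := hAC y₀ hy₀A g hgC
    have hg2p : ∀ m : ℕ, p ∣ m → g2 ^ m = g ^ m := fun m ⟨q, hq⟩ => by
      rw [hg2def, ((hgy.zpow_right l).inv_right).mul_pow, inv_pow, hq, pow_mul (y₀ ^ l), ← zpow_natCast (y₀ ^ l),
        ← zpow_mul, mul_comm l, zpow_mul, zpow_natCast, hA1 y₀ hy₀A, one_zpow, one_pow, inv_one, mul_one]
    obtain ⟨a, ha⟩ := (Submonoid.mem_powers_iff _ _).mp (mem_powers_iff_mem_zpowers.mpr (hZε.ge htZ))
    have hσa : ∀ (m : ℕ) (u : R), (x ^ m)⁻¹ * u * x ^ m = (σ ^ m) u := fun m u => by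
      rw [hσdef, ← map_pow, MulAut.conj_apply, inv_pow, inv_inv]
    have hσay : ∀ m : ℕ, (σ ^ m) y₀ = y₀ * ε ^ m := by
      intro m
      induction m with
      | zero => simp
      | succ m ih =>
        have hσε : σ ε = ε := by rw [hσ, mul_assoc, ← hεc x, inv_mul_cancel_left]
        rw [pow_succ' σ, MulAut.mul_apply, ih, map_mul, map_pow, hσy, hσε, mul_assoc, ← pow_succ']
    have hapos : ¬ p ∣ a := fun hd => ht1 (by
      rw [← ha]; exact orderOf_dvd_iff_pow_eq_one.mp (hεp ▸ hd))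
    obtain ⟨a', ha'⟩ := exists_pow_eq_self_of_coprime (x := x) (n := a)
      ((hp.out.coprime_iff_not_dvd.mpr hapos).symm.coprime_dvd_right (orderOf_dvd_of_pow_eq_one hxp))
    refine ⟨hn3, x ^ a, y₀, g2, hclos _ _ _ ?_ ?_ ?_, ?_, hA1 _ hy₀A, ?_, ?_, ?_, ?_⟩
    · have h1 := pow_mem (subset_closure (Set.mem_insert (x ^ a) ({y₀, g2} : Set R))) a'
      rwa [ha'] at h1
    · have h1 : g = g2 * y₀ ^ l := by rw [hg2def, inv_mul_cancel_right]
      have h2 : g2 ∈ closure ({x ^ a, y₀, g2} : Set R) := subset_closure (by simp)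
      have h3 : y₀ ∈ closure ({x ^ a, y₀, g2} : Set R) := subset_closure (by simp)
      rw [h1]
      exact mul_mem h2 (zpow_mem h3 l)
    · refine (hAgen y₀ hy₀A hy₀c t htZ ht1).trans ((closure_le _).mpr ?_)
      refine Set.insert_subset (subset_closure (by simp)) (Set.singleton_subset_iff.mpr ?_)
      rw [htdef, ← hg2p _ (dvd_pow_self p (by omega))]
      exact pow_mem (subset_closure (by simp)) _
    · rw [← pow_mul, mul_comm, pow_mul, hxp, one_pow]
    · rw [hg2p _ (dvd_pow_self p (by omega)), ← hk, pow_orderOf_eq_one]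
    · have h1 : Commute x g2 := by
        have h2 := hσg2
        rw [hσ, mul_assoc, inv_mul_eq_iff_eq_mul] at h2
        exact h2.symm
      exact (h1.pow_left a).eq
    · exact (hgy.symm.mul_right ((Commute.refl y₀).zpow_right l).inv_right).eq
    · rw [hσa, hσay, hg2p _ (dvd_pow_self p (by omega)), ha]
  -- the third family
  right
  refine ⟨hn4, ?_⟩
  have hζ1' : ζ ≠ 1 := hζb1 hbc
  obtain ⟨k₀, hk₀⟩ := (Submonoid.mem_powers_iff _ _).mp (mem_powers_iff_mem_zpowers.mpr (hZt.ge hζb))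
  have hk₀p : ((k₀ : ℕ) : ZMod p) ≠ 0 := fun h => hζ1' (by
    rw [← hk₀]
    exact orderOf_dvd_iff_pow_eq_one.mp (htp ▸ (ZMod.natCast_eq_zero_iff k₀ p).mp h))
  have hσbb : σ b = b * ζ := (mul_inv_cancel_left _ _).symm
  have hσζ : σ ζ = ζ := by rw [hσ, mul_assoc, ← hζc x, inv_mul_cancel_left]
  have hσa : ∀ (m : ℕ) (u : R), (x ^ m)⁻¹ * u * x ^ m = (σ ^ m) u := fun m u => by
    rw [hσdef, ← map_pow, MulAut.conj_apply, inv_pow, inv_inv]
  have hσab : ∀ m : ℕ, (σ ^ m) b = b * ζ ^ m ∧ (σ ^ m) ζ = ζ ∧ (σ ^ m) g = g * (b ^ m * ζ ^ m.choose 2) := by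
    intro m
    induction m with
    | zero => simp
    | succ m ih =>
      obtain ⟨h1, h2, h3⟩ := ih
      refine ⟨?_, ?_, ?_⟩
      · rw [pow_succ' σ, MulAut.mul_apply, h1, map_mul, map_pow, hσbb, hσζ, mul_assoc, ← pow_succ']
      · rw [pow_succ' σ, MulAut.mul_apply, h2, hσζ]
      · rw [pow_succ' σ, MulAut.mul_apply, h3, map_mul, map_mul, map_pow, map_pow, hσbb, hσζ, hbg,
          (show Commute b ζ from hζc b).mul_pow, Nat.choose_succ_succ' m 1, Nat.choose_one_right, pow_succ' b,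
          pow_add ζ]
        group
  obtain ⟨s, a, hs, hapos, hsa⟩ : ∃ s a : ℕ, (s = 1 ∨ ¬ IsSquare (s : ZMod p)) ∧ ¬ p ∣ a ∧
      ((k₀ * a * a : ℕ) : ZMod p) = (s : ZMod p) := by
    by_cases hsq : IsSquare (k₀ : ZMod p)
    · obtain ⟨r, hr⟩ := hsq
      have hr0 : r ≠ 0 := fun h => hk₀p (by rw [hr, h, mul_zero])
      refine ⟨1, r⁻¹.val, Or.inl rfl, fun hd => ?_, ?_⟩
      · have h1 : ((r⁻¹.val : ℕ) : ZMod p) = 0 := (ZMod.natCast_eq_zero_iff _ p).mpr hd
        rw [ZMod.natCast_zmod_val] at h1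
        exact hr0 (inv_eq_zero.mp h1)
      · push_cast
        rw [ZMod.natCast_zmod_val, hr]
        field_simp
    · exact ⟨k₀, 1, Or.inr hsq, hp.out.not_dvd_one, by rw [mul_one, mul_one]⟩
  set y' := b ^ a * ζ ^ a.choose 2 with hy'def
  have hy'A : y' ∈ A := mul_mem (pow_mem hbA a) (pow_mem (zpowers_le.mpr hzA hζb) _)
  have hy'c : y' ∉ center R := by
    intro h
    have h1 : b ^ a ∈ center R := by
      have := mul_mem h (inv_mem (pow_mem (zpowers_le.mpr hzc hζb) (a.choose 2)))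
      rwa [hy'def, mul_inv_cancel_right] at this
    obtain ⟨a', ha'⟩ := exists_pow_eq_self_of_coprime (x := b) (n := a)
      ((hp.out.coprime_iff_not_dvd.mpr hapos).symm.coprime_dvd_right (orderOf_dvd_of_pow_eq_one (hA1 b hbA)))
    exact hbc (ha' ▸ pow_mem h1 a')
  obtain ⟨a', ha'⟩ := exists_pow_eq_self_of_coprime (x := x) (n := a)
    ((hp.out.coprime_iff_not_dvd.mpr hapos).symm.coprime_dvd_right (orderOf_dvd_of_pow_eq_one hxp))
  refine ⟨s, x ^ a, y', g, hs, hclos _ _ _ ?_ (subset_closure (by simp)) ?_, ?_, hA1 _ hy'A,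
    by rw [← hk, pow_orderOf_eq_one], ((hAC y' hy'A g hgC).symm).eq, ?_, ?_⟩
  · have h1 := pow_mem (subset_closure (Set.mem_insert (x ^ a) ({y', g} : Set R))) a'
    rwa [ha'] at h1
  · refine (hAgen y' hy'A hy'c t htZ ht1).trans ((closure_le _).mpr ?_)
    exact Set.insert_subset (subset_closure (by simp))
      (Set.singleton_subset_iff.mpr (pow_mem (subset_closure (by simp)) _))
  · rw [← pow_mul, mul_comm, pow_mul, hxp, one_pow]
  · rw [hσa, hy'def, map_mul, map_pow, map_pow, (hσab a).1, (hσab a).2.1,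
      (show Commute b (ζ ^ a) from ((show Commute b ζ from hζc b)).pow_right a).mul_pow, mul_assoc,
      ← pow_mul ζ, ← pow_add, add_comm, pow_add, ← mul_assoc]
    congr 1
    rw [← hk₀, ← pow_mul, mul_comm s, pow_mul g, ← htdef, pow_eq_pow_iff_modEq, htp,
      ← (ZMod.natCast_eq_natCast_iff _ _ p), ← hsa, mul_assoc]
  · rw [hσa, (hσab a).2.2, hy'def]
    exact (hAC _ hy'A g hgC).eq

end Cfsg.Lib.PGroups.RankTwoOdd
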