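import Cfsg.Agent.PGroups.MetacyclicTwo
import Cfsg.Agent.PGroups.QuasiDihedral
import Cfsg.Agent.Wreathed.Facts

/-!
Quasi-dihedral and wreathed groups have no automorphism of odd order.
-/

set_option autoImplicit false
set_option linter.unusedSectionVars false

namespace Cfsg.Lib.MetaTwo

open Subgroup

/-- An invariant subgroup of index 2 and two generators: the automorphism group is a 2-group. -/
theorem isPGroup_mulAut_of_char {Q : Type*} [Group Q] [Finite Q] (hQ : IsPGroup 2 Q) (hnc : ¬ IsCyclic Q)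
    (x z : Q) (hgen : closure ({x, z} : Set Q) = ⊤) (M : Subgroup Q) (hM : M.index = 2)
    (hinv : ∀ a : MulAut Q, ∀ q ∈ M, a q ∈ M) : IsPGroup 2 (MulAut Q) := by
  haveI : Fact (Nat.Prime 2) := ⟨Nat.prime_two⟩
  haveI : Finite (MulAut Q) := Finite.of_injective (fun f : MulAut Q => (f : Q → Q)) DFunLike.coe_injective
  set V := Q ⧸ frattini Q
  have hV : ∀ v : V, v * v = 1 := fun v => by
    rw [← pow_two]; exact Cfsg.Lib.PGroups.pow_prime_quotient_frattini hQ v
  have hVc : ∀ v w : V, v * w = w * v := fun v w =>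
    (Cfsg.Lib.PGroups.isMulCommutative_quotient_frattini hQ).is_comm.comm v w
  let four : Finset V := by
    classical exact {1, (x : V), (z : V), (x : V) * (z : V)}
  have hfour : ∀ q : Q, (q : V) ∈ four := by
    intro q
    have hq : q ∈ closure ({x, z} : Set Q) := hgen ▸ mem_top q
    induction hq using closure_induction with
    | mem y hy =>
      rcases hy with rfl | hy
      · simp [four]
      · rw [Set.mem_singleton_iff] at hy; subst hy; simp [four]
    | one => simp [four]
    | mul y y' _ _ h h' =>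
      simp only [four, Finset.mem_insert, Finset.mem_singleton, QuotientGroup.mk_mul] at h h' ⊢
      have e1 := hV (x : V)
      have e2 := hV (z : V)
      have e3 := hVc (z : V) (x : V)
      have e4 : (x : V) * ((x : V) * (z : V)) = z := by rw [← mul_assoc, e1, one_mul]
      have e5 : (z : V) * ((x : V) * (z : V)) = x := by rw [← mul_assoc, e3, mul_assoc, e2, mul_one]
      have e6 : (x : V) * (z : V) * (x : V) = z := by rw [mul_assoc, e3, ← mul_assoc, e1, one_mul]
      have e7 : (x : V) * (z : V) * (z : V) = x := by rw [mul_assoc, e2, mul_one]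
      rcases h with h | h | h | h <;> rcases h' with h' | h' | h' | h' <;>
        simp [h, h', e1, e2, e3, e4, e5, e6, e7, hV]
    | inv y _ h =>
      rw [QuotientGroup.mk_inv, inv_eq_of_mul_eq_one_right (hV (y : V))]
      exact h
  have h4 : Nat.card V ≤ 4 := by
    classical
    have hsur : Function.Surjective (fun u : four => (u : V)) := fun v => by
      obtain ⟨q, rfl⟩ := QuotientGroup.mk_surjective v
      exact ⟨⟨_, hfour q⟩, rfl⟩
    refine (Nat.card_le_card_of_surjective _ hsur).trans ?_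
    rw [Nat.card_eq_finsetCard]
    exact Finset.card_le_four
  have hΦM : frattini Q ≤ M := by
    refine frattini_le_coatom ⟨fun h => by rw [h, index_top] at hM; omega, fun L hL => ?_⟩
    rcases (Nat.dvd_prime Nat.prime_two).mp (hM ▸ index_dvd_of_le hL.le) with h | h
    · exact index_eq_one.mp h
    · exfalso
      refine hL.ne (le_antisymm hL.le (relIndex_eq_one.mp ?_))
      have h2 := relIndex_mul_index hL.le
      rw [hM, h] at h2
      omega
  obtain ⟨u, huM, huΦ⟩ : ∃ u ∈ M, u ∉ frattini Q := by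
    by_contra h
    push Not at h
    refine hnc ?_
    haveI : IsCyclic (Q ⧸ frattini Q) := isCyclic_of_prime_card (p := 2) (by
      rw [← Subgroup.index_eq_card, ← hM]
      congr 1
      exact le_antisymm hΦM h)
    exact Cfsg.Lib.PGroups.isCyclic_of_isCyclic_quotient_frattini
  intro a
  obtain ⟨k, m, hm, hkm⟩ := Nat.exists_eq_two_pow_mul_odd (n := orderOf a) (orderOf_pos a).ne'
  refine ⟨k, ?_⟩
  set b := a ^ 2 ^ k with hb
  have hbo : Odd (orderOf b) := by
    refine Odd.of_dvd_nat hm (orderOf_dvd_of_pow_eq_one ?_)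
    rw [hb, ← pow_mul, ← hkm, pow_orderOf_eq_one]
  refine eq_one_of_mem_stab hQ hbo ?_
  have hmap : (frattini Q).map (b : Q ≃* Q).toMonoidHom = frattini Q :=
    characteristic_iff_map_eq.mp inferInstance b
  let f : MulAut V := QuotientGroup.congr _ _ b hmap
  have hf : ∀ q : Q, f (q : V) = ((b q : Q) : V) := fun q => rfl
  have hpow : ∀ j : ℕ, ∀ q : Q, (f ^ j) (q : V) = (((b ^ j) q : Q) : V) := by
    intro j
    induction j with
    | zero => intro q; rfl
    | succ j ih => intro q; rw [pow_succ, MulAut.mul_apply, hf, ih, pow_succ, MulAut.mul_apply]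
  have hfo : Odd (orderOf f) := by
    refine Odd.of_dvd_nat hbo (orderOf_dvd_of_pow_eq_one (MulEquiv.ext fun v => ?_))
    obtain ⟨q, rfl⟩ := QuotientGroup.mk_surjective v
    rw [hpow, pow_orderOf_eq_one]
    rfl
  intro q
  rw [← QuotientGroup.eq_one_iff, QuotientGroup.mk_mul, QuotientGroup.mk_inv, ← hf]
  by_cases hf1 : f = 1
  · rw [hf1, MulAut.one_apply, mul_inv_cancel]
  exfalso
  obtain ⟨-, hall⟩ := four_fpf hV h4 hfo hf1 (u : V) (fun h => huΦ ((QuotientGroup.eq_one_iff u).mp h))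
  have hMtop : ∀ w : Q, w ∈ M := by
    intro w
    have hmem : ∀ y : Q, y ∈ M → ∀ y' : Q, (y' : V) = y → y' ∈ M := fun y hy y' e => by
      have := mul_mem hy (hΦM (QuotientGroup.eq.mp e.symm))
      rwa [mul_inv_cancel_left] at this
    rcases hall (w : V) with h | h | h | h
    · exact hΦM ((QuotientGroup.eq_one_iff w).mp h)
    · exact hmem u huM w h
    · exact hmem _ (hinv b u huM) w (h.trans (hf u))
    · exact hmem _ (mul_mem huM (hinv b u huM)) w (by rw [h, QuotientGroup.mk_mul, hf])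
  rw [(eq_top_iff' M).mpr hMtop, index_top] at hM
  omega

theorem isPGroup_mulAut_quasiDihedral {Q : Type*} [Group Q] [Finite Q] (hQ : Cfsg.IsQuasiDihedral Q) :
    IsPGroup 2 (MulAut Q) := by
  open Cfsg.Lib.CyclicMax in
  obtain ⟨m, a, b, hm, hT⟩ := Cfsg.Lib.QD.exists_gen hQ
  have hne : (8 : ℕ) ≤ 2 ^ m := by
    calc (8 : ℕ) = 2 ^ 3 := rfl
      _ ≤ 2 ^ m := Nat.pow_le_pow_right two_pos hm
  have hsq : ∀ i : ℤ, (a ^ i * b) ^ 4 = 1 := fun i => by
    rw [show (4 : ℕ) = 2 * 2 from rfl, pow_mul, pow_two (a ^ i * b), Cfsg.Lib.QD.sq_b ⟨hm, hT⟩, pow_two,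
      ← zpow_add, zpow_eq_one hT, (Cfsg.Lib.QD.pows ⟨hm, hT⟩).1]
    exact ⟨i, by ring⟩
  refine isPGroup_mulAut_of_char (Cfsg.Lib.QD.isPGroup ⟨hm, hT⟩) (fun hc => ?_) a b (closure_pair_eq_top hT)
    (zpowers a) (index_zpowers hT) fun f q hq => ?_
  · letI : CommGroup Q := IsCyclic.commGroup
    have h := hT.conj
    rw [mul_comm b a, mul_inv_cancel_right] at h
    nth_rewrite 1 [← zpow_one a] at h
    rw [zpow_eq_iff hT] at h
    obtain ⟨c, hc⟩ := h
    obtain ⟨p1, p2, -⟩ := Cfsg.Lib.QD.pows (b := b) ⟨hm, hT⟩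
    rw [p1, p2] at hc
    have hc' : (2 : ℤ) * (2 ^ (m - 2) - 1) = 2 * (2 * 2 ^ (m - 2) * c) := by linarith
    have h3 := mul_left_cancel₀ two_ne_zero hc'
    obtain ⟨d, hd⟩ : (2 : ℤ) ∣ 2 ^ (m - 2) := dvd_pow_self 2 (by omega)
    rw [hd, mul_assoc 2 (2 * d) c] at h3
    omega
  · have hfa : f a ∈ zpowers a := by
      rcases cases hT (f a) with ⟨i, hi⟩ | ⟨i, hi⟩
      · exact hi ▸ zpow_mem (mem_zpowers a) i
      · exfalso
        have ho : orderOf (f a) ∣ 4 := orderOf_dvd_of_pow_eq_one (hi ▸ hsq i)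
        rw [MulEquiv.orderOf_eq, hT.ord] at ho
        have := Nat.le_of_dvd (by norm_num) ho
        omega
    obtain ⟨i, rfl⟩ := hq
    show f (a ^ i) ∈ zpowers a
    rw [map_zpow]
    exact zpow_mem hfa i

theorem isPGroup_mulAut_wr {n : ℕ} (hn : 2 ≤ n) : IsPGroup 2 (MulAut (Cfsg.Lib.Wreathed.Wr n)) := by
  open Cfsg.Lib.Wreathed in
  haveI : Fact (Nat.Prime 2) := ⟨Nat.prime_two⟩
  have hidx : (base n).index = 2 := by
    have h := (base n).card_mul_index
    rw [base_card, Wr.card_eq, pow_succ] at h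
    exact Nat.eq_of_mul_eq_mul_left (Nat.two_pow_pos (2 * n)) h
  have hgen : ∀ p : Wr n, p ∈ closure ({⟨1, 0, false⟩, ⟨0, 0, true⟩} : Set (Wr n)) := by
    set C := closure ({⟨1, 0, false⟩, ⟨0, 0, true⟩} : Set (Wr n))
    have hz : (⟨0, 0, true⟩ : Wr n) ∈ C := subset_closure (Or.inr rfl)
    have hx : ∀ k : ℕ, (⟨(k : ZMod (2 ^ n)), 0, false⟩ : Wr n) ∈ C := by
      intro k
      induction k with
      | zero => convert one_mem C using 1; ext <;> simp
      | succ k ih =>
        convert mul_mem ih (subset_closure (Or.inl rfl) : (⟨1, 0, false⟩ : Wr n) ∈ C) using 1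
        ext <;> simp
    intro p
    haveI : NeZero (2 ^ n) := ⟨(Nat.two_pow_pos n).ne'⟩
    have h1 : (⟨p.a, 0, false⟩ : Wr n) ∈ C := by simpa using hx p.a.val
    have h2 : (⟨0, p.b, false⟩ : Wr n) ∈ C := by
      have : (⟨p.b, 0, false⟩ : Wr n) ∈ C := by simpa using hx p.b.val
      convert mul_mem (mul_mem hz this) hz using 1
      ext <;> simp
    rcases p with ⟨a, b, _ | _⟩
    · convert mul_mem h1 h2 using 1
      ext <;> simp
    · convert mul_mem (mul_mem h1 h2) hz using 1
      ext <;> simp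
  refine isPGroup_mulAut_of_char (IsPGroup.of_card (n := 2 * n + 1) Wr.card_eq) (fun hc => ?_)
    ⟨1, 0, false⟩ ⟨0, 0, true⟩ ((eq_top_iff' _).mpr hgen) (base n) hidx fun f q hq => ?_
  · letI : CommGroup (Wr n) := IsCyclic.commGroup
    have h := congrArg Wr.a (mul_comm (⟨1, 0, false⟩ : Wr n) ⟨0, 0, true⟩)
    simp at h
    haveI : Fact (1 < 2 ^ n) := ⟨Nat.one_lt_two_pow (by omega)⟩
    exact one_ne_zero h
  · have hab : IsMulCommutative ((base n).map (f : Wr n ≃* Wr n).toMonoidHom) := by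
      refine ⟨⟨fun y y' => ?_⟩⟩
      obtain ⟨_, p, hp, rfl⟩ := y
      obtain ⟨_, p', hp', rfl⟩ := y'
      refine Subtype.ext ?_
      show f p * f p' = f p' * f p
      rw [← map_mul, ← map_mul]
      exact congrArg f (congrArg Subtype.val (base_comm (⟨p, hp⟩ : base n) ⟨p', hp'⟩))
    have hcard : Nat.card ((base n).map (f : Wr n ≃* Wr n).toMonoidHom) = 2 ^ (2 * n) := by
      rw [card_map_of_injective (MulEquiv.injective f), base_card]
    have heq : (base n).map (f : Wr n ≃* Wr n).toMonoidHom = base n :=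
      existsUnique_abelian hn _ hab hcard
    exact heq.le ⟨q, hq, rfl⟩

theorem isPGroup_mulAut_congr {p : ℕ} {A B : Type*} [Group A] [Group B] (e : A ≃* B)
    (h : IsPGroup p (MulAut A)) : IsPGroup p (MulAut B) :=
  h.of_equiv (MulAut.congr e)

end Cfsg.Lib.MetaTwo
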