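/-
A normal elementary abelian subgroup of order `p ^ 4` in a `p`-group, `p` odd, having an
elementary abelian subgroup of that order.

Let `A` be maximal normal elementary abelian, of order `p ^ 3`, and `E` of order `p ^ 4`.
Then `W = E ⊓ A` has order `p ^ 2` and is normal, and two conjugates of `E` normalizing each
other generate a group of exponent `p` inside `E ⊔ A`, hence are equal.
-/
import Cfsg.Agent.OddLocal.RankTwo
import Cfsg.Agent.SolvStruct.NormalRankThree
import Cfsg.Agent.PGroups.Commutators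

set_option autoImplicit false
set_option linter.style.haveILetI false

namespace Cfsg.Lib.PGroups.NormalRankFour

open Subgroup
open scoped commutatorElement

universe u

variable {G : Type u} [Group G] [Finite G] {p : ℕ} [hp : Fact p.Prime]

lemma card_mul_relIndex' {H K : Subgroup G} (h : H ≤ K) :
    Nat.card H * H.relIndex K = Nat.card K := by
  have h2 := relIndex_mul_relIndex (⊥ : Subgroup G) H K bot_le h
  rwa [relIndex_bot_left, relIndex_bot_left] at h2

lemma comm_of {E : Subgroup G} (hE : Cfsg.IsElementaryAbelian p E) {x y : G} (hx : x ∈ E)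
    (hy : y ∈ E) : x * y = y * x :=
  congrArg Subtype.val (hE.1.is_comm.comm (⟨x, hx⟩ : E) ⟨y, hy⟩)

/-- An elementary abelian group acting on a normal subgroup of order `p ^ 3` induces at most
`p ^ 2` automorphisms. -/
lemma le_card_inf_centralizer (hG : IsPGroup p G) {A : Subgroup G} [A.Normal]
    (hA3 : Nat.card A = p ^ 3)
    (hAc : ∀ a ∈ A, ∀ b ∈ A, a * b = b * a) (E : Subgroup G)
    (hE : Cfsg.IsElementaryAbelian p E) :
    Nat.card E ≤ p ^ 2 * Nat.card ↥(E ⊓ centralizer (A : Set G)) := by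
  obtain ⟨B, hBn, hBA, hB⟩ :=
    Cfsg.Lib.SolvStruct.exists_normal_card_pow_le hG A 2
      (by rw [hA3]; exact Nat.pow_le_pow_right hp.out.pos (by norm_num))
  haveI := hBn
  have hCB : (centralizer (B : Set G)).index ≤ p :=
    (Cfsg.Lib.PGroups.index_centralizer_le_of_normal hG 2 B hBn hB).trans (by norm_num)
  obtain ⟨a₀, ha₀, ha₀B⟩ : ∃ a ∈ A, a ∉ B := by
    by_contra h
    push Not at h
    have hc := card_le_of_le (show A ≤ B from h)
    rw [hA3, hB] at hc
    have := (Nat.pow_le_pow_iff_right hp.out.one_lt).1 hc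
    omega
  have hBi : B.relIndex A = p := by
    have h := card_mul_relIndex' hBA
    rw [hB, hA3, pow_succ p 2] at h
    exact Nat.eq_of_mul_eq_mul_left (pow_pos hp.out.pos 2) h
  have hgen : B ⊔ zpowers a₀ = A := by
    refine eq_of_le_of_card_ge (sup_le hBA (zpowers_le.2 ha₀)) ?_
    obtain ⟨j, hj⟩ := IsPGroup.iff_card.mp (hG.to_subgroup (B ⊔ zpowers a₀))
    have hlt : B < B ⊔ zpowers a₀ :=
      lt_of_le_of_ne le_sup_left fun h => ha₀B (h ▸ mem_sup_right (mem_zpowers a₀))
    have h2 : p ^ 2 < p ^ j := by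
      rw [← hB, ← hj]
      by_contra hle
      exact hlt.ne (eq_of_le_of_card_ge le_sup_left (not_lt.1 hle))
    rw [hA3, hj]
    exact Nat.pow_le_pow_right hp.out.pos ((Nat.pow_lt_pow_iff_right hp.out.one_lt).1 h2)
  -- every element of `G` moves `a₀` inside its coset of `B`
  have hmov : ∀ g : G, ⁅g, a₀⁆ ∈ B := by
    intro g
    have hq : Nat.card ↥(A.map (QuotientGroup.mk' B)) = p := by
      have h := relIndex_ker A (QuotientGroup.mk' B)
      rw [QuotientGroup.ker_mk', hBi] at h
      exact h.symm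
    haveI : (A.map (QuotientGroup.mk' B)).Normal :=
      Normal.map inferInstance _ (QuotientGroup.mk'_surjective B)
    have h1 := Cfsg.Lib.PGroups.le_center_of_card_eq_prime (hG.to_quotient B) hq
      (mem_map_of_mem (QuotientGroup.mk' B) ha₀)
    rw [← QuotientGroup.eq_one_iff]
    have h2 : QuotientGroup.mk' B g * QuotientGroup.mk' B a₀ =
        QuotientGroup.mk' B a₀ * QuotientGroup.mk' B g := mem_center_iff.1 h1 _
    rw [← map_mul, ← map_mul] at h2
    show QuotientGroup.mk' B ⁅g, a₀⁆ = 1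
    rw [commutatorElement_def]
    simp only [map_mul, map_inv]
    rw [← map_mul, h2, map_mul]
    group
  set K := E ⊓ centralizer (B : Set G) with hK
  set L := E ⊓ centralizer (A : Set G) with hL
  have hLK : L ≤ K := inf_le_inf_left E (centralizer_le (SetLike.coe_subset_coe.mpr hBA))
  have hKi : K.relIndex E ≤ p := by
    rw [hK, inf_relIndex_left]
    exact (Nat.le_of_dvd (Nat.pos_of_ne_zero index_ne_zero_of_finite)
      (relIndex_dvd_index_of_normal _ _)).trans hCB
  have hcK : ∀ k ∈ K, ∀ b ∈ B, k * b = b * k := fun k hk b hb =>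
    (mem_centralizer_iff.1 hk.2 b hb).symm
  -- the homomorphism `k ↦ ⁅k, a₀⁆` on `K`
  let f : ↥K →* ↥B :=
    MonoidHom.mk' (fun k => ⟨⁅(k : G), a₀⁆, hmov k⟩) (by
      intro x y
      apply Subtype.ext
      show ⁅(x : G) * y, a₀⁆ = ⁅(x : G), a₀⁆ * ⁅(y : G), a₀⁆
      have h1 := hcK x x.2 _ (hmov (y : G))
      have h2 : ⁅(x : G), a₀⁆ * ⁅(y : G), a₀⁆ = ⁅(y : G), a₀⁆ * ⁅(x : G), a₀⁆ :=
        hAc _ (hBA (hmov x)) _ (hBA (hmov y))
      rw [h2, show ⁅(x : G) * y, a₀⁆ = ((x : G) * ⁅(y : G), a₀⁆ * (x : G)⁻¹) * ⁅(x : G), a₀⁆ by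
        simp only [commutatorElement_def]; group, h1]
      group)
  have hker : f.ker.map K.subtype = L := by
    ext x
    constructor
    · rintro ⟨⟨y, hy⟩, hfy, rfl⟩
      refine ⟨hy.1, mem_centralizer_iff.2 fun a ha => ?_⟩
      have h0 : ⁅y, a₀⁆ = 1 := congrArg Subtype.val hfy
      have hle : A ≤ centralizer ({y} : Set G) := by
        rw [← hgen]
        refine sup_le (fun b hb => mem_centralizer_singleton_iff.2 ?_) (zpowers_le.2 ?_)
        · exact (hcK y hy b hb).symm
        · exact mem_centralizer_singleton_iff.2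
            (commutatorElement_eq_one_iff_mul_comm.1 h0).symm
      exact mem_centralizer_singleton_iff.1 (hle ha)
    · intro hx
      refine ⟨⟨x, hLK hx⟩, ?_, rfl⟩
      exact Subtype.ext (commutatorElement_eq_one_iff_mul_comm.2
        (mem_centralizer_iff.1 hx.2 a₀ ha₀).symm)
  have hKcard : Nat.card K = Nat.card f.range * Nat.card L := by
    rw [← hker, card_map_of_injective K.subtype_injective, ← index_ker f]
    exact (index_mul_card f.ker).symm
  have hEcard : Nat.card E = Nat.card K * K.relIndex E := (card_mul_relIndex' inf_le_left).symm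
  have hrange : Nat.card f.range ≤ p ^ 2 :=
    hB ▸ Nat.card_le_card_of_injective _ Subtype.val_injective
  by_cases hEB : E ≤ centralizer (B : Set G)
  · have : K = E := inf_eq_left.2 hEB
    rw [← this, hKcard]
    exact Nat.mul_le_mul_right _ hrange
  · obtain ⟨e, he, heB⟩ := SetLike.not_le_iff_exists.1 hEB
    have hlt : Nat.card f.range ≤ p := by
      obtain ⟨j, hj⟩ := (Nat.dvd_prime_pow hp.out).1 (hB ▸ card_subgroup_dvd_card f.range)
      rcases Nat.lt_or_ge j 2 with hj2 | hj2
      · rw [hj.2]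
        exact (Nat.pow_le_pow_right hp.out.pos (Nat.lt_succ_iff.1 hj2)).trans (pow_one p).le
      · exfalso
        refine heB (mem_centralizer_iff.2 fun z hz => ?_)
        have htop : f.range = ⊤ := eq_top_of_card_eq _ (by
          rw [hj.2, hB, show j = 2 by omega])
        obtain ⟨k, hk⟩ : (⟨z, hz⟩ : ↥B) ∈ f.range := htop ▸ mem_top _
        have hkz : ⁅(k : G), a₀⁆ = z := congrArg Subtype.val hk
        have hek : e * (k : G) = (k : G) * e := comm_of hE he k.2.1
        have hu := hmov e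
        have h1 : (k : G) * a₀ * (k : G)⁻¹ = z * a₀ := by
          rw [← hkz, commutatorElement_def]; group
        have h2 : e * a₀ * e⁻¹ = ⁅e, a₀⁆ * a₀ := by rw [commutatorElement_def]; group
        have h3 : (e * z * e⁻¹) * (⁅e, a₀⁆ * a₀) = ⁅e, a₀⁆ * (z * a₀) := by
          calc (e * z * e⁻¹) * (⁅e, a₀⁆ * a₀) = e * (z * a₀) * e⁻¹ := by rw [← h2]; group
            _ = e * ((k : G) * a₀ * (k : G)⁻¹) * e⁻¹ := by rw [h1]
            _ = (e * k) * a₀ * (e * k)⁻¹ := by group
            _ = ((k : G) * e) * a₀ * ((k : G) * e)⁻¹ := by rw [hek]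
            _ = (k : G) * (e * a₀ * e⁻¹) * (k : G)⁻¹ := by group
            _ = ((k : G) * ⁅e, a₀⁆ * (k : G)⁻¹) * ((k : G) * a₀ * (k : G)⁻¹) := by
              rw [h2]; group
            _ = ⁅e, a₀⁆ * (z * a₀) := by rw [h1, hcK k k.2 _ hu]; group
        have h4 : e * z * e⁻¹ = z := by
          rw [← mul_assoc, ← mul_assoc] at h3
          have h5 := mul_right_cancel h3
          rw [hAc _ (hBA hu) _ (hBA hz)] at h5
          exact mul_right_cancel h5
        calc z * e = (e * z * e⁻¹) * e := by rw [h4]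
          _ = e * z := by group
    calc Nat.card E = Nat.card f.range * Nat.card L * K.relIndex E := by rw [hEcard, hKcard]
      _ ≤ p * Nat.card L * p := Nat.mul_le_mul (Nat.mul_le_mul_right _ hlt) hKi
      _ = p ^ 2 * Nat.card L := by ring

/-- A `p`-group, `p` odd, with an elementary abelian subgroup of order `p ^ 4` has a normal one. -/
theorem exists_normal_rank_four (hp2 : p ≠ 2) (hG : IsPGroup p G) (E : Subgroup G)
    (hE : Cfsg.IsElementaryAbelian p E) (hE4 : Nat.card E = p ^ 4) :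
    ∃ A : Subgroup G, A.Normal ∧ Cfsg.IsElementaryAbelian p A ∧ Nat.card A = p ^ 4 := by
  obtain ⟨A, hAn, -, hA, hself⟩ := Cfsg.Lib.OddP.exists_normal_elementary_ge hG hp2 (⊥ : Subgroup G)
    ⟨⟨⟨fun a b => Subsingleton.elim _ _⟩⟩, fun a ha => by rw [mem_bot.mp ha, one_pow]⟩
  haveI := hAn
  obtain ⟨a, ha⟩ := IsPGroup.iff_card.mp (hG.to_subgroup A)
  rcases Nat.lt_or_ge a 4 with ha4 | ha4
  swap
  · obtain ⟨B, hBn, hBA, hB⟩ := Cfsg.Lib.SolvStruct.exists_normal_card_pow_le hG A 4
      (ha ▸ Nat.pow_le_pow_right hp.out.pos ha4)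
    exact ⟨B, hBn, ⟨⟨⟨fun x y => Subtype.ext (comm_of hA (hBA x.2) (hBA y.2))⟩⟩,
      fun b hb => hA.2 b (hBA hb)⟩, hB⟩
  -- from now on `A` is small
  set W := E ⊓ centralizer (A : Set G) with hW
  have hWA : W ≤ A := fun x hx => hself x hx.2 (hE.2 x hx.1)
  have hEA : ¬ E ≤ A := fun h => by
    have hc := card_le_of_le h
    rw [hE4, ha] at hc
    exact absurd ((Nat.pow_le_pow_iff_right hp.out.one_lt).1 hc) (by omega)
  have hWne : W ≠ A := fun h => hEA fun x hx => hself x (mem_centralizer_iff.2 fun y hy =>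
    comm_of hE ((h ▸ hy : y ∈ W).1) hx) (hE.2 x hx)
  obtain ⟨w, hw⟩ := IsPGroup.iff_card.mp (hG.to_subgroup W)
  have hwa : w < a := by
    refine (Nat.pow_lt_pow_iff_right hp.out.one_lt).1 ?_
    rw [← hw, ← ha]
    by_contra hle
    exact hWne (eq_of_le_of_card_ge hWA (not_lt.1 hle))
  have hidx := Cfsg.Lib.PGroups.index_centralizer_le_of_normal hG a A hAn ha
  have hrel : (centralizer (A : Set G)).relIndex E ≤ (centralizer (A : Set G)).index :=
    Nat.le_of_dvd (Nat.pos_of_ne_zero index_ne_zero_of_finite) (relIndex_dvd_index_of_normal _ _)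
  have hEW : Nat.card W * (centralizer (A : Set G)).relIndex E = p ^ 4 := by
    rw [← hE4, ← card_mul_relIndex' (inf_le_left : W ≤ E), hW, inf_relIndex_left]
  have ha3 : a = 3 := by
    by_contra hne
    have h1 : p ^ 4 ≤ p ^ w * p ^ 1 := by
      rw [← hEW, hw]
      refine Nat.mul_le_mul_left _ (hrel.trans (hidx.trans (Nat.pow_le_pow_right hp.out.pos ?_)))
      interval_cases a <;> simp_all
    rw [← pow_add, Nat.pow_le_pow_iff_right hp.out.one_lt] at h1
    omega
  subst ha3
  have hw2 : w = 2 := by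
    have h := le_card_inf_centralizer hG ha (fun x hx y hy => comm_of hA hx hy) E hE
    rw [hE4, ← hW, hw, ← pow_add, Nat.pow_le_pow_iff_right hp.out.one_lt] at h
    omega
  subst hw2
  have hCrel : (centralizer (A : Set G)).relIndex E = p ^ 2 := by
    rw [hw, show p ^ 4 = p ^ 2 * p ^ 2 by ring] at hEW
    exact Nat.eq_of_mul_eq_mul_left (pow_pos hp.out.pos 2) hEW
  set C := centralizer (A : Set G) with hC
  haveI : C.Normal := Subgroup.normal_centralizer
  set T := E ⊔ C with hT
  have hTi : T.index ≤ p := by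
    have h := relIndex_mul_index (le_sup_right : C ≤ T)
    rw [show C.relIndex T = p ^ 2 by rw [hT, relIndex_sup_right, hCrel]] at h
    have h3 : C.index ≤ p ^ 2 * p :=
      hidx.trans (le_of_eq (by norm_num; ring))
    exact Nat.le_of_mul_le_mul_left (h ▸ h3 : p ^ 2 * T.index ≤ p ^ 2 * p) (pow_pos hp.out.pos 2)
  haveI hTn : T.Normal := by
    obtain ⟨i, hi⟩ := hG.index T
    rcases Nat.lt_or_ge i 2 with hi2 | hi2
    · interval_cases i
      · have h1 : T = ⊤ := index_eq_one.1 (by simpa using hi)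
        rw [h1]; infer_instance
      · obtain ⟨n, hn⟩ := IsPGroup.iff_card.mp hG
        have hi' : T.index = p := by simpa using hi
        refine normal_of_index_eq_minFac_card ?_
        rcases n.eq_zero_or_pos with h0 | h0
        · have := T.index_dvd_card
          rw [hn, h0, hi', pow_zero, Nat.dvd_one] at this
          exact absurd this hp.out.ne_one
        · rw [hi', hn, Nat.pow_minFac h0.ne', hp.out.minFac_eq]
    · exfalso
      rw [hi] at hTi
      have := (Nat.pow_le_pow_iff_right hp.out.one_lt).1 (hTi.trans (pow_one p).ge)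
      omega
  have hWc : W = A ⊓ centralizer (T : Set G) := by
    refine le_antisymm (le_inf hWA ?_) ?_
    · rw [le_centralizer_iff, hT]
      refine sup_le (fun x hx => mem_centralizer_iff.2 fun y hy => comm_of hE hy.1 hx) ?_
      exact centralizer_le (SetLike.coe_subset_coe.mpr hWA)
    · intro x hx
      by_contra hxW
      set R := A ⊓ centralizer (E : Set G) with hR
      have hxR : x ∈ R := ⟨hx.1, centralizer_le (SetLike.coe_subset_coe.mpr le_sup_left) hx.2⟩
      have hWR : W ≤ R := le_inf hWA fun y hy => mem_centralizer_iff.2 fun z hz => comm_of hE hz hy.1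
      obtain ⟨r, hr⟩ := IsPGroup.iff_card.mp (hG.to_subgroup R)
      have hRA : R = A := by
        refine eq_of_le_of_card_ge inf_le_left ?_
        rw [ha, hr]
        refine Nat.pow_le_pow_right hp.out.pos ?_
        refine (Nat.pow_lt_pow_iff_right hp.out.one_lt).1 (?_ : p ^ 2 < p ^ r)
        rw [← hw, ← hr]
        by_contra hle
        exact hxW ((eq_of_le_of_card_ge hWR (not_lt.1 hle)).ge hxR)
      exact hEA fun e he => hself e (mem_centralizer_iff.2 fun y hy =>
        (mem_centralizer_iff.1 (hRA.ge hy).2 e he).symm) (hE.2 e he)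
  haveI hWn : W.Normal := by
    rw [hWc]
    haveI : (centralizer (T : Set G)).Normal := Subgroup.normal_centralizer
    infer_instance
  set J := E ⊔ A with hJ
  have hJcard : Nat.card J = p ^ 5 := by
    have hAE : A.relIndex E = p ^ 2 := by
      have h1 : E ⊓ A = W := le_antisymm
        (le_inf inf_le_left fun x hx => mem_centralizer_iff.2 fun y hy => comm_of hA hy hx.2)
        (le_inf inf_le_left hWA)
      have h := card_mul_relIndex' (inf_le_left : E ⊓ A ≤ E)
      rw [inf_relIndex_left, h1, hw, hE4, show p ^ 4 = p ^ 2 * p ^ 2 by ring] at h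
      exact Nat.eq_of_mul_eq_mul_left (pow_pos hp.out.pos 2) h
    rw [hJ, ← card_mul_relIndex' (le_sup_right : A ≤ E ⊔ A), relIndex_sup_right, hAE, ha]
    ring
  -- if `E` is not normal it meets a conjugate in a normalizer
  refine ⟨E, ?_, hE, hE4⟩
  rw [← normalizer_eq_top_iff]
  by_contra hN
  set N := normalizer (E : Set G) with hNdef
  haveI := hG.isNilpotent
  have hlt := Group.normalizerCondition_of_isNilpotent N (lt_top_iff_ne_top.2 hN)
  obtain ⟨g, hg, hgN⟩ := SetLike.exists_of_lt hlt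
  set F := E.map (MulAut.conj g).toMonoidHom with hF
  have hFN : F ≤ N := by
    rintro x ⟨y, hy, rfl⟩
    exact (mem_normalizer_iff.1 hg y).1 (le_normalizer hy)
  have hEN : ∀ n ∈ N, ∀ y ∈ E, n * y * n⁻¹ ∈ E := fun n hn y hy => (mem_normalizer_iff.1 hn y).1 hy
  have hNF : ∀ n ∈ N, ∀ y ∈ F, n * y * n⁻¹ ∈ F := by
    rintro n hn y ⟨z, hz, rfl⟩
    have hn' : g⁻¹ * n * g ∈ N := by
      simpa using (mem_normalizer_iff.1 (inv_mem hg) n).1 hn
    refine ⟨_, hEN _ hn' z hz, ?_⟩
    simp only [MulEquiv.coe_toMonoidHom, MulAut.conj_apply]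
    group
  have hFexp : ∀ y ∈ F, y ^ p = 1 := by
    rintro y ⟨z, hz, rfl⟩
    rw [← map_pow, hE.2 z hz, map_one]
  have hFc : ∀ x ∈ F, ∀ y ∈ F, x * y = y * x := by
    rintro x ⟨u, hu, rfl⟩ y ⟨v, hv, rfl⟩
    rw [← map_mul, ← map_mul, comm_of hE hu hv]
  have hFJ : F ≤ J := by
    intro y hy
    have hyT : y ∈ T := by
      obtain ⟨z, hz, rfl⟩ := hy
      exact hTn.conj_mem z (mem_sup_left hz) g
    obtain ⟨e, he, c, hc, rfl⟩ := mem_sup_of_normal_right.1 hyT
    refine mul_mem (mem_sup_left he) (mem_sup_right (hself c hc ?_))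
    -- `c = e⁻¹ (e c)` has order dividing `p`, the commutator lying in both conjugates
    have hd : ⁅e * c, e⁻¹⁆ ∈ E ⊓ F := by
      constructor
      · exact E.mul_mem (hEN _ (hFN hy) _ (E.inv_mem he)) (E.inv_mem (E.inv_mem he))
      · rw [commutatorElement_def, show (e * c) * e⁻¹ * (e * c)⁻¹ * e⁻¹⁻¹ =
          (e * c) * (e⁻¹ * (e * c)⁻¹ * e⁻¹⁻¹) by group]
        exact F.mul_mem hy (hNF _ (le_normalizer (E.inv_mem he)) _ (F.inv_mem hy))
    have h := Cfsg.Lib.PGroups.mul_pow_of_commute_commutator (x := e⁻¹) (y := e * c)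
      (comm_of hE hd.1 (inv_mem he)) (hFc _ hd.2 _ hy) p
    rw [inv_mul_cancel_left] at h
    rw [h, hE.2 _ (inv_mem he), hFexp _ hy,
      show ⁅e * c, e⁻¹⁆ ^ p.choose 2 = 1 from orderOf_dvd_iff_pow_eq_one.1
        ((orderOf_dvd_of_pow_eq_one (hE.2 _ hd.1)).trans (hp.out.dvd_choose_self two_ne_zero
          (lt_of_le_of_ne hp.out.two_le fun e => hp2 e.symm)))]
    simp
  have hne : F ≠ E := by
    intro h
    apply hgN
    rw [hNdef]
    apply mem_normalizer_fintype
    intro n hn
    rw [← h]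
    exact mem_map_of_mem _ hn
  have hFcard : Nat.card F = p ^ 4 := by
    rw [hF, card_map_of_injective (MulAut.conj g).injective, hE4]
  have hEJ : E.relIndex J = p := by
    have h := card_mul_relIndex' (le_sup_left : E ≤ J)
    rw [hE4, hJcard, pow_succ p 4] at h
    exact Nat.eq_of_mul_eq_mul_left (pow_pos hp.out.pos 4) h
  have hEFJ : E ⊔ F = J := by
    refine eq_of_le_of_card_ge (sup_le le_sup_left hFJ) ?_
    obtain ⟨j, hj⟩ := IsPGroup.iff_card.mp (hG.to_subgroup (E ⊔ F))
    rw [hJcard, hj]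
    refine Nat.pow_le_pow_right hp.out.pos ?_
    refine (Nat.pow_lt_pow_iff_right hp.out.one_lt).1 (?_ : p ^ 4 < p ^ j)
    rw [← hE4, ← hj]
    by_contra hle
    have h := eq_of_le_of_card_ge (le_sup_left : E ≤ E ⊔ F) (not_lt.1 hle)
    exact hne (eq_of_le_of_card_ge (h ▸ le_sup_right) (hFcard ▸ hE4.le))
  have hD : p ^ 3 ≤ Nat.card ↥(F ⊓ E) := by
    have h := card_mul_relIndex' (inf_le_left : F ⊓ E ≤ F)
    rw [inf_relIndex_left, hFcard] at h
    have h2 : E.relIndex F ≤ p := hEJ ▸ relIndex_le_of_le_right hFJ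
      (by rw [hEJ]; exact hp.out.ne_zero)
    by_contra hlt
    have := Nat.mul_lt_mul_of_lt_of_le (not_le.1 hlt) h2 hp.out.pos
    rw [h, ← pow_succ] at this
    exact lt_irrefl _ this
  obtain ⟨d, hd, hdW⟩ : ∃ d ∈ F ⊓ E, d ∉ W := by
    by_contra h
    push Not at h
    have hc := hD.trans (card_le_of_le (show F ⊓ E ≤ W from h))
    rw [hw] at hc
    have := (Nat.pow_le_pow_iff_right hp.out.one_lt).1 hc
    omega
  refine hdW ⟨hd.2, mem_centralizer_iff.2 fun x hx => ?_⟩
  have hle : J ≤ centralizer ({d} : Set G) := by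
    rw [← hEFJ]
    exact sup_le (fun y hy => mem_centralizer_singleton_iff.2 (comm_of hE hy hd.2))
      (fun y hy => mem_centralizer_singleton_iff.2 (hFc _ hy _ hd.1))
  exact mem_centralizer_singleton_iff.1 (hle (mem_sup_right hx))

end Cfsg.Lib.PGroups.NormalRankFour
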