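/-
The elements of order dividing p in a p-group (p odd) with a cyclic subgroup of index p.
-/
import Cfsg.Agent.PGroups.Basic
import Cfsg.Agent.PGroups.Commutators
import Cfsg.Agent.Frobenius.UniqueSubgroup
import Cfsg.Prelude

set_option linter.style.haveILetI false
set_option linter.unusedSectionVars false

namespace Cfsg.Lib.PGroups.CyclicIndexOdd

open Subgroup
open scoped commutatorElement

theorem pow_dvd_sub_one {p n : ℕ} (hp : p.Prime) (hp2 : p ≠ 2) {r : ℤ} (h : (p : ℤ) ^ (n + 1) ∣ r ^ p - 1) :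
    (p : ℤ) ^ n ∣ r - 1 := by
  haveI := Fact.mk hp
  have hm : (p : ℤ) ∣ r - 1 := by
    have h1 : (p : ℤ) ∣ r ^ p - 1 := (dvd_pow_self _ (by omega)).trans h
    rw [← ZMod.intCast_zmod_eq_zero_iff_dvd] at h1 ⊢
    push_cast at h1 ⊢
    rwa [ZMod.pow_card] at h1
  have hpr : Prime (p : ℤ) := Nat.prime_iff_prime_int.1 hp
  have hr : ¬ (p : ℤ) ∣ r := fun hd => hpr.not_dvd_one (by simpa using Int.dvd_sub hd hm)
  have he := emultiplicity_pow_prime_sub_pow_prime hpr (hp.odd_of_ne_two hp2) (x := r) (y := 1) hm hr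
  rw [one_pow] at he
  rw [pow_dvd_iff_le_emultiplicity] at h ⊢
  rw [he] at h
  push_cast at h
  exact (WithTop.add_le_add_iff_right (by simp : (1 : ℕ∞) ≠ ⊤)).1 h

variable {R : Type*} [Group R] [Finite R] {p : ℕ} [hp : Fact p.Prime]

theorem normal_of_index (hR : IsPGroup p R) {C : Subgroup R} (hCi : C.index = p) : C.Normal := by
  obtain ⟨k, hk⟩ := IsPGroup.iff_card.1 hR
  refine Subgroup.normal_of_index_eq_minFac_card ?_
  rw [hCi, hk]
  rcases k with _ | k
  · exfalso
    have h1 := C.index_dvd_card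
    rw [hCi, hk, pow_zero, Nat.dvd_one] at h1
    exact hp.out.ne_one h1
  · rw [Nat.pow_minFac (by omega), hp.out.minFac_eq]

theorem class_two (hp2 : p ≠ 2) (hR : IsPGroup p R) (C : Subgroup R) (hC : IsCyclic C) (hCi : C.index = p) :
    ⁅commutator R, (⊤ : Subgroup R)⁆ = ⊥ := by
  obtain ⟨c, rfl⟩ := (Subgroup.isCyclic_iff_exists_zpowers_eq_top C).1 hC
  haveI hn : (zpowers c).Normal := normal_of_index hR hCi
  obtain ⟨m, hm⟩ := IsPGroup.iff_orderOf.1 hR c
  -- a generator of the quotient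
  obtain ⟨g, hg⟩ : ∃ g, g ∉ zpowers c := by
    by_contra hh
    push Not at hh
    rw [(eq_top_iff' _).2 hh, index_top] at hCi
    exact hp.out.ne_one hCi.symm
  have hgen : ∀ x : R, ∃ i : ℤ, x * (g ^ i)⁻¹ ∈ zpowers c := by
    intro x
    haveI : IsCyclic (R ⧸ zpowers c) := isCyclic_of_prime_card (p := p) (by rw [← index_eq_card, hCi])
    have h1 : ((g : R) : R ⧸ zpowers c) ≠ 1 := fun e => hg ((QuotientGroup.eq_one_iff g).1 e)
    obtain ⟨i, hi⟩ := mem_zpowers_iff.1 ((mem_zpowers_of_prime_card (p := p) (by rw [← index_eq_card, hCi]) h1) :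
      (x : R ⧸ zpowers c) ∈ zpowers ((g : R) : R ⧸ zpowers c))
    refine ⟨i, (QuotientGroup.eq_one_iff _).1 ?_⟩
    rw [QuotientGroup.mk_mul, QuotientGroup.mk_inv, QuotientGroup.mk_zpow, hi, mul_inv_cancel]
  obtain ⟨r, hr⟩ := mem_zpowers_iff.1 (hn.conj_mem c (mem_zpowers c) g)
  have hpow : ∀ k : ℕ, g ^ k * c * (g ^ k)⁻¹ = c ^ (r ^ k) := by
    intro k
    induction k with
    | zero => simp
    | succ k ih =>
      rw [pow_succ', pow_succ', show g * g ^ k * c * (g * g ^ k)⁻¹ = g * (g ^ k * c * (g ^ k)⁻¹) * g⁻¹ by group, ih,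
        ← conj_zpow, ← hr, ← zpow_mul]
  -- the commutator of `c` and `g` is central
  have hcomm : Commute (c ^ (r - 1)) g := by
    cases m with
    | zero =>
      rw [pow_zero, orderOf_eq_one_iff] at hm
      rw [hm, one_zpow]; exact Commute.one_left g
    | succ m =>
      have hgp : g ^ p ∈ zpowers c := by
        have := hCi ▸ Subgroup.pow_index_mem (zpowers c) g
        exact this
      obtain ⟨j, hj⟩ := mem_zpowers_iff.1 hgp
      have h1 : c ^ (r ^ p) = c := by
        rw [← hpow p, ← hj, ((Commute.refl c).zpow_left j).eq, mul_inv_cancel_right]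
      have h2 : (p : ℤ) ^ (m + 1) ∣ r ^ p - 1 := by
        have h3 : c ^ (r ^ p - 1) = 1 := by rw [zpow_sub, h1, zpow_one, mul_inv_cancel]
        rw [← orderOf_dvd_iff_zpow_eq_one, hm] at h3
        exact_mod_cast h3
      obtain ⟨s, hs⟩ := pow_dvd_sub_one hp.out hp2 h2
      have h4 : c ^ (r - 1) ^ 2 = 1 := by
        rw [← orderOf_dvd_iff_zpow_eq_one, hm]
        push_cast
        cases m with
        | zero =>
          have h5 : (p : ℤ) ∣ r - 1 := by
            have := h2
            rw [zero_add, pow_one] at this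
            rw [← ZMod.intCast_zmod_eq_zero_iff_dvd] at this ⊢
            push_cast at this ⊢
            rwa [ZMod.pow_card] at this
          simpa using dvd_pow h5 two_ne_zero
        | succ m =>
          rw [hs]
          exact ⟨(p : ℤ) ^ m * s ^ 2, by ring⟩
      have h5 : g * c ^ (r - 1) * g⁻¹ = c ^ (r - 1) := by
        rw [← conj_zpow, ← hr, ← zpow_mul, show r * (r - 1) = (r - 1) + (r - 1) ^ 2 by ring, zpow_add, h4, mul_one]
      exact (mul_inv_eq_iff_eq_mul.1 h5).symm
  have hz : c ^ (r - 1) ∈ center R := mem_center_iff.2 fun x => by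
    obtain ⟨i, hi⟩ := hgen x
    obtain ⟨j, hj⟩ := mem_zpowers_iff.1 hi
    have h1 : x = c ^ j * g ^ i := by rw [hj]; group
    rw [h1]
    exact ((((Commute.refl c).zpow_zpow j (r - 1))).mul_left ((hcomm.symm).zpow_left i)).eq
  haveI : (center R).Normal := inferInstance
  rw [Subgroup.commutator_eq_bot_iff_le_centralizer, Subgroup.coe_top, Subgroup.centralizer_univ,
    _root_.commutator_def, commutator_le]
  intro x _ y _
  rw [← QuotientGroup.eq_one_iff]
  show QuotientGroup.mk' (center R) ⁅x, y⁆ = 1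
  set π := QuotientGroup.mk' (center R)
  have hcg : Commute (π c) (π g) := by
    have h1 : π (c ^ (r - 1)) = 1 := (QuotientGroup.eq_one_iff _).2 hz
    have h2 : g * c = c ^ (r - 1) * c * g := by
      rw [show c ^ (r - 1) * c = c ^ r by rw [zpow_sub_one, inv_mul_cancel_right], hr]; group
    have h3 := congrArg π h2
    rw [map_mul, map_mul, map_mul, h1, one_mul] at h3
    exact h3.symm
  have hgen' : ∀ w : R, ∃ i j : ℤ, π w = π c ^ j * π g ^ i := fun w => by
    obtain ⟨i, hi⟩ := hgen w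
    obtain ⟨j, hj⟩ := mem_zpowers_iff.1 hi
    refine ⟨i, j, ?_⟩
    rw [← map_zpow, ← map_zpow, ← map_mul, hj, inv_mul_cancel_right]
  obtain ⟨a, b, hab⟩ := hgen' x
  obtain ⟨a', b', hab'⟩ := hgen' y
  rw [map_commutatorElement, commutatorElement_eq_one_iff_mul_comm, hab, hab']
  exact ((((Commute.refl (π c)).zpow_zpow b b').mul_right (hcg.zpow_zpow b a')).mul_left
    ((hcg.symm.zpow_zpow a b').mul_right ((Commute.refl (π g)).zpow_zpow a a'))).eq

theorem omega (hp2 : p ≠ 2) (hR : IsPGroup p R) (hnc : ¬ IsCyclic R) (C : Subgroup R) (hC : IsCyclic C)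
    (hCi : C.index = p) :
    Cfsg.IsElementaryAbelian p (closure {x : R | x ^ p = 1}) ∧
      Nat.card (closure {x : R | x ^ p = 1}) = p ^ 2 := by
  classical
  have hc2 := class_two hp2 hR C hC hCi
  haveI : C.Normal := normal_of_index hR hCi
  haveI := hC
  set S := closure {x : R | x ^ p = 1} with hS
  have hexp : ∀ x ∈ S, x ^ p = 1 := fun x hx =>
    Cfsg.Lib.PGroups.pow_eq_one_of_mem_closure_class_two hp.out hp2 hc2 hx
  -- at most `p` elements of `S` in `C`
  have hSC : Nat.card ↥(S ⊓ C) ≤ p := by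
    haveI := Fintype.ofFinite C
    haveI := Fintype.ofFinite ↥(S ⊓ C)
    refine le_trans ?_ (IsCyclic.card_pow_eq_one_le (α := C) hp.out.pos)
    rw [Nat.card_eq_fintype_card, ← Fintype.card_coe]
    refine Fintype.card_le_of_injective (fun x : ↥(S ⊓ C) => ⟨⟨(x : R), x.2.2⟩, ?_⟩) fun x y e => ?_
    · exact Finset.mem_filter.2 ⟨Finset.mem_univ _, Subtype.ext (by simpa using hexp _ x.2.1)⟩
    · exact Subtype.ext (congrArg (fun w => ((w.1 : C) : R)) e)
  have hle : Nat.card S ≤ p ^ 2 := by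
    have h1 := Subgroup.card_mul_index (C.subgroupOf S)
    have h2 : Nat.card (C.subgroupOf S) = Nat.card ↥(S ⊓ C) := by
      rw [← inf_subgroupOf_left]
      exact Nat.card_congr (subgroupOfEquivOfLe inf_le_left).toEquiv
    have h3 : (C.subgroupOf S).index ≤ p := by
      have h4 : (C.subgroupOf S).index ∣ C.index := C.relIndex_dvd_index_of_normal S
      exact (Nat.le_of_dvd (by rw [hCi]; exact hp.out.pos) h4).trans_eq hCi
    rw [← h1, h2, pow_two]
    exact Nat.mul_le_mul hSC h3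
  obtain ⟨x, y, hx, hy, hxy⟩ : ∃ x y : R, orderOf x = p ∧ orderOf y = p ∧ y ∉ zpowers x := by
    by_contra hh
    push Not at hh
    rcases Cfsg.Lib.UniqueSub.isCyclic_or_quaternion hR hh with h | ⟨h, -⟩
    · exact hnc h
    · exact hp2 h
  have hxS : x ∈ S := subset_closure (show x ^ p = 1 by rw [← hx]; exact pow_orderOf_eq_one x)
  have hyS : y ∈ S := subset_closure (show y ^ p = 1 by rw [← hy]; exact pow_orderOf_eq_one y)
  have hlt : p < Nat.card S := by
    have h1 : zpowers x < S := lt_of_le_of_ne (zpowers_le.2 hxS) fun e => hxy (e.symm ▸ hyS)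
    rw [← hx, ← Nat.card_zpowers]
    exact lt_of_le_of_ne (Nat.le_of_dvd Nat.card_pos (card_dvd_of_le h1.le)) fun e => h1.ne (eq_of_le_of_card_ge h1.le e.ge)
  have hcard : Nat.card S = p ^ 2 := by
    obtain ⟨k, hk⟩ := IsPGroup.iff_card.1 (hR.to_subgroup S)
    rw [hk] at hle hlt ⊢
    have h1 : k ≤ 2 := (Nat.pow_le_pow_iff_right hp.out.one_lt).1 hle
    have h2 : 1 < k := by
      rw [← pow_one p, ← pow_mul, one_mul] at hlt
      exact (Nat.pow_lt_pow_iff_right hp.out.one_lt).1 (by simpa using hlt)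
    congr 1
    omega
  exact ⟨⟨IsPGroup.isMulCommutative_of_card_eq_prime_sq hcard, hexp⟩, hcard⟩

end Cfsg.Lib.PGroups.CyclicIndexOdd
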