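import Cfsg.Agent.PGroups.Basic
import Cfsg.Agent.PGroups.ClassThree
import Cfsg.Prelude.Def_OddOrderLocal

/-!
Chains with cyclic steps invariant under the automorphisms of a metacyclic p-group.
-/

set_option autoImplicit false
set_option linter.unusedSectionVars false

namespace Cfsg.Lib.MetaChain

open Subgroup
open scoped commutatorElement

variable {X : Type*} [Group X] [Finite X] {p : ℕ} [Fact p.Prime]

/-- Invariance under a set of automorphisms. -/
def Inv (A : Set (MulAut X)) (M : Subgroup X) : Prop := ∀ a ∈ A, ∀ x ∈ M, a x ∈ M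

/-- Reachable by invariant cyclic steps. -/
def Reach (A : Set (MulAut X)) (M : Subgroup X) : Prop :=
  ∃ (m : ℕ) (c : Fin (m + 1) → Subgroup X), c 0 = ⊥ ∧ c (Fin.last m) = M ∧ (∀ i, Inv A (c i)) ∧
    ∀ i : Fin m, c i.castSucc ≤ c i.succ ∧ ∃ x, c i.succ = c i.castSucc ⊔ zpowers x

theorem reach_bot (A : Set (MulAut X)) : Reach A ⊥ :=
  ⟨0, fun _ => ⊥, rfl, rfl, fun _ a _ x hx => by rw [mem_bot] at hx ⊢; rw [hx, map_one],
    fun i => i.elim0⟩

theorem reach_step {A : Set (MulAut X)} {K M : Subgroup X} (h : Reach A K) (hM : Inv A M) (hle : K ≤ M)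
    (hx : ∃ x, M = K ⊔ zpowers x) : Reach A M := by
  obtain ⟨m, c, h0, hlast, hinv, hstep⟩ := h
  refine ⟨m + 1, Fin.snoc c M, ?_, by rw [Fin.snoc_last], fun i => ?_, fun i => ?_⟩
  · rw [show (0 : Fin (m + 1 + 1)) = Fin.castSucc (0 : Fin (m + 1)) from rfl, Fin.snoc_castSucc, h0]
  · induction i using Fin.lastCases with
    | last => rw [Fin.snoc_last]; exact hM
    | cast i => rw [Fin.snoc_castSucc]; exact hinv i
  · induction i using Fin.lastCases with
    | last =>
      rw [Fin.succ_last, Fin.snoc_last, Fin.snoc_castSucc, hlast]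
      exact ⟨hle, hx⟩
    | cast i =>
      rw [Fin.succ_castSucc, Fin.snoc_castSucc, Fin.snoc_castSucc]
      exact hstep i

/-- A subgroup of a metacyclic group is generated by two elements. -/
theorem exists_two_generators (hm : Cfsg.IsMetacyclic X) (M : Subgroup X) :
    ∃ a b : M, ∀ x : M, ∃ i j : ℤ, x = a ^ i * b ^ j := by
  obtain ⟨N, hNn, hNc, hXN⟩ := hm
  haveI : IsCyclic (N.subgroupOf M) := isCyclic_of_injective
    (f := ((M.subtype).comp (N.subgroupOf M).subtype).codRestrict N fun x => x.2)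
    (fun a b h => Subtype.ext (Subtype.ext (congrArg (fun w : N => (w : X)) h)))
  obtain ⟨a, ha⟩ := IsCyclic.exists_zpow_surjective (G := N.subgroupOf M)
  set φ : M →* X ⧸ N := (QuotientGroup.mk' N).comp M.subtype
  obtain ⟨⟨bv, b, rfl⟩, hb⟩ := IsCyclic.exists_zpow_surjective (G := φ.range)
  refine ⟨a, b, fun x => ?_⟩
  obtain ⟨j, hj⟩ := hb ⟨φ x, x, rfl⟩
  have hj' : φ b ^ j = φ x := congrArg Subtype.val hj
  have hmem : x * (b ^ j)⁻¹ ∈ N.subgroupOf M := by
    rw [mem_subgroupOf, ← QuotientGroup.eq_one_iff]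
    show φ (x * (b ^ j)⁻¹) = 1
    rw [map_mul, map_inv, map_zpow, hj', mul_inv_cancel]
  obtain ⟨i, hi⟩ := ha ⟨_, hmem⟩
  refine ⟨i, j, ?_⟩
  rw [show (a : M) ^ i = x * (b ^ j)⁻¹ from congrArg Subtype.val hi]
  group

/-- The Frattini quotient of a subgroup of a metacyclic p-group has order at most `p²`. -/
theorem index_frattini_le (hX : IsPGroup p X) (hm : Cfsg.IsMetacyclic X) (M : Subgroup X) :
    (frattini M).index ≤ p ^ 2 := by
  obtain ⟨a, b, hab⟩ := exists_two_generators hm M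
  have hMp : IsPGroup p M := hX.to_subgroup M
  have hp : p ≠ 0 := (Fact.out : p.Prime).ne_zero
  rw [Subgroup.index_eq_card]
  let s : Fin p × Fin p → M ⧸ frattini M := fun t =>
    (a : M ⧸ frattini M) ^ (t.1 : ℕ) * (b : M ⧸ frattini M) ^ (t.2 : ℕ)
  refine (Nat.card_le_card_of_surjective s fun v => ?_).trans (le_of_eq (by
    rw [Nat.card_prod, Nat.card_fin, pow_two]))
  obtain ⟨x, rfl⟩ := QuotientGroup.mk_surjective v
  obtain ⟨i, j, rfl⟩ := hab x
  have hred : ∀ (y : M) (k : ℤ), ∃ r : Fin p,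
      (y : M ⧸ frattini M) ^ k = (y : M ⧸ frattini M) ^ (r : ℕ) := by
    intro y k
    have h1 : 0 ≤ k % (p : ℤ) := Int.emod_nonneg _ (by exact_mod_cast hp)
    have h2 : k % (p : ℤ) < p := Int.emod_lt_of_pos _ (by exact_mod_cast Nat.pos_of_ne_zero hp)
    refine ⟨⟨(k % (p : ℤ)).toNat, by omega⟩, ?_⟩
    show (y : M ⧸ frattini M) ^ k = (y : M ⧸ frattini M) ^ (k % (p : ℤ)).toNat
    have h3 := Cfsg.Lib.PGroups.pow_prime_quotient_frattini hMp (y : M ⧸ frattini M)
    conv_lhs => rw [← Int.emod_add_mul_ediv k p, zpow_add, zpow_mul, zpow_natCast, h3, one_zpow, mul_one,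
      ← Int.toNat_of_nonneg h1, zpow_natCast]
  obtain ⟨r, hr⟩ := hred a i
  obtain ⟨r', hr'⟩ := hred b j
  refine ⟨(r, r'), ?_⟩
  show (a : M ⧸ frattini M) ^ (r : ℕ) * (b : M ⧸ frattini M) ^ (r' : ℕ) = _
  rw [QuotientGroup.mk_mul, QuotientGroup.mk_zpow, QuotientGroup.mk_zpow, hr, hr']

theorem eq_sup_zpowers_of_relIndex {K M : Subgroup X} (hle : K ≤ M) (h : K.relIndex M = p) :
    ∃ x, M = K ⊔ zpowers x := by
  have hne : ¬ M ≤ K := fun hMK => (Fact.out : p.Prime).ne_one (h ▸ relIndex_eq_one.mpr hMK)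
  obtain ⟨x, hx, hxK⟩ := SetLike.not_le_iff_exists.mp hne
  refine ⟨x, ?_⟩
  set L := K ⊔ zpowers x
  have hLM : L ≤ M := sup_le hle (zpowers_le.mpr hx)
  have hmul := relIndex_mul_relIndex K L M le_sup_left hLM
  rw [h] at hmul
  rcases (Nat.dvd_prime Fact.out).mp (Dvd.intro _ hmul : K.relIndex L ∣ p) with h1 | h1
  · exact absurd (relIndex_eq_one.mp h1 (mem_sup_right (mem_zpowers x))) hxK
  · rw [h1] at hmul
    have h2 : L.relIndex M = 1 := Nat.eq_of_mul_eq_mul_left (Fact.out : p.Prime).pos (by rw [hmul, mul_one])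
    exact le_antisymm (relIndex_eq_one.mp h2) hLM

/-- An invariant maximal subgroup starts an invariant chain. -/
theorem reach_of_invariant_max (hX : IsPGroup p X) (hm : Cfsg.IsMetacyclic X) (A : Set (MulAut X)) :
    ∀ (n : ℕ) (M M' : Subgroup X), Nat.card M ≤ n → Inv A M → Inv A M' → M' ≤ M → M'.relIndex M = p →
      Reach A M := by
  intro n
  induction n with
  | zero => intro M _ h; exact absurd h (Nat.not_le.mpr Nat.card_pos)
  | succ n ih =>
    intro M M' hn hM hM' hle hidx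
    refine reach_step ?_ hM hle (eq_sup_zpowers_of_relIndex hle hidx)
    by_cases hcyc : IsCyclic M'
    · obtain ⟨x, hx⟩ := isCyclic_iff_exists_zpowers_eq_top.mp hcyc
      refine reach_step (reach_bot A) hM' bot_le ⟨x, ?_⟩
      have h := congrArg (Subgroup.map M'.subtype) hx
      rw [MonoidHom.map_zpowers, ← MonoidHom.range_eq_map, Subgroup.range_subtype] at h
      rw [bot_sup_eq]
      exact h.symm
    set Φ : Subgroup X := (frattini M).map M.subtype with hΦdef
    have hΦinv : Inv A Φ := by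
      rintro a ha _ ⟨x, hx, rfl⟩
      let f : MulAut M := MulEquiv.ofBijective
        (((a : X ≃* X).toMonoidHom.comp M.subtype).codRestrict M fun y => hM a ha y y.2)
        (Finite.injective_iff_bijective.mp fun y z h =>
          Subtype.ext (a.injective (congrArg Subtype.val h)))
      have hc : (frattini M).Characteristic := inferInstance
      rw [characteristic_iff_map_le] at hc
      exact ⟨f x, hc f ⟨x, hx, rfl⟩, rfl⟩
    have hMp : IsPGroup p M := hX.to_subgroup M
    have hpp : Nat.Prime p := Fact.out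
    have hsub : (M'.subgroupOf M).index = p := hidx
    have hco : IsCoatom (M'.subgroupOf M) := by
      refine ⟨fun h => hpp.ne_one (by rw [← hsub, h, index_top]), fun L hL => ?_⟩
      rcases (Nat.dvd_prime hpp).mp (hsub ▸ index_dvd_of_le hL.le) with h | h
      · exact index_eq_one.mp h
      · exfalso
        refine hL.ne ?_
        have h2 := relIndex_mul_index hL.le
        rw [hsub, h] at h2
        exact le_antisymm hL.le (relIndex_eq_one.mp ((mul_eq_right₀ hpp.ne_zero).mp h2))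
    have hΦle : Φ ≤ M' := by
      rintro _ ⟨x, hx, rfl⟩
      exact frattini_le_coatom hco hx
    have hΦM : Φ ≤ M := hΦle.trans hle
    have hrel : Φ.relIndex M = (frattini M).index := by
      rw [Subgroup.relIndex, hΦdef, Subgroup.subgroupOf, Subgroup.comap_map_eq_self_of_injective M.subtype_injective]
    have hmul := relIndex_mul_relIndex Φ M' M hΦle hle
    rw [hidx, hrel] at hmul
    have hle2 : Φ.relIndex M' ≤ p :=
      Nat.le_of_mul_le_mul_right (by rw [hmul, ← pow_two]; exact index_frattini_le hX hm M) hpp.pos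
    obtain ⟨k, hk⟩ : ∃ k, Φ.relIndex M' = p ^ k := (hX.to_subgroup M').index (Φ.subgroupOf M')
    rcases k with _ | k
    · exfalso
      rw [pow_zero] at hk
      rw [hk, one_mul] at hmul
      haveI : IsCyclic (M ⧸ frattini M) :=
        isCyclic_of_prime_card (p := p) (by rw [← Subgroup.index_eq_card]; exact hmul.symm)
      haveI : IsCyclic M := Cfsg.Lib.PGroups.isCyclic_of_isCyclic_quotient_frattini
      exact hcyc (isCyclic_of_injective (f := Subgroup.inclusion hle) (Subgroup.inclusion_injective hle))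
    · rw [hk] at hle2
      have hk1 : p ^ (k + 1) = p := le_antisymm hle2 (Nat.le_self_pow (by omega) p)
      refine ih M' Φ ?_ hM' hΦinv hΦle (hk.trans hk1)
      have h1 : M' < M := lt_of_le_of_ne hle fun h => hpp.ne_one (by rw [← hidx, h, relIndex_self])
      have h3 : Nat.card M' < Nat.card M := by
        refine lt_of_le_of_ne (Subgroup.card_le_of_le hle) fun h => h1.ne ?_
        exact Subgroup.eq_of_le_of_card_ge hle h.ge
      omega

theorem exists_fin_pow {G : Type*} [Group G] {u : G} {n : ℕ} (hn : 0 < n) (h : u ^ n = 1) (k : ℤ) :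
    ∃ r : Fin n, u ^ k = u ^ (r : ℕ) ∧ ((r : ℕ) : ℤ) ≡ k [ZMOD n] := by
  have h1 : 0 ≤ k % (n : ℤ) := Int.emod_nonneg _ (by omega)
  have h2 : k % (n : ℤ) < n := Int.emod_lt_of_pos _ (by omega)
  refine ⟨⟨(k % (n : ℤ)).toNat, by omega⟩, ?_, ?_⟩
  · show u ^ k = u ^ (k % (n : ℤ)).toNat
    conv_lhs => rw [← Int.emod_add_mul_ediv k n, zpow_add, zpow_mul, zpow_natCast, h, one_zpow, mul_one,
      ← Int.toNat_of_nonneg h1, zpow_natCast]
  · show ((k % (n : ℤ)).toNat : ℤ) ≡ k [ZMOD n]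
    rw [Int.toNat_of_nonneg h1]
    exact Int.mod_modEq k n

/-- A noncyclic metacyclic p-group has a characteristic maximal subgroup, is homocyclic, or is a 2-group
with commutator quotient of order four. -/
theorem exists_char_max (hX : IsPGroup p X) (hm : Cfsg.IsMetacyclic X) (hnc : ¬ IsCyclic X) :
    (∃ M : Subgroup X, M.index = p ∧ Inv Set.univ M) ∨
    (∃ n : ℕ, 0 < n ∧ Nonempty (X ≃* Multiplicative (ZMod (p ^ n)) × Multiplicative (ZMod (p ^ n)))) ∨
    (p = 2 ∧ (commutator X).index = 4) := by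
  classical
  have hpp : Nat.Prime p := Fact.out
  set C := commutator X with hCdef
  set π : X →* Abelianization X := Abelianization.of with hπdef
  have hπs : Function.Surjective π := QuotientGroup.mk'_surjective _
  have hker : π.ker = C := Abelianization.ker_of X
  have hmem : ∀ x : X, π x = 1 ↔ x ∈ C := fun x => by rw [← hker, MonoidHom.mem_ker]
  have hCinv : ∀ (a : MulAut X) (x : X), x ∈ C → a x ∈ C := by
    intro a x hx
    have hc : C.Characteristic := inferInstance
    rw [characteristic_iff_map_le] at hc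
    exact hc a ⟨x, hx, rfl⟩
  have hAb : IsPGroup p (Abelianization X) := hX.of_surjective π hπs
  have hex : ∃ t, ∀ u : Abelianization X, u ^ p ^ (t + 1) = 1 := by
    obtain ⟨k, hk⟩ := IsPGroup.iff_card.mp hAb
    exact ⟨k, fun u => by rw [pow_succ, pow_mul, ← hk, pow_card_eq_one', one_pow]⟩
  set t := Nat.find hex
  have ht : ∀ u : Abelianization X, u ^ p ^ (t + 1) = 1 := Nat.find_spec hex
  have hnt : ∃ u : Abelianization X, u ^ p ^ t ≠ 1 := by
    by_contra h
    push Not at h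
    rcases Nat.eq_zero_or_pos t with h0 | h0
    · refine hnc ?_
      haveI : IsCyclic (X ⧸ frattini X) := by
        haveI : Subsingleton (X ⧸ frattini X) := by
          refine ⟨fun u v => ?_⟩
          obtain ⟨x, rfl⟩ := QuotientGroup.mk_surjective u
          obtain ⟨y, rfl⟩ := QuotientGroup.mk_surjective v
          refine QuotientGroup.eq.mpr (Cfsg.Lib.PGroups.commutator_le_frattini hX ((hmem _).mp ?_))
          have h' := h (π (x⁻¹ * y))
          rwa [h0, pow_zero, pow_one] at h'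
        exact isCyclic_of_subsingleton
      exact Cfsg.Lib.PGroups.isCyclic_of_isCyclic_quotient_frattini
    · exact Nat.find_min hex (show t - 1 < t by omega) fun u => by
        rw [show t - 1 + 1 = t by omega]; exact h u
  obtain ⟨a₀, b₀, hab₀⟩ := exists_two_generators hm (⊤ : Subgroup X)
  set A := π (a₀ : X) with hA
  set B := π (b₀ : X) with hB
  have hgen : ∀ u : Abelianization X, ∃ i j : ℤ, u = A ^ i * B ^ j := by
    intro u
    obtain ⟨x, rfl⟩ := hπs u
    obtain ⟨i, j, h⟩ := hab₀ ⟨x, mem_top x⟩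
    refine ⟨i, j, ?_⟩
    rw [hA, hB, ← map_zpow, ← map_zpow, ← map_mul]
    exact congrArg π (congrArg Subtype.val h)
  -- the first candidate
  set f : X →* Abelianization X := (powMonoidHom (p ^ t)).comp π with hfdef
  have hfinv : Inv Set.univ f.ker := by
    intro a _ x hx
    rw [MonoidHom.mem_ker] at hx ⊢
    show π (a x) ^ p ^ t = 1
    rw [← map_pow, hmem, ← map_pow]
    refine hCinv a _ ((hmem _).mp ?_)
    rw [map_pow]
    exact hx
  let s : Fin p × Fin p → f.range := fun r => ⟨(A ^ p ^ t) ^ (r.1 : ℕ) * (B ^ p ^ t) ^ (r.2 : ℕ),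
    mul_mem (pow_mem (show A ^ p ^ t ∈ f.range from ⟨a₀, rfl⟩) _) (pow_mem (show B ^ p ^ t ∈ f.range from ⟨b₀, rfl⟩) _)⟩
  have hpow : ∀ u : Abelianization X, (u ^ p ^ t) ^ p = 1 := fun u => by
    rw [← pow_mul, ← pow_succ]; exact ht u
  have hs : Function.Surjective s := by
    rintro ⟨_, x, rfl⟩
    obtain ⟨i, j, h⟩ := hgen (π x)
    obtain ⟨r, hr, -⟩ := exists_fin_pow hpp.pos (hpow A) i
    obtain ⟨r', hr', -⟩ := exists_fin_pow hpp.pos (hpow B) j
    refine ⟨(r, r'), Subtype.ext ?_⟩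
    show (A ^ p ^ t) ^ (r : ℕ) * (B ^ p ^ t) ^ (r' : ℕ) = π x ^ p ^ t
    rw [← hr, ← hr', h, mul_pow]
    congr 1 <;> rw [← zpow_natCast, ← zpow_natCast, ← zpow_mul, ← zpow_mul, mul_comm]
  have hle2 : Nat.card f.range ≤ p ^ 2 :=
    (Nat.card_le_card_of_surjective s hs).trans (le_of_eq (by rw [Nat.card_prod, Nat.card_fin, pow_two]))
  obtain ⟨k, hk⟩ := IsPGroup.iff_card.mp (hAb.to_subgroup f.range)
  rcases k with _ | _ | k
  · exfalso
    obtain ⟨u, hu⟩ := hnt
    obtain ⟨x, rfl⟩ := hπs u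
    refine hu ?_
    have hb := Subgroup.card_eq_one.mp (hk.trans (pow_zero p))
    have h1 : π x ^ p ^ t ∈ f.range := ⟨x, rfl⟩
    rw [hb, mem_bot] at h1
    exact h1
  · exact Or.inl ⟨f.ker, by rw [Subgroup.index_ker, hk, pow_one], hfinv⟩
  have hk2 : Nat.card f.range = p ^ 2 :=
    le_antisymm hle2 (hk ▸ Nat.pow_le_pow_right hpp.pos (by omega))
  have hsinj : Function.Injective s :=
    ((Nat.bijective_iff_surjective_and_card s).mpr ⟨hs, by rw [Nat.card_prod, Nat.card_fin, hk2, pow_two]⟩).1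
  -- independence
  have hind : ∀ i j : ℤ, A ^ i * B ^ j = 1 → ((p ^ (t + 1) : ℕ) : ℤ) ∣ i ∧ ((p ^ (t + 1) : ℕ) : ℤ) ∣ j := by
    intro i j hij
    suffices ∀ e ≤ t + 1, ((p ^ e : ℕ) : ℤ) ∣ i ∧ ((p ^ e : ℕ) : ℤ) ∣ j from this _ le_rfl
    intro e
    induction e with
    | zero => intro _; simp
    | succ e ih =>
      intro he
      obtain ⟨⟨i', hi'⟩, ⟨j', hj'⟩⟩ := ih (by omega)
      have h1 : (A ^ p ^ t) ^ i' * (B ^ p ^ t) ^ j' = 1 := by
        have h2 : (A ^ i * B ^ j) ^ p ^ (t - e) = 1 := by rw [hij, one_pow]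
        have hpt : p ^ e * p ^ (t - e) = p ^ t := by rw [← pow_add]; congr 1; omega
        rw [mul_pow, hi', hj'] at h2
        rw [← h2]
        congr 1 <;>
          (rw [← zpow_natCast, ← zpow_natCast, ← zpow_mul, ← zpow_mul, ← hpt]; congr 1; push_cast; ring)
      obtain ⟨r, hr, hrm⟩ := exists_fin_pow hpp.pos (hpow A) i'
      obtain ⟨r', hr', hrm'⟩ := exists_fin_pow hpp.pos (hpow B) j'
      have h0 : (r, r') = ((⟨0, hpp.pos⟩ : Fin p), (⟨0, hpp.pos⟩ : Fin p)) := by
        refine hsinj (Subtype.ext ?_)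
        show (A ^ p ^ t) ^ (r : ℕ) * (B ^ p ^ t) ^ (r' : ℕ) = (A ^ p ^ t) ^ 0 * (B ^ p ^ t) ^ 0
        rw [← hr, ← hr', h1, pow_zero, pow_zero, mul_one]
      rw [Prod.mk.injEq] at h0
      rw [h0.1] at hrm
      rw [h0.2] at hrm'
      have e1 : (p : ℤ) ∣ i' := by have := hrm.dvd; simpa using this
      have e2 : (p : ℤ) ∣ j' := by have := hrm'.dvd; simpa using this
      obtain ⟨i'', rfl⟩ := e1
      obtain ⟨j'', rfl⟩ := e2
      exact ⟨⟨i'', by rw [hi', pow_succ]; push_cast; ring⟩, ⟨j'', by rw [hj', pow_succ]; push_cast; ring⟩⟩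
  set m := p ^ (t + 1) with hmdef
  have hm0 : 0 < m := Nat.pow_pos hpp.pos
  let s2 : Fin m × Fin m → Abelianization X := fun r => A ^ (r.1 : ℕ) * B ^ (r.2 : ℕ)
  have hs2 : Function.Bijective s2 := by
    constructor
    · rintro ⟨i, j⟩ ⟨i', j'⟩ h
      have h1 : A ^ (((i : ℕ) : ℤ) - (i' : ℕ)) * B ^ (((j : ℕ) : ℤ) - (j' : ℕ)) = 1 := by
        rw [zpow_sub, zpow_sub, mul_mul_mul_comm, ← mul_inv, zpow_natCast, zpow_natCast, zpow_natCast,
          zpow_natCast, mul_inv_eq_one]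
        exact h
      obtain ⟨h2, h3⟩ := hind _ _ h1
      have := i.2
      have := i'.2
      have := j.2
      have := j'.2
      have e1 : ((i : ℕ) : ℤ) - (i' : ℕ) = 0 := Int.eq_zero_of_dvd_of_natAbs_lt_natAbs h2 (by omega)
      have e2 : ((j : ℕ) : ℤ) - (j' : ℕ) = 0 := Int.eq_zero_of_dvd_of_natAbs_lt_natAbs h3 (by omega)
      exact Prod.ext (Fin.ext (show (i : ℕ) = (i' : ℕ) by omega)) (Fin.ext (show (j : ℕ) = (j' : ℕ) by omega))
    · intro u
      obtain ⟨i, j, rfl⟩ := hgen u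
      obtain ⟨r, hr, -⟩ := exists_fin_pow hm0 (ht A) i
      obtain ⟨r', hr', -⟩ := exists_fin_pow hm0 (ht B) j
      exact ⟨(r, r'), by rw [hr, hr']⟩
  have hCidx : C.index = m * m := by
    rw [← hker, Subgroup.index_ker, MonoidHom.range_eq_top.mpr hπs, Subgroup.card_top,
      ← Nat.card_eq_of_bijective s2 hs2, Nat.card_prod, Nat.card_fin]
  by_cases hC : C = ⊥
  · refine Or.inr (Or.inl ⟨t + 1, Nat.succ_pos _, ?_⟩)
    haveI : NeZero m := ⟨hm0.ne'⟩
    let φ : Multiplicative (ZMod m) × Multiplicative (ZMod m) →* Abelianization X :=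
      MonoidHom.mk' (fun u => A ^ u.1.toAdd.val * B ^ u.2.toAdd.val) fun u v => by
        simp only [Prod.fst_mul, Prod.snd_mul, toAdd_mul, ZMod.val_add]
        rw [← pow_eq_pow_mod _ (ht A), ← pow_eq_pow_mod _ (ht B), pow_add, pow_add]
        exact mul_mul_mul_comm _ _ _ _
    have hφ : Function.Bijective φ := by
      refine ⟨fun u v h => ?_, fun w => ?_⟩
      · have h' := hs2.1 (a₁ := (⟨_, ZMod.val_lt u.1.toAdd⟩, ⟨_, ZMod.val_lt u.2.toAdd⟩))
          (a₂ := (⟨_, ZMod.val_lt v.1.toAdd⟩, ⟨_, ZMod.val_lt v.2.toAdd⟩)) h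
        simp only [Prod.mk.injEq, Fin.mk.injEq] at h'
        exact Prod.ext (Multiplicative.toAdd.injective (ZMod.val_injective m h'.1))
          (Multiplicative.toAdd.injective (ZMod.val_injective m h'.2))
      · obtain ⟨⟨i, j⟩, rfl⟩ := hs2.2 w
        refine ⟨(Multiplicative.ofAdd ((i : ℕ) : ZMod m), Multiplicative.ofAdd ((j : ℕ) : ZMod m)), ?_⟩
        show A ^ _ * B ^ _ = A ^ _ * B ^ _
        rw [toAdd_ofAdd, toAdd_ofAdd, ZMod.val_natCast_of_lt i.2, ZMod.val_natCast_of_lt j.2]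
    have hπi : Function.Injective π := by rw [← MonoidHom.ker_eq_bot_iff, hker, hC]
    exact ⟨(MulEquiv.ofBijective π ⟨hπi, hπs⟩).trans (MulEquiv.ofBijective φ hφ).symm⟩
  -- the second candidate
  by_cases hm2 : m = 2
  · have hp2 : p = 2 := by
      have h : p ∣ 2 := hm2 ▸ dvd_pow_self p (Nat.succ_ne_zero t)
      exact (Nat.prime_dvd_prime_iff_eq hpp Nat.prime_two).mp h
    exact Or.inr (Or.inr ⟨hp2, by rw [hCidx, hm2]⟩)
  obtain ⟨N, hNn, hNc, hXN⟩ := hm
  have hCN : C ≤ N := Subgroup.Normal.quotient_commutative_iff_commutator_le.mp inferInstance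
  haveI : IsCyclic C := isCyclic_of_injective (f := Subgroup.inclusion hCN) (Subgroup.inclusion_injective hCN)
  obtain ⟨c, hc⟩ := (Subgroup.isCyclic_iff_exists_zpowers_eq_top C).mp ‹IsCyclic C›
  obtain ⟨n₀, hn₀⟩ := IsCyclic.exists_zpow_surjective (G := N)
  obtain ⟨t₀, ht₀⟩ := IsCyclic.exists_zpow_surjective (G := X ⧸ N)
  obtain ⟨t₀, rfl⟩ := QuotientGroup.mk_surjective t₀
  set D : Subgroup X := zpowers (c ^ p) with hDdef
  have hDinv : ∀ (a : MulAut X) (x : X), x ∈ D → a x ∈ D := by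
    intro a x hx
    obtain ⟨i, rfl⟩ := hx
    obtain ⟨r, hr⟩ := hc ▸ hCinv a c (hc ▸ mem_zpowers c)
    refine ⟨r * i, ?_⟩
    show (c ^ p) ^ (r * i) = a ((c ^ p) ^ i)
    change c ^ r = a c at hr
    rw [map_zpow, map_pow, ← hr, ← zpow_natCast, ← zpow_natCast, ← zpow_mul, ← zpow_mul, ← zpow_mul]
    congr 1
    ring
  haveI hDn : D.Normal := ⟨fun x hx g => by simpa using hDinv (MulAut.conj g) x hx⟩
  obtain ⟨k', hk'⟩ := IsPGroup.iff_orderOf.mp hX c
  have hk0 : 1 ≤ k' := by
    rcases k' with _ | k'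
    · exfalso
      rw [pow_zero, orderOf_eq_one_iff] at hk'
      exact hC (by rw [← hc, hk', Subgroup.zpowers_one_eq_bot])
    · omega
  have hcD : Nat.card D * p = Nat.card C := by
    rw [← hc, Nat.card_zpowers, Nat.card_zpowers, orderOf_pow' _ hpp.ne_zero, hk',
      Nat.gcd_eq_right (dvd_pow_self p (by omega)), Nat.div_mul_cancel (dvd_pow_self p (by omega))]
  have hDidx : D.index = m * m * p := by
    refine Nat.eq_of_mul_eq_mul_left (Nat.card_pos (α := D)) ?_
    rw [D.card_mul_index, ← hCidx, ← C.card_mul_index, ← hcD]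
    ring
  set ρ := QuotientGroup.mk' D with hρ
  have hcbar : orderOf (ρ c) = p := by
    refine orderOf_eq_prime ?_ ?_
    · rw [← map_pow]
      exact (QuotientGroup.eq_one_iff _).mpr (mem_zpowers _)
    · intro h
      have h1 : C ≤ D := hc ▸ zpowers_le.mpr ((QuotientGroup.eq_one_iff _).mp h)
      have h2 := Subgroup.card_le_of_le h1
      have h3 := hpp.two_le
      have h4 : 0 < Nat.card D := Nat.card_pos
      nlinarith
  set Z : Subgroup (X ⧸ D) := zpowers (ρ c) with hZdef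
  have hCZ : ∀ x ∈ C, ρ x ∈ Z := fun x hx => by
    obtain ⟨i, rfl⟩ := hc ▸ hx
    exact ⟨i, (map_zpow ρ c i).symm⟩
  haveI : Z.Normal := by
    have h : C.map ρ = Z := by rw [← hc, MonoidHom.map_zpowers]
    rw [← h]
    exact Subgroup.Normal.map inferInstance _ (QuotientGroup.mk'_surjective D)
  have hZc : Z ≤ center (X ⧸ D) :=
    Cfsg.Lib.PGroups.le_center_of_card_eq_prime (hX.to_quotient D) (by rw [hZdef, Nat.card_zpowers, hcbar])
  let g : X →* X ⧸ D := MonoidHom.mk' (fun x => ρ x ^ m) fun x y => by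
    have hcc : ⁅ρ y, ρ x⁆ ∈ Z := by
      rw [← map_commutatorElement]
      exact hCZ _ (Subgroup.commutator_mem_commutator (mem_top y) (mem_top x))
    have hcen := Subgroup.mem_center_iff.mp (hZc hcc)
    have e1 : ⁅ρ x, ⁅ρ y, ρ x⁆⁆ = 1 := commutatorElement_eq_one_iff_mul_comm.mpr (hcen (ρ x))
    have e2 : ⁅ρ y, ⁅ρ y, ρ x⁆⁆ = 1 := commutatorElement_eq_one_iff_mul_comm.mpr (hcen (ρ y))
    have h := (Cfsg.Lib.PGroups.mul_pow_class_three (x := ρ x) (y := ρ y)
      (by rw [e1]; exact one_mem _) (by rw [e2]; exact one_mem _) m).2.2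
    rw [e1, e2, one_pow, one_pow, one_mul, one_mul] at h
    rw [map_mul, h]
    obtain ⟨q, hq⟩ := hpp.dvd_choose_pow (n := t + 1) (k := 2) (by omega) (fun h => hm2 h.symm)
    obtain ⟨i, hi⟩ := hcc
    have hz : ⁅ρ y, ρ x⁆ ^ p = 1 := by
      rw [← hi]
      show (ρ c ^ i) ^ p = 1
      rw [← zpow_natCast, ← zpow_mul, mul_comm, zpow_mul, zpow_natCast, ← hcbar, pow_orderOf_eq_one, one_zpow]
    rw [hmdef, hq, pow_mul, hz, one_pow, one_mul]
  refine Or.inl ⟨g.ker, ?_, fun a _ x hx => ?_⟩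
  · rw [Subgroup.index_ker]
    have hle : g.range ≤ Z := by
      rintro _ ⟨x, rfl⟩
      show ρ x ^ m ∈ Z
      rw [← map_pow]
      exact hCZ _ ((hmem _).mp (by rw [map_pow]; exact ht _))
    have hd := Subgroup.card_dvd_of_le hle
    rw [hZdef, Nat.card_zpowers, hcbar] at hd
    rcases (Nat.dvd_prime hpp).mp hd with h1 | h1
    · exfalso
      have hall : ∀ x : X, ρ x ^ m = 1 := fun x => by
        have h2 : ρ x ^ m ∈ g.range := ⟨x, rfl⟩
        rwa [Subgroup.card_eq_one.mp h1, mem_bot] at h2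
      have hsur : Function.Surjective (fun r : Fin m × Fin m => ρ (n₀ : X) ^ (r.1 : ℕ) * ρ t₀ ^ (r.2 : ℕ)) := by
        intro u
        obtain ⟨x, rfl⟩ := QuotientGroup.mk'_surjective D u
        obtain ⟨j, hj⟩ := ht₀ (x : X ⧸ N)
        have hmemN : x * (t₀ ^ j)⁻¹ ∈ N := by
          rw [← QuotientGroup.eq_one_iff, QuotientGroup.mk_mul, QuotientGroup.mk_inv, QuotientGroup.mk_zpow]
          exact mul_inv_eq_one.mpr hj.symm
        obtain ⟨i, hi⟩ := hn₀ ⟨_, hmemN⟩
        obtain ⟨r, hr, -⟩ := exists_fin_pow hm0 (hall n₀) i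
        obtain ⟨r', hr', -⟩ := exists_fin_pow hm0 (hall t₀) j
        refine ⟨(r, r'), ?_⟩
        show ρ (n₀ : X) ^ (r : ℕ) * ρ t₀ ^ (r' : ℕ) = ρ x
        rw [← hr, ← hr', ← map_zpow, ← map_zpow, ← map_mul,
          show (n₀ : X) ^ i = x * (t₀ ^ j)⁻¹ from congrArg Subtype.val hi, inv_mul_cancel_right]
      have := Nat.card_le_card_of_surjective _ hsur
      rw [Nat.card_prod, Nat.card_fin, ← Subgroup.index_eq_card, hDidx] at this
      have h2 := hpp.two_le
      have h3 : 0 < m * m := Nat.mul_pos hm0 hm0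
      nlinarith
    · exact h1
  · rw [MonoidHom.mem_ker] at hx ⊢
    have h2 : x ^ m ∈ D := (QuotientGroup.eq_one_iff _).mp ((map_pow ρ x m).trans hx)
    show ρ (a x) ^ m = 1
    rw [← map_pow, ← map_pow]
    exact (QuotientGroup.eq_one_iff _).mpr (hDinv a _ h2)

end Cfsg.Lib.MetaChain
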