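import Cfsg.Agent.PGroups.MaxClassDegree

/-!
Abelian subgroups of order `p ^ 3` of a `p`-group of maximal class, and the weights of an automorphism on
the steps of its lower central series.
-/

set_option autoImplicit false
set_option linter.unusedSectionVars false
set_option linter.style.haveILetI false

namespace Cfsg.Lib.PGroups.MaxClassSmallSub

open Subgroup
open Cfsg.Lib.PGroups MaxClassRank MaxClassThree MaxClassAgemo MaxClassOutside MaxClassDegree
open scoped commutatorElement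

universe u

variable {X : Type u} [Group X] [Finite X] {p : ℕ} [hp : Fact p.Prime] [Group.IsNilpotent X] {n : ℕ}
  (B : Base p n X)

include B

/-! ### Orders -/

theorem card_le_pow_of_lt {H K : Subgroup X} (h : H < K) {k : ℕ} (hK : Nat.card K = p ^ (k + 1)) :
    Nat.card H ≤ p ^ k := by
  obtain ⟨j, hj⟩ := IsPGroup.iff_card.1 (B.isP.to_subgroup H)
  have h1 : Nat.card H < Nat.card K := lt_of_le_of_ne (card_le_of_le h.le) fun e =>
    h.ne (eq_of_le_of_card_ge h.le e.ge)
  rw [hj, hK] at h1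
  rw [hj]
  exact Nat.pow_le_pow_right hp.out.pos
    (Nat.lt_succ_iff.1 ((Nat.pow_lt_pow_iff_right hp.out.one_lt).1 h1))

theorem pow_le_card_of_lt {H K : Subgroup X} (h : H < K) {k : ℕ} (hH : Nat.card H = p ^ k) :
    p ^ (k + 1) ≤ Nat.card K := by
  obtain ⟨j, hj⟩ := IsPGroup.iff_card.1 (B.isP.to_subgroup K)
  have h1 : Nat.card H < Nat.card K := lt_of_le_of_ne (card_le_of_le h.le) fun e =>
    h.ne (eq_of_le_of_card_ge h.le e.ge)
  rw [hj, hH] at h1
  rw [hj]
  exact Nat.pow_le_pow_right hp.out.pos ((Nat.pow_lt_pow_iff_right hp.out.one_lt).1 h1)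

theorem card_L_of_add {i k : ℕ} (h1 : 1 ≤ i) (hk : i + k + 1 = n) : Nat.card (L X i) = p ^ k := by
  rw [B.L_card h1 (by omega), show n - 1 - i = k by omega]

theorem center_le_of_self {E : Subgroup X} (hC : centralizer (E : Set X) ≤ E) : L X (n - 2) ≤ E := by
  rw [← B.center_eq]
  exact fun z hz => hC (mem_centralizer_iff.2 fun g _ => mem_center_iff.1 hz g)

theorem two_commute {a z : X} (ha : a ∈ L X 1) (hz : z ∈ L X (n - 3)) : Commute a z := by
  rw [← commutatorElement_eq_one_iff_commute]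
  exact comm_eq_one_of_le B (by omega) (comm_mem_mul ha hz)

theorem stepCent_inf (hn : 5 ≤ n) (hne : stepCent X 1 ≠ stepCent X (n - 3)) :
    stepCent X 1 ⊓ stepCent X (n - 3) = L X 1 := by
  have hle : L X 1 ≤ stepCent X 1 ⊓ stepCent X (n - 3) :=
    le_inf (derived_le_stepCent 1) (derived_le_stepCent _)
  refine (eq_of_le_of_card_ge hle ?_).symm
  have hc : Nat.card (stepCent X 1) = p ^ (n - 2 + 1) := by
    have h := (stepCent X 1).card_mul_index
    rw [index_stepCent B le_rfl (by omega), B.card, show n = n - 2 + 1 + 1 by omega, pow_succ] at h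
    exact Nat.eq_of_mul_eq_mul_right hp.out.pos h
  rw [card_L_of_add B le_rfl (show 1 + (n - 2) + 1 = n by omega)]
  exact card_le_pow_of_lt B (lt_of_le_of_ne inf_le_left fun e => hne (stepCent_eq_of_le B le_rfl (by omega)
    (by omega) (by omega) (inf_eq_left.1 e))) hc

/-! ### Abelian subgroups of order `p ^ 3` -/

theorem card_inf_ge (hn : 5 ≤ n) {E : Subgroup X} (hc : Nat.card E = p ^ 3) :
    p ^ 2 ≤ Nat.card ↥(E ⊓ L X 1) := by
  have hne : E ≠ ⊤ := fun h => by
    rw [h, card_top, B.card] at hc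
    have := Nat.pow_right_injective hp.out.two_le hc
    omega
  have hrel := B.relIndex_derived_le hne
  have h := ((L X 1).subgroupOf E).card_mul_index
  rw [← inf_subgroupOf_left, Nat.card_congr (subgroupOfEquivOfLe inf_le_left).toEquiv, hc] at h
  have e : ((E ⊓ L X 1).subgroupOf E).index = (L X 1).relIndex E := by
    rw [inf_subgroupOf_left]; rfl
  rw [e] at h
  by_contra hlt
  have h2 : Nat.card ↥(E ⊓ L X 1) * (L X 1).relIndex E < p ^ 2 * p :=
    lt_of_le_of_lt (Nat.mul_le_mul_left _ hrel) (Nat.mul_lt_mul_of_pos_right (not_le.1 hlt) hp.out.pos)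
  rw [h, ← pow_succ] at h2
  exact lt_irrefl _ h2

theorem card_inf_eq (hn : 5 ≤ n) {E : Subgroup X} (hc : Nat.card E = p ^ 3) (hE : ¬ E ≤ L X 1) :
    Nat.card ↥(E ⊓ L X 1) = p ^ 2 :=
  le_antisymm (card_le_pow_of_lt B (lt_of_le_of_ne inf_le_left fun h => hE (inf_eq_left.1 h)) hc)
    (card_inf_ge B hn hc)

/-- An element of the derived subgroup below the last step but one puts the group into the first centralizer. -/
theorem le_stepCent_one (hn : 5 ≤ n) {E : Subgroup X} (hab : ∀ a ∈ E, ∀ b ∈ E, Commute a b) {a : X}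
    (ha : a ∈ E) (ha1 : a ∈ L X 1) (ha2 : a ∉ L X (n - 3)) : E ≤ stepCent X 1 := by
  obtain ⟨i, h1, h2, h3, h4⟩ := B.exists_level ha1 _ ha2
  intro y hy
  rw [← stepCent_eq n X B i h1 (by omega)]
  refine B.mem_stepCent_of_exact h1 h3 h4 ?_
  rw [commutatorElement_eq_one_iff_commute.2 (hab a ha y hy)]
  exact one_mem _

theorem le_stepCent_last (hn : 5 ≤ n) {E : Subgroup X} (hab : ∀ a ∈ E, ∀ b ∈ E, Commute a b) {a : X}
    (ha : a ∈ E) (ha1 : a ∈ L X (n - 3)) (ha2 : a ∉ L X (n - 2)) : E ≤ stepCent X (n - 3) := by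
  intro y hy
  refine B.mem_stepCent_of_exact (by omega) ha1 (by rwa [show n - 3 + 1 = n - 2 by omega]) ?_
  rw [commutatorElement_eq_one_iff_commute.2 (hab a ha y hy)]
  exact one_mem _

theorem two_le_of_le_last (hn : 5 ≤ n) {E : Subgroup X} (hC : centralizer (E : Set X) ≤ E)
    (h : E ≤ stepCent X (n - 3)) : L X (n - 3) ≤ E := fun z hz => hC (mem_centralizer_iff.2 fun y hy => by
  have h1 := mem_stepCent.1 (h hy) z hz
  rw [B.L_eq_bot (by omega), mem_bot, commutatorElement_eq_one_iff_commute] at h1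
  exact h1.symm)

/-- Self-centralizing subgroups of order `p ^ 3` in the derived subgroup have large normalizers. -/
theorem card_normalizer_ge (hn : 5 ≤ n) {E : Subgroup X} (hc : Nat.card E = p ^ 3) (hE : E ≤ L X 1)
    (hC : centralizer (E : Set X) ≤ E) : p ^ 5 ≤ Nat.card (Subgroup.normalizer (E : Set X)) := by
  have h3 : L X (n - 3) ≤ E := fun z hz => hC (mem_centralizer_iff.2 fun y hy => (two_commute B (hE hy) hz).eq)
  have key : ∀ g : X, (∀ e ∈ E, ⁅g, e⁆ ∈ L X (n - 3)) → g ∈ Subgroup.normalizer (E : Set X) := by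
    intro g hg
    refine mem_normalizer_iff.2 fun y => ?_
    have hy : ∀ e ∈ E, g * e * g⁻¹ ∈ E := fun e he => by
      have := E.mul_mem (h3 (hg e he)) he
      rwa [commutatorElement_def, inv_mul_cancel_right] at this
    refine ⟨hy y, fun hgy => ?_⟩
    let f : E → E := fun e => ⟨g * e * g⁻¹, hy e e.2⟩
    have hf : Function.Injective f := fun a b h => Subtype.ext (by simpa [f] using h)
    obtain ⟨e, he⟩ := (Finite.injective_iff_surjective.1 hf) ⟨_, hgy⟩
    have : (e : X) = y := by simpa [f] using he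
    exact this ▸ e.2
  rcases Nat.lt_or_ge n 7 with h7 | h7
  · rcases Nat.lt_or_ge n 6 with h6 | h6
    · obtain rfl : n = 5 := by omega
      have e : E = L X 1 := eq_of_le_of_card_ge hE (by rw [hc, card_L_of_add B le_rfl (show 1 + 3 + 1 = 5 by omega)])
      rw [e, Subgroup.normalizer_eq_top, card_top, B.card]
    · obtain rfl : n = 6 := by omega
      refine le_trans ?_ (card_le_of_le (fun g hg => key g fun e he => ?_ : stepCent X 1 ≤ _))
      · have h := (stepCent X 1).card_mul_index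
        rw [index_stepCent B le_rfl (by omega), B.card] at h
        exact le_of_eq (Nat.eq_of_mul_eq_mul_right hp.out.pos (h.trans (by ring))).symm
      · exact comm_stepCent hg (hE he)
  · by_cases hsub : E ≤ L X (n - 5)
    · refine le_trans (card_L_of_add B (show 1 ≤ n - 6 by omega) (show n - 6 + 5 + 1 = n by omega)).ge
        (card_le_of_le fun g hg => key g fun e he => ?_)
      exact L_le (by omega) (comm_mem_mul hg (hsub he))
    · have hL : L X (n - 5) ≤ Subgroup.normalizer (E : Set X) := fun g hg => key g fun e he => by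
        exact L_le (by omega) (comm_mem_mul hg (hE he))
      have hlt : L X (n - 5) < E ⊔ L X (n - 5) := lt_of_le_of_ne le_sup_right fun e =>
        hsub (le_sup_left.trans e.ge)
      exact le_trans (pow_le_card_of_lt B hlt (card_L_of_add B (by omega) (show n - 5 + 4 + 1 = n by omega)))
        (card_le_of_le (sup_le Subgroup.le_normalizer hL))

/-! ### Weights -/

theorem pow_prime_mem {i : ℕ} (h1 : 1 ≤ i) (h2 : i < n - 1) {g : X} (hg : g ∈ L X i) :
    g ^ p ∈ L X (i + 1) := by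
  have hr : ((L X (i + 1)).subgroupOf (L X i)).index = p := by
    have e := relIndex_mul_index (L_le (Nat.le_succ i) : L X (i + 1) ≤ L X i)
    rw [B.L_index h1 (by omega), B.L_index (by omega) (by omega), pow_succ' p (i + 1)] at e
    exact Nat.eq_of_mul_eq_mul_right (pow_pos hp.out.pos _) e
  haveI : ((L X (i + 1)).subgroupOf (L X i)).Normal := inferInstance
  have h := Subgroup.pow_index_mem ((L X (i + 1)).subgroupOf (L X i)) ⟨g, hg⟩
  rw [hr] at h
  simpa [mem_subgroupOf] using h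

omit B in
/-- Exponents modulo `p` agree modulo a subgroup containing the `p`-th power. -/
theorem pow_eq_mk {H : Subgroup X} [H.Normal] {g : X} (hg : g ^ p ∈ H) {k : ℕ} {w : ZMod p}
    (h : (k : ZMod p) = w) : QuotientGroup.mk' H g ^ k = QuotientGroup.mk' H g ^ w.val := by
  have h1 : QuotientGroup.mk' H g ^ p = 1 := by
    rw [← map_pow]; exact (QuotientGroup.eq_one_iff _).2 hg
  rw [← Nat.mod_add_div k p, pow_add, pow_mul, h1, one_pow, mul_one, ← h, ZMod.val_natCast]

omit B in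
theorem mem_iff_mk_eq {H : Subgroup X} [H.Normal] {a b : X} :
    a⁻¹ * b ∈ H ↔ QuotientGroup.mk' H a = QuotientGroup.mk' H b := QuotientGroup.eq.symm

omit B in
theorem map_L (σ : MulAut X) (i : ℕ) : (L X i).map (σ : X ≃* X).toMonoidHom = L X i := by
  rw [L, map_lowerCentralSeries, map_top_of_surjective _ σ.surjective]

omit B in
theorem apply_mem_L (σ : MulAut X) {i : ℕ} {g : X} (hg : g ∈ L X i) : σ g ∈ L X i := by
  rw [← map_L σ i]; exact mem_map_of_mem (σ : X ≃* X).toMonoidHom hg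

omit B in
theorem apply_mem_stepCent (σ : MulAut X) {j : ℕ} {g : X} (hg : g ∈ stepCent X j) : σ g ∈ stepCent X j := by
  refine mem_stepCent.2 fun a ha => ?_
  have h := apply_mem_L σ (mem_stepCent.1 hg _ (apply_mem_L σ⁻¹ ha))
  rwa [map_commutatorElement, MulAut.apply_inv_self] at h

omit B in
/-- `σ` raises the step `i` to the power `w`. -/
def WtL (σ : MulAut X) (i : ℕ) (w : ZMod p) : Prop := ∀ g ∈ L X i, (g ^ w.val)⁻¹ * σ g ∈ L X (i + 1)

omit B in
/-- `σ` raises the cosets of `H` to the power `w`. -/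
def WtC (σ : MulAut X) (H : Subgroup X) (w : ZMod p) : Prop := ∀ g, (g ^ w.val)⁻¹ * σ g ∈ H

theorem exists_wtC (σ : MulAut X) {j : ℕ} (h1 : 1 ≤ j) (h2 : j + 1 < n - 1) :
    ∃ w : ZMod p, WtC σ (stepCent X j) w := by
  haveI := stepCent_normal (X := X) j
  have hidx := index_stepCent B h1 h2
  haveI : IsCyclic (X ⧸ stepCent X j) := isCyclic_of_prime_card (p := p) (by rw [← index_eq_card, hidx])
  let f : (X ⧸ stepCent X j) →* (X ⧸ stepCent X j) :=
    QuotientGroup.map _ _ (σ : X ≃* X).toMonoidHom fun g hg => apply_mem_stepCent σ hg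
  obtain ⟨m, hm⟩ := f.map_cyclic
  refine ⟨(m : ZMod p), fun g => ?_⟩
  rw [mem_iff_mk_eq, map_pow]
  have h := hm (g : X ⧸ stepCent X j)
  rw [show f (g : X ⧸ stepCent X j) = QuotientGroup.mk' (stepCent X j) (σ g) from rfl] at h
  rw [h]
  show (g : X ⧸ stepCent X j) ^ (m : ZMod p).val = (g : X ⧸ stepCent X j) ^ m
  rw [← zpow_natCast, zpow_eq_zpow_iff_modEq]
  refine Int.ModEq.of_dvd (m := (orderOf (g : X ⧸ stepCent X j) : ℤ)) (n := p) ?_ ?_
  · exact Int.natCast_dvd_natCast.2 (hidx ▸ index_eq_card (stepCent X j) ▸ orderOf_dvd_natCard _)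
  · rw [← ZMod.intCast_eq_intCast_iff, Int.cast_natCast, ZMod.natCast_zmod_val]

/-- A weight is determined by one exact element. -/
theorem wtL_of_exact (σ : MulAut X) {i : ℕ} (h1 : 1 ≤ i) (h2 : i < n - 1) {w : ZMod p} {a : X}
    (ha : a ∈ L X i) (ha' : a ∉ L X (i + 1)) (h : (a ^ w.val)⁻¹ * σ a ∈ L X (i + 1)) : WtL σ i w := by
  intro g hg
  set π := QuotientGroup.mk' (L X (i + 1))
  obtain ⟨c, hc⟩ := B.step_gen h1 ha ha' hg
  rw [mem_iff_mk_eq, map_zpow] at hc
  rw [mem_iff_mk_eq, map_pow] at h ⊢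
  have hc' : π (σ a) ^ c = π (σ g) := by
    rw [← map_zpow, ← map_zpow, ← mem_iff_mk_eq, ← map_inv, ← map_mul]
    exact apply_mem_L σ (mem_iff_mk_eq.2 (by rw [map_zpow]; exact hc))
  rw [← hc', ← h, ← hc, ← zpow_natCast, ← zpow_natCast, ← zpow_mul, ← zpow_mul, mul_comm]

theorem wtL_unique (σ : MulAut X) {i : ℕ} (h1 : 1 ≤ i) (h2 : i < n - 1) {w w' : ZMod p}
    (h : WtL σ i w) (h' : WtL σ i w') : w = w' := by
  obtain ⟨a, ha, ha'⟩ := SetLike.exists_of_lt (B.L_lt h2)
  have e1 := mem_iff_mk_eq.1 (h a ha)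
  have e2 := mem_iff_mk_eq.1 (h' a ha)
  rw [← e2, map_pow, map_pow, pow_eq_pow_iff_modEq] at e1
  have hord : orderOf (QuotientGroup.mk' (L X (i + 1)) a) = p := by
    refine orderOf_eq_prime ?_ fun e => ha' ((QuotientGroup.eq_one_iff a).1 e)
    rw [← map_pow]
    exact (QuotientGroup.eq_one_iff _).2 (pow_prime_mem B h1 h2 ha)
  rw [hord, ← ZMod.natCast_eq_natCast_iff, ZMod.natCast_zmod_val, ZMod.natCast_zmod_val] at e1
  exact e1

/-- The weights multiply along the steps. -/
theorem wtL_step (σ : MulAut X) {i : ℕ} (h1 : 1 ≤ i) (h2 : i + 1 < n - 1) {a w : ZMod p}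
    (hC : WtC σ (stepCent X i) a) (hw : WtL σ i w) : WtL σ (i + 1) (w * a) := by
  obtain ⟨g, hg, hg'⟩ := SetLike.exists_of_lt (B.L_lt (show i < n - 1 by omega))
  obtain ⟨x, hx⟩ : ∃ x, x ∉ stepCent X i := by
    by_contra h
    push Not at h
    exact stepCent_ne_top B h2 (eq_top_iff.2 fun y _ => h y)
  have hex : ⁅g, x⁆ ∉ L X (i + 1 + 1) := fun h => hx (B.mem_stepCent_of_exact h1 hg hg' h)
  refine wtL_of_exact B σ (by omega) (by omega) (comm_mem_succ hg x) hex ?_
  set π := QuotientGroup.mk' (L X (i + 1 + 1))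
  have hp1 : ⁅g, x⁆ ^ p ∈ L X (i + 1 + 1) := pow_prime_mem B (by omega) (by omega) (comm_mem_succ hg x)
  rw [mem_iff_mk_eq, map_pow,
    ← pow_eq_mk hp1 (k := w.val * a.val) (by push_cast; rw [ZMod.natCast_zmod_val, ZMod.natCast_zmod_val]),
    map_commutatorElement, map_commutatorElement, map_commutatorElement]
  obtain ⟨r, hr, er⟩ : ∃ r ∈ L X (i + 1), σ g = g ^ w.val * r :=
    ⟨_, hw g hg, (mul_inv_cancel_left _ _).symm⟩
  obtain ⟨c, hc, ec⟩ : ∃ c ∈ stepCent X i, σ x = x ^ a.val * c :=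
    ⟨_, hC x, (mul_inv_cancel_left _ _).symm⟩
  have hgc : Commute (π g) (π c) := by
    rw [← commutatorElement_eq_one_iff_commute, ← map_commutatorElement]
    exact (QuotientGroup.eq_one_iff _).2 (mem_stepCent.1 hc g hg)
  have hrc : ∀ y, Commute (π r) y := fun y => by
    obtain ⟨y, rfl⟩ := QuotientGroup.mk'_surjective (L X (i + 1 + 1)) y
    exact central_step hr y
  have hz : ∀ y, Commute ⁅π g, π x⁆ y := fun y => by
    obtain ⟨y, rfl⟩ := QuotientGroup.mk'_surjective (L X (i + 1 + 1)) y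
    rw [← map_commutatorElement]; exact central_step (comm_mem_succ hg x) y
  rw [er, ec, map_mul, map_mul, map_pow, map_pow, mul_right_commutator,
    commutatorElement_eq_one_iff_commute.2 ((hgc.pow_left _).mul_left (hrc _)),
    mul_one, mul_inv_cancel, mul_one, mul_left_commutator, commutatorElement_eq_one_iff_commute.2 (hrc _),
    mul_one, mul_inv_cancel, one_mul, commutator_pow_left_of_commute (by
      rw [commutator_pow_right_of_commute (hz _)]; exact (hz _).pow_left _),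
    commutator_pow_right_of_commute (hz _), ← pow_mul, mul_comm]

/-- The weight of the derived subgroup modulo the next term. -/
theorem wtL_top (σ : MulAut X) (hn : 5 ≤ n) (hne : stepCent X 1 ≠ stepCent X (n - 3)) {a b : ZMod p}
    (ha : WtC σ (stepCent X 1) a) (hb : WtC σ (stepCent X (n - 3)) b) : WtL σ 1 (a * b) := by
  obtain ⟨x, hxC, hx⟩ := SetLike.not_le_iff_exists.1 fun h : stepCent X (n - 3) ≤ stepCent X 1 =>
    hne (stepCent_eq_of_le B (by omega) (by omega) le_rfl (by omega) h).symm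
  obtain ⟨e, heΓ, heC⟩ := SetLike.not_le_iff_exists.1 fun h : stepCent X 1 ≤ stepCent X (n - 3) =>
    hne (stepCent_eq_of_le B le_rfl (by omega) (by omega) (by omega) h)
  have hs : ⁅x, e⁆ ∈ L X 1 := by
    rw [show L X 1 = commutator X from top_lowerCentralSeries_one]
    exact commutator_mem_commutator (mem_top _) (mem_top _)
  refine wtL_of_exact B σ le_rfl (by omega) hs
    (chain_one_not_mem B (by omega) hx heΓ fun h => heC (derived_le_stepCent _ h)) ?_
  set π := QuotientGroup.mk' (L X (1 + 1))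
  rw [mem_iff_mk_eq, map_pow,
    ← pow_eq_mk (pow_prime_mem B le_rfl (by omega) hs) (k := a.val * b.val)
      (by push_cast; rw [ZMod.natCast_zmod_val, ZMod.natCast_zmod_val]),
    map_commutatorElement, map_commutatorElement, map_commutatorElement]
  obtain ⟨r, hr, er⟩ : ∃ r ∈ L X 1, σ x = x ^ a.val * r := by
    refine ⟨(x ^ a.val)⁻¹ * σ x, ?_, (mul_inv_cancel_left _ _).symm⟩
    rw [← stepCent_inf B hn hne]
    exact Subgroup.mem_inf.2 ⟨ha x, (stepCent X (n - 3)).mul_mem ((stepCent X (n - 3)).inv_mem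
      ((stepCent X (n - 3)).pow_mem hxC _)) (apply_mem_stepCent σ hxC)⟩
  obtain ⟨r', hr', er'⟩ : ∃ r ∈ L X 1, σ e = e ^ b.val * r := by
    refine ⟨(e ^ b.val)⁻¹ * σ e, ?_, (mul_inv_cancel_left _ _).symm⟩
    rw [← stepCent_inf B hn hne]
    exact Subgroup.mem_inf.2 ⟨(stepCent X 1).mul_mem ((stepCent X 1).inv_mem
      ((stepCent X 1).pow_mem heΓ _)) (apply_mem_stepCent σ heΓ), hb e⟩
  have hc : ∀ {s : X}, s ∈ L X 1 → ∀ y, Commute (π s) y := fun hs y => by
    obtain ⟨y, rfl⟩ := QuotientGroup.mk'_surjective (L X (1 + 1)) y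
    exact central_step hs y
  have hz : ∀ y, Commute ⁅π x, π e⁆ y := fun y => by
    rw [← map_commutatorElement]; exact hc hs y
  rw [er, er', map_mul, map_mul, map_pow, map_pow, mul_right_commutator,
    commutatorElement_eq_one_iff_commute.2 (hc hr' _).symm,
    mul_one, mul_inv_cancel, mul_one, mul_left_commutator, commutatorElement_eq_one_iff_commute.2 (hc hr _),
    mul_one, mul_inv_cancel, one_mul, commutator_pow_left_of_commute (by
      rw [commutator_pow_right_of_commute (hz _)]; exact (hz _).pow_left _),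
    commutator_pow_right_of_commute (hz _), ← pow_mul, mul_comm]

theorem wtL_iterate (σ : MulAut X) {a w : ZMod p} (ha : WtC σ (stepCent X 1) a) (hw : WtL σ 1 w) :
    ∀ i, i + 4 ≤ n - 1 → WtL σ (i + 1) (w * a ^ i)
  | 0, _ => by simpa using hw
  | i + 1, h => by
    have := wtL_step B σ (i := i + 1) (by omega) (by omega) (a := a)
      (by rw [stepCent_eq n X B (i + 1) (by omega) (by omega)]; exact ha) (wtL_iterate σ ha hw i (by omega))
    rwa [mul_assoc, ← pow_succ] at this

/-- The three impossible systems of weights. -/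
theorem false_of_weights (σ : MulAut X) (hp5 : 5 ≤ p) (hn : 5 ≤ n) {μ : ZMod p} (hμ0 : μ ≠ 0)
    (hμ : ∀ k : ℕ, μ ^ k = 1 → p - 1 ∣ k)
    (h : (stepCent X 1 ≠ stepCent X (n - 3) ∧ WtL σ (n - 4) (1 : ZMod p) ∧ WtL σ (n - 3) (μ ^ 2) ∧
          WtL σ (n - 2) μ) ∨
      (stepCent X 1 = stepCent X (n - 3) ∧ WtL σ (n - 4) (μ ^ 2) ∧ WtL σ (n - 3) (1 : ZMod p) ∧
          WtL σ (n - 2) μ) ∨
      (stepCent X 1 ≠ stepCent X (n - 3) ∧ WtL σ (n - 4) (μ ^ 2) ∧ WtL σ (n - 3) μ ∧
          WtL σ (n - 2) (1 : ZMod p))) : False := by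
  obtain ⟨a, ha⟩ := exists_wtC B σ le_rfl (show 1 + 1 < n - 1 by omega)
  obtain ⟨b, hb⟩ := exists_wtC B σ (show 1 ≤ n - 3 by omega) (show n - 3 + 1 < n - 1 by omega)
  obtain ⟨k, rfl⟩ : ∃ k, n = k + 5 := ⟨n - 5, by omega⟩
  simp only [show k + 5 - 4 = k + 1 by omega, show k + 5 - 3 = k + 2 by omega,
    show k + 5 - 2 = k + 3 by omega] at h hb
  have s1 : ∀ {w w' : ZMod p}, WtL σ (k + 1) w → WtL σ (k + 2) w' → w * a = w' := fun hw hw' =>
    wtL_unique B σ (i := k + 2) (by omega) (by omega)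
      (wtL_step B σ (i := k + 1) (by omega) (by omega)
        (by rw [stepCent_eq _ X B (k + 1) (by omega) (by omega)]; exact ha) hw) hw'
  have s2 : ∀ {w w' : ZMod p}, WtL σ (k + 2) w → WtL σ (k + 3) w' → w * b = w' := fun hw hw' =>
    wtL_unique B σ (i := k + 3) (by omega) (by omega) (wtL_step B σ (i := k + 2) (by omega) (by omega) hb hw) hw'
  rcases h with ⟨hne, h4, h3, h2⟩ | ⟨heq, h4, h3, h2⟩ | ⟨hne, h4, h3, h2⟩
  · have ea := s1 h4 h3
    have eb := s2 h3 h2
    rw [one_mul] at ea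
    have et := wtL_unique B σ (i := k + 1) (by omega) (by omega)
      (wtL_iterate B σ ha (wtL_top B σ hn (by rwa [show k + 5 - 3 = k + 2 by omega])
        ha (by rwa [show k + 5 - 3 = k + 2 by omega])) k (by omega)) h4
    rw [ea, eb, ← pow_mul, ← pow_succ'] at et
    have hd := hμ _ et
    have : 2 ∣ p - 1 := by
      obtain ⟨m, hm⟩ := hp.out.odd_of_ne_two (by omega); exact ⟨m, by omega⟩
    have := this.trans hd
    omega
  · have ea := s1 h4 h3
    have eb := wtL_unique B σ (i := k + 3) (by omega) (by omega)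
      (wtL_step B σ (i := k + 2) (by omega) (by omega) (show WtC σ (stepCent X (k + 2)) a by rw [← heq]; exact ha) h3) h2
    rw [one_mul] at eb
    rw [eb, ← pow_succ] at ea
    have := Nat.le_of_dvd (by omega) (hμ _ ea)
    omega
  · have ea := s1 h4 h3
    have eb := s2 h3 h2
    have et := wtL_unique B σ (i := k + 1) (by omega) (by omega)
      (wtL_iterate B σ ha (wtL_top B σ hn (by rwa [show k + 5 - 3 = k + 2 by omega])
        ha (by rwa [show k + 5 - 3 = k + 2 by omega])) k (by omega)) h4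
    have ea' : μ * a = 1 := by
      refine mul_left_cancel₀ hμ0 ?_
      rw [← mul_assoc, ← sq, ea, mul_one]
    have e4 : μ ^ (k + 4) = 1 := by
      calc μ ^ (k + 4) = μ ^ (k + 2) * μ ^ 2 := by rw [← pow_add]
        _ = μ ^ (k + 2) * (a * b * a ^ k) := by rw [et]
        _ = (μ * a) ^ (k + 1) * (μ * b) := by ring
        _ = 1 := by rw [ea', eb, one_pow, one_mul]
    have h2d : 2 ∣ p - 1 := by
      obtain ⟨m, hm⟩ := hp.out.odd_of_ne_two (by omega); exact ⟨m, by omega⟩
    refine hne ?_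
    have ho : Odd (k + 5) := by
      obtain ⟨m, hm⟩ := h2d.trans (hμ _ e4)
      exact ⟨m, by omega⟩
    have hl := stepCent_last_of_odd B hn ho
    rwa [show k + 5 - 3 = k + 2 by omega, eq_comm] at hl

/-! ### Further facts -/

theorem commute_four (hn : 5 ≤ n) {a b : X} (ha : a ∈ L X (n - 4)) (hb : b ∈ L X (n - 4)) : Commute a b := by
  obtain ⟨s, hs, hs'⟩ := SetLike.exists_of_lt (B.L_lt (show n - 4 < n - 1 by omega))
  have h1 : ∀ g ∈ L X (n - 4), ∃ c : ℤ, ∃ z ∈ L X (n - 3), g = s ^ c * z := fun g hg => by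
    obtain ⟨c, hc⟩ := B.step_gen (by omega) hs hs' hg
    rw [show n - 4 + 1 = n - 3 by omega] at hc
    exact ⟨c, _, hc, (mul_inv_cancel_left _ _).symm⟩
  obtain ⟨c, z, hz, rfl⟩ := h1 a ha
  obtain ⟨d, w, hw, rfl⟩ := h1 b hb
  have hL : ∀ {g}, g ∈ L X (n - 3) → ∀ {r}, r ∈ L X (n - 4) → Commute r g := fun hg _ hr =>
    two_commute B (L_le (show 1 ≤ n - 4 by omega) hr) hg
  exact (((Commute.refl s).zpow_zpow c d).mul_right ((hL hw hs).zpow_left c)).mul_left
    ((((hL hz hs).zpow_left d).symm).mul_right (hL hw (L_le (by omega) hz)))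

/-- An element outside the two-step centralizer moves one exact element onto the coset of any other. -/
theorem exists_move {i0 : ℕ} (h1 : 1 ≤ i0) (h2 : i0 + 1 < n - 1) {a r : X} (ha : a ∈ L X i0)
    (ha' : a ∉ L X (i0 + 1)) (hr : r ∈ L X i0) (hr' : r ∉ L X (i0 + 1)) :
    ∃ (g : X) (i : ℤ), ¬ (p : ℤ) ∣ i ∧ (g * a ^ i * g⁻¹)⁻¹ * r ∈ L X (i0 + 2) := by
  obtain ⟨x, hx⟩ : ∃ x, x ∉ stepCent X i0 := by
    by_contra h
    push Not at h
    exact stepCent_ne_top B h2 (eq_top_iff.2 fun y _ => h y)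
  have hw : ⁅x, a⁆ ∈ L X (i0 + 1) := by
    rw [← commutatorElement_inv]; exact inv_mem (comm_mem_succ ha x)
  have hw' : ⁅x, a⁆ ∉ L X (i0 + 1 + 1) := fun h => hx (B.mem_stepCent_of_exact h1 ha ha' (by
    rw [← commutatorElement_inv]; exact inv_mem h))
  obtain ⟨i, hi⟩ := B.step_gen h1 ha ha' hr
  obtain ⟨m, hm⟩ := B.step_gen (show 1 ≤ i0 + 1 by omega) hw hw' hi
  have hip : ¬ (p : ℤ) ∣ i := by
    rintro ⟨q, rfl⟩
    refine hr' ?_
    rw [← mul_inv_cancel_left (a ^ ((p : ℤ) * q)) r]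
    refine mul_mem ?_ hi
    rw [zpow_mul, zpow_natCast]
    exact zpow_mem (pow_prime_mem B h1 (by omega) ha) q
  have hi0 : (i : ZMod p) ≠ 0 := fun e => hip ((ZMod.intCast_zmod_eq_zero_iff_dvd i p).1 e)
  set j := ((m : ZMod p) / (i : ZMod p)).val with hj
  refine ⟨x ^ j, i, hip, ?_⟩
  set π := QuotientGroup.mk' (L X (i0 + 2))
  have hz : ∀ y, Commute (π ⁅x, a⁆) y := fun y => by
    obtain ⟨y, rfl⟩ := QuotientGroup.mk'_surjective (L X (i0 + 2)) y
    exact central_step hw y
  have hwp : π ⁅x, a⁆ ^ p = 1 := by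
    rw [← map_pow]; exact (QuotientGroup.eq_one_iff _).2 (pow_prime_mem B (by omega) (by omega) hw)
  have hconj : π (x ^ j) * π a * (π (x ^ j))⁻¹ = π ⁅x, a⁆ ^ j * π a := by
    rw [map_commutatorElement, map_pow, ← commutator_pow_left_of_commute (by
      rw [← map_commutatorElement]; exact hz _), commutatorElement_def, inv_mul_cancel_right]
  have hm' : π (a ^ i) * π ⁅x, a⁆ ^ m = π r := by
    rw [mem_iff_mk_eq] at hm
    rw [← map_zpow π ⁅x, a⁆, show π (⁅x, a⁆ ^ m) = π ((a ^ i)⁻¹ * r) from hm, ← map_mul,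
      mul_inv_cancel_left]
  rw [mem_iff_mk_eq]
  show π _ = π r
  rw [map_mul, map_mul, map_inv, map_zpow, ← conj_zpow, hconj, ((hz (π a)).pow_left j).mul_zpow,
    ← hm', map_zpow, (hz (π a ^ i)).zpow_left m |>.symm.eq, ← zpow_natCast, ← zpow_mul]
  congr 1
  rw [zpow_eq_zpow_iff_modEq]
  refine Int.ModEq.of_dvd (Int.natCast_dvd_natCast.2 (orderOf_dvd_iff_pow_eq_one.2 hwp)) ?_
  rw [← ZMod.intCast_eq_intCast_iff]
  push_cast
  rw [hj, ZMod.natCast_zmod_val, div_mul_cancel₀ _ hi0]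

end Cfsg.Lib.PGroups.MaxClassSmallSub
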