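import Cfsg.Agent.PGroups.MaxClassOutside

/-!
The two-step centralizers of a `p`-group of maximal class of order `p ^ n`: those of the steps
`1, …, n - 4` coincide, and so does the one of step `n - 3` when `n` is odd (N. Blackburn).
-/

set_option autoImplicit false
set_option linter.unusedSectionVars false
set_option linter.style.haveILetI false

namespace Cfsg.Lib.PGroups.MaxClassDegree

open Subgroup
open Cfsg.Lib.PGroups MaxClassRank MaxClassThree MaxClassAgemo MaxClassOutside
open scoped commutatorElement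

universe u

/-- Three subgroups modulo a normal subgroup. -/
theorem three_le {G : Type*} [Group G] {A B C N : Subgroup G} [N.Normal] (h1 : ⁅⁅B, C⁆, A⁆ ≤ N)
    (h2 : ⁅⁅C, A⁆, B⁆ ≤ N) : ⁅⁅A, B⁆, C⁆ ≤ N := by
  have e : ∀ P Q R : Subgroup G, (⁅⁅P, Q⁆, R⁆).map (QuotientGroup.mk' N) =
      ⁅⁅P.map (QuotientGroup.mk' N), Q.map (QuotientGroup.mk' N)⁆, R.map (QuotientGroup.mk' N)⁆ :=
    fun P Q R => by rw [map_commutator, map_commutator]
  have hb : ∀ H : Subgroup G, H.map (QuotientGroup.mk' N) = ⊥ ↔ H ≤ N := fun H => by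
    rw [Subgroup.map_eq_bot_iff, QuotientGroup.ker_mk']
  rw [← hb, e]
  exact commutator_commutator_eq_bot_of_rotate (by rw [← e, hb]; exact h1) (by rw [← e, hb]; exact h2)

/-- Conjugation of a commutator, when the correction terms are central and the last one vanishes. -/
theorem conj_comm_eq {G : Type*} [Group G] (x a b : G) (hA : ∀ g : G, Commute ⁅⁅x, a⁆, b⁆ g)
    (hB : ∀ g : G, Commute ⁅a, ⁅x, b⁆⁆ g) (hC : ⁅⁅x, a⁆, ⁅x, b⁆⁆ = 1)
    (hD : Commute ⁅x, a⁆ ⁅a, b⁆) (hE : Commute ⁅x, b⁆ ⁅a, b⁆)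
    (hF : Commute ⁅x, b⁆ ⁅⁅x, a⁆, b⁆) :
    ⁅x, ⁅a, b⁆⁆ = ⁅⁅x, a⁆, b⁆ * ⁅a, ⁅x, b⁆⁆ := by
  have expL : ∀ u v w : G, ⁅u * v, w⁆ = u * ⁅v, w⁆ * u⁻¹ * ⁅u, w⁆ := fun u v w => by
    simp only [commutatorElement_def]; group
  have expR : ∀ u v w : G, ⁅u, v * w⁆ = ⁅u, v⁆ * (v * ⁅u, w⁆ * v⁻¹) := fun u v w => by
    simp only [commutatorElement_def]; group
  have hc : x * ⁅a, b⁆ * x⁻¹ = ⁅⁅x, a⁆ * a, ⁅x, b⁆ * b⁆ := by
    simp only [commutatorElement_def]; group
  have h1 : ⁅⁅x, a⁆ * a, ⁅x, b⁆ * b⁆ = ⁅x, a⁆ * (⁅a, ⁅x, b⁆⁆ * ⁅a, b⁆) * ⁅x, a⁆⁻¹ * ⁅⁅x, a⁆, b⁆ := by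
    rw [expL, expR a, expR ⁅x, a⁆, hC, one_mul, hE.eq, mul_inv_cancel_right, hF.eq,
      mul_inv_cancel_right]
  have h2 : ⁅x, a⁆ * (⁅a, ⁅x, b⁆⁆ * ⁅a, b⁆) * ⁅x, a⁆⁻¹ = ⁅a, ⁅x, b⁆⁆ * ⁅a, b⁆ := by
    rw [((hB ⁅x, a⁆).symm.mul_right hD).eq, mul_inv_cancel_right]
  calc ⁅x, ⁅a, b⁆⁆ = (x * ⁅a, b⁆ * x⁻¹) * ⁅a, b⁆⁻¹ := by simp only [commutatorElement_def]
    _ = ⁅a, ⁅x, b⁆⁆ * ⁅a, b⁆ * ⁅⁅x, a⁆, b⁆ * ⁅a, b⁆⁻¹ := by rw [hc, h1, h2]
    _ = ⁅⁅x, a⁆, b⁆ * ⁅a, ⁅x, b⁆⁆ := by
      rw [mul_assoc _ ⁅a, b⁆, ← (hA ⁅a, b⁆).eq, ← mul_assoc, mul_inv_cancel_right,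
        (hB ⁅⁅x, a⁆, b⁆).eq]

/-- An alternating recursion in an abelian group. -/
theorem alt_formula {A : Type*} [Group A] {f : ℕ → A} {d : A} {N : ℕ}
    (hcomm : ∀ i, i ≤ N → ∀ k : ℤ, Commute (f i) (d ^ k))
    (hrec : ∀ i, i < N → f (i + 1) * f i = d ^ ((-1 : ℤ) ^ i)) :
    ∀ i, i ≤ N → f i = f 0 ^ ((-1 : ℤ) ^ i) * d ^ ((-1 : ℤ) ^ (i + 1) * i) := by
  intro i
  induction i with
  | zero => intro _; simp
  | succ i ih =>
    intro hi
    have h := hrec i (by omega)
    rw [← eq_mul_inv_iff_mul_eq, ih (by omega), mul_inv_rev, ← zpow_neg, ← zpow_neg, ← mul_assoc,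
      ← zpow_add] at h
    rw [h, ← ((hcomm 0 (by omega) _).zpow_left _).eq, pow_succ (-1 : ℤ) (i + 1)]
    congr 2
    · rw [pow_succ]; ring
    · push_cast [pow_succ]; ring

variable {X : Type u} [Group X] [Finite X] {p : ℕ} [hp : Fact p.Prime] [Group.IsNilpotent X] {n : ℕ}

theorem comm_eq_one_of_le (B : Base p n X) {i : ℕ} (hi : n - 1 ≤ i) {g : X} (hg : g ∈ L X i) : g = 1 := by
  rwa [B.L_eq_bot hi, mem_bot] at hg

theorem central_of_mem (B : Base p n X) {i : ℕ} (hi : n - 2 ≤ i) {g : X} (hg : g ∈ L X i) (y : X) :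
    Commute g y :=
  (Subgroup.mem_center_iff.1 (B.center_eq.ge (L_le hi hg)) y).symm

theorem comm_mem_mul {i j : ℕ} {a b : X} (ha : a ∈ L X i) (hb : b ∈ L X j) : ⁅a, b⁆ ∈ L X (i + j + 1) :=
  lcs_comm_le j i (commutator_mem_commutator ha hb)

theorem stepCent_normal (j : ℕ) : (stepCent X j).Normal := ⟨fun c hc g => by
  have h : ⁅g, c⁆ ∈ L X 1 := by
    rw [show L X 1 = ⁅L X 0, ⊤⁆ from Subgroup.lowerCentralSeries_succ _ 0]
    refine commutator_mem_commutator ?_ (mem_top c)
    rw [show L X 0 = ⊤ from Subgroup.lowerCentralSeries_zero _]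
    exact mem_top g
  have := mul_mem (derived_le_stepCent j h) hc
  rwa [commutatorElement_def, inv_mul_cancel_right] at this⟩

/-- The two-step centralizers of a quotient by the centre. -/
theorem mem_stepCent_quotient (B : Base p n X) {j : ℕ} (hj : j + 4 ≤ n) {y : X} :
    QuotientGroup.mk' (center X) y ∈ stepCent (X ⧸ center X) j ↔ y ∈ stepCent X j := by
  set π := QuotientGroup.mk' (center X) with hπ
  have hLmap : ∀ i, L (X ⧸ center X) i = (L X i).map π := fun i => by
    rw [L, L, map_lowerCentralSeries, map_top_of_surjective _ (QuotientGroup.mk'_surjective _)]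
  refine ⟨fun h => mem_stepCent.2 fun a ha => ?_, fun h => mem_stepCent.2 fun b hb => ?_⟩
  · have h4 := mem_stepCent.1 h (π a) (by rw [hLmap]; exact mem_map_of_mem π ha)
    rw [hLmap, ← map_commutatorElement] at h4
    have h5 : ⁅a, y⁆ ∈ ((L X (j + 2)).map π).comap π := h4
    rwa [comap_map_eq, hπ, QuotientGroup.ker_mk',
      sup_eq_left.2 (by rw [B.center_eq]; exact L_le (by omega))] at h5
  · rw [hLmap] at hb ⊢
    obtain ⟨a, ha, rfl⟩ := hb
    exact ⟨⁅a, y⁆, mem_stepCent.1 h a ha, map_commutatorElement π a y⟩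

theorem stepCent_eq_of_le (B : Base p n X) {i j : ℕ} (hi : 1 ≤ i) (hi' : i + 3 ≤ n) (hj : 1 ≤ j)
    (hj' : j + 3 ≤ n) (h : stepCent X i ≤ stepCent X j) : stepCent X i = stepCent X j := by
  have hrel := relIndex_mul_index h
  rw [index_stepCent B hj (by omega), index_stepCent B hi (by omega)] at hrel
  exact le_antisymm h (relIndex_eq_one.1 ((mul_eq_right₀ hp.out.ne_zero).1 hrel))

/-- The derived subgroup is generated by commutators with the first two-step centralizer. -/
theorem commutator_stepCent (B : Base p n X) (hn : 4 ≤ n) {x : X} (hx : x ∉ stepCent X 1) :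
    L X 1 ≤ ⁅(⊤ : Subgroup X), stepCent X 1⁆ ⊔ L X 2 := by
  have hC := index_stepCent B le_rfl (show 1 + 1 < n - 1 by omega)
  have htop : stepCent X 1 ⊔ zpowers x = ⊤ := by
    have h1 : (stepCent X 1 ⊔ zpowers x).index ∣ (stepCent X 1).index := index_dvd_of_le le_sup_left
    rw [hC] at h1
    rcases (Nat.dvd_prime hp.out).1 h1 with h | h
    · exact index_eq_one.1 h
    · exfalso
      have hrel := relIndex_mul_index (le_sup_left : stepCent X 1 ≤ stepCent X 1 ⊔ zpowers x)
      rw [h, hC] at hrel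
      exact hx (relIndex_eq_one.1 ((mul_eq_right₀ hp.out.ne_zero).1 hrel)
        (mem_sup_right (mem_zpowers x)))
  haveI : (stepCent X 1).Normal := stepCent_normal 1
  set W := ⁅(⊤ : Subgroup X), stepCent X 1⁆ ⊔ L X 2
  haveI : W.Normal := inferInstance
  set π := QuotientGroup.mk' W
  have hcent : ∀ c ∈ stepCent X 1, ∀ g : X, Commute (π g) (π c) := fun c hc g => by
    rw [← commutatorElement_eq_one_iff_commute, ← map_commutatorElement]
    exact (QuotientGroup.eq_one_iff _).2 (mem_sup_left (commutator_mem_commutator (mem_top g) hc))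
  have hall : ∀ a b : X, Commute (π a) (π b) := by
    intro a b
    obtain ⟨c, hc, u, ⟨k, rfl⟩, rfl⟩ := mem_sup_of_normal_left.1 (htop.ge (mem_top a))
    obtain ⟨d, hd, v, ⟨l, rfl⟩, rfl⟩ := mem_sup_of_normal_left.1 (htop.ge (mem_top b))
    simp only [map_mul, map_zpow]
    refine ((hcent c hc _).symm.mul_right ((hcent c hc x).symm.zpow_right l)).mul_left ?_
    exact ((hcent d hd x).zpow_left k).mul_right ((Commute.refl (π x)).zpow_zpow k l)
  rw [show L X 1 = ⁅L X 0, ⊤⁆ from Subgroup.lowerCentralSeries_succ _ 0, commutator_le]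
  intro a _ b _
  rw [← QuotientGroup.eq_one_iff]
  show π ⁅a, b⁆ = 1
  rw [map_commutatorElement]
  exact commutatorElement_eq_one_iff_commute.2 (hall a b)

/-- Commutators of terms drop one step more, below the steps with the first centralizer. -/
theorem lcs_comm_deep (B : Base p n X) {x : X} (hx : x ∉ stepCent X 1) {t : ℕ} (ht : t + 4 ≤ n)
    (hC : ∀ j, 1 ≤ j → j ≤ t → stepCent X 1 ≤ stepCent X j) :
    ∀ i j, 1 ≤ i → 1 ≤ j → i + j ≤ t → ⁅L X i, L X j⁆ ≤ L X (i + j + 2) := by
  have hCj : ∀ j, 1 ≤ j → j ≤ t → ⁅L X j, stepCent X 1⁆ ≤ L X (j + 2) := fun j h1 h2 =>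
    commutator_le.2 fun a ha c hc => mem_stepCent.1 (hC j h1 h2 hc) a ha
  intro i
  induction i with
  | zero => intro j h; omega
  | succ i ih =>
    intro j _ hj hij
    rcases Nat.eq_zero_or_pos i with rfl | hi
    · -- the derived subgroup
      refine (commutator_mono (commutator_stepCent B (by omega) hx) le_rfl).trans ?_
      haveI : (stepCent X 1).Normal := stepCent_normal 1
      have h1 : ⁅⁅(⊤ : Subgroup X), stepCent X 1⁆, L X j⁆ ≤ L X (j + 3) := by
        refine three_le ?_ ?_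
        · refine le_trans (commutator_mono ?_ le_rfl) (Subgroup.lowerCentralSeries_succ _ (j + 2)).ge
          rw [commutator_comm]
          exact hCj j hj (by omega)
        · refine le_trans (commutator_mono ?_ le_rfl) (hCj (j + 1) (by omega) (by omega))
          exact (Subgroup.lowerCentralSeries_succ _ j).ge
      rw [show 0 + 1 + j + 2 = j + 3 by omega, commutator_comm]
      refine commutator_le.2 fun b hb g hg => ?_
      obtain ⟨u, hu, v, hv, rfl⟩ := mem_sup_of_normal_left.1 hg
      rw [show ⁅b, u * v⁆ = ⁅b, u⁆ * (u * ⁅b, v⁆ * u⁻¹) by simp only [commutatorElement_def]; group]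
      refine mul_mem ?_ ((inferInstance : (L X (j + 3)).Normal).conj_mem _ ?_ u)
      · rw [← commutatorElement_inv]
        exact inv_mem (h1 (commutator_mem_commutator hu hb))
      · exact L_le (by omega) (comm_mem_mul hb hv)
    · -- the step
      rw [show L X (i + 1) = ⁅L X i, ⊤⁆ from Subgroup.lowerCentralSeries_succ _ i]
      refine three_le ?_ ?_
      · rw [commutator_comm ⊤, commutator_comm _ (L X i)]
        refine le_trans (commutator_mono le_rfl (Subgroup.lowerCentralSeries_succ _ j).ge) ?_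
        refine (ih (j + 1) hi (by omega) (by omega)).trans (L_le (by omega))
      · rw [commutator_comm (L X j)]
        refine le_trans (commutator_mono (ih j hi hj (by omega)) le_rfl) ?_
        exact le_trans (Subgroup.lowerCentralSeries_succ _ _).ge (L_le (by omega))

/-! ### The chain and the main theorem -/

/-- The chain below `e` under commutation with `x`. -/
def chain (x e : X) : ℕ → X
  | 0 => e
  | i + 1 => ⁅x, chain x e i⁆

theorem chain_mem (x e : X) : ∀ i, chain x e i ∈ L X i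
  | 0 => by rw [show L X 0 = ⊤ from Subgroup.lowerCentralSeries_zero _]; exact mem_top _
  | i + 1 => by
    have h := comm_mem_succ (chain_mem x e i) x
    rw [show chain x e (i + 1) = ⁅x, chain x e i⁆ from rfl, ← commutatorElement_inv]
    exact inv_mem h

theorem chain_one_not_mem (B : Base p n X) (hn : 4 ≤ n) {x e : X} (hx : x ∉ stepCent X 1)
    (he : e ∈ stepCent X 1) (he' : e ∉ L X 1) : ⁅x, e⁆ ∉ L X 2 := by
  intro h
  -- `e` and `x` generate
  have hC := index_stepCent B le_rfl (show 1 + 1 < n - 1 by omega)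
  have hgen : L X 1 ⊔ zpowers e = stepCent X 1 := by
    refine le_antisymm (sup_le (derived_le_stepCent 1) (zpowers_le.2 he)) ?_
    have hi := relIndex_mul_index (sup_le (derived_le_stepCent 1) (zpowers_le.2 he))
    have hj := relIndex_mul_index (le_sup_left : L X 1 ≤ L X 1 ⊔ zpowers e)
    rw [B.L_index le_rfl (by omega)] at hj
    obtain ⟨k, hk2, hk⟩ := (Nat.dvd_prime_pow hp.out).1 (Dvd.intro_left _ hj)
    have hk' : k < 2 := by
      refine lt_of_le_of_ne hk2 fun hk0 => he' ?_
      rw [hk, hk0] at hj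
      have h1 : (L X 1).relIndex (L X 1 ⊔ zpowers e) = 1 :=
        (mul_eq_right₀ (pow_ne_zero _ hp.out.ne_zero)).1 hj
      exact relIndex_eq_one.1 h1 (mem_sup_right (mem_zpowers e))
    rw [hk, hC] at hi
    interval_cases k
    · rw [pow_zero] at hk
      exact absurd (index_eq_one.1 hk) fun htop => hx (by
        have := (htop ▸ mem_top x : x ∈ L X 1 ⊔ zpowers e)
        exact sup_le (derived_le_stepCent 1) (zpowers_le.2 he) this)
    · rw [pow_one] at hi
      exact relIndex_eq_one.1 ((mul_eq_right₀ hp.out.ne_zero).1 hi)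
  -- commutators with the first centralizer lie in the second term
  haveI : (stepCent X 1).Normal := stepCent_normal 1
  set π := QuotientGroup.mk' (L X 2)
  have hcx : ∀ c ∈ stepCent X 1, Commute (π x) (π c) ∧ ∀ d ∈ stepCent X 1, Commute (π d) (π c) := by
    have key : ∀ g : X, Commute (π g) (π e) → (∀ l ∈ L X 1, Commute (π g) (π l)) →
        ∀ c ∈ stepCent X 1, Commute (π g) (π c) := by
      intro g hge hgl c hc
      obtain ⟨l, hl, u, ⟨k, rfl⟩, rfl⟩ := mem_sup_of_normal_left.1 (hgen.ge hc)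
      simp only [map_mul, map_zpow]
      exact (hgl l hl).mul_right (hge.zpow_right k)
    have hl1 : ∀ g : X, ∀ l ∈ L X 1, Commute (π g) (π l) := fun g l hl => (central_step hl g).symm
    intro c hc
    refine ⟨key x ?_ (hl1 x) c hc, fun d hd => key d ?_ (hl1 d) c hc⟩
    · rw [← commutatorElement_eq_one_iff_commute, ← map_commutatorElement]
      exact (QuotientGroup.eq_one_iff _).2 h
    · exact (key e (Commute.refl _) (hl1 e) d hd).symm
  have hW : L X 1 ≤ L X 2 := by
    refine (commutator_stepCent B hn hx).trans (sup_le (commutator_le.2 fun g _ c hc => ?_) le_rfl)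
    rw [← QuotientGroup.eq_one_iff]
    show π ⁅g, c⁆ = 1
    rw [map_commutatorElement, commutatorElement_eq_one_iff_commute]
    have htop : stepCent X 1 ⊔ zpowers x = ⊤ := by
      by_contra hne
      have h1 : (stepCent X 1 ⊔ zpowers x).index ∣ (stepCent X 1).index := index_dvd_of_le le_sup_left
      rw [hC] at h1
      rcases (Nat.dvd_prime hp.out).1 h1 with h | h
      · exact hne (index_eq_one.1 h)
      · have hrel := relIndex_mul_index (le_sup_left : stepCent X 1 ≤ stepCent X 1 ⊔ zpowers x)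
        rw [h, hC] at hrel
        exact hx (relIndex_eq_one.1 ((mul_eq_right₀ hp.out.ne_zero).1 hrel)
          (mem_sup_right (mem_zpowers x)))
    obtain ⟨d, hd, u, ⟨k, rfl⟩, rfl⟩ := mem_sup_of_normal_left.1 (htop.ge (mem_top g))
    simp only [map_mul, map_zpow]
    exact ((hcx c hc).2 d hd).mul_left (((hcx c hc).1).zpow_left k)
  exact (B.L_lt (show 1 < n - 1 by omega)).ne (le_antisymm (L_le (Nat.le_succ 1)) hW)

theorem chain_not_mem {x : X} (D : MaxClassAgemo.Data p n x) (hn : 4 ≤ n) (hx : x ∉ stepCent X 1) {e : X}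
    (he : e ∈ stepCent X 1) (he' : e ∉ L X 1) :
    ∀ i, i < n - 1 → chain x e i ∉ L X (i + 1)
  | 0, _ => he'
  | 1, _ => chain_one_not_mem D.toBase hn hx he he'
  | i + 2, h => by
    intro hm
    refine D.comm_step (show 1 ≤ i + 1 by omega) (by omega) (chain_mem x e (i + 1))
      (chain_not_mem D hn hx he he' (i + 1) (by omega)) ?_
    rw [← commutatorElement_inv]
    exact inv_mem hm

/-- The recursion between two adjacent anti-diagonals. -/
theorem diag_step (B : Base p n X) (x e : X) {i j : ℕ} (hij : i + j + 4 = n)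
    (hφ : ⁅chain x e i, chain x e j⁆ ∈ L X (n - 3)) (hj : 1 ≤ j) :
    ⁅x, ⁅chain x e i, chain x e j⁆⁆ =
      ⁅chain x e (i + 1), chain x e j⁆ * ⁅chain x e i, chain x e (j + 1)⁆ := by
  have hn := B.three
  have hA : ⁅chain x e (i + 1), chain x e j⁆ ∈ L X (n - 2) :=
    L_le (by omega) (comm_mem_mul (chain_mem x e (i + 1)) (chain_mem x e j))
  have hB : ⁅chain x e i, chain x e (j + 1)⁆ ∈ L X (n - 2) :=
    L_le (by omega) (comm_mem_mul (chain_mem x e i) (chain_mem x e (j + 1)))
  refine conj_comm_eq x _ _ (central_of_mem B le_rfl hA) (central_of_mem B le_rfl hB)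
    (comm_eq_one_of_le B (by omega) (comm_mem_mul (chain_mem x e (i + 1)) (chain_mem x e (j + 1))))
    ?_ ?_ (central_of_mem B le_rfl hA _).symm
  · rw [← commutatorElement_eq_one_iff_commute]
    exact comm_eq_one_of_le B (by omega) (comm_mem_mul (chain_mem x e (i + 1)) hφ)
  · rw [← commutatorElement_eq_one_iff_commute]
    exact comm_eq_one_of_le B (by omega) (comm_mem_mul (chain_mem x e (j + 1)) hφ)

/-- The anti-diagonal recursion one step higher, modulo the centre. -/
theorem diag_step_mod (B : Base p n X) (x e : X) {i j : ℕ} (hij : i + j + 5 = n) (hj : 1 ≤ j)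
    (hφ : ⁅chain x e i, chain x e j⁆ ∈ L X (n - 3)) :
    ⁅chain x e (i + 1), chain x e j⁆ * ⁅chain x e i, chain x e (j + 1)⁆ ∈ L X (n - 2) := by
  set π := QuotientGroup.mk' (L X (n - 2))
  have hn := B.three
  have hA : ⁅chain x e (i + 1), chain x e j⁆ ∈ L X (n - 3) :=
    L_le (by omega) (comm_mem_mul (chain_mem x e (i + 1)) (chain_mem x e j))
  have hB : ⁅chain x e i, chain x e (j + 1)⁆ ∈ L X (n - 3) :=
    L_le (by omega) (comm_mem_mul (chain_mem x e i) (chain_mem x e (j + 1)))
  have hone : ∀ {g : X}, g ∈ L X (n - 2) → π g = 1 := fun hg => (QuotientGroup.eq_one_iff _).2 hg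
  have hc : ∀ {g : X}, g ∈ L X (n - 3) → ∀ y : X ⧸ L X (n - 2), Commute (π g) y := by
    intro g hg y
    obtain ⟨y, rfl⟩ := QuotientGroup.mk'_surjective (L X (n - 2)) y
    have h := central_step hg y
    rwa [show n - 3 + 1 = n - 2 by omega] at h
  have h := conj_comm_eq (π x) (π (chain x e i)) (π (chain x e j))
    (by simp only [← map_commutatorElement]; exact hc hA)
    (by simp only [← map_commutatorElement]; exact hc hB)
    (by
      simp only [← map_commutatorElement]
      exact hone (L_le (by omega) (comm_mem_mul (chain_mem x e (i + 1)) (chain_mem x e (j + 1)))))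
    (by simp only [← map_commutatorElement]; exact (hc hφ _).symm)
    (by simp only [← map_commutatorElement]; exact (hc hφ _).symm)
    (by simp only [← map_commutatorElement]; exact (hc hA _).symm)
  simp only [← map_commutatorElement] at h
  rw [← QuotientGroup.eq_one_iff]
  show π _ = 1
  rw [map_mul]
  refine h.symm.trans (hone ?_)
  rw [show n - 2 = n - 3 + 1 by omega, ← commutatorElement_inv]
  exact inv_mem (comm_mem_succ hφ x)

theorem comm_stepCent {e : X} {j : ℕ} (he : e ∈ stepCent X j) {a : X} (ha : a ∈ L X j) :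
    ⁅e, a⁆ ∈ L X (j + 2) := by
  rw [← commutatorElement_inv]
  exact inv_mem (mem_stepCent.1 he a ha)

/-- The last step but one: no exception. -/
theorem stepCent_one_le_penultimate (B : Base p n X) (hn : 7 ≤ n) (hp3 : 3 ≤ p)
    (hlow : ∀ j, 1 ≤ j → j + 5 ≤ n → stepCent X 1 ≤ stepCent X j) :
    stepCent X 1 ≤ stepCent X (n - 4) := by
  obtain ⟨x, D⟩ := exists_data hp3 n X B.card (by omega) B.cls
  have hxC : ∀ j, 1 ≤ j → j + 3 ≤ n → x ∉ stepCent X j := fun j h1 h2 h => by
    obtain ⟨a, ha, ha'⟩ := SetLike.exists_of_lt (B.L_lt (show j < n - 1 by omega))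
    exact D.comm_step h1 (by omega) ha ha' (mem_stepCent.1 h a ha)
  by_cases hper : p ≤ n - 4
  · exact (hlow (n - 4 - (p - 1)) (by omega) (by omega)).trans
      ((D.stepCent_periodic (show 1 ≤ n - 4 - (p - 1) by omega) (by omega)).trans
        (by rw [show n - 4 - (p - 1) + (p - 1) = n - 4 by omega]))
  intro e he
  by_contra hne
  have he1 : e ∉ L X 1 := fun h => hne (derived_le_stepCent _ h)
  set a := chain x e with ha
  have hmem := chain_mem x e
  have hexact := chain_not_mem D (by omega) (hxC 1 le_rfl (by omega)) he he1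
  by_cases hlast : e ∈ stepCent X (n - 3)
  swap
  · -- commutators of complementary terms are central
    refine hne (mem_stepCent.2 fun b hb => ?_)
    have hsmall : ∀ i j, 1 ≤ i → 1 ≤ j → i + j + 4 = n → ⁅L X i, L X j⁆ ≤ L X (n - 2) := by
      intro i j h1 h2 hij
      have hcom : ⁅⁅L X i, L X j⁆, zpowers e⁆ ≤ L X (n - 1) := by
        have hstep : ∀ k, 1 ≤ k → k + 5 ≤ n → ⁅L X k, zpowers e⁆ ≤ L X (k + 2) := fun k hk hk' =>
          commutator_le.2 fun b hb c hc =>
            mem_stepCent.1 (zpowers_le.2 (hlow k hk hk' he) hc) b hb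
        refine three_le ?_ ?_
        · refine (commutator_mono (hstep j h2 (by omega)) le_rfl).trans ?_
          exact (lcs_comm_le i (j + 2)).trans (L_le (by omega))
        · refine (commutator_mono ((commutator_comm _ _).le.trans (hstep i h1 (by omega))) le_rfl).trans ?_
          exact (lcs_comm_le j (i + 2)).trans (L_le (by omega))
      refine fun g hg => ?_
      have hg3 : g ∈ L X (n - 3) := L_le (by omega) (lcs_comm_le j i hg)
      by_contra hg2
      refine hlast (B.mem_stepCent_of_exact (by omega) hg3 (by rwa [show n - 3 + 1 = n - 2 by omega]) ?_)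
      rw [comm_eq_one_of_le B le_rfl (hcom (commutator_mem_commutator hg (mem_zpowers e)))]
      exact one_mem _
    have key : ⁅⁅L X (n - 5), (⊤ : Subgroup X)⁆, zpowers e⁆ ≤ L X (n - 2) := by
      refine three_le ?_ ?_
      · refine (commutator_mono ?_ le_rfl).trans (hsmall 1 (n - 5) le_rfl (by omega) (by omega))
        refine (commutator_mono le_rfl le_top).trans ?_
        rw [show L X 1 = ⁅L X 0, ⊤⁆ from Subgroup.lowerCentralSeries_succ _ 0,
          show L X 0 = ⊤ from Subgroup.lowerCentralSeries_zero _]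
      · refine (commutator_mono (?_ : _ ≤ L X (n - 5 + 2)) le_rfl).trans
          ((Subgroup.lowerCentralSeries_succ _ _).ge.trans (L_le (by omega)))
        rw [commutator_comm]
        exact commutator_le.2 fun b hb c hc =>
          mem_stepCent.1 (zpowers_le.2 (hlow (n - 5) (by omega) (by omega) he) hc) b hb
    rw [show n - 4 + 2 = n - 2 by omega]
    refine key (commutator_mem_commutator ?_ (mem_zpowers e))
    rw [← Subgroup.lowerCentralSeries_succ, show n - 5 + 1 = n - 4 by omega]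
    exact hb
  -- the anti-diagonal of the step
  have hφmem : ∀ i, i + 4 ≤ n → ⁅a i, a (n - 4 - i)⁆ ∈ L X (n - 3) := fun i hi =>
    L_le (by omega) (comm_mem_mul (hmem i) (hmem _))
  have hlow' : ∀ j, 1 ≤ j → j ≤ n - 5 → stepCent X 1 ≤ stepCent X j := fun j h1 h2 => hlow j h1 (by omega)
  have hdeep := lcs_comm_deep B (hxC 1 le_rfl (by omega)) (show n - 5 + 4 ≤ n by omega) hlow'
  have hupper : ∀ i, i + 6 ≤ n → ⁅a i, a (n - 5 - i)⁆ ∈ L X (n - 3) := by
    intro i hi
    rcases Nat.eq_zero_or_pos i with rfl | h1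
    · exact L_le (show n - 3 ≤ n - 5 - 0 + 2 by omega)
        (comm_stepCent (hlow _ (by omega) (by omega) he) (hmem _))
    · exact L_le (show n - 3 ≤ i + (n - 5 - i) + 2 by omega)
        (hdeep i (n - 5 - i) h1 (by omega) (by omega) (commutator_mem_commutator (hmem i) (hmem _)))
  set π := QuotientGroup.mk' (L X (n - 2))
  set c := ⁅a 0, a (n - 4)⁆ with hc
  have hcm : c ∈ L X (n - 3) := L_le (by omega) (comm_mem_mul (hmem 0) (hmem _))
  have hcne : c ∉ L X (n - 2) := fun h => by
    refine hne (B.mem_stepCent_of_exact (by omega) (hmem (n - 4)) (hexact _ (by omega)) ?_)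
    rw [← commutatorElement_inv, show n - 4 + 2 = n - 2 by omega]
    exact inv_mem h
  have hφ : ∀ i, i + 5 ≤ n → π ⁅a i, a (n - 4 - i)⁆ = π c ^ ((-1 : ℤ) ^ i) := by
    intro i
    induction i with
    | zero => intro _; rw [pow_zero, zpow_one]; rfl
    | succ i ih =>
      intro hi
      have h := diag_step_mod B x e (i := i) (j := n - 5 - i) (by omega) (by omega) (hupper i (by omega))
      have h2 : π ⁅a (i + 1), a (n - 5 - i)⁆ * π ⁅a i, a (n - 4 - i)⁆ = 1 := by
        rw [← map_mul, show n - 4 - i = n - 5 - i + 1 by omega]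
        exact (QuotientGroup.eq_one_iff _).2 h
      rw [show n - 4 - (i + 1) = n - 5 - i by omega, eq_inv_of_mul_eq_one_left h2, ih (by omega),
        ← zpow_neg, pow_succ, mul_neg_one]
  rcases Nat.even_or_odd' (n - 4) with ⟨m, hm | hm⟩
  · -- the middle is trivial
    have h := hφ m (by omega)
    rw [show n - 4 - m = m by omega, commutatorElement_self, map_one] at h
    refine hcne ((QuotientGroup.eq_one_iff _).1 ?_)
    rcases neg_one_pow_eq_or ℤ m with h1 | h1 <;> rw [h1] at h
    · rwa [zpow_one, eq_comm] at h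
    · rwa [zpow_neg_one, eq_comm, inv_eq_one] at h
  -- one step higher
  set d := ⁅x, c⁆ with hd
  have hdne : d ≠ 1 := fun h => by
    refine hxC (n - 3) (by omega) (by omega) (B.mem_stepCent_of_exact (by omega)
      hcm (by rwa [show n - 3 + 1 = n - 2 by omega]) ?_)
    rw [← commutatorElement_inv, show ⁅x, c⁆ = 1 from h, inv_one]
    exact one_mem _
  have hdc : ∀ y : X, Commute d y := central_of_mem B (i := n - 3 + 1) (by omega) (by
    rw [hd, ← commutatorElement_inv]; exact inv_mem (comm_mem_succ hcm x))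
  have hx_pow : ∀ g ∈ L X (n - 3), ∀ z ∈ L X (n - 2), ⁅x, g * z⁆ = ⁅x, g⁆ := by
    intro g _ z hz
    rw [show ⁅x, g * z⁆ = ⁅x, g⁆ * (g * ⁅x, z⁆ * g⁻¹) by simp only [commutatorElement_def]; group,
      commutatorElement_eq_one_iff_commute.2 (central_of_mem B le_rfl hz x).symm]
    group
  have hrec : ∀ i, i < m + 1 → ⁅a (i + 1), a (n - 4 - i)⁆ * ⁅a i, a (n - 4 - i + 1)⁆ = d ^ ((-1 : ℤ) ^ i) := by
    intro i hi
    have h := diag_step B x e (i := i) (j := n - 4 - i) (by omega)
      (hφmem i (by omega)) (by omega)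
    rw [← h]
    have hφi := hφ i (by omega)
    rw [← map_zpow] at hφi
    have hz := QuotientGroup.eq.1 hφi.symm
    rw [← mul_inv_cancel_left (c ^ ((-1 : ℤ) ^ i)) ⁅chain x e i, chain x e (n - 4 - i)⁆,
      hx_pow _ (zpow_mem hcm _) _ hz]
    rcases neg_one_pow_eq_or ℤ i with h1 | h1 <;> rw [h1]
    · rw [zpow_one, zpow_one]
    · rw [zpow_neg_one, zpow_neg_one, hd]
      rw [show ⁅x, c⁻¹⁆ = c⁻¹ * ⁅x, c⁆⁻¹ * c by simp only [commutatorElement_def]; group, ← hd,
        ← ((hdc c⁻¹).inv_left).eq, inv_mul_cancel_right]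
  let f : ℕ → X := fun i => ⁅a i, a (n - 3 - i)⁆
  have hf : ∀ i, i < m + 1 → f (i + 1) * f i = d ^ ((-1 : ℤ) ^ i) := fun i hi => by
    rw [← hrec i hi]
    simp only [f]
    rw [show n - 3 - (i + 1) = n - 4 - i by omega, show n - 3 - i = n - 4 - i + 1 by omega]
  have hform := alt_formula (f := f) (N := m + 1) (fun i _ k => ((hdc (f i)).symm.zpow_right k)) hf (m + 1) le_rfl
  have hf0 : f 0 = 1 := by
    show ⁅a 0, a (n - 3)⁆ = 1
    exact comm_eq_one_of_le B (by omega) (comm_stepCent hlast (hmem (n - 3)))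
  simp only [f] at hform
  rw [show n - 3 - (m + 1) = m + 1 by omega, commutatorElement_self] at hform
  rw [show ⁅a 0, a (n - 3 - 0)⁆ = 1 from hf0, one_zpow, one_mul] at hform
  have hdord : orderOf d = p := by
    refine ((Nat.dvd_prime hp.out).1 ?_).resolve_left fun h => hdne (orderOf_eq_one_iff.1 h)
    have hdm : d ∈ L X (n - 2) := by
      rw [show n - 2 = n - 3 + 1 by omega, hd, ← commutatorElement_inv]
      exact inv_mem (comm_mem_succ hcm x)
    rw [← Subgroup.orderOf_mk d hdm]
    refine (_root_.orderOf_dvd_natCard _).trans (dvd_of_eq ?_)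
    rw [B.L_card (by omega) (by omega), show n - 1 - (n - 2) = 1 by omega, pow_one]
  have hdiv := orderOf_dvd_iff_zpow_eq_one.2 hform.symm
  rw [hdord] at hdiv
  have hdiv' : p ∣ m + 1 := by
    have := Int.natAbs_dvd_natAbs.2 hdiv
    rwa [Int.natAbs_natCast, Int.natAbs_mul, Int.natAbs_pow, Int.natAbs_neg, Int.natAbs_one,
      one_pow, one_mul, Int.natAbs_natCast] at this
  have := Nat.le_of_dvd (by omega) hdiv'
  omega

/-- The two-step centralizers of steps `1, …, n - 4` coincide. -/
theorem stepCent_eq : ∀ (n : ℕ) (X : Type u) [Group X] [Finite X] [Group.IsNilpotent X],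
    Base p n X → ∀ j, 1 ≤ j → j + 4 ≤ n → stepCent X j = stepCent X 1 := by
  intro n
  induction n using Nat.strong_induction_on with
  | _ n ih =>
  intro X _ _ _ B j h1 h2
  have hquot : ∀ j, 1 ≤ j → j + 5 ≤ n → stepCent X j = stepCent X 1 := by
    intro j h1 h2
    obtain ⟨-, hq, hqc⟩ := MaxClass.center_facts n X B.card (by omega) B.cls
    have B' : Base p (n - 1) (X ⧸ center X) := ⟨B.odd, by omega, hq, hqc⟩
    have he := ih (n - 1) (by omega) (X ⧸ center X) B' j h1 (by omega)
    ext y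
    rw [← mem_stepCent_quotient B (by omega), he, mem_stepCent_quotient B (by omega)]
  rcases Nat.lt_or_ge n (j + 5) with hlt | hge
  swap
  · exact hquot j h1 hge
  obtain rfl : n = j + 4 := by omega
  rcases Nat.lt_or_ge j 3 with h3 | h3
  · interval_cases j
    · rfl
    · exact (stepCent_eq_of_le B le_rfl (by omega) (by omega) (by omega)
        (stepCent_one_le_two B (by omega))).symm
  · refine (stepCent_eq_of_le B le_rfl (by omega) h1 (by omega) ?_).symm
    have h := stepCent_one_le_penultimate B (by omega) B.odd (fun i hi hi' => (hquot i hi hi').ge)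
    rwa [show j + 4 - 4 = j by omega] at h

/-- For odd `n` the last two-step centralizer is the first one. -/
theorem stepCent_last_of_odd (B : Base p n X) (hn : 5 ≤ n) (hodd : Odd n) :
    stepCent X (n - 3) = stepCent X 1 := by
  refine (stepCent_eq_of_le B le_rfl (by omega) (by omega) (by omega) fun e he => ?_).symm
  obtain ⟨x, D⟩ := exists_data B.odd n X B.card (by omega) B.cls
  have hx : x ∉ stepCent X 1 := fun h => by
    obtain ⟨a, ha, ha'⟩ := SetLike.exists_of_lt (B.L_lt (show 1 < n - 1 by omega))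
    exact D.comm_step le_rfl (by omega) ha ha' (mem_stepCent.1 h a ha)
  by_cases he1 : e ∈ L X 1
  · exact derived_le_stepCent _ he1
  have hlow : ∀ j, 1 ≤ j → j ≤ n - 4 → stepCent X 1 ≤ stepCent X j := fun j h1 h2 =>
    (stepCent_eq n X B j h1 (by omega)).ge
  set a := chain x e with ha
  have hmem := chain_mem x e
  have hdeep := lcs_comm_deep B hx (show n - 4 + 4 ≤ n by omega) hlow
  have hφ : ∀ i, i + 5 ≤ n → ⁅a i, a (n - 4 - i)⁆ ∈ L X (n - 2) := by
    intro i hi
    rcases Nat.eq_zero_or_pos i with rfl | h1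
    · exact L_le (show n - 2 ≤ n - 4 - 0 + 2 by omega)
        (comm_stepCent (hlow _ (by omega) (by omega) he) (hmem _))
    · exact L_le (show n - 2 ≤ i + (n - 4 - i) + 2 by omega)
        (hdeep i (n - 4 - i) h1 (by omega) (by omega) (commutator_mem_commutator (hmem i) (hmem _)))
  obtain ⟨m, hm⟩ : ∃ m, n = 2 * m + 3 := by obtain ⟨k, hk⟩ := hodd; exact ⟨k - 1, by omega⟩
  let f : ℕ → X := fun i => ⁅a i, a (n - 3 - i)⁆
  have hf : ∀ i, i < m → f (i + 1) * f i = (1 : X) ^ ((-1 : ℤ) ^ i) := fun i hi => by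
    have h := diag_step B x e (i := i) (j := n - 4 - i) (by omega)
      (L_le (by omega) (hφ i (by omega))) (by omega)
    simp only [f]
    rw [one_zpow, show n - 3 - (i + 1) = n - 4 - i by omega, show n - 3 - i = n - 4 - i + 1 by omega, ← h]
    exact commutatorElement_eq_one_iff_commute.2 (central_of_mem B le_rfl (hφ i (by omega)) x).symm
  have hform := alt_formula (f := f) (N := m) (fun i _ k => by rw [one_zpow]; exact Commute.one_right _)
    hf m le_rfl
  simp only [f] at hform
  rw [show n - 3 - m = m by omega, commutatorElement_self, one_zpow, mul_one,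
    show n - 3 - 0 = n - 3 by omega] at hform
  have h0 : ⁅a 0, a (n - 3)⁆ = 1 := by
    rcases neg_one_pow_eq_or ℤ m with h1 | h1 <;> rw [h1] at hform
    · rwa [zpow_one, eq_comm] at hform
    · rwa [zpow_neg_one, eq_comm, inv_eq_one] at hform
  refine B.mem_stepCent_of_exact (by omega) (hmem (n - 3)) (chain_not_mem D (by omega) hx he he1 _ (by omega)) ?_
  rw [← commutatorElement_inv, show ⁅e, a (n - 3)⁆ = 1 from h0, inv_one]
  exact one_mem _

end Cfsg.Lib.PGroups.MaxClassDegree
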