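import Cfsg.Agent.PGroups.MaxClassAgemo

/-!
In a `3`-group of maximal class all two-step centralizers equal the first one, a subgroup of index `3`;
an element outside it has order at most `9`.
-/

set_option autoImplicit false
set_option linter.unusedSectionVars false
set_option linter.style.haveILetI false

namespace Cfsg.Lib.PGroups.MaxClassOutside

open Subgroup
open Cfsg.Lib.PGroups MaxClassRank MaxClassThree MaxClassAgemo
open scoped commutatorElement

universe u

variable {X : Type u} [Group X] [Finite X] {p : ℕ} [hp : Fact p.Prime] [Group.IsNilpotent X] {n : ℕ}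
  (B : Base p n X)
include B

theorem stepCent_ne_top {j : ℕ} (h : j + 1 < n - 1) : stepCent X j ≠ ⊤ := fun e => by
  refine (B.L_lt h).ne (le_antisymm (L_le (Nat.le_succ _)) ?_)
  show L X (j + 1) ≤ L X (j + 2)
  rw [show L X (j + 1) = ⁅L X j, ⊤⁆ from Subgroup.lowerCentralSeries_succ _ j, commutator_le]
  exact fun a ha g _ => mem_stepCent.1 (e ▸ mem_top g) a ha

theorem index_stepCent_le {j : ℕ} (h1 : 1 ≤ j) (h2 : j + 1 < n - 1) : (stepCent X j).index ≤ p := by
  obtain ⟨x, hx⟩ : ∃ x, x ∉ stepCent X j := by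
    by_contra h
    push Not at h
    exact stepCent_ne_top B h2 (eq_top_iff.2 fun g _ => h g)
  obtain ⟨a, ha, ha'⟩ := SetLike.exists_of_lt (B.L_lt (show j < n - 1 by omega))
  have hax : ⁅a, x⁆ ∉ L X (j + 1 + 1) := fun h => hx (B.mem_stepCent_of_exact h1 ha ha' h)
  set π := QuotientGroup.mk' (L X (j + 2))
  have hcoord : ∀ y : X, ∃ c : ℤ, (x ^ c)⁻¹ * y ∈ stepCent X j := by
    intro y
    obtain ⟨c, hc⟩ := B.step_gen (show 1 ≤ j + 1 by omega) (comm_mem_succ ha x) hax (comm_mem_succ ha y)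
    have he : ⁅π a, π x⁆ ^ c = ⁅π a, π y⁆ := by
      rw [← map_commutatorElement, ← map_commutatorElement, ← map_zpow]
      exact QuotientGroup.eq.2 hc
    have hz : ∀ g : X, Commute ⁅π a, π x⁆ (π g) := fun g => by
      rw [← map_commutatorElement]; exact central_step (comm_mem_succ ha x) g
    refine ⟨c, B.mem_stepCent_of_exact h1 ha ha' ?_⟩
    rw [← QuotientGroup.eq_one_iff]
    show π ⁅a, (x ^ c)⁻¹ * y⁆ = 1
    rw [map_commutatorElement, commutatorElement_eq_one_iff_mul_comm, ← mul_inv_eq_iff_eq_mul,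
      map_mul, map_inv, map_zpow]
    calc π a * ((π x ^ c)⁻¹ * π y) * (π a)⁻¹
        = ((π a * π x * (π a)⁻¹) ^ c)⁻¹ * (π a * π y * (π a)⁻¹) := by rw [conj_zpow]; group
      _ = ((⁅π a, π x⁆ * π x) ^ c)⁻¹ * (⁅π a, π y⁆ * π y) := by
        simp only [commutatorElement_def, inv_mul_cancel_right]
      _ = (π x ^ c)⁻¹ * π y := by rw [(hz x).mul_zpow, ← he]; group
  have hxp : x ^ p ∈ stepCent X j :=
    derived_le_stepCent j (B.frattini_eq ▸ Cfsg.Lib.PGroups.pow_mem_frattini B.isP x)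
  rw [index_eq_card, ← Fintype.card_fin p, ← Nat.card_eq_fintype_card]
  refine Nat.card_le_card_of_surjective (fun k : Fin p => ((x ^ (k : ℕ) : X) : X ⧸ stepCent X j)) ?_
  intro q
  obtain ⟨y, rfl⟩ := QuotientGroup.mk_surjective q
  obtain ⟨c, hc⟩ := hcoord y
  have hp0 : (p : ℤ) ≠ 0 := Int.natCast_ne_zero.2 hp.out.ne_zero
  refine ⟨⟨(c % p).toNat, (Int.toNat_lt (Int.emod_nonneg c hp0)).2 (Int.emod_lt_of_pos c (by exact_mod_cast hp.out.pos))⟩,
    QuotientGroup.eq.2 ?_⟩
  show (x ^ (c % (p : ℤ)).toNat)⁻¹ * y ∈ _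
  rw [← zpow_natCast x, Int.toNat_of_nonneg (Int.emod_nonneg c hp0),
    show (x ^ (c % (p : ℤ)))⁻¹ * y = (x ^ p) ^ (c / p) * ((x ^ c)⁻¹ * y) by
      rw [← mul_assoc, ← zpow_natCast x p, ← zpow_mul, ← zpow_neg, ← zpow_neg, ← zpow_add]
      congr 2
      linarith [Int.mul_ediv_add_emod c p]]
  exact mul_mem (zpow_mem hxp _) hc

theorem index_stepCent {j : ℕ} (h1 : 1 ≤ j) (h2 : j + 1 < n - 1) : (stepCent X j).index = p := by
  obtain ⟨k, hk⟩ := B.isP.index (stepCent X j)
  have hle := index_stepCent_le B h1 h2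
  rw [hk] at hle ⊢
  rcases Nat.lt_or_ge 1 k with h | h
  · exact absurd ((Nat.pow_le_pow_right hp.out.pos h).trans hle)
      (by rw [sq]; exact not_le.2 (lt_mul_of_one_lt_left hp.out.pos hp.out.one_lt))
  · have : k ≠ 0 := fun h0 => stepCent_ne_top B h2 (index_eq_one.1 (by rw [hk, h0, pow_zero]))
    rw [show k = 1 by omega, pow_one]

theorem stepCent_one_le_two (hn : 4 ≤ n) : stepCent X 1 ≤ stepCent X 2 := by
  intro y hy
  obtain ⟨s, hs, hs'⟩ := SetLike.exists_of_lt (B.L_lt (show 1 < n - 1 by omega))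
  set π := QuotientGroup.mk' (L X (2 + 2))
  have hL12 : ∀ a ∈ L X 1, ∀ r ∈ L X 2, Commute (π a) (π r) := fun a ha r hr => by
    rw [← commutatorElement_eq_one_iff_commute, ← map_commutatorElement]
    exact (QuotientGroup.eq_one_iff _).2 (lcs_comm_le 2 1 (commutator_mem_commutator ha hr))
  have hab : ∀ a ∈ L X 1, ∀ b ∈ L X 1, Commute (π a) (π b) := by
    intro a ha b hb
    obtain ⟨c, hc⟩ := B.step_gen le_rfl hs hs' ha
    obtain ⟨d, hd⟩ := B.step_gen le_rfl hs hs' hb
    rw [show π a = π s ^ c * π ((s ^ c)⁻¹ * a) by rw [← map_zpow, ← map_mul, mul_inv_cancel_left],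
      show π b = π s ^ d * π ((s ^ d)⁻¹ * b) by rw [← map_zpow, ← map_mul, mul_inv_cancel_left]]
    have h1 := hL12 s hs _ hc
    have h2 := hL12 s hs _ hd
    exact (((Commute.refl (π s)).zpow_zpow c d).mul_right (h2.zpow_left c)).mul_left
      ((h1.symm.zpow_right d).mul_right (hL12 _ (L_le (by omega) hc) _ hd))
  refine mem_stepCent.2 fun a ha => ?_
  have key : ⁅⁅(L X 1).map π, (⊤ : Subgroup X).map π⁆, (zpowers y).map π⁆ = ⊥ := by
    refine commutator_commutator_eq_bot_of_rotate ?_ ?_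
    · refine le_bot_iff.1 ((commutator_mono (?_ : _ ≤ (L X 1).map π) le_rfl).trans (commutator_le.2 ?_))
      · rw [← map_commutator]
        refine map_mono ((commutator_mono le_rfl le_top).trans ?_)
        rw [show L X 1 = ⁅L X 0, ⊤⁆ from Subgroup.lowerCentralSeries_succ _ 0,
          show L X 0 = ⊤ from Subgroup.lowerCentralSeries_zero _]
      · rintro _ ⟨u, hu, rfl⟩ _ ⟨v, hv, rfl⟩
        exact mem_bot.2 (commutatorElement_eq_one_iff_commute.2 (hab u hu v hv))
    · rw [← map_commutator, ← map_commutator, Subgroup.map_eq_bot_iff, QuotientGroup.ker_mk']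
      refine (commutator_mono (?_ : _ ≤ L X 3) le_rfl).trans
        (Subgroup.lowerCentralSeries_succ _ 3).ge
      rw [commutator_le]
      intro g hg b hb
      rw [← commutatorElement_inv]
      exact (L X 3).inv_mem (mem_stepCent.1 (zpowers_le.2 hy hg) b hb)
  rw [← map_commutator, ← map_commutator, Subgroup.map_eq_bot_iff, QuotientGroup.ker_mk',
    show ⁅L X 1, (⊤ : Subgroup X)⁆ = L X 2 from (Subgroup.lowerCentralSeries_succ _ 1).symm] at key
  exact key (commutator_mem_commutator ha (mem_zpowers y))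

omit B in
theorem stepCent_eq_one [Fact (Nat.Prime 3)] (B : Base 3 n X) (hn : 5 ≤ n) :
    ∀ j, 1 ≤ j → j + 1 < n - 1 → stepCent X j = stepCent X 1 := by
  obtain ⟨x, D⟩ := exists_data le_rfl n X B.card (by omega) B.cls
  have hle : ∀ j, 1 ≤ j → j + 1 < n - 1 → stepCent X 1 ≤ stepCent X j := by
    intro j
    induction j using Nat.strong_induction_on with
    | _ j ih =>
      intro h1 h2
      rcases Nat.lt_or_ge j 3 with h3 | h3
      · interval_cases j
        · exact le_rfl
        · exact stepCent_one_le_two B (by omega)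
      · obtain ⟨i, rfl⟩ : ∃ i, j = i + 2 := ⟨j - 2, by omega⟩
        exact (ih i (by omega) (by omega) (by omega)).trans (D.stepCent_periodic (by omega) (by omega))
  intro j h1 h2
  have hrel := relIndex_mul_index (hle j h1 h2)
  rw [index_stepCent B h1 h2, index_stepCent B le_rfl (by omega)] at hrel
  exact le_antisymm (relIndex_eq_one.1 ((mul_eq_right₀ (by norm_num : (3 : ℕ) ≠ 0)).1 hrel)) (hle j h1 h2)

theorem pow_sq_eq_one_of_outside {g : X} (hg : ∀ j, 1 ≤ j → j + 1 < n - 1 → g ∉ stepCent X j) :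
    g ^ p ^ 2 = 1 := by
  have h3 := B.three
  have hgp : g ^ p ∈ L X 1 := B.frattini_eq ▸ Cfsg.Lib.PGroups.pow_mem_frattini B.isP g
  have hZ : g ^ p ∈ L X (n - 2) := by
    by_contra hne
    obtain ⟨i, h1, h2, h3', h4⟩ := B.exists_level hgp _ hne
    refine hg i h1 (by omega) (B.mem_stepCent_of_exact h1 h3' h4 ?_)
    rw [commutatorElement_eq_one_iff_commute.2 ((Commute.refl g).pow_left p)]
    exact one_mem _
  have hc : Nat.card (L X (n - 2)) = p := by
    rw [B.L_card (by omega) (by omega), show n - 1 - (n - 2) = 1 by omega, pow_one]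
  rw [sq, pow_mul]
  refine orderOf_dvd_iff_pow_eq_one.1 ?_
  rw [← Subgroup.orderOf_mk (g ^ p) hZ]
  exact (_root_.orderOf_dvd_natCard _).trans (dvd_of_eq hc)

end Cfsg.Lib.PGroups.MaxClassOutside
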