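import Cfsg.Agent.PGroups.ShiftModel
import Cfsg.Agent.PGroups.MaxClass

/-!
A `p`-group of maximal class with an element of order `p` whose centralizer has order `p ^ 2`: powers
move the commutator series down by `p - 1` steps and every subgroup has at most `p` generators.
-/

set_option autoImplicit false
set_option linter.unusedSectionVars false
set_option linter.style.haveILetI false

namespace Cfsg.Lib.PGroups.MaxClassRank

open Subgroup
open Cfsg.Lib.PGroups
open scoped commutatorElement

universe u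

variable {X : Type u} [Group X] {p : ℕ}

/-- The lower central series, counted from zero. -/
abbrev L (X : Type u) [Group X] (i : ℕ) : Subgroup X := (⊤ : Subgroup X).lowerCentralSeries i

theorem lcs_comm_le : ∀ (j i : ℕ), ⁅L X i, L X j⁆ ≤ L X (i + j + 1) := by
  intro j
  induction j with
  | zero => intro i; rw [show L X 0 = ⊤ from Subgroup.lowerCentralSeries_zero _, add_zero]
            exact (Subgroup.lowerCentralSeries_succ _ i).ge
  | succ j ih =>
    intro i
    set π := QuotientGroup.mk' (L X (i + (j + 1) + 1))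
    have hπ : ∀ A : Subgroup X, A ≤ L X (i + (j + 1) + 1) → A.map π = ⊥ := fun A hA => by
      rw [Subgroup.map_eq_bot_iff, QuotientGroup.ker_mk']; exact hA
    suffices h : (⁅L X i, L X (j + 1)⁆).map π = ⊥ by
      rwa [Subgroup.map_eq_bot_iff, QuotientGroup.ker_mk'] at h
    rw [commutator_comm, show L X (j + 1) = ⁅L X j, ⊤⁆ from Subgroup.lowerCentralSeries_succ _ j,
      map_commutator, map_commutator]
    refine commutator_commutator_eq_bot_of_rotate ?_ ?_
    · rw [← map_commutator, ← map_commutator]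
      refine hπ _ ?_
      rw [commutator_comm ⊤, ← Subgroup.lowerCentralSeries_succ]
      exact (ih (i + 1)).trans (le_of_eq (by congr 1; omega))
    · rw [← map_commutator, ← map_commutator]
      refine hπ _ ((commutator_mono (ih i) le_rfl).trans (le_of_eq ?_))
      rw [← Subgroup.lowerCentralSeries_succ]
      congr 1

theorem comm_mem_succ {i : ℕ} {g : X} (hg : g ∈ L X i) (y : X) : ⁅g, y⁆ ∈ L X (i + 1) := by
  rw [show L X (i + 1) = ⁅L X i, ⊤⁆ from Subgroup.lowerCentralSeries_succ _ i]
  exact commutator_mem_commutator hg (mem_top y)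

theorem L_le {i j : ℕ} (h : i ≤ j) : L X j ≤ L X i := Subgroup.lowerCentralSeries_antitone _ h

theorem disp_succ {i : ℕ} {g : X} (hg : g ∈ L X i) (y : X) : y * g * y⁻¹ * g⁻¹ ∈ L X (i + 1) := by
  have := (L X (i + 1)).inv_mem (comm_mem_succ hg y)
  rwa [commutatorElement_def, mul_inv_rev, mul_inv_rev, mul_inv_rev, inv_inv, inv_inv,
    ← mul_assoc, ← mul_assoc] at this

theorem coeff_map {G H : Type u} [Group G] [Group H] (f : G →* H) (a b : G) (k : ℕ) :
    f (HallPetrescu.coeff a b k) = HallPetrescu.coeff (f a) (f b) k := by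
  have hd : ∀ n, f (HallPetrescu.defect a b n) = HallPetrescu.defect (f a) (f b) n := fun n => by
    simp [HallPetrescu.defect]
  have hp : ∀ j n, f (HallPetrescu.partialProd a b j n) = HallPetrescu.partialProd (f a) (f b) j n := by
    intro j
    induction j with
    | zero => intro n; simp [HallPetrescu.partialProd]
    | succ j ih => intro n; simp [HallPetrescu.partialProd, ih, hd]
  simp [HallPetrescu.coeff, hp, hd]

/-- The defect is the top element times lower ones. -/
theorem defect_eq_top {G : Type*} [Group G] (hp : p.Prime) (a b : G) (N : Subgroup G)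
    (hN : ∀ k, 2 ≤ k → k < p → HallPetrescu.coeff a b k ^ p ∈ N) :
    HallPetrescu.defect a b p * (HallPetrescu.coeff a b p)⁻¹ ∈ N := by
  rw [HallPetrescu.defect_eq]
  show HallPetrescu.partialProd a b p p * HallPetrescu.coeff a b p ^ p.choose p *
    (HallPetrescu.coeff a b p)⁻¹ ∈ N
  rw [Nat.choose_self, pow_one, mul_inv_cancel_right]
  refine HallPetrescu.partialProd_mem a b N p p fun k hk => ?_
  rcases Nat.lt_or_ge k 2 with h2 | h2
  · have h0 : HallPetrescu.coeff a b 0 = 1 := by
      simp [HallPetrescu.coeff, HallPetrescu.partialProd, HallPetrescu.defect]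
    have h1 : HallPetrescu.coeff a b 1 = 1 := by
      simp [HallPetrescu.coeff, HallPetrescu.partialProd, HallPetrescu.defect, mul_assoc]
    interval_cases k <;> simp [h0, h1]
  · obtain ⟨e, he⟩ := hp.dvd_choose_self (by omega : k ≠ 0) hk
    rw [he, pow_mul]
    exact N.pow_mem (hN k h2 hk) e

/-- The standing data. -/
structure Data (p n : ℕ) (x : X) : Prop where
  odd : 3 ≤ p
  three : 3 ≤ n
  card : Nat.card X = p ^ n
  cls : Group.nilpotencyClass X = n - 1
  ord : x ^ p = 1
  cent : Nat.card (centralizer ({x} : Set X)) = p ^ 2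

namespace Data

variable [Finite X] [hp : Fact p.Prime] [Group.IsNilpotent X] {n : ℕ} {x : X} (D : Data p n x)
include D

theorem isP : IsPGroup p X := IsPGroup.of_card D.card

theorem L_eq_bot {i : ℕ} (h : n - 1 ≤ i) : L X i = ⊥ :=
  Subgroup.lowerCentralSeries_eq_bot_iff_nilpotencyClass_le.2 (D.cls ▸ h)

theorem L_ne_bot {i : ℕ} (h : i < n - 1) : L X i ≠ ⊥ := fun e => by
  have := Subgroup.lowerCentralSeries_eq_bot_iff_nilpotencyClass_le.1 e
  rw [D.cls] at this
  omega

theorem L_lt {i : ℕ} (h : i < n - 1) : L X (i + 1) < L X i := by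
  refine lt_of_le_of_ne (L_le (Nat.le_succ i)) fun e => D.L_ne_bot h ?_
  have hst : ∀ j, L X (i + j) = L X i := by
    intro j
    induction j with
    | zero => rfl
    | succ j ih =>
      rw [← Nat.add_assoc, show L X (i + j + 1) = ⁅L X (i + j), ⊤⁆ from
        Subgroup.lowerCentralSeries_succ _ _, ih, ← Subgroup.lowerCentralSeries_succ]
      exact e
  rw [← hst (n - 1), D.L_eq_bot (by omega)]

theorem L_index {i : ℕ} (h1 : 1 ≤ i) (h2 : i ≤ n - 1) : (L X i).index = p ^ (i + 1) := by
  obtain ⟨r, hr⟩ := D.isP.index (L X i)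
  have hr2 : 2 ≤ r := by
    have hle : L X i ≤ commutator X := by
      rw [← top_lowerCentralSeries_one]; exact L_le h1
    have h3 := Subgroup.index_dvd_of_le hle
    rw [MaxClass.commutator_index n X D.card (by have := D.three; omega) D.cls, hr] at h3
    exact (Nat.pow_dvd_pow_iff_le_right hp.out.one_lt).1 h3
  have hrn : r ≤ n := by
    have h3 := (L X i).index_dvd_card
    rw [hr, D.card] at h3
    exact (Nat.pow_dvd_pow_iff_le_right hp.out.one_lt).1 h3
  have he := MaxClass.normal_eq_lcs n X D.card (by have := D.three; omega) D.cls (L X i) r hr2 hr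
  rw [hr]
  congr 1
  by_contra hne
  rcases Nat.lt_or_ge i (r - 1) with h | h
  · exact (D.L_lt (show i < n - 1 by omega)).ne
      (le_antisymm (L_le (Nat.le_succ i)) (he.le.trans (L_le (show i + 1 ≤ r - 1 by omega))))
  · exact (D.L_lt (show r - 1 < n - 1 by omega)).ne
      (le_antisymm (L_le (Nat.le_succ _)) (he.ge.trans (L_le (show r - 1 + 1 ≤ i by omega))))

theorem L_card {i : ℕ} (h1 : 1 ≤ i) (h2 : i ≤ n - 1) : Nat.card (L X i) = p ^ (n - 1 - i) := by
  have h := (L X i).card_mul_index
  rw [D.L_index h1 h2, D.card] at h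
  refine Nat.eq_of_mul_eq_mul_right (pow_pos hp.out.pos (i + 1)) (h.trans ?_)
  rw [← pow_add]
  congr 1
  omega

/-- A coordinate in a step. -/
theorem step_gen {i : ℕ} (h1 : 1 ≤ i) {a b : X} (ha : a ∈ L X i) (ha' : a ∉ L X (i + 1))
    (hb : b ∈ L X i) : ∃ c : ℤ, (a ^ c)⁻¹ * b ∈ L X (i + 1) := by
  have hi : i < n - 1 := by
    by_contra h
    exact ha' (by rw [D.L_eq_bot (le_of_not_gt h), mem_bot] at ha; exact ha ▸ one_mem _)
  haveI : (L X (i + 1)).Normal := inferInstance
  set π := QuotientGroup.mk' (L X (i + 1))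
  have hc : Nat.card ((L X i).map π) = p := by
    have e1 := ((L X (i + 1)).subgroupOf (L X i)).card_mul_index
    rw [Nat.card_congr (subgroupOfEquivOfLe (L_le (Nat.le_succ i))).toEquiv, D.L_card h1 hi.le,
      D.L_card (by omega) (by omega), show n - 1 - i = n - 1 - (i + 1) + 1 by omega, pow_succ] at e1
    have e2 := Nat.eq_of_mul_eq_mul_left (pow_pos hp.out.pos _) e1
    rw [← e2, ← show (π.comp (L X i).subtype).range = (L X i).map π by
        rw [MonoidHom.range_comp, range_subtype], ← Subgroup.index_ker]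
    congr 1
    rw [← MonoidHom.comap_ker, QuotientGroup.ker_mk']
    rfl
  have hne : π a ≠ 1 := fun e => ha' ((QuotientGroup.eq_one_iff a).1 e)
  have hgen : zpowers (π a) = (L X i).map π :=
    eq_of_le_of_card_ge (zpowers_le.2 ⟨a, ha, rfl⟩) (by
      have ho : orderOf (π a) = p := by
        have hd : orderOf (π a) ∣ p := by
          rw [← hc, ← Subgroup.orderOf_mk (π a) (mem_map_of_mem π ha)]
          exact orderOf_dvd_natCard _
        exact ((Nat.dvd_prime hp.out).1 hd).resolve_left fun e => hne (orderOf_eq_one_iff.1 e)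
      rw [Nat.card_zpowers, ho, hc])
  obtain ⟨c, hcb⟩ := hgen.ge ⟨b, hb, rfl⟩
  change π a ^ c = π b at hcb
  refine ⟨c, ?_⟩
  rw [← map_zpow] at hcb
  exact QuotientGroup.eq.1 hcb

/-- The class of `x` is the whole coset. -/
theorem exists_conj {s : X} (hs : s ∈ L X 1) : ∃ g : X, g * x * g⁻¹ = s * x := by
  set C := centralizer ({x} : Set X)
  let f : X ⧸ C → L X 1 := fun q => ⟨q.out * x * q.out⁻¹ * x⁻¹, by
    rw [← commutatorElement_def, show L X 1 = commutator X from top_lowerCentralSeries_one]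
    exact commutator_mem_commutator (mem_top _) (mem_top _)⟩
  have hinj : Function.Injective f := fun q r e => by
    have e' : q.out * x * q.out⁻¹ = r.out * x * r.out⁻¹ :=
      mul_right_cancel (congrArg Subtype.val e : q.out * x * q.out⁻¹ * x⁻¹ = _)
    rw [← QuotientGroup.out_eq' q, ← QuotientGroup.out_eq' r, QuotientGroup.eq]
    refine mem_centralizer_singleton_iff.2 ?_
    calc q.out⁻¹ * r.out * x = q.out⁻¹ * (r.out * x * r.out⁻¹) * r.out := by group
      _ = x * (q.out⁻¹ * r.out) := by rw [← e']; group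
  have hcard : Nat.card (X ⧸ C) = Nat.card (L X 1) := by
    have h := C.card_mul_index
    rw [D.cent, D.card, ← pow_mul_pow_sub p (show 2 ≤ n by have := D.three; omega)] at h
    rw [← index_eq_card, Nat.eq_of_mul_eq_mul_left (pow_pos hp.out.pos 2) h,
      D.L_card le_rfl (by have := D.three; omega), Nat.sub_sub]
  obtain ⟨q, hq⟩ := ((Nat.bijective_iff_injective_and_card f).2 ⟨hinj, hcard⟩).2 ⟨s, hs⟩
  refine ⟨q.out, ?_⟩
  have h' : q.out * x * q.out⁻¹ * x⁻¹ = s := congrArg Subtype.val hq
  rw [← h', inv_mul_cancel_right]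

theorem x_ne_one : x ≠ 1 := by
  intro e
  have h := D.cent
  rw [e, show centralizer ({1} : Set X) = ⊤ from
    eq_top_iff.2 fun g _ => mem_centralizer_singleton_iff.2 (by simp), card_top, D.card] at h
  have := Nat.pow_right_injective hp.out.two_le h
  have := D.three
  omega

theorem x_not_mem : x ∉ L X 1 := by
  intro hx
  obtain ⟨g, hg⟩ := D.exists_conj ((L X 1).inv_mem hx)
  rw [inv_mul_cancel, conj_eq_one_iff] at hg
  exact D.x_ne_one hg

theorem mul_pow_eq_one {s : X} (hs : s ∈ L X 1) : (x * s) ^ p = 1 := by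
  obtain ⟨g, hg⟩ := D.exists_conj ((inferInstance : (L X 1).Normal).conj_mem s hs x)
  rw [inv_mul_cancel_right] at hg
  rw [← hg, conj_pow, D.ord, mul_one, mul_inv_cancel]

theorem card_map_step {i m : ℕ} (h1 : 1 ≤ i) (him : i ≤ m) (hm : m ≤ n - 1) :
    Nat.card ((L X i).map (QuotientGroup.mk' (L X m))) = p ^ (m - i) := by
  set π := QuotientGroup.mk' (L X m)
  have e1 := ((L X m).subgroupOf (L X i)).card_mul_index
  rw [Nat.card_congr (subgroupOfEquivOfLe (L_le him)).toEquiv, D.L_card h1 (him.trans hm),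
    D.L_card (h1.trans him) hm, show n - 1 - i = n - 1 - m + (m - i) by omega, pow_add] at e1
  have e2 := Nat.eq_of_mul_eq_mul_left (pow_pos hp.out.pos _) e1
  rw [← e2]
  have hr : (π.comp (L X i).subtype).range = (L X i).map π := by
    rw [MonoidHom.range_comp, range_subtype]
  rw [← hr, ← Subgroup.index_ker]
  congr 1
  rw [← MonoidHom.comap_ker, QuotientGroup.ker_mk']
  rfl

/-- Commutation with `x` moves down exactly one step. -/
theorem comm_step {j : ℕ} (h1 : 1 ≤ j) (h2 : j + 1 < n - 1) {u : X} (hu : u ∈ L X j)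
    (hu' : u ∉ L X (j + 1)) : ⁅u, x⁆ ∉ L X (j + 2) := by
  intro hux
  set π := QuotientGroup.mk' (L X (j + 2))
  have hπ : Function.Surjective π := QuotientGroup.mk'_surjective _
  set C := centralizer ({π x} : Set (X ⧸ L X (j + 2)))
  set M := (L X j).map π
  -- the centralizer in the quotient is small
  have hC : p ^ (j + 1) ≤ C.index := by
    rw [index_eq_card, ← show j + 2 - 1 = j + 1 by omega, ← D.card_map_step le_rfl (show 1 ≤ j + 2 by omega) (by omega)]
    refine Nat.card_le_card_of_surjective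
      (fun q : (X ⧸ L X (j + 2)) ⧸ C => (⟨q.out * π x * q.out⁻¹ * (π x)⁻¹, by
        obtain ⟨g, hg⟩ := hπ q.out
        refine ⟨g * x * g⁻¹ * x⁻¹, ?_, by rw [map_mul, map_mul, map_mul, map_inv, map_inv, hg]⟩
        rw [← commutatorElement_def, show L X 1 = commutator X from top_lowerCentralSeries_one]
        exact commutator_mem_commutator (mem_top _) (mem_top _)⟩ : (L X 1).map π)) ?_
    rintro ⟨_, s, hs, rfl⟩
    obtain ⟨g, hg⟩ := D.exists_conj hs
    refine ⟨QuotientGroup.mk (π g), Subtype.ext ?_⟩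
    obtain ⟨c, hc⟩ := QuotientGroup.mk_out_eq_mul C (π g)
    show (QuotientGroup.mk (π g) : (X ⧸ L X (j + 2)) ⧸ C).out * π x *
      (QuotientGroup.mk (π g) : (X ⧸ L X (j + 2)) ⧸ C).out⁻¹ * (π x)⁻¹ = π s
    have hcc : (c : X ⧸ L X (j + 2)) * π x = π x * c := mem_centralizer_singleton_iff.1 c.2
    rw [hc]
    calc π g * c * π x * (π g * c)⁻¹ * (π x)⁻¹ = π g * ((c : X ⧸ L X (j + 2)) * π x) * (c : X ⧸ L X (j + 2))⁻¹ * (π g)⁻¹ * (π x)⁻¹ := by group
      _ = π g * π x * (π g)⁻¹ * (π x)⁻¹ := by rw [hcc]; group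
      _ = π s := by rw [← map_mul, ← map_inv, ← map_mul, hg, map_mul, mul_inv_cancel_right]
  -- it contains `x` and the step of `u`
  have hMC : M ≤ C := by
    rintro _ ⟨v, hv, rfl⟩
    obtain ⟨c, hc⟩ := D.step_gen h1 hu hu' hv
    have hcu : Commute (π u) (π x) := by
      rw [← commutatorElement_eq_one_iff_commute, ← map_commutatorElement]
      exact (QuotientGroup.eq_one_iff _).2 hux
    have hcr : Commute (π ((u ^ c)⁻¹ * v)) (π x) := by
      rw [← commutatorElement_eq_one_iff_commute, ← map_commutatorElement]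
      exact (QuotientGroup.eq_one_iff _).2 (comm_mem_succ hc x)
    have e : π v = π u ^ c * π ((u ^ c)⁻¹ * v) := by rw [← map_zpow, ← map_mul, mul_inv_cancel_left]
    exact mem_centralizer_singleton_iff.2 (e ▸ (hcu.zpow_left c).mul_left hcr).eq
  have hxC : π x ∈ C := mem_centralizer_singleton_iff.2 rfl
  have hxM : π x ∉ M := by
    rintro ⟨v, hv, e⟩
    refine D.x_not_mem ?_
    have := (L X 1).mul_mem (L_le h1 hv) (L_le (show 1 ≤ j + 2 by omega) (QuotientGroup.eq.1 e))
    rwa [mul_inv_cancel_left] at this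
  have hlt : M < M ⊔ C := lt_of_le_of_ne le_sup_left fun e => hxM (e.ge (mem_sup_right hxC))
  rw [sup_eq_right.2 hMC] at hlt
  have hMc : Nat.card M = p ^ 2 := by
    rw [show M = (L X j).map π from rfl, D.card_map_step h1 (by omega) (by omega)]
    congr 1
    omega
  have hXc : Nat.card (X ⧸ L X (j + 2)) = p ^ (j + 3) := by
    rw [← index_eq_card, D.L_index (by omega) (by omega)]
  have hmul := C.card_mul_index
  rw [hXc] at hmul
  have hCM : Nat.card C ≤ p ^ 2 := by
    refine Nat.le_of_mul_le_mul_right ?_ (pow_pos hp.out.pos (j + 1))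
    rw [← pow_add, show 2 + (j + 1) = j + 3 by omega, ← hmul]
    exact Nat.mul_le_mul_left _ hC
  exact hlt.ne (eq_of_le_of_card_ge hMC (hMc ▸ hCM))

/-! ### Powers -/

open ShiftModel in
/-- Iterated commutators with the two generators. -/
def seq (D : Data p n x) (s : X) : ℕ → X × amb p
  | 0 => (s, delta)
  | k + 1 => (⁅(seq D s k).1, x⁆, ⁅(seq D s k).2, shift⁆)

theorem seq_mem {i : ℕ} {s : X} (hs : s ∈ L X i) :
    ∀ k, (D.seq s k).1 ∈ L X (i + k) ∧ (D.seq s k).2 ∈ ShiftModel.dsub p k
  | 0 => ⟨hs, ShiftModel.delta_mem⟩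
  | k + 1 => by
    obtain ⟨h1, h2⟩ := seq_mem hs k
    refine ⟨comm_mem_succ h1 x, ?_⟩
    have := (ShiftModel.dsub p (k + 1)).inv_mem (ShiftModel.disp_mem ShiftModel.shift h2)
    show ⁅(D.seq s k).2, ShiftModel.shift⁆ ∈ _
    rw [← commutatorElement_inv]
    rwa [← commutatorElement_def] at this

theorem seq_not_mem {i : ℕ} (h1 : 1 ≤ i) {s : X} (hs : s ∈ L X i) (hs' : s ∉ L X (i + 1)) :
    ∀ k, i + k < n - 1 → (D.seq s k).1 ∉ L X (i + k + 1)
  | 0, _ => hs'
  | k + 1, hk => D.comm_step (show 1 ≤ i + k by omega) (by omega) (D.seq_mem hs k).1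
      (seq_not_mem h1 hs hs' k (by omega))

open ShiftModel in
/-- The top Hall–Petrescu element in both components. -/
theorem coeff_pair {i : ℕ} (h1 : 1 ≤ i) {s : X} (hs : s ∈ L X i) {k : ℕ} (hk : 1 ≤ k) :
    ∃ c : ℤ, ((D.seq s k).1 ^ c)⁻¹ * HallPetrescu.coeff x s (k + 1) ∈ L X (i + k + 1) ∧
      ((D.seq s k).2 ^ c)⁻¹ * HallPetrescu.coeff (shift : amb p) delta (k + 1) ∈ dsub p (k + 1) := by
  classical
  haveI := fun k => dsub_normal (p := p) k
  set R := closure ({(x, shift), (s, delta)} : Set (X × amb p))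
  let M : ℕ → Subgroup (X × amb p) := fun k => (L X (i + k + 1)).prod (dsub p (k + 1))
  have hMn : ∀ k, (M k).Normal := fun k => Subgroup.prod_normal _ _
  let U := fun k => D.seq s k
  let Q : ℕ → Subgroup (X × amb p) := fun k =>
    haveI := hMn k
    (zpowers (QuotientGroup.mk' (M k) (U k))).comap (QuotientGroup.mk' (M k))
  have hMQ : ∀ k, M k ≤ Q k := fun k g hg => by
    haveI := hMn k
    refine ⟨0, ?_⟩
    show QuotientGroup.mk' (M k) (U k) ^ (0 : ℤ) = QuotientGroup.mk' (M k) g
    rw [zpow_zero, eq_comm]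
    exact (QuotientGroup.eq_one_iff g).2 hg
  have hUQ : ∀ k, U k ∈ Q k := fun k => ⟨1, zpow_one _⟩
  have hQn : ∀ k, (Q k).Normal := by
    intro k
    haveI := hMn k
    have : (zpowers (QuotientGroup.mk' (M k) (U k))).Normal := by
      refine ⟨?_⟩
      rintro _ ⟨c, rfl⟩ g
      obtain ⟨⟨a, b⟩, rfl⟩ := QuotientGroup.mk'_surjective (M k) g
      refine ⟨c, ?_⟩
      have hcom : QuotientGroup.mk' (M k) (a, b) * QuotientGroup.mk' (M k) (U k) *
          (QuotientGroup.mk' (M k) (a, b))⁻¹ = QuotientGroup.mk' (M k) (U k) := by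
        rw [← map_mul, ← map_inv, ← map_mul, ← mul_inv_eq_one, ← map_inv, ← map_mul]
        refine (QuotientGroup.eq_one_iff _).2 ⟨?_, ?_⟩
        · exact disp_succ (D.seq_mem hs k).1 a
        · exact ShiftModel.disp_mem b (D.seq_mem hs k).2
      show QuotientGroup.mk' (M k) (U k) ^ c = _
      rw [← conj_zpow, hcom]
    exact this.comap _
  -- the defining property
  have hstep : ∀ k, ∀ g ∈ Q k, ∀ y ∈ R, ⁅g, y⁆ ∈ Q (k + 1) := by
    intro k
    haveI := hQn (k + 1)
    haveI := hMn k
    set ρ := QuotientGroup.mk' (Q (k + 1))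
    have hgen : ∀ g ∈ Q k, ∀ y ∈ ({(x, shift), (s, delta)} : Set (X × amb p)), Commute (ρ g) (ρ y) := by
      intro g hg y hy
      obtain ⟨c, hc⟩ := hg
      change QuotientGroup.mk' (M k) (U k) ^ c = QuotientGroup.mk' (M k) g at hc
      rw [← map_zpow] at hc
      have hm := QuotientGroup.eq.1 hc
      have hMy : ∀ m ∈ M k, Commute (ρ m) (ρ y) := by
        rintro ⟨m1, m2⟩ ⟨hm1, hm2⟩
        rw [← commutatorElement_eq_one_iff_commute, ← map_commutatorElement]
        refine (QuotientGroup.eq_one_iff _).2 (hMQ _ ⟨?_, ?_⟩)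
        · exact comm_mem_succ hm1 y.1
        · have := (dsub p (k + 1 + 1)).inv_mem (ShiftModel.disp_mem y.2 hm2)
          rw [← commutatorElement_inv]
          exact this
      have hUy : Commute (ρ (U k)) (ρ y) := by
        rw [← commutatorElement_eq_one_iff_commute, ← map_commutatorElement]
        refine (QuotientGroup.eq_one_iff _).2 ?_
        rcases hy with rfl | rfl
        · exact hUQ (k + 1)
        · refine hMQ _ ⟨?_, ?_⟩
          · exact L_le (show i + (k + 1) + 1 ≤ i + k + i + 1 by omega)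
              (lcs_comm_le i (i + k) (commutator_mem_commutator (D.seq_mem hs k).1 hs))
          · show ⁅(U k).2, (delta : amb p)⁆ ∈ dsub p (k + 1 + 1)
            rw [(commutatorElement_eq_one_iff_commute).2 (comm_dsub (D.seq_mem hs k).2 delta_mem)]
            exact one_mem _
      have e : g = U k ^ c * ((U k ^ c)⁻¹ * g) := (mul_inv_cancel_left _ _).symm
      rw [e, map_mul, map_zpow]
      exact (hUy.zpow_left c).mul_left (hMy _ hm)
    intro g hg y hy
    rw [← QuotientGroup.eq_one_iff]
    show ρ ⁅g, y⁆ = 1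
    rw [map_commutatorElement, commutatorElement_eq_one_iff_commute]
    have hle : R ≤ (centralizer ({ρ g} : Set _)).comap ρ := (closure_le _).2 fun z hz =>
      mem_centralizer_singleton_iff.2 (hgen g hg z hz).symm.eq
    exact (mem_centralizer_singleton_iff.1 (hle hy)).symm
  have hR1 : ⁅R, R⁆ ≤ Q 1 := by
    haveI := hQn 1
    set ρ := QuotientGroup.mk' (Q 1)
    have hXY : Commute (ρ (U 0)) (ρ (x, shift)) := by
      rw [← commutatorElement_eq_one_iff_commute, ← map_commutatorElement]
      exact (QuotientGroup.eq_one_iff _).2 (hUQ 1)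
    have hcm : ∀ g ∈ R, ∀ y ∈ ({(x, shift), (s, delta)} : Set (X × amb p)), Commute (ρ g) (ρ y) := by
      intro g hg y hy
      have hle : R ≤ (centralizer ({ρ y} : Set _)).comap ρ := (closure_le _).2 fun z hz => by
        refine mem_centralizer_singleton_iff.2 ?_
        rcases hy with rfl | rfl <;> rcases hz with rfl | rfl
        · rfl
        · exact hXY.eq
        · exact hXY.symm.eq
        · rfl
      exact mem_centralizer_singleton_iff.1 (hle hg)
    rw [commutator_le]
    intro g hg y hy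
    rw [← QuotientGroup.eq_one_iff]
    show ρ ⁅g, y⁆ = 1
    rw [map_commutatorElement, commutatorElement_eq_one_iff_commute]
    have hle : R ≤ (centralizer ({ρ g} : Set _)).comap ρ := (closure_le _).2 fun z hz =>
      mem_centralizer_singleton_iff.2 (hcm g hg z hz).symm.eq
    exact (mem_centralizer_singleton_iff.1 (hle hy)).symm
  have hlcs : ∀ k, 1 ≤ k → R.lowerCentralSeries k ≤ Q k := by
    intro k hk
    induction k, hk using Nat.le_induction with
    | base => rw [Subgroup.lowerCentralSeries_succ, Subgroup.lowerCentralSeries_zero]; exact hR1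
    | succ k _ ih =>
      rw [Subgroup.lowerCentralSeries_succ, commutator_le]
      exact fun g hg y hy => hstep k g (ih hg) y hy
  have hmem : HallPetrescu.coeff (x, (shift : amb p)) (s, delta) (k + 1) ∈ Q k :=
    hlcs k hk (HallPetrescu.coeff_mem _ _ (k + 1))
  obtain ⟨c, hc⟩ := hmem
  haveI := hMn k
  change QuotientGroup.mk' (M k) (U k) ^ c = _ at hc
  rw [← map_zpow] at hc
  have hm := QuotientGroup.eq.1 hc
  have e1 := coeff_map (MonoidHom.fst X (amb p)) (x, (shift : amb p)) (s, delta) (k + 1)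
  have e2 : (HallPetrescu.coeff (x, (shift : amb p)) (s, delta) (k + 1)).2 =
      HallPetrescu.coeff (shift : amb p) delta (k + 1) := by
    have hd : ∀ n, (HallPetrescu.defect (x, (shift : amb p)) (s, delta) n).2 =
        HallPetrescu.defect (shift : amb p) delta n := fun n => by
      simp [HallPetrescu.defect]
    have hpp : ∀ j n, (HallPetrescu.partialProd (x, (shift : amb p)) (s, delta) j n).2 =
        HallPetrescu.partialProd (shift : amb p) delta j n := by
      intro j
      induction j with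
      | zero => intro n; simp [HallPetrescu.partialProd]
      | succ j ih => intro n; simp [HallPetrescu.partialProd, ih, hd]
    simp [HallPetrescu.coeff, hpp, hd]
  refine ⟨c, ?_, ?_⟩
  · have := hm.1
    simp only [Prod.fst_mul, Prod.fst_inv, Prod.pow_fst] at this
    rw [show (HallPetrescu.coeff (x, (shift : amb p)) (s, delta) (k + 1)).1 =
      HallPetrescu.coeff x s (k + 1) from e1] at this
    exact this
  · have := hm.2
    simp only [Prod.snd_mul, Prod.snd_inv, Prod.pow_snd] at this
    rw [e2] at this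
    exact this

open ShiftModel in
/-- Powers move down by `p - 1` steps. -/
theorem pow_step : ∀ (t i : ℕ), n - 1 ≤ i + t → 1 ≤ i → ∀ s ∈ L X i,
    s ^ p ∈ L X (i + (p - 1)) ∧ (s ∉ L X (i + 1) → i + (p - 1) < n - 1 → s ^ p ∉ L X (i + p)) := by
  intro t
  induction t with
  | zero =>
    intro i hi h1 s hs
    rw [D.L_eq_bot (show n - 1 ≤ i by omega), mem_bot] at hs
    subst hs
    exact ⟨by rw [one_pow]; exact one_mem _, fun h => absurd (one_mem _) h⟩
  | succ t ih =>
    intro i hi h1 s hs
    have hp2 := D.odd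
    have hlow : ∀ k, 2 ≤ k → k < p → HallPetrescu.coeff x s k ^ p ∈ L X (i + p) := by
      intro k h2 hk
      obtain ⟨k', rfl⟩ : ∃ k', k = k' + 1 := ⟨k - 1, by omega⟩
      obtain ⟨c, hc, -⟩ := D.coeff_pair h1 hs (show 1 ≤ k' by omega)
      have hmem : HallPetrescu.coeff x s (k' + 1) ∈ L X (i + k') := by
        have := (L X (i + k')).mul_mem ((L X (i + k')).zpow_mem (D.seq_mem hs k').1 c)
          (L_le (Nat.le_succ _) hc)
        rwa [mul_inv_cancel_left] at this
      exact L_le (show i + p ≤ i + k' + (p - 1) by omega) (ih (i + k') (by omega) (by omega) _ hmem).1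
    have htop := defect_eq_top hp.out x s (L X (i + p)) hlow
    have hdef : HallPetrescu.defect x s p = s ^ p := by
      rw [HallPetrescu.defect, D.mul_pow_eq_one (L_le h1 hs), D.ord, inv_one, one_mul, one_mul]
    rw [hdef] at htop
    obtain ⟨c, hc, hc2⟩ := D.coeff_pair h1 hs (show 1 ≤ p - 1 by omega)
    rw [show p - 1 + 1 = p by omega, show i + (p - 1) + 1 = i + p by omega] at hc
    rw [show p - 1 + 1 = p by omega] at hc2
    set u := (D.seq s (p - 1)).1
    have hu : u ∈ L X (i + (p - 1)) := (D.seq_mem hs _).1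
    have hsp : (u ^ c)⁻¹ * s ^ p ∈ L X (i + p) := by
      have h2 := (inferInstance : (L X (i + p)).Normal).conj_mem _ htop (u ^ c)⁻¹
      have h3 := (L X (i + p)).mul_mem h2 hc
      rw [inv_inv] at h3
      convert h3 using 1
      group
    refine ⟨?_, fun hs' hin hsp' => ?_⟩
    · have := (L X (i + (p - 1))).mul_mem ((L X (i + (p - 1))).zpow_mem hu c) (L_le (by omega) hsp)
      rwa [mul_inv_cancel_left] at this
    · -- the model shows that the exponent is prime to `p`
      have hw : (D.seq s (p - 1)).2 ^ c = HallPetrescu.coeff (shift : amb p) delta p := by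
        have := eq_one_of_top hc2
        rwa [inv_mul_eq_one] at this
      have hne : HallPetrescu.coeff (shift : amb p) delta p ≠ 1 := by
        intro h
        have h2 := defect_eq_top hp.out (shift : amb p) delta ⊥ fun k h2 hk => by
          obtain ⟨k', rfl⟩ : ∃ k', k = k' + 1 := ⟨k - 1, by omega⟩
          obtain ⟨e, -, he⟩ := D.coeff_pair h1 hs (show 1 ≤ k' by omega)
          have hmem : HallPetrescu.coeff (shift : amb p) delta (k' + 1) ∈ dsub p k' := by
            have := (dsub p k').mul_mem ((dsub p k').zpow_mem (D.seq_mem hs k').2 e) (dsub_le he)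
            rwa [mul_inv_cancel_left] at this
          rw [mem_bot]
          exact pow_eq_one hmem
        rw [h, inv_one, mul_one, mem_bot, HallPetrescu.defect, shift_pow_prime,
          pow_eq_one delta_mem, mul_one, mul_one, inv_eq_one] at h2
        exact pow_mul_ne_one h2
      have hcp : ¬ (p : ℤ) ∣ c := by
        rintro ⟨e, rfl⟩
        rw [zpow_mul, zpow_natCast, pow_eq_one (D.seq_mem hs _).2, one_zpow] at hw
        exact hne hw.symm
      have huc : u ^ c ∈ L X (i + p) := by
        have := (L X (i + p)).mul_mem hsp' ((L X (i + p)).inv_mem hsp)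
        rwa [mul_inv_rev, inv_inv, mul_inv_cancel_left] at this
      obtain ⟨a, b, hab⟩ := ((Nat.prime_iff_prime_int.mp hp.out).coprime_iff_not_dvd.mpr hcp)
      have hup : u ^ p ∈ L X (i + p) :=
        L_le (show i + p ≤ i + (p - 1) + (p - 1) by omega) (ih _ (by omega) (by omega) u hu).1
      refine D.seq_not_mem h1 hs hs' (p - 1) hin ?_
      rw [show i + (p - 1) + 1 = i + p by omega]
      show u ∈ _
      rw [← zpow_one u, ← hab, zpow_add, mul_comm a, zpow_mul, zpow_natCast, mul_comm b, zpow_mul]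
      exact mul_mem (zpow_mem hup a) (zpow_mem huc b)

/-- A subgroup of the derived subgroup has fewer than `p` generators. -/
theorem gen_of_le {H : Subgroup X} (hH : H ≤ L X 1) :
    ∃ T : Finset X, T.card ≤ p - 1 ∧ closure (T : Set X) = H := by
  classical
  have hp2 := D.odd
  let J : ℕ → Prop := fun i => 1 ≤ i ∧ ∃ a ∈ H, a ∈ L X i ∧ a ∉ L X (i + 1)
  have hsel : ∀ r : ℕ, ∃ a ∈ H, ∀ i, J i → i % (p - 1) = r →
      ∃ i0, 1 ≤ i0 ∧ i0 ≤ i ∧ i0 % (p - 1) = r ∧ a ∈ L X i0 ∧ a ∉ L X (i0 + 1) := by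
    intro r
    by_cases h : ∃ i, J i ∧ i % (p - 1) = r
    · obtain ⟨⟨h1, a, haH, ha⟩, hr⟩ := Nat.find_spec h
      exact ⟨a, haH, fun i hi hir => ⟨Nat.find h, h1, Nat.find_min' h ⟨hi, hir⟩, hr, ha⟩⟩
    · exact ⟨1, H.one_mem, fun i hi hir => absurd ⟨i, hi, hir⟩ h⟩
  choose a haH ha using hsel
  refine ⟨(Finset.range (p - 1)).image a, Finset.card_image_le.trans (le_of_eq (Finset.card_range _)), ?_⟩
  set K := closure (((Finset.range (p - 1)).image a : Finset X) : Set X)
  have hKH : K ≤ H := (closure_le _).2 fun y hy => by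
    obtain ⟨r, -, rfl⟩ := Finset.mem_image.1 hy
    exact haH r
  refine le_antisymm hKH ?_
  have hKJ : ∀ i, J i → ∃ k ∈ K, k ∈ L X i ∧ k ∉ L X (i + 1) := by
    intro i hi
    have hlt : i < n - 1 := by
      obtain ⟨-, b, -, hb, hb'⟩ := hi
      by_contra h
      rw [D.L_eq_bot (le_of_not_gt h), mem_bot] at hb
      exact hb' (hb ▸ one_mem _)
    obtain ⟨i0, h01, h0i, h0r, h0a, h0a'⟩ := ha _ i hi rfl
    have hmem : a (i % (p - 1)) ∈ K := subset_closure (Finset.mem_image.2
      ⟨_, Finset.mem_range.2 (Nat.mod_lt _ (by omega)), rfl⟩)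
    have key : ∀ t, i0 + t * (p - 1) < n - 1 →
        ∃ k ∈ K, k ∈ L X (i0 + t * (p - 1)) ∧ k ∉ L X (i0 + t * (p - 1) + 1) := by
      intro t
      induction t with
      | zero => intro _; exact ⟨_, hmem, by simpa using h0a, by simpa using h0a'⟩
      | succ t iht =>
        intro ht
        rw [Nat.succ_mul] at ht
        obtain ⟨k, hk, hk1, hk2⟩ := iht (by omega)
        obtain ⟨h3, h4⟩ := D.pow_step n (i0 + t * (p - 1)) (by omega) (by omega) k hk1
        refine ⟨k ^ p, K.pow_mem hk p, ?_, ?_⟩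
        · rwa [Nat.succ_mul, ← Nat.add_assoc]
        · have := h4 hk2 (by omega)
          rwa [show i0 + (t + 1) * (p - 1) + 1 = i0 + t * (p - 1) + p by rw [Nat.succ_mul]; omega]
    have he : i = i0 + (i - i0) / (p - 1) * (p - 1) := by
      rw [Nat.div_mul_cancel ((Nat.modEq_iff_dvd' h0i).1 h0r)]
      omega
    rw [he]
    exact key _ (he ▸ hlt)
  have hdown : ∀ t i, n - 1 ≤ i + t → 1 ≤ i → H ⊓ L X i ≤ K := by
    intro t
    induction t with
    | zero =>
      intro i hi _ y hy
      have : y ∈ L X i := hy.2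
      rw [D.L_eq_bot (by omega), mem_bot] at this
      exact this ▸ one_mem _
    | succ t ih =>
      intro i hi h1 y hy
      by_cases hy' : y ∈ L X (i + 1)
      · exact ih (i + 1) (by omega) (by omega) ⟨hy.1, hy'⟩
      obtain ⟨k, hk, hk1, hk2⟩ := hKJ i ⟨h1, y, hy.1, hy.2, hy'⟩
      obtain ⟨c, hc⟩ := D.step_gen h1 hk1 hk2 hy.2
      have := K.mul_mem (K.zpow_mem hk c)
        (ih (i + 1) (by omega) (by omega) ⟨H.mul_mem (H.inv_mem (H.zpow_mem (hKH hk) c)) hy.1, hc⟩)
      rwa [mul_inv_cancel_left] at this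
  exact fun y hy => hdown n 1 (by omega) le_rfl ⟨hy, hH hy⟩

/-- Every subgroup has at most `p` generators. -/
theorem exists_generators (H : Subgroup X) : ∃ T : Finset X, T.card ≤ p ∧ closure (T : Set X) = H := by
  classical
  have hp2 := D.odd
  have h3 := D.three
  have hF : frattini X = L X 1 :=
    (MaxClass.frattini_eq_commutator n X D.card D.three D.cls).trans top_lowerCentralSeries_one.symm
  haveI : (L X 1).Normal := inferInstance
  set π := QuotientGroup.mk' (L X 1)
  have hQ : Nat.card (X ⧸ L X 1) = p ^ 2 := by rw [← index_eq_card, D.L_index le_rfl (by omega)]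
  by_cases htop : H.map π = ⊤
  · have hHtop : H = ⊤ := by
      refine frattini_nongenerating (G := X) ?_
      rw [hF, ← QuotientGroup.ker_mk' (L X 1), ← comap_map_eq, htop, comap_top]
    subst hHtop
    obtain ⟨y, hy⟩ : ∃ y, π y ∉ zpowers (π x) := by
      by_contra hall
      push Not at hall
      have h1 : (⊤ : Subgroup (X ⧸ L X 1)) ≤ zpowers (π x) := fun q _ => by
        obtain ⟨z, rfl⟩ := QuotientGroup.mk'_surjective _ q
        exact hall z
      have h2 := card_le_of_le h1
      rw [card_top, hQ, Nat.card_zpowers] at h2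
      have h3 : orderOf (π x) ≤ p := Nat.le_of_dvd hp.out.pos
        (orderOf_dvd_of_pow_eq_one (by rw [← map_pow, D.ord, map_one]))
      have : p ^ 1 < p ^ 2 := Nat.pow_lt_pow_right hp.out.one_lt (by norm_num)
      rw [pow_one] at this
      omega
    refine ⟨{x, y}, (Finset.card_le_two).trans (by omega), ?_⟩
    set K := closure ((({x, y} : Finset X)) : Set X)
    have hx : x ∈ K := subset_closure (by simp)
    have hyK : y ∈ K := subset_closure (by simp)
    refine frattini_nongenerating (G := X) ?_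
    rw [hF, ← QuotientGroup.ker_mk' (L X 1), ← comap_map_eq]
    have hlt : zpowers (π x) < K.map π := lt_of_le_of_ne (zpowers_le.2 ⟨x, hx, rfl⟩)
      fun e => hy (e ▸ ⟨y, hyK, rfl⟩)
    obtain ⟨j, hj, hjc⟩ := (Nat.dvd_prime_pow hp.out).1 (hQ ▸ (K.map π).card_subgroup_dvd_card)
    have hox : orderOf (π x) = p := orderOf_eq_prime (by rw [← map_pow, D.ord, map_one])
      fun e => D.x_not_mem ((QuotientGroup.eq_one_iff x).1 e)
    have hgt : p < Nat.card (K.map π) := by
      rw [← hox, ← Nat.card_zpowers]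
      exact lt_of_le_of_ne (card_le_of_le hlt.le) fun e => hlt.ne (eq_of_le_of_card_ge hlt.le e.ge)
    have hj2 : j = 2 := by
      by_contra hne
      have h1 : p ^ j ≤ p ^ 1 := Nat.pow_le_pow_right hp.out.pos (by omega)
      rw [pow_one, ← hjc] at h1
      omega
    rw [eq_top_of_card_eq (K.map π) (by rw [hjc, hj2, hQ]), comap_top]
  obtain ⟨T, hT, hTe⟩ := D.gen_of_le (H := H ⊓ L X 1) inf_le_right
  by_cases hle : H ≤ L X 1
  · exact ⟨T, by omega, by rw [hTe, inf_eq_left.2 hle]⟩
  obtain ⟨h0, h0H, h0L⟩ := SetLike.not_le_iff_exists.1 hle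
  refine ⟨insert h0 T, (Finset.card_insert_le _ _).trans (by omega), ?_⟩
  set K := closure (((insert h0 T : Finset X)) : Set X)
  have h0K : h0 ∈ K := subset_closure (by simp)
  have hIK : H ⊓ L X 1 ≤ K := hTe ▸ closure_mono (by simp)
  refine le_antisymm ((closure_le _).2 ?_) fun y hy => ?_
  · intro z hz
    simp only [Finset.coe_insert, Set.mem_insert_iff] at hz
    rcases hz with rfl | hz
    · exact h0H
    · exact (hTe.le (subset_closure hz)).1
  obtain ⟨j, hj, hjc⟩ := (Nat.dvd_prime_pow hp.out).1 (hQ ▸ (H.map π).card_subgroup_dvd_card)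
  have hj1 : j ≤ 1 := by
    by_contra hne
    exact htop (eq_top_of_card_eq _ (by rw [hjc, hQ, show j = 2 by omega]))
  have hsmall : Nat.card (H.map π) ≤ Nat.card (zpowers (π h0)) := by
    have ho : orderOf (π h0) ≠ 1 := fun e => h0L ((QuotientGroup.eq_one_iff h0).1 (orderOf_eq_one_iff.1 e))
    have hd : orderOf (π h0) ∣ p ^ 2 := hQ ▸ orderOf_dvd_natCard (π h0)
    obtain ⟨m, -, hm⟩ := (Nat.dvd_prime_pow hp.out).1 hd
    rw [Nat.card_zpowers, hm, hjc]
    exact Nat.pow_le_pow_right hp.out.pos (by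
      have : m ≠ 0 := fun e => ho (by rw [hm, e, pow_zero])
      omega)
  have hgen := eq_of_le_of_card_ge (zpowers_le.2 ⟨h0, h0H, rfl⟩ : zpowers (π h0) ≤ H.map π) hsmall
  obtain ⟨c, hc⟩ := hgen.ge ⟨y, hy, rfl⟩
  change π h0 ^ c = π y at hc
  rw [← map_zpow] at hc
  have := K.mul_mem (K.zpow_mem h0K c)
    (hIK ⟨H.mul_mem (H.inv_mem (H.zpow_mem h0H c)) hy, QuotientGroup.eq.1 hc⟩)
  rwa [mul_inv_cancel_left] at this

end Data

end Cfsg.Lib.PGroups.MaxClassRank
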