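import Cfsg.Agent.PGroups.MaxClassRank
import Cfsg.Agent.PGroups.Commutators

/-!
`3`-groups of maximal class with an element of order `3` and centralizer of order `9`: either every
subgroup has two generators, or the order is `81` and there is an elementary abelian subgroup of
order `27`, in which case the group is a Sylow `3`-subgroup of the symmetric group of degree `9`.
-/

set_option autoImplicit false
set_option linter.unusedSectionVars false
set_option linter.style.haveILetI false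

namespace Cfsg.Lib.PGroups.MaxClassThree

open Subgroup MaxClassRank
open scoped commutatorElement

universe u

variable {X : Type u} [Group X]

/-- The centralizer of the step `j` of the lower central series, modulo two steps further down. -/
def stepCent (X : Type u) [Group X] (j : ℕ) : Subgroup X :=
  (centralizer (((L X j).map (QuotientGroup.mk' (L X (j + 2))) : Subgroup _) : Set _)).comap
    (QuotientGroup.mk' (L X (j + 2)))

theorem mem_stepCent {j : ℕ} {y : X} : y ∈ stepCent X j ↔ ∀ a ∈ L X j, ⁅a, y⁆ ∈ L X (j + 2) := by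
  simp only [stepCent, mem_comap, mem_centralizer_iff]
  set π := QuotientGroup.mk' (L X (j + 2))
  refine ⟨fun h a ha => ?_, ?_⟩
  · rw [← QuotientGroup.eq_one_iff]
    show π ⁅a, y⁆ = 1
    rw [map_commutatorElement, commutatorElement_eq_one_iff_mul_comm]
    exact h _ (mem_map_of_mem π ha)
  · rintro h _ ⟨a, ha, rfl⟩
    rw [← commutatorElement_eq_one_iff_mul_comm, ← map_commutatorElement]
    exact (QuotientGroup.eq_one_iff _).2 (h a ha)

theorem derived_le_stepCent (j : ℕ) : L X 1 ≤ stepCent X j := fun _ hy =>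
  mem_stepCent.2 fun _ ha => (lcs_comm_le 1 j) (commutator_mem_commutator ha hy)

theorem central_step {i : ℕ} {g : X} (hg : g ∈ L X i) (y : X) :
    Commute (QuotientGroup.mk' (L X (i + 1)) g) (QuotientGroup.mk' (L X (i + 1)) y) := by
  rw [← commutatorElement_eq_one_iff_commute, ← map_commutatorElement]
  exact (QuotientGroup.eq_one_iff _).2 (comm_mem_succ hg y)

variable [Finite X] [hp : Fact (Nat.Prime 3)] [Group.IsNilpotent X] {n : ℕ} {x : X} (D : Data 3 n x)
include D

theorem exists_exact {i : ℕ} (h : i < n - 1) : ∃ a ∈ L X i, a ∉ L X (i + 1) :=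
  SetLike.exists_of_lt (D.L_lt h)

theorem mem_stepCent_of_exact {j : ℕ} (h1 : 1 ≤ j) {a w : X} (ha : a ∈ L X j) (ha' : a ∉ L X (j + 1))
    (h : ⁅a, w⁆ ∈ L X (j + 2)) : w ∈ stepCent X j := by
  refine mem_stepCent.2 fun b hb => ?_
  obtain ⟨c, hc⟩ := D.step_gen h1 ha ha' hb
  set π := QuotientGroup.mk' (L X (j + 2))
  have h1 : Commute (π a) (π w) := by
    rw [← commutatorElement_eq_one_iff_commute, ← map_commutatorElement]
    exact (QuotientGroup.eq_one_iff _).2 h
  have h2 : Commute (π ((a ^ c)⁻¹ * b)) (π w) := central_step hc w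
  rw [← QuotientGroup.eq_one_iff]
  show π ⁅b, w⁆ = 1
  rw [map_commutatorElement, commutatorElement_eq_one_iff_commute,
    show π b = π a ^ c * π ((a ^ c)⁻¹ * b) by rw [← map_zpow, ← map_mul, mul_inv_cancel_left]]
  exact (h1.zpow_left c).mul_left h2

theorem x_not_mem_stepCent {j : ℕ} (h1 : 1 ≤ j) (h2 : j + 1 < n - 1) : x ∉ stepCent X j := by
  obtain ⟨a, ha, ha'⟩ := exists_exact D (show j < n - 1 by omega)
  exact fun h => D.comm_step h1 h2 ha ha' (mem_stepCent.1 h a ha)

theorem exists_coord {j : ℕ} (h1 : 1 ≤ j) (h2 : j + 1 < n - 1) (y : X) :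
    ∃ c : ℤ, (x ^ c)⁻¹ * y ∈ stepCent X j := by
  obtain ⟨a, ha, ha'⟩ := exists_exact D (show j < n - 1 by omega)
  set π := QuotientGroup.mk' (L X (j + 2))
  obtain ⟨c, hc⟩ := D.step_gen (show 1 ≤ j + 1 by omega) (comm_mem_succ ha x) (D.comm_step h1 h2 ha ha')
    (comm_mem_succ ha y)
  have he : ⁅π a, π x⁆ ^ c = ⁅π a, π y⁆ := by
    rw [← map_commutatorElement, ← map_commutatorElement, ← map_zpow]
    exact QuotientGroup.eq.2 hc
  have hz : ∀ g : X, Commute ⁅π a, π x⁆ (π g) := fun g => by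
    rw [← map_commutatorElement]; exact central_step (comm_mem_succ ha x) g
  refine ⟨c, mem_stepCent_of_exact D h1 ha ha' ?_⟩
  rw [← QuotientGroup.eq_one_iff]
  show π ⁅a, (x ^ c)⁻¹ * y⁆ = 1
  rw [map_commutatorElement, commutatorElement_eq_one_iff_mul_comm, ← mul_inv_eq_iff_eq_mul,
    map_mul, map_inv, map_zpow]
  calc π a * ((π x ^ c)⁻¹ * π y) * (π a)⁻¹
      = ((π a * π x * (π a)⁻¹) ^ c)⁻¹ * (π a * π y * (π a)⁻¹) := by rw [conj_zpow]; group
    _ = ((⁅π a, π x⁆ * π x) ^ c)⁻¹ * (⁅π a, π y⁆ * π y) := by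
      simp only [commutatorElement_def, inv_mul_cancel_right]
    _ = (π x ^ c)⁻¹ * π y := by rw [(hz x).mul_zpow, ← he]; group

theorem stepCent_one_le : ∀ j, 1 ≤ j → stepCent X 1 ≤ stepCent X j := by
  intro j
  induction j using Nat.strong_induction_on with
  | _ j ih =>
  intro h1 y hy
  rcases eq_or_lt_of_le h1 with rfl | h
  · exact hy
  rcases eq_or_lt_of_le (show 2 ≤ j by omega) with rfl | h3
  · -- three subgroups
    obtain ⟨s, hs, hs'⟩ := exists_exact D (show 1 < n - 1 by have := D.three; omega)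
    set π := QuotientGroup.mk' (L X (2 + 2))
    have hL12 : ∀ a ∈ L X 1, ∀ r ∈ L X 2, Commute (π a) (π r) := fun a ha r hr => by
      rw [← commutatorElement_eq_one_iff_commute, ← map_commutatorElement]
      exact (QuotientGroup.eq_one_iff _).2 (lcs_comm_le 2 1 (commutator_mem_commutator ha hr))
    have hab : ∀ a ∈ L X 1, ∀ b ∈ L X 1, Commute (π a) (π b) := by
      intro a ha b hb
      obtain ⟨c, hc⟩ := D.step_gen le_rfl hs hs' ha
      obtain ⟨d, hd⟩ := D.step_gen le_rfl hs hs' hb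
      rw [show π a = π s ^ c * π ((s ^ c)⁻¹ * a) by rw [← map_zpow, ← map_mul, mul_inv_cancel_left],
        show π b = π s ^ d * π ((s ^ d)⁻¹ * b) by rw [← map_zpow, ← map_mul, mul_inv_cancel_left]]
      have h1 := hL12 s hs _ hc
      have h2 := hL12 s hs _ hd
      exact (((Commute.refl (π s)).zpow_zpow c d).mul_right (h2.zpow_left c)).mul_left
        ((h1.symm.zpow_right d).mul_right (hL12 _ (L_le (by omega) hc) _ hd))
    refine mem_stepCent.2 fun a ha => ?_
    have key : ⁅⁅(L X 1).map π, (⊤ : Subgroup X).map π⁆, (zpowers y).map π⁆ = ⊥ := by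
      refine commutator_commutator_eq_bot_of_rotate ?_ ?_
      · refine le_bot_iff.1 ((commutator_mono (?_ : _ ≤ (L X 1).map π) le_rfl).trans (commutator_le.2 ?_))
        · rw [← map_commutator]
          refine map_mono ((commutator_mono le_rfl le_top).trans ?_)
          rw [show L X 1 = ⁅L X 0, ⊤⁆ from Subgroup.lowerCentralSeries_succ _ 0,
            show L X 0 = ⊤ from Subgroup.lowerCentralSeries_zero _]
        · rintro _ ⟨u, hu, rfl⟩ _ ⟨v, hv, rfl⟩
          exact mem_bot.2 (commutatorElement_eq_one_iff_commute.2 (hab u hu v hv))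
      · rw [← map_commutator, ← map_commutator, Subgroup.map_eq_bot_iff, QuotientGroup.ker_mk']
        refine (commutator_mono (?_ : _ ≤ L X 3) le_rfl).trans
          (Subgroup.lowerCentralSeries_succ _ 3).ge
        rw [commutator_le]
        intro g hg b hb
        rw [← commutatorElement_inv]
        exact (L X 3).inv_mem (mem_stepCent.1 (zpowers_le.2 hy hg) b hb)
    rw [← map_commutator, ← map_commutator, Subgroup.map_eq_bot_iff, QuotientGroup.ker_mk',
      show ⁅L X 1, (⊤ : Subgroup X)⁆ = L X 2 from (Subgroup.lowerCentralSeries_succ _ 1).symm] at key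
    exact key (commutator_mem_commutator ha (mem_zpowers y))
  · by_cases hjn : n - 1 ≤ j
    · refine mem_stepCent.2 fun a ha => ?_
      rw [D.L_eq_bot hjn, mem_bot] at ha
      rw [ha, commutatorElement_one_left]
      exact one_mem _
    obtain ⟨i, rfl⟩ : ∃ i, j = i + 2 := ⟨j - 2, by omega⟩
    have hyi := mem_stepCent.1 (ih i (by omega) (by omega) hy)
    obtain ⟨a, ha, ha'⟩ := exists_exact D (show i < n - 1 by omega)
    obtain ⟨hp1, hp2⟩ := D.pow_step n i (by omega) (by omega) a ha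
    refine mem_stepCent_of_exact D h1 hp1 (hp2 ha' (by omega)) ?_
    set π := QuotientGroup.mk' (L X (i + 2 + 2))
    rw [← QuotientGroup.eq_one_iff]
    show π ⁅a ^ 3, y⁆ = 1
    set r := a⁻¹ * (y * a * y⁻¹)
    have hr : r ∈ L X (i + 2) := by
      have h2 := (inferInstance : (L X (i + 2)).Normal).conj_mem _ ((L X (i + 2)).inv_mem (hyi a ha)) a⁻¹
      convert h2 using 1
      simp only [r, commutatorElement_def]
      group
    have hca : Commute (π a) (π r) := by
      rw [← commutatorElement_eq_one_iff_commute, ← map_commutatorElement]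
      exact (QuotientGroup.eq_one_iff _).2 (L_le (show i + 2 + 2 ≤ i + (i + 2) + 1 by omega)
        (lcs_comm_le (i + 2) i (commutator_mem_commutator ha hr)))
    have hr3 : π r ^ 3 = 1 := by
      rw [← map_pow]
      exact (QuotientGroup.eq_one_iff _).2 (D.pow_step n (i + 2) (by omega) h1 r hr).1
    have e : π y * π a * (π y)⁻¹ = π a * π r := by
      simp only [r, map_mul, map_inv, mul_inv_cancel_left]
    rw [map_commutatorElement, commutatorElement_eq_one_iff_mul_comm, eq_comm,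
      ← mul_inv_eq_iff_eq_mul, map_pow, ← conj_pow, e, hca.mul_pow, hr3, mul_one]

theorem not_mem_stepCent {y : X} (hy : y ∉ stepCent X 1) {j : ℕ} (h1 : 1 ≤ j) (h2 : j + 1 < n - 1) :
    y ∉ stepCent X j := by
  intro hyj
  obtain ⟨c, hc⟩ := exists_coord D le_rfl (show 1 + 1 < n - 1 by omega) y
  have hxc : x ^ c ∈ stepCent X j := by
    have := (stepCent X j).mul_mem hyj ((stepCent X j).inv_mem (stepCent_one_le D j h1 hc))
    rwa [mul_inv_rev, inv_inv, mul_inv_cancel_left] at this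
  by_cases hd : (3 : ℤ) ∣ c
  · obtain ⟨e, rfl⟩ := hd
    rw [show (3 : ℤ) = ((3 : ℕ) : ℤ) from rfl, zpow_mul, zpow_natCast, D.ord, one_zpow, inv_one,
      one_mul] at hc
    exact hy hc
  · obtain ⟨a, b, hab⟩ := ((Nat.prime_iff_prime_int.mp hp.out).coprime_iff_not_dvd.mpr hd)
    refine x_not_mem_stepCent D h1 h2 ?_
    rw [← zpow_one x, ← hab, zpow_add, mul_comm a, zpow_mul, zpow_natCast, D.ord, one_zpow, one_mul,
      mul_comm b, zpow_mul]
    exact (stepCent X j).zpow_mem hxc b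

theorem comm_exact {h : X} (hh : h ∉ stepCent X 1) {j : ℕ} (h1 : 1 ≤ j) (h2 : j + 1 < n - 1) {a : X}
    (ha : a ∈ L X j) (ha' : a ∉ L X (j + 1)) : ⁅a, h⁆ ∉ L X (j + 2) :=
  fun hm => not_mem_stepCent D hh h1 h2 (mem_stepCent_of_exact D h1 ha ha' hm)

theorem step_lt {i : ℕ} {a : X} (ha : a ∈ L X i) (ha' : a ∉ L X (i + 1)) : i < n - 1 := by
  by_contra h
  rw [D.L_eq_bot (le_of_not_gt h), mem_bot] at ha
  exact ha' (ha ▸ one_mem _)

theorem le_of_steps {H K : Subgroup X} (hKH : K ≤ H)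
    (hs : ∀ i, 1 ≤ i → ∀ a ∈ H, a ∈ L X i → a ∉ L X (i + 1) → ∃ k ∈ K, k ∈ L X i ∧ k ∉ L X (i + 1)) :
    H ⊓ L X 1 ≤ K := by
  have hdown : ∀ t i, n - 1 ≤ i + t → 1 ≤ i → H ⊓ L X i ≤ K := by
    intro t
    induction t with
    | zero =>
      intro i hi _ y hy
      have : y ∈ L X i := hy.2
      rw [D.L_eq_bot (by omega), mem_bot] at this
      exact this ▸ one_mem _
    | succ t ih =>
      intro i hi h1 y hy
      by_cases hy' : y ∈ L X (i + 1)
      · exact ih (i + 1) (by omega) (by omega) ⟨hy.1, hy'⟩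
      obtain ⟨k, hk, hk1, hk2⟩ := hs i h1 y hy.1 hy.2 hy'
      obtain ⟨c, hc⟩ := D.step_gen h1 hk1 hk2 hy.2
      have := K.mul_mem (K.zpow_mem hk c)
        (ih (i + 1) (by omega) (by omega) ⟨H.mul_mem (H.inv_mem (H.zpow_mem (hKH hk) c)) hy.1, hc⟩)
      rwa [mul_inv_cancel_left] at this
  exact hdown n 1 (by omega) le_rfl

theorem pow_chain {K : Subgroup X} {i0 : ℕ} (h1 : 1 ≤ i0) {k : X} (hk : k ∈ K) (ha : k ∈ L X i0)
    (ha' : k ∉ L X (i0 + 1)) : ∀ t, i0 + 2 * t < n - 1 →
      ∃ b ∈ K, b ∈ L X (i0 + 2 * t) ∧ b ∉ L X (i0 + 2 * t + 1) := by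
  intro t
  induction t with
  | zero => intro _; exact ⟨k, hk, ha, ha'⟩
  | succ t ih =>
    intro ht
    obtain ⟨b, hb, hb1, hb2⟩ := ih (by omega)
    obtain ⟨h3, h4⟩ := D.pow_step n (i0 + 2 * t) (by omega) (by omega) b hb1
    exact ⟨b ^ 3, K.pow_mem hb 3, h3, h4 hb2 (by omega)⟩

theorem cube_exact (hn : 5 ≤ n) {h : X} (hh : h ∈ stepCent X 1) (hL : h ∉ L X 1) :
    h ^ 3 ∈ L X 2 ∧ h ^ 3 ∉ L X 3 := by
  -- `x` and `h` generate
  have hc : ∀ y : X, ∃ c d : ℤ, (h ^ d)⁻¹ * ((x ^ c)⁻¹ * y) ∈ L X 1 := by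
    intro y
    obtain ⟨c, hc⟩ := exists_coord D le_rfl (show 1 + 1 < n - 1 by omega) y
    set π := QuotientGroup.mk' (L X 1)
    have hQ : Nat.card (X ⧸ L X 1) = 3 ^ 2 := by rw [← index_eq_card, D.L_index le_rfl (by omega)]
    set C := (stepCent X 1).map π
    have hCne : C ≠ ⊤ := fun e => by
      obtain ⟨w, hw, hwe⟩ := e.ge (mem_top (π x))
      refine x_not_mem_stepCent D le_rfl (show 1 + 1 < n - 1 by omega) ?_
      have := (stepCent X 1).mul_mem hw (derived_le_stepCent 1 (QuotientGroup.eq.1 hwe))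
      rwa [mul_inv_cancel_left] at this
    have hlt : Nat.card C ≤ 3 := by
      obtain ⟨j, hj, hjc⟩ := (Nat.dvd_prime_pow hp.out).1 (hQ ▸ C.card_subgroup_dvd_card)
      rcases Nat.lt_or_ge j 2 with h2 | h2
      · rw [hjc]; exact (Nat.pow_le_pow_right (by norm_num) (show j ≤ 1 by omega)).trans (le_of_eq (pow_one 3))
      · exact absurd (eq_top_of_card_eq C (by rw [hjc, hQ, show j = 2 by omega])) hCne
    have hle : zpowers (π h) ≤ C := zpowers_le.2 (mem_map_of_mem π hh)
    have hge : 3 ≤ Nat.card (zpowers (π h)) := by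
      rw [Nat.card_zpowers]
      have hd : orderOf (π h) ∣ 3 ^ 2 := hQ ▸ orderOf_dvd_natCard _
      obtain ⟨m, -, hm⟩ := (Nat.dvd_prime_pow hp.out).1 hd
      have : m ≠ 0 := fun e => hL ((QuotientGroup.eq_one_iff h).1 (orderOf_eq_one_iff.1 (show orderOf (π h) = 1 by rw [hm, e, pow_zero])))
      rw [hm]
      exact Nat.le_self_pow this 3
    obtain ⟨d, hd⟩ := (eq_of_le_of_card_ge hle (hlt.trans hge)).ge (mem_map_of_mem π hc)
    change π h ^ d = _ at hd
    rw [← map_zpow] at hd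
    exact ⟨c, d, QuotientGroup.eq.1 hd⟩
  set s := ⁅x, h⁆
  have hs1 : s ∈ L X 1 := by
    rw [show L X 1 = commutator X from top_lowerCentralSeries_one]
    exact commutator_mem_commutator (mem_top _) (mem_top _)
  have hs2 : s ∉ L X 2 := by
    intro hs
    set π := QuotientGroup.mk' (L X 2)
    have hxh : Commute (π x) (π h) := by
      rw [← commutatorElement_eq_one_iff_commute, ← map_commutatorElement]
      exact (QuotientGroup.eq_one_iff _).2 hs
    have hcen : ∀ r ∈ L X 1, ∀ g : X, Commute (π r) (π g) := fun r hr g => central_step hr g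
    have hgen : ∀ y : X, ∃ c d : ℤ, ∃ r ∈ L X 1, π y = π x ^ c * (π h ^ d * π r) := by
      intro y
      obtain ⟨c, d, hr⟩ := hc y
      refine ⟨c, d, _, hr, ?_⟩
      rw [← map_zpow, ← map_zpow, ← map_mul, ← map_mul, mul_inv_cancel_left, mul_inv_cancel_left]
    obtain ⟨a, ha, ha'⟩ := exists_exact D (show 1 < n - 1 by omega)
    refine ha' (?_ : a ∈ L X (1 + 1))
    have hle : L X 1 ≤ L X 2 := by
      rw [show L X 1 = commutator X from top_lowerCentralSeries_one, _root_.commutator_def, commutator_le]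
      intro u _ v _
      rw [← QuotientGroup.eq_one_iff]
      show π ⁅u, v⁆ = 1
      rw [map_commutatorElement, commutatorElement_eq_one_iff_commute]
      obtain ⟨c, d, r, hr, hu⟩ := hgen u
      obtain ⟨c', d', r', hr', hv⟩ := hgen v
      have hx' : Commute (π x) (π v) := by
        rw [hv]
        exact ((Commute.refl _).zpow_right c').mul_right ((hxh.zpow_right d').mul_right (hcen r' hr' x).symm)
      have hh' : Commute (π h) (π v) := by
        rw [hv]
        exact (hxh.symm.zpow_right c').mul_right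
          (((Commute.refl _).zpow_right d').mul_right (hcen r' hr' h).symm)
      rw [hu]
      exact (hx'.zpow_left c).mul_left ((hh'.zpow_left d).mul_left (hcen r hr v))
    exact hle ha
  set π := QuotientGroup.mk' (L X (3 + 1))
  obtain ⟨h3, h4⟩ := D.pow_step n 1 (by omega) le_rfl s hs1
  have hhs : ⁅h, s⁆ ∈ L X 3 := by
    rw [← commutatorElement_inv]
    exact (L X 3).inv_mem (mem_stepCent.1 hh s hs1)
  have hz : ∀ g : X, Commute (π ⁅h, s⁆) (π g) := fun g => central_step hhs g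
  have hc3 : π ⁅h, s⁆ ^ 3 = 1 := by
    rw [← map_pow]
    exact (QuotientGroup.eq_one_iff _).2 (L_le (by omega) (D.pow_step n 3 (by omega) (by omega) _ hhs).1)
  have e : π x * π h ^ 3 * (π x)⁻¹ = π s ^ 3 * π h ^ 3 := by
    have e1 : π x * π h * (π x)⁻¹ = π s * π h := by
      rw [show s = ⁅x, h⁆ from rfl, map_commutatorElement, commutatorElement_def, inv_mul_cancel_right]
    rw [← conj_pow, e1, Cfsg.Lib.PGroups.mul_pow_of_commute_commutator (by rw [← map_commutatorElement]; exact hz s)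
      (by rw [← map_commutatorElement]; exact hz h), ← map_commutatorElement,
      show Nat.choose 3 2 = 3 by decide, hc3, mul_one]
  have hh1 : h ^ 3 ∈ L X 1 := by
    have := Cfsg.Lib.PGroups.pow_mem_frattini D.isP h
    rwa [MaxClass.frattini_eq_commutator n X D.card D.three D.cls, ← top_lowerCentralSeries_one] at this
  have hcomm : π ⁅x, h ^ 3⁆ = π (s ^ 3) := by
    rw [map_commutatorElement, map_pow, map_pow, commutatorElement_def, e, mul_inv_cancel_right]
  refine ⟨?_, fun h33 => ?_⟩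
  · by_contra hh2
    refine D.comm_step le_rfl (show 1 + 1 < n - 1 by omega) hh1 hh2 ?_
    rw [← commutatorElement_inv]
    refine (L X (1 + 2)).inv_mem ?_
    have h5 := L_le (show 3 ≤ 3 + 1 by omega) (QuotientGroup.eq.1 hcomm)
    have h6 := (L X 3).mul_mem h3 ((L X 3).inv_mem h5)
    rw [mul_inv_rev, inv_inv, mul_inv_cancel_left] at h6
    exact h6
  · refine h4 hs2 (by omega) ?_
    have h5 := QuotientGroup.eq.1 hcomm
    have h7 : ⁅x, h ^ 3⁆ ∈ L X (3 + 1) := by
      rw [← commutatorElement_inv]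
      exact (L X (3 + 1)).inv_mem (comm_mem_succ h33 x)
    have h6 := (L X (3 + 1)).mul_mem h7 h5
    rwa [mul_inv_cancel_left] at h6

theorem exists_pair : ∃ T : Finset X, T.card ≤ 2 ∧ closure (T : Set X) = ⊤ := by
  classical
  have hF : frattini X = L X 1 :=
    (MaxClass.frattini_eq_commutator n X D.card D.three D.cls).trans top_lowerCentralSeries_one.symm
  set π := QuotientGroup.mk' (L X 1)
  have hQ : Nat.card (X ⧸ L X 1) = 3 ^ 2 := by
    rw [← index_eq_card, D.L_index le_rfl (by have := D.three; omega)]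
  have hox : orderOf (π x) = 3 := orderOf_eq_prime (by rw [← map_pow, D.ord, map_one])
    fun e => D.x_not_mem ((QuotientGroup.eq_one_iff x).1 e)
  obtain ⟨y, hy⟩ : ∃ y, π y ∉ zpowers (π x) := by
    by_contra hall
    push Not at hall
    have h1 : (⊤ : Subgroup (X ⧸ L X 1)) ≤ zpowers (π x) := fun q _ => by
      obtain ⟨z, rfl⟩ := QuotientGroup.mk'_surjective _ q
      exact hall z
    have h2 := card_le_of_le h1
    rw [card_top, hQ, Nat.card_zpowers, hox] at h2
    norm_num at h2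
  refine ⟨{x, y}, Finset.card_le_two, ?_⟩
  set K := closure ((({x, y} : Finset X)) : Set X)
  have hx : x ∈ K := subset_closure (by simp)
  have hyK : y ∈ K := subset_closure (by simp)
  refine frattini_nongenerating (G := X) ?_
  rw [hF, ← QuotientGroup.ker_mk' (L X 1), ← comap_map_eq]
  have hlt : zpowers (π x) < K.map π := lt_of_le_of_ne (zpowers_le.2 ⟨x, hx, rfl⟩)
    fun e => hy (e ▸ ⟨y, hyK, rfl⟩)
  obtain ⟨j, hj, hjc⟩ := (Nat.dvd_prime_pow hp.out).1 (hQ ▸ (K.map π).card_subgroup_dvd_card)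
  have hgt : 3 ^ 1 < 3 ^ j := by
    rw [pow_one, ← hjc]
    refine lt_of_eq_of_lt (((Nat.card_zpowers (π x)).trans hox).symm) ?_
    exact lt_of_le_of_ne (card_le_of_le hlt.le) fun e => hlt.ne (eq_of_le_of_card_ge hlt.le e.ge)
  have := (Nat.pow_lt_pow_iff_right (show 1 < 3 by norm_num)).1 hgt
  rw [eq_top_of_card_eq (K.map π) (by rw [hjc, show j = 2 by omega, hQ]), comap_top]

/-- Two generators for every subgroup, or an elementary abelian subgroup of index `3`. -/
theorem two_gen (hn : 4 ≤ n) (H : Subgroup X) :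
    (∃ T : Finset X, T.card ≤ 2 ∧ closure (T : Set X) = H) ∨ (n = 4 ∧ ∃ A : Subgroup X,
      Nat.card A = 27 ∧ (∀ a ∈ A, ∀ b ∈ A, Commute a b) ∧ ∀ a ∈ A, a ^ 3 = 1) := by
  classical
  by_cases hle : H ≤ L X 1
  · exact Or.inl (D.gen_of_le hle)
  have hF : frattini X = L X 1 :=
    (MaxClass.frattini_eq_commutator n X D.card D.three D.cls).trans top_lowerCentralSeries_one.symm
  set π := QuotientGroup.mk' (L X 1)
  have hQ : Nat.card (X ⧸ L X 1) = 3 ^ 2 := by rw [← index_eq_card, D.L_index le_rfl (by omega)]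
  by_cases htop : H.map π = ⊤
  · have hHtop : H = ⊤ := by
      refine frattini_nongenerating (G := X) ?_
      rw [hF, ← QuotientGroup.ker_mk' (L X 1), ← comap_map_eq, htop, comap_top]
    exact Or.inl (hHtop ▸ exists_pair D)
  obtain ⟨h0, h0H, h0L⟩ := SetLike.not_le_iff_exists.1 hle
  have hsplit : ∀ y ∈ H, ∃ c : ℤ, (h0 ^ c)⁻¹ * y ∈ L X 1 := by
    intro y hy
    obtain ⟨j, hj, hjc⟩ := (Nat.dvd_prime_pow hp.out).1 (hQ ▸ (H.map π).card_subgroup_dvd_card)
    have hj1 : j ≤ 1 := by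
      by_contra hne
      exact htop (eq_top_of_card_eq _ (by rw [hjc, hQ, show j = 2 by omega]))
    have hsmall : Nat.card (H.map π) ≤ Nat.card (zpowers (π h0)) := by
      have hd : orderOf (π h0) ∣ 3 ^ 2 := hQ ▸ orderOf_dvd_natCard (π h0)
      obtain ⟨m, -, hm⟩ := (Nat.dvd_prime_pow hp.out).1 hd
      have hm0 : m ≠ 0 := fun e =>
        h0L ((QuotientGroup.eq_one_iff h0).1 (orderOf_eq_one_iff.1 (show orderOf (π h0) = 1 by rw [hm, e, pow_zero])))
      rw [Nat.card_zpowers, hm, hjc]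
      exact Nat.pow_le_pow_right (by norm_num) (by omega)
    obtain ⟨c, hc⟩ := (eq_of_le_of_card_ge (zpowers_le.2 ⟨h0, h0H, rfl⟩ : zpowers (π h0) ≤ H.map π)
      hsmall).ge ⟨y, hy, rfl⟩
    change π h0 ^ c = π y at hc
    rw [← map_zpow] at hc
    exact ⟨c, QuotientGroup.eq.1 hc⟩
  suffices h : (∃ a ∈ H, H ⊓ L X 1 ≤ closure ({h0, a} : Set X)) ∨ (n = 4 ∧ ∃ A : Subgroup X,
      Nat.card A = 27 ∧ (∀ a ∈ A, ∀ b ∈ A, Commute a b) ∧ ∀ a ∈ A, a ^ 3 = 1) by
    rcases h with ⟨a, haH, ha⟩ | h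
    · refine Or.inl ⟨{h0, a}, Finset.card_le_two, ?_⟩
      rw [Finset.coe_pair]
      refine le_antisymm ((closure_le _).2 ?_) fun y hy => ?_
      · rintro z (rfl | rfl)
        exacts [h0H, haH]
      obtain ⟨c, hc⟩ := hsplit y hy
      have hK : h0 ∈ closure ({h0, a} : Set X) := subset_closure (by simp)
      have := mul_mem (zpow_mem hK c) (ha ⟨H.mul_mem (H.inv_mem (H.zpow_mem h0H c)) hy, hc⟩)
      rwa [mul_inv_cancel_left] at this
    · exact Or.inr h
  by_cases hC : h0 ∈ stepCent X 1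
  · by_cases hexc : ∃ k, 1 ≤ k ∧ k ≤ 2 ∧ h0 ^ 3 ∈ L X k ∧ h0 ^ 3 ∉ L X (k + 1)
    · obtain ⟨k, hk1, hk2, hka, hkb⟩ := hexc
      refine Or.inl ?_
      let J : ℕ → Prop := fun i => i % 2 ≠ k % 2 ∧ 1 ≤ i ∧ ∃ a ∈ H, a ∈ L X i ∧ a ∉ L X (i + 1)
      obtain ⟨a, haH, ha⟩ : ∃ a ∈ H, ∀ i, J i → ∃ i0, 1 ≤ i0 ∧ i0 ≤ i ∧ i0 % 2 = i % 2 ∧
          a ∈ L X i0 ∧ a ∉ L X (i0 + 1) := by
        by_cases h : ∃ i, J i
        · obtain ⟨hr, h1, a, haH, ha⟩ := Nat.find_spec h
          refine ⟨a, haH, fun i hi => ⟨Nat.find h, h1, Nat.find_min' h hi, ?_, ha⟩⟩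
          have := hi.1
          omega
        · exact ⟨1, H.one_mem, fun i hi => absurd ⟨i, hi⟩ h⟩
      refine ⟨a, haH, le_of_steps D ((closure_le _).2 (by rintro z (rfl | rfl); exacts [h0H, haH])) ?_⟩
      intro i h1 b hbH hb hb'
      have hin := step_lt D hb hb'
      have h0K : h0 ^ 3 ∈ closure ({h0, a} : Set X) := pow_mem (subset_closure (by simp)) 3
      by_cases hpar : i % 2 = k % 2
      · obtain ⟨c, hc⟩ : ∃ c, i = k + 2 * c := ⟨(i - k) / 2, by omega⟩
        subst hc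
        exact pow_chain D hk1 h0K hka hkb c hin
      · obtain ⟨i0, h01, h0i, h0p, h0a, h0b⟩ := ha i ⟨hpar, h1, b, hbH, hb, hb'⟩
        obtain ⟨c, hc⟩ : ∃ c, i = i0 + 2 * c := ⟨(i - i0) / 2, by omega⟩
        subst hc
        exact pow_chain D h01 (subset_closure (by simp)) h0a h0b c hin
    refine Or.inr ?_
    have hn4 : n = 4 := by
      by_contra hne
      exact hexc ⟨2, by omega, le_rfl, cube_exact D (by omega) hC h0L⟩
    subst hn4
    have hL3 : L X 3 = ⊥ := D.L_eq_bot (by omega)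
    have h03 : h0 ^ 3 = 1 := by
      have h1 : h0 ^ 3 ∈ L X 1 := hF ▸ Cfsg.Lib.PGroups.pow_mem_frattini D.isP h0
      have h2 : h0 ^ 3 ∈ L X (1 + 1) := by
        by_contra h2; exact hexc ⟨1, le_rfl, by omega, h1, h2⟩
      have h3 : h0 ^ 3 ∈ L X (2 + 1) := by
        by_contra h3; exact hexc ⟨2, by omega, le_rfl, h2, h3⟩
      rwa [show L X (2 + 1) = ⊥ from hL3, mem_bot] at h3
    have hcom1 : ∀ a ∈ L X 1, ∀ b ∈ L X 1, Commute a b := fun a ha b hb => by
      rw [← commutatorElement_eq_one_iff_commute, ← mem_bot, ← hL3]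
      exact lcs_comm_le 1 1 (commutator_mem_commutator ha hb)
    have hh0 : ∀ a ∈ L X 1, Commute a h0 := fun a ha => by
      rw [← commutatorElement_eq_one_iff_commute, ← mem_bot, ← hL3]
      exact mem_stepCent.1 hC a ha
    have hexp1 : ∀ a ∈ L X 1, a ^ 3 = 1 := fun a ha => by
      rw [← mem_bot, ← hL3]
      exact (D.pow_step 4 1 (by omega) le_rfl a ha).1
    let A : Subgroup X :=
      { carrier := {y | ∃ c : ℤ, ∃ r ∈ L X 1, y = h0 ^ c * r}
        one_mem' := ⟨0, 1, one_mem _, by simp⟩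
        mul_mem' := by
          rintro _ _ ⟨c, r, hr, rfl⟩ ⟨d, r', hr', rfl⟩
          refine ⟨c + d, r * r', mul_mem hr hr', ?_⟩
          rw [zpow_add, mul_assoc, ← mul_assoc r, ((hh0 r hr).zpow_right d).eq]
          group
        inv_mem' := by
          rintro _ ⟨c, r, hr, rfl⟩
          refine ⟨-c, r⁻¹, inv_mem hr, ?_⟩
          rw [zpow_neg, mul_inv_rev, ((hh0 r hr).zpow_right c).inv_inv.eq] }
    have hAc : ∀ a ∈ A, ∀ b ∈ A, Commute a b := by
      rintro _ ⟨c, r, hr, rfl⟩ _ ⟨d, r', hr', rfl⟩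
      exact (((Commute.refl h0).zpow_zpow c d).mul_right ((hh0 r' hr').symm.zpow_left c)).mul_left
        (((hh0 r hr).zpow_right d).mul_right (hcom1 r hr r' hr'))
    refine ⟨rfl, A, ?_, hAc, ?_⟩
    · have hLA : L X 1 ≤ A := fun r hr => ⟨0, r, hr, by simp⟩
      have hAh : h0 ∈ A := ⟨1, 1, one_mem _, by simp⟩
      have hgt : Nat.card (L X 1) < Nat.card A := lt_of_le_of_ne (card_le_of_le hLA) fun e =>
        h0L ((eq_of_le_of_card_ge hLA e.ge).ge hAh)
      have hAne : A ≠ ⊤ := fun e => x_not_mem_stepCent D le_rfl (show 1 + 1 < 4 - 1 by omega) (by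
        refine mem_stepCent.2 fun a ha => ?_
        rw [show L X (1 + 2) = ⊥ from hL3, mem_bot, commutatorElement_eq_one_iff_commute]
        exact hAc a (hLA ha) x (e.ge (mem_top x)))
      obtain ⟨j, hj, hjc⟩ := (Nat.dvd_prime_pow hp.out).1 (D.card ▸ A.card_subgroup_dvd_card)
      rw [D.L_card le_rfl (by omega), hjc] at hgt
      have h5 : 2 < j := (Nat.pow_lt_pow_iff_right (show 1 < 3 by norm_num)).1 hgt
      have h6 : j ≠ 4 := fun e => hAne (eq_top_of_card_eq A (by rw [hjc, e, D.card]))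
      rw [hjc, show j = 3 by omega]
      norm_num
    · rintro _ ⟨c, r, hr, rfl⟩
      rw [((hh0 r hr).zpow_right c).symm.mul_pow, hexp1 r hr, mul_one, ← zpow_natCast, ← zpow_mul,
        mul_comm c, zpow_mul, zpow_natCast, h03, one_zpow]
  · refine Or.inl ?_
    obtain ⟨a, haH, ha⟩ : ∃ a ∈ H, ∀ i, (1 ≤ i ∧ ∃ b ∈ H, b ∈ L X i ∧ b ∉ L X (i + 1)) →
        ∃ i0, 1 ≤ i0 ∧ i0 ≤ i ∧ a ∈ L X i0 ∧ a ∉ L X (i0 + 1) := by
      by_cases h : ∃ i, 1 ≤ i ∧ ∃ b ∈ H, b ∈ L X i ∧ b ∉ L X (i + 1)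
      · obtain ⟨h1, a, haH, ha⟩ := Nat.find_spec h
        exact ⟨a, haH, fun i hi => ⟨Nat.find h, h1, Nat.find_min' h hi, ha⟩⟩
      · exact ⟨1, H.one_mem, fun i hi => absurd ⟨i, hi⟩ h⟩
    refine ⟨a, haH, le_of_steps D ((closure_le _).2 (by rintro z (rfl | rfl); exacts [h0H, haH])) ?_⟩
    intro i h1 b hbH hb hb'
    obtain ⟨i0, h01, h0i, h0a, h0b⟩ := ha i ⟨h1, b, hbH, hb, hb'⟩
    have key : ∀ t, i0 + t < n - 1 →
        ∃ k ∈ closure ({h0, a} : Set X), k ∈ L X (i0 + t) ∧ k ∉ L X (i0 + t + 1) := by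
      intro t
      induction t with
      | zero => intro _; exact ⟨a, subset_closure (by simp), h0a, h0b⟩
      | succ t ih =>
        intro ht
        obtain ⟨k, hk, hk1, hk2⟩ := ih (by omega)
        have h0K : h0 ∈ closure ({h0, a} : Set X) := subset_closure (by simp)
        refine ⟨⁅k, h0⁆, ?_, comm_mem_succ hk1 h0, comm_exact D hC (j := i0 + t) (by omega) (by omega) hk1 hk2⟩
        rw [commutatorElement_def]
        exact mul_mem (mul_mem (mul_mem hk h0K) (inv_mem hk)) (inv_mem h0K)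
    obtain ⟨c, rfl⟩ : ∃ c, i = i0 + c := ⟨i - i0, by omega⟩
    exact key c (step_lt D hb hb')

/-- An elementary abelian subgroup of index `3` gives the Sylow subgroup of degree `9`. -/
theorem exists_sylow_equiv (hn : n = 4) {A : Subgroup X} (hA : Nat.card A = 27)
    (hc : ∀ a ∈ A, ∀ b ∈ A, Commute a b) (hexp : ∀ a ∈ A, a ^ 3 = 1) :
    ∃ W : Sylow 3 (Equiv.Perm (Fin 9)), Nonempty (X ≃* (W : Subgroup (Equiv.Perm (Fin 9)))) := by
  subst hn
  have hZ := (MaxClass.center_facts 4 X D.card (by norm_num) D.cls).1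
  have hL2 : L X 2 = center X := (eq_of_le_of_card_ge
    (MaxClass.center_le_of_normal D.isP hZ (L X 2) (D.L_ne_bot (by omega)))
    (le_of_eq (by rw [hZ, D.L_card (by omega) (by omega)]; norm_num))).symm
  have hAi : A.index = 3 := by
    have h := A.card_mul_index
    rw [hA, D.card] at h
    omega
  have hL1A : L X 1 ≤ A := by
    have hn : A.Normal := normal_of_index_eq_minFac_card (by rw [hAi, D.card]; norm_num)
    rw [show L X 1 = commutator X from top_lowerCentralSeries_one]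
    haveI : IsCyclic (X ⧸ A) := isCyclic_of_prime_card (p := 3) (by rw [← index_eq_card, hAi])
    haveI := hn
    letI : CommGroup (X ⧸ A) := IsCyclic.commGroup
    rw [_root_.commutator_def, commutator_le]
    intro u _ v _
    rw [← QuotientGroup.eq_one_iff]
    show QuotientGroup.mk' A ⁅u, v⁆ = 1
    rw [map_commutatorElement, commutatorElement_eq_one_iff_mul_comm]
    exact mul_comm _ _
  obtain ⟨a, ha1, ha2⟩ := exists_exact D (show 1 < 4 - 1 by norm_num)
  obtain ⟨b, hbA, hb⟩ : ∃ b ∈ A, b ∉ L X 1 := by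
    refine SetLike.exists_of_lt (lt_of_le_of_ne hL1A fun e => ?_)
    rw [← e, D.L_card le_rfl (by norm_num)] at hA
    norm_num at hA
  have haA := hL1A ha1
  let U : Subgroup X :=
    { carrier := {y | ∃ i j : ℤ, y = a ^ i * b ^ j}
      one_mem' := ⟨0, 0, by simp⟩
      mul_mem' := by
        rintro _ _ ⟨i, j, rfl⟩ ⟨k, l, rfl⟩
        refine ⟨i + k, j + l, ?_⟩
        rw [zpow_add, zpow_add, mul_assoc, ← mul_assoc (b ^ j), ((hc b hbA a haA).zpow_zpow j k).eq]
        group
      inv_mem' := by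
        rintro _ ⟨i, j, rfl⟩
        exact ⟨-i, -j, by rw [mul_inv_rev, zpow_neg, zpow_neg, ((hc b hbA a haA).zpow_zpow j i).inv_inv.eq]⟩ }
  have haU : a ∈ U := ⟨1, 0, by simp⟩
  have hbU : b ∈ U := ⟨0, 1, by simp⟩
  have hdvd : ∀ (g : X) (N : Subgroup X), g ^ 3 = 1 → g ∉ N → ∀ i : ℤ, g ^ i ∈ N → g ^ i = 1 := by
    intro g N hg hgN i hi
    by_cases hd : (3 : ℤ) ∣ i
    · obtain ⟨e, rfl⟩ := hd
      rw [show (3 : ℤ) = ((3 : ℕ) : ℤ) from rfl, zpow_mul, zpow_natCast, hg, one_zpow]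
    · obtain ⟨c, d, hcd⟩ := ((Nat.prime_iff_prime_int.mp hp.out).coprime_iff_not_dvd.mpr hd)
      refine absurd ?_ hgN
      rw [← zpow_one g, ← hcd, zpow_add, mul_comm c, zpow_mul, zpow_natCast, hg, one_zpow, one_mul,
        mul_comm d, zpow_mul]
      exact N.zpow_mem hi d
  have hUZ : ∀ u ∈ U, u ∈ center X → u = 1 := by
    rintro _ ⟨i, j, rfl⟩ hu
    rw [← hL2] at hu
    have hj : b ^ j = 1 := hdvd b (L X 1) (hexp b hbA) hb j (by
      have := (L X 1).mul_mem ((L X 1).inv_mem ((L X 1).zpow_mem ha1 i)) (L_le (show 1 ≤ 2 by omega) hu)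
      rwa [inv_mul_cancel_left] at this)
    rw [hj, mul_one] at hu ⊢
    exact hdvd a (L X 2) (hexp a haA) ha2 i hu
  have hUA : U ≤ A := by
    rintro _ ⟨i, j, rfl⟩
    exact A.mul_mem (A.zpow_mem haA i) (A.zpow_mem hbA j)
  have hUi : U.index = 9 := by
    obtain ⟨j, hj, hjc⟩ := (Nat.dvd_prime_pow hp.out).1
      (show Nat.card U ∣ 3 ^ 3 by rw [show 3 ^ 3 = 27 by norm_num, ← hA]; exact card_dvd_of_le hUA)
    have h1 : j ≠ 3 := by
      intro e
      have hUe : U = A := eq_of_le_of_card_ge hUA (by rw [hA, hjc, e]; norm_num)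
      obtain ⟨z, hz, hz1⟩ := (center X).bot_or_exists_ne_one.resolve_left (fun e => by
        rw [e, card_bot] at hZ; omega)
      exact hz1 (hUZ z (hUe.ge (hL1A (L_le (show 1 ≤ 2 by omega) (hL2.ge hz)))) hz)
    have h2 : 1 < j := by
      have hlt : Nat.card (zpowers a) < Nat.card U := lt_of_le_of_ne (card_le_of_le (zpowers_le.2 haU))
        fun e => hb (zpowers_le.2 ha1 ((eq_of_le_of_card_ge (zpowers_le.2 haU) e.ge).ge hbU))
      rw [Nat.card_zpowers, orderOf_eq_prime (hexp a haA) (fun e => ha2 (e ▸ one_mem _)), hjc] at hlt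
      by_contra h
      have := Nat.pow_le_pow_right (show 0 < 3 by norm_num) (show j ≤ 1 by omega)
      omega
    have h := U.card_mul_index
    rw [hjc, D.card, show j = 2 by omega] at h
    omega
  have hinj : Function.Injective (MulAction.toPermHom X (X ⧸ U)) := by
    rw [← MonoidHom.ker_eq_bot_iff, ← normalCore_eq_ker]
    by_contra hne
    haveI : U.normalCore.Normal := normalCore_normal U
    obtain ⟨z, hz, hz1⟩ := (center X).bot_or_exists_ne_one.resolve_left (fun e => by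
      rw [e, card_bot] at hZ; omega)
    exact hz1 (hUZ z (normalCore_le U (MaxClass.center_le_of_normal D.isP hZ _ hne hz)) hz)
  haveI : Fintype (X ⧸ U) := Fintype.ofFinite _
  obtain ⟨e⟩ : Nonempty ((X ⧸ U) ≃ Fin 9) :=
    ⟨Fintype.equivFinOfCardEq (by rw [← Nat.card_eq_fintype_card, ← index_eq_card, hUi])⟩
  let ρ : X →* Equiv.Perm (Fin 9) := e.permCongrHom.toMonoidHom.comp (MulAction.toPermHom X (X ⧸ U))
  have hρ : Function.Injective ρ := e.permCongrHom.injective.comp hinj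
  refine ⟨Sylow.ofCard ρ.range ?_, ⟨MonoidHom.ofInjective hρ⟩⟩
  rw [← Nat.card_congr (MonoidHom.ofInjective hρ).toEquiv, D.card, Nat.card_perm, Nat.card_eq_fintype_card,
    Fintype.card_fin]
  congr 1
  rw [show Nat.factorial 9 = 3 ^ 4 * 4480 by rfl, Nat.factorization_mul (by norm_num) (by norm_num),
    Finsupp.add_apply, hp.out.factorization_pow, Finsupp.single_eq_same,
    Nat.factorization_eq_zero_of_not_dvd (by norm_num)]

end Cfsg.Lib.PGroups.MaxClassThree
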