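import Cfsg.Agent.PGroups.MetaOdd.Main
import Cfsg.Agent.Fusion.Metacyclic
import Cfsg.Agent.SolvStruct.PGroupBasics
import Cfsg.Agent.Coprime.Action
import Cfsg.Agent.PGroups.Basic

/-!
# Coprime action on metacyclic `p`-groups of odd order
-/

set_option autoImplicit false
set_option linter.unusedSectionVars false
set_option linter.style.haveILetI false

open Subgroup
open scoped commutatorElement

namespace Cfsg.Lib.MetaCoprime

section Core

variable {Q : Type*} [Group Q] {p : ℕ} [hp : Fact p.Prime] {a b c : Q}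

theorem pow_comm_pow (hc : ∀ x, c * x = x * c) (hba : b * a = c * (a * b)) (q i : ℕ) :
    b ^ q * a ^ i = c ^ (q * i) * (a ^ i * b ^ q) := by
  have hcp : ∀ (m : ℕ) (x : Q), c ^ m * x = x * c ^ m := fun m x =>
    ((show Commute c x from hc x).pow_left m).eq
  have h1 : ∀ i : ℕ, b * a ^ i = c ^ i * (a ^ i * b) := by
    intro i
    induction i with
    | zero => simp
    | succ i ih =>
      rw [pow_succ a i, ← mul_assoc, ih, mul_assoc, mul_assoc (a ^ i) b a, hba, ← mul_assoc (a ^ i) c, ← hc,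
        mul_assoc c, ← mul_assoc (c ^ i), ← pow_succ, mul_assoc (a ^ i) a b]
  induction q with
  | zero => simp
  | succ q ih =>
    rw [pow_succ' b q, mul_assoc, ih, ← mul_assoc, ← hcp, mul_assoc (c ^ (q * i)), ← mul_assoc b, h1,
      mul_assoc (c ^ i), ← mul_assoc (c ^ (q * i)), ← pow_add, mul_assoc (a ^ i), ← Nat.succ_mul]

theorem rep_mul' (hc : ∀ x, c * x = x * c) (hba : b * a = c * (a * b)) (m i q m' k l : ℕ) :
    c ^ m * (a ^ i * b ^ q) * (c ^ m' * (a ^ k * b ^ l)) = c ^ (m + m' + q * k) * (a ^ (i + k) * b ^ (q + l)) := by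
  have hcp : ∀ (m : ℕ) (x : Q), c ^ m * x = x * c ^ m := fun m x =>
    ((show Commute c x from hc x).pow_left m).eq
  calc c ^ m * (a ^ i * b ^ q) * (c ^ m' * (a ^ k * b ^ l))
      = c ^ m * ((a ^ i * b ^ q) * c ^ m') * (a ^ k * b ^ l) := by simp only [mul_assoc]
    _ = c ^ m * (c ^ m' * (a ^ i * b ^ q)) * (a ^ k * b ^ l) := by rw [← hcp]
    _ = c ^ (m + m') * (a ^ i * (b ^ q * a ^ k) * b ^ l) := by simp only [mul_assoc, pow_add]
    _ = c ^ (m + m') * (a ^ i * c ^ (q * k) * (a ^ k * b ^ q * b ^ l)) := by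
        rw [pow_comm_pow hc hba]; simp only [mul_assoc]
    _ = c ^ (m + m') * (c ^ (q * k) * a ^ i * (a ^ k * b ^ q * b ^ l)) := by rw [← hcp (q * k) (a ^ i)]
    _ = _ := by simp only [pow_add, mul_assoc]

theorem rep_pow (hc : ∀ x, c * x = x * c) (hba : b * a = c * (a * b)) (m i q n : ℕ) :
    (c ^ m * (a ^ i * b ^ q)) ^ n = c ^ (m * n + q * i * n.choose 2) * (a ^ (i * n) * b ^ (q * n)) := by
  induction n with
  | zero => simp
  | succ n ih =>
    rw [pow_succ, ih, rep_mul' hc hba]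
    have e : m * n + q * i * n.choose 2 + m + q * n * i = m * (n + 1) + q * i * (n + 1).choose 2 := by
      rw [show (n + 1).choose 2 = n + n.choose 2 by rw [Nat.choose_succ_succ, Nat.choose_one_right]]
      ring
    rw [e]
    simp only [mul_add, mul_one]

theorem dvd_choose_two (h2 : p ≠ 2) {D : ℕ} (hD : p ∣ D) : p ∣ D.choose 2 := by
  have h : p ∣ 2 * D.choose 2 := by
    rw [Nat.choose_two_right, Nat.mul_div_cancel' (Nat.even_mul_pred_self D).two_dvd]
    exact hD.mul_right _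
  exact ((hp.out.dvd_mul).mp h).resolve_left fun h' => h2 ((Nat.prime_dvd_prime_iff_eq hp.out Nat.prime_two).mp h')

theorem c_pow_iff (hcp : c ^ p = 1) (hc1 : c ≠ 1) {k l : ℕ} : c ^ k = c ^ l ↔ (k : ZMod p) = (l : ZMod p) := by
  rw [pow_eq_pow_iff_modEq, orderOf_eq_prime hcp hc1, ZMod.natCast_eq_natCast_iff]

theorem c_pow_eq_one_iff (hcp : c ^ p = 1) (hc1 : c ≠ 1) {k : ℕ} : c ^ k = 1 ↔ (k : ZMod p) = 0 := by
  rw [← pow_zero c, c_pow_iff hcp hc1, Nat.cast_zero]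

theorem pow_rep (h2 : p ≠ 2) (hc : ∀ x, c * x = x * c) (hcp : c ^ p = 1) (hba : b * a = c * (a * b)) {D : ℕ}
    (hD : p ∣ D) (m i q : ℕ) : (c ^ m * (a ^ i * b ^ q)) ^ D = (a ^ D) ^ i * (b ^ D) ^ q := by
  rw [rep_pow hc hba, show c ^ (m * D + q * i * D.choose 2) = 1 from ?_, one_mul, mul_comm i, mul_comm q, pow_mul, pow_mul]
  obtain ⟨u, hu⟩ : p ∣ m * D + q * i * D.choose 2 := dvd_add (hD.mul_left m) ((dvd_choose_two h2 hD).mul_left _)
  rw [hu, pow_mul, hcp, one_pow]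

/-- The image of the commutator. -/
theorem image_c (hc : ∀ x, c * x = x * c) (hba : b * a = c * (a * b)) (β : Q →* Q) {m i q m' k l : ℕ}
    (hβa : β a = c ^ m * (a ^ i * b ^ q)) (hβb : β b = c ^ m' * (a ^ k * b ^ l)) :
    β c * c ^ (q * k) = c ^ (l * i) := by
  have h := congrArg β hba
  rw [map_mul, map_mul, map_mul, hβa, hβb, rep_mul' hc hba, rep_mul' hc hba, add_comm k i, add_comm l q] at h
  simp only [← mul_assoc, mul_left_inj] at h
  have hcp : ∀ (m : ℕ) (x : Q), c ^ m * x = x * c ^ m := fun m x =>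
    ((show Commute c x from hc x).pow_left m).eq
  apply mul_left_cancel (a := c ^ (m + m'))
  rw [← pow_add, ← mul_assoc, hcp (m + m') (β c), mul_assoc, ← pow_add, ← h, add_comm m' m]

theorem image_c_eq (hc : ∀ x, c * x = x * c) (hcp : c ^ p = 1) (hba : b * a = c * (a * b)) (β : Q →* Q)
    {m i q m' k l : ℕ} (hβa : β a = c ^ m * (a ^ i * b ^ q)) (hβb : β b = c ^ m' * (a ^ k * b ^ l)) :
    β c = c ^ (l * i + (p - 1) * (q * k)) := by
  have h := image_c hc hba β hβa hβb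
  have h1 : c ^ (q * k) * c ^ ((p - 1) * (q * k)) = 1 := by
    rw [← pow_add, show q * k + (p - 1) * (q * k) = p * (q * k) by
      conv_rhs => rw [show p = (p - 1) + 1 from (Nat.sub_add_cancel hp.out.one_le).symm]
      ring, pow_mul, hcp, one_pow]
  rw [pow_add, ← h, mul_assoc, h1, mul_one]

/-- One generator has a power in `⟨c⟩`, the other is killed by it. -/
theorem core_fixed (h2 : p ≠ 2) (hc : ∀ x, c * x = x * c) (hcp : c ^ p = 1) (hc1 : c ≠ 1)
    (hba : b * a = c * (a * b)) {D u : ℕ} (hD : p ∣ D) (ha : a ^ D = c ^ u) (hu : (u : ZMod p) ≠ 0)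
    (hb : b ^ D = 1) (β : Q →* Q) (hβ : Function.Injective β) {m i q m' k l : ℕ}
    (hβa : β a = c ^ m * (a ^ i * b ^ q)) (hβb : β b = c ^ m' * (a ^ k * b ^ l)) :
    p ∣ k ∧ (l : ZMod p) = 1 := by
  have hk : (k : ZMod p) = 0 := by
    have h := congrArg β hb
    rw [map_pow, map_one, hβb, pow_rep h2 hc hcp hba hD, ha, hb, one_pow, mul_one, ← pow_mul,
      c_pow_eq_one_iff hcp hc1, Nat.cast_mul, mul_eq_zero] at h
    exact h.resolve_left hu
  refine ⟨(ZMod.natCast_eq_zero_iff k p).mp hk, ?_⟩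
  have hβc := image_c_eq hc hcp hba β hβa hβb
  have h := congrArg β ha
  rw [map_pow, map_pow, hβa, pow_rep h2 hc hcp hba hD, ha, hb, one_pow, mul_one, hβc, ← pow_mul, ← pow_mul,
    c_pow_iff hcp hc1] at h
  push_cast at h
  rw [hk, mul_zero, mul_zero, add_zero] at h
  have hi : (i : ZMod p) ≠ 0 := by
    intro hi
    refine hc1 (hβ (hβc.trans (Eq.trans ?_ (map_one β).symm)))
    rw [c_pow_eq_one_iff hcp hc1]
    push_cast
    rw [hi, hk]; ring
  have h' : (u : ZMod p) * i * ((l : ZMod p) - 1) = 0 := by linear_combination -h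
  exact sub_eq_zero.mp ((mul_eq_zero.mp h').resolve_left (mul_ne_zero hu hi))

/-- No power of the second generator is a non-trivial element of `⟨c⟩`. -/
theorem core_line (h2 : p ≠ 2) (hQ : IsPGroup p Q) (hc : ∀ x, c * x = x * c) (hcp : c ^ p = 1) (hc1 : c ≠ 1)
    (hba : b * a = c * (a * b)) {d : ℕ} (hd : p ∣ d) (ha : a ^ d = c)
    (hb : ∀ q : ℕ, (b ^ d) ^ q ∈ zpowers c → (b ^ d) ^ q = 1) (hb1 : b ^ d ≠ 1) (β : Q →* Q)
    (hβ : Function.Injective β) {m i q m' k l : ℕ}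
    (hβa : β a = c ^ m * (a ^ i * b ^ q)) (hβb : β b = c ^ m' * (a ^ k * b ^ l)) :
    p ∣ q ∧ (l : ZMod p) = 1 := by
  have hβc := image_c_eq hc hcp hba β hβa hβb
  have h := congrArg β ha
  rw [map_pow, hβa, pow_rep h2 hc hcp hba hd, ha, hβc] at h
  have hmem : (b ^ d) ^ q ∈ zpowers c := by
    have e : (b ^ d) ^ q = (c ^ i)⁻¹ * c ^ (l * i + (p - 1) * (q * k)) := by rw [← h, inv_mul_cancel_left]
    rw [e]
    exact mul_mem (inv_mem (pow_mem (mem_zpowers c) _)) (pow_mem (mem_zpowers c) _)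
  have h1 := hb q hmem
  rw [h1, mul_one, c_pow_iff hcp hc1] at h
  push_cast at h
  have hq : p ∣ q := by
    obtain ⟨e, he⟩ := IsPGroup.iff_orderOf.1 hQ (b ^ d)
    have hdv := orderOf_dvd_of_pow_eq_one h1
    rw [he] at hdv
    rcases e with _ | e
    · rw [pow_zero, orderOf_eq_one_iff] at he; exact absurd he hb1
    · exact (dvd_pow_self p (by omega)).trans hdv
  refine ⟨hq, ?_⟩
  have hq0 : (q : ZMod p) = 0 := (ZMod.natCast_eq_zero_iff q p).mpr hq
  rw [hq0, zero_mul, mul_zero, add_zero] at h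
  have hi : (i : ZMod p) ≠ 0 := by
    intro hi
    refine hc1 (hβ (hβc.trans (Eq.trans ?_ (map_one β).symm)))
    rw [c_pow_eq_one_iff hcp hc1]
    push_cast
    rw [hi, hq0]; ring
  have h' : (i : ZMod p) * ((l : ZMod p) - 1) = 0 := by linear_combination -h
  exact sub_eq_zero.mp ((mul_eq_zero.mp h').resolve_left hi)

end Core

section Line

variable {Q : Type*} [Group Q] {p : ℕ} [hp : Fact p.Prime] {a b c : Q}

theorem pow_mem_of_eq_one {Φ : Subgroup Q} (hpow : ∀ x : Q, x ^ p ∈ Φ) (b : Q) {l : ℕ} (hl : (l : ZMod p) = 1) :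
    b⁻¹ * b ^ l ∈ Φ := by
  have h1 : 1 ≤ l := by
    rcases Nat.eq_zero_or_pos l with h | h
    · rw [h, Nat.cast_zero] at hl; exact absurd hl zero_ne_one
    · exact h
  obtain ⟨v, hv⟩ : p ∣ l - 1 := by
    rw [← ZMod.natCast_eq_zero_iff, Nat.cast_sub h1, hl, Nat.cast_one, sub_self]
  rw [show l = (l - 1) + 1 from (Nat.sub_add_cancel h1).symm, pow_succ', inv_mul_cancel_left, hv, pow_mul]
  exact pow_mem (hpow b) v

theorem gen_eq_top {Φ : Subgroup Q} (hgen : ∀ x : Q, ∃ m i q : ℕ, x = c ^ m * (a ^ i * b ^ q)) (hcΦ : c ∈ Φ)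
    (hfra : ∀ H : Subgroup Q, H ⊔ Φ = ⊤ → H = ⊤) {H : Subgroup Q} (ha : a ∈ H ⊔ Φ) (hb : b ∈ H ⊔ Φ) : H = ⊤ := by
  refine hfra H (eq_top_iff.mpr fun x _ => ?_)
  obtain ⟨m, i, q, rfl⟩ := hgen x
  exact mul_mem (pow_mem (mem_sup_right hcΦ) m) (mul_mem (pow_mem ha i) (pow_mem hb q))

theorem fixed_case (h2 : p ≠ 2) (hc : ∀ x, c * x = x * c) (hcp : c ^ p = 1) (hc1 : c ≠ 1)
    (hba : b * a = c * (a * b)) (hgen : ∀ x : Q, ∃ m i q : ℕ, x = c ^ m * (a ^ i * b ^ q))
    {Φ : Subgroup Q} [Φ.Normal] (hpow : ∀ x : Q, x ^ p ∈ Φ) (hcΦ : c ∈ Φ)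
    (hfra : ∀ H : Subgroup Q, H ⊔ Φ = ⊤ → H = ⊤) {D u : ℕ} (hD : p ∣ D) (ha : a ^ D = c ^ u)
    (hu : (u : ZMod p) ≠ 0) (hb : b ^ D = 1) :
    ∃ x, x ∉ Φ ∧ ∀ β : Q →* Q, Function.Injective β → x⁻¹ * β x ∈ Φ := by
  refine ⟨b, fun hbΦ => hc1 ?_, fun β hβ => ?_⟩
  · have htop : zpowers a = ⊤ := gen_eq_top hgen hcΦ hfra (mem_sup_left (mem_zpowers a)) (mem_sup_right hbΦ)
    obtain ⟨i, rfl⟩ : b ∈ zpowers a := htop ▸ mem_top b
    rw [← zpow_add_one, ← zpow_one_add, add_comm 1 i] at hba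
    exact (right_eq_mul.mp hba)
  · obtain ⟨m, i, q, hβa⟩ := hgen (β a)
    obtain ⟨m', k, l, hβb⟩ := hgen (β b)
    obtain ⟨⟨k', hk⟩, hl⟩ := core_fixed h2 hc hcp hc1 hba hD ha hu hb β hβ hβa hβb
    have hak : a ^ k ∈ Φ := by rw [hk, pow_mul]; exact pow_mem (hpow a) k'
    rw [hβb, show b⁻¹ * (c ^ m' * (a ^ k * b ^ l)) = (b⁻¹ * (c ^ m' * a ^ k) * b) * (b⁻¹ * b ^ l) by group]
    refine mul_mem ?_ (pow_mem_of_eq_one hpow b hl)
    simpa using (show Φ.Normal from inferInstance).conj_mem _ (mul_mem (pow_mem hcΦ m') hak) b⁻¹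

/-- Either an element outside `Φ` is fixed modulo `Φ`, or all displacements lie in one proper subgroup. -/
theorem line_dichotomy (h2 : p ≠ 2) (hQ : IsPGroup p Q) (hc : ∀ x, c * x = x * c) (hcp : c ^ p = 1) (hc1 : c ≠ 1)
    {d : ℕ} (hd : p ∣ d) (ha : a ^ d = c) (hba : b * a = c * (a * b))
    (hgen : ∀ x : Q, ∃ m i q : ℕ, x = c ^ m * (a ^ i * b ^ q))
    {Φ : Subgroup Q} [Φ.Normal] (hpow : ∀ x : Q, x ^ p ∈ Φ) (hcomm : commutator Q ≤ Φ) (hcΦ : c ∈ Φ)
    (hfra : ∀ H : Subgroup Q, H ⊔ Φ = ⊤ → H = ⊤) :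
    (∃ x, x ∉ Φ ∧ ∀ β : Q →* Q, Function.Injective β → x⁻¹ * β x ∈ Φ) ∨
      ∃ M : Subgroup Q, M ≠ ⊤ ∧ ∀ β : Q →* Q, Function.Injective β → ∀ x, x⁻¹ * β x ∈ M := by
  have hp1 : (1 : ZMod p) ≠ 0 := one_ne_zero
  by_cases hA : b ^ d ∈ zpowers c
  · -- replace `b`
    have hct : c ∈ zpowers c := mem_zpowers c
    obtain ⟨z, hz⟩ := hA
    obtain ⟨t, ht⟩ : ∃ t : ℕ, c ^ t = (c ^ z)⁻¹ := by
      refine ⟨((-z : ℤ) : ZMod p).val, ?_⟩
      rw [← zpow_neg, ← zpow_natCast, zpow_eq_zpow_iff_modEq, orderOf_eq_prime hcp hc1,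
        ← ZMod.intCast_eq_intCast_iff]
      simp
    have hb' : (a ^ t * b) ^ d = 1 := by
      have := pow_rep h2 hc hcp hba hd 0 t 1
      rw [pow_zero, one_mul, pow_one, pow_one, ha, ht, ← hz] at this
      rw [this]
      simp
    refine Or.inl (fixed_case (b := a ^ t * b) (u := 1) h2 hc hcp hc1 ?_ ?_ hpow hcΦ hfra hd
      (by rw [ha, pow_one]) (by rw [Nat.cast_one]; exact hp1) hb')
    · rw [mul_assoc, hba, ← mul_assoc, ← hc, mul_assoc c]
      congr 1
      rw [← mul_assoc, ← pow_succ, pow_succ', mul_assoc]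
    · intro x
      obtain ⟨m, i, q, rfl⟩ := hgen x
      -- `a ^ i * b ^ q` in the new generators
      obtain ⟨j, hj⟩ : ∃ j : ℕ, ∃ w : ℕ, b ^ q = c ^ w * (a ^ j * (a ^ t * b) ^ q) := by
        have hsub := rep_pow hc hba 0 t 1 q
        simp only [pow_zero, one_mul, pow_one, zero_mul, zero_add] at hsub
        have hA1 : IsOfFinOrder a := isOfFinOrder_iff_pow_eq_one.mpr (by
          obtain ⟨e, he⟩ := hQ a
          exact ⟨p ^ e, pow_pos hp.out.pos e, he⟩)
        obtain ⟨j, hj⟩ := (hA1.mem_powers_iff_mem_zpowers).mpr (inv_mem (pow_mem (mem_zpowers a) (t * q)))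
        refine ⟨j, (p - 1) * (t * q.choose 2), ?_⟩
        have hcc : ∀ (w : ℕ) (x : Q), c ^ w * x = x * c ^ w := fun w x =>
          ((show Commute c x from hc x).pow_left w).eq
        rw [show a ^ j = (a ^ (t * q))⁻¹ from hj, hsub, hcc (t * q.choose 2), ← mul_assoc ((a ^ (t * q))⁻¹),
          inv_mul_cancel_left, ← mul_assoc, hcc ((p - 1) * (t * q.choose 2)) (b ^ q), mul_assoc, ← pow_add,
          show (p - 1) * (t * q.choose 2) + t * q.choose 2 = p * (t * q.choose 2) by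
            conv_rhs => rw [show p = (p - 1) + 1 from (Nat.sub_add_cancel hp.out.one_le).symm]
            ring, pow_mul, hcp, one_pow, mul_one]
      obtain ⟨w, hw⟩ := hj
      refine ⟨m + w, i + j, q, ?_⟩
      rw [hw, pow_add, pow_add]
      have hcc : a ^ i * c ^ w = c ^ w * a ^ i := (((show Commute c (a ^ i) from hc _).pow_left w).symm).eq
      simp only [← mul_assoc]
      rw [mul_assoc (c ^ m) (a ^ i) (c ^ w), hcc, ← mul_assoc]
  by_cases hB : ∃ j, (b ^ d) ^ p ^ j ∈ zpowers c ∧ (b ^ d) ^ p ^ j ≠ 1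
  · obtain ⟨j, ⟨z, hz⟩, hj1⟩ := hB
    have hj0 : j ≠ 0 := fun h => hA ⟨z, by rw [h, pow_zero, pow_one] at hz; exact hz⟩
    have hcz : c ^ (z : ZMod p).val = c ^ z := by
      rw [← zpow_natCast, zpow_eq_zpow_iff_modEq, orderOf_eq_prime hcp hc1, ← ZMod.intCast_eq_intCast_iff]
      simp
    have hu : ((z : ZMod p).val : ZMod p) ≠ 0 := by
      intro h
      apply hj1
      rw [← show c ^ z = (b ^ d) ^ p ^ j from hz, ← hcz, c_pow_eq_one_iff hcp hc1]
      exact h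
    have hc' : ∀ x, c⁻¹ * x = x * c⁻¹ := fun x => ((show Commute c x from hc x).inv_left).eq
    have hcp' : c⁻¹ ^ p = 1 := by rw [inv_pow, hcp, inv_one]
    have hc1' : c⁻¹ ≠ 1 := inv_ne_one.mpr hc1
    have hinv : ∀ m : ℕ, c ^ m = c⁻¹ ^ ((p - 1) * m) := fun m => by
      rw [inv_pow, eq_inv_iff_mul_eq_one, ← pow_add, show m + (p - 1) * m = p * m by
        conv_rhs => rw [show p = (p - 1) + 1 from (Nat.sub_add_cancel hp.out.one_le).symm]
        ring, pow_mul, hcp, one_pow]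
    refine Or.inl (fixed_case (a := b) (b := a) (c := c⁻¹) (D := d * p ^ j)
      (u := (p - 1) * (z : ZMod p).val) h2 hc' hcp' hc1' ?_ ?_ hpow (inv_mem hcΦ) hfra (hd.mul_right _) ?_ ?_ ?_)
    · rw [hba, inv_mul_cancel_left]
    · intro x
      obtain ⟨m, i, q, rfl⟩ := hgen x
      refine ⟨(p - 1) * m + q * i, q, i, ?_⟩
      rw [pow_comm_pow hc hba, pow_add, ← hinv, inv_pow]
      rw [mul_assoc, inv_mul_cancel_left]
    · rw [pow_mul, ← show c ^ z = (b ^ d) ^ p ^ j from hz, ← hcz, hinv]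
    · rw [Nat.cast_mul]
      refine mul_ne_zero ?_ hu
      rw [Nat.cast_sub hp.out.one_le, ZMod.natCast_self, zero_sub, Nat.cast_one]
      exact neg_ne_zero.mpr hp1
    · rw [pow_mul, ha]
      obtain ⟨j', rfl⟩ := Nat.exists_eq_succ_of_ne_zero hj0
      rw [pow_succ', pow_mul, hcp, one_pow]
  · push Not at hB
    have hb : ∀ q : ℕ, (b ^ d) ^ q ∈ zpowers c → (b ^ d) ^ q = 1 := by
      intro q hq
      by_cases hq0 : q = 0
      · rw [hq0, pow_zero]
      obtain ⟨j, q', hq', rfl⟩ := Nat.exists_eq_pow_mul_and_not_dvd hq0 p hp.out.ne_one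
      have hm : (b ^ d) ^ p ^ j ∈ zpowers c := by
        obtain ⟨e, he⟩ := IsPGroup.iff_orderOf.1 hQ ((b ^ d) ^ p ^ j)
        rw [pow_mul] at hq
        obtain ⟨m, hm⟩ := exists_pow_eq_self_of_coprime (x := (b ^ d) ^ p ^ j) (n := q') (by
          rw [he]; exact Nat.Coprime.pow_right _ (Nat.Coprime.symm ((hp.out.coprime_iff_not_dvd).mpr hq')))
        rw [← hm]
        exact pow_mem hq m
      rw [pow_mul, hB j hm, one_pow]
    have hb1 : b ^ d ≠ 1 := fun h => hA (h ▸ one_mem _)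
    have hM : (zpowers a ⊔ Φ).Normal := ⟨fun x hx g => by
      have h := hcomm (commutator_mem_commutator (mem_top g) (mem_top x))
      rw [commutatorElement_def] at h
      have := mul_mem (mem_sup_right (S := zpowers a) h) hx
      rwa [inv_mul_cancel_right] at this⟩
    refine Or.inr ⟨zpowers a ⊔ Φ, fun h => hc1 ?_, fun β hβ => ?_⟩
    · obtain ⟨i, rfl⟩ : b ∈ zpowers a := (hfra _ h) ▸ mem_top b
      rw [← zpow_add_one, ← zpow_one_add, add_comm 1 i] at hba
      exact (right_eq_mul.mp hba)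
    obtain ⟨m, i, q, hβa⟩ := hgen (β a)
    obtain ⟨m', k, l, hβb⟩ := hgen (β b)
    obtain ⟨⟨q', hq⟩, hl⟩ := core_line h2 hQ hc hcp hc1 hba hd ha hb hb1 β hβ hβa hβb
    have hcM : c ∈ zpowers a ⊔ Φ := mem_sup_right hcΦ
    have h1 : a⁻¹ * β a ∈ zpowers a ⊔ Φ := by
      refine mul_mem (inv_mem (mem_sup_left (mem_zpowers a))) ?_
      rw [hβa, hq, pow_mul]
      exact mul_mem (pow_mem hcM m) (mul_mem (pow_mem (mem_sup_left (mem_zpowers a)) i)
        (mem_sup_right (pow_mem (hpow b) q')))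
    have h2' : b⁻¹ * β b ∈ zpowers a ⊔ Φ := by
      rw [hβb, show b⁻¹ * (c ^ m' * (a ^ k * b ^ l)) = (b⁻¹ * (c ^ m' * a ^ k) * b) * (b⁻¹ * b ^ l) by group]
      refine mul_mem ?_ (mem_sup_right (pow_mem_of_eq_one hpow b hl))
      simpa using hM.conj_mem _ (mul_mem (pow_mem hcM m') (pow_mem (mem_sup_left (mem_zpowers a)) k)) b⁻¹
    haveI := hM
    let K : Subgroup Q :=
      { carrier := {x : Q | x⁻¹ * β x ∈ zpowers a ⊔ Φ}
        one_mem' := by simp
        mul_mem' := fun {x y} hx hy => by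
          show (x * y)⁻¹ * β (x * y) ∈ zpowers a ⊔ Φ
          rw [map_mul, show (x * y)⁻¹ * (β x * β y) = (y⁻¹ * (x⁻¹ * β x) * y⁻¹⁻¹) * (y⁻¹ * β y) by group]
          exact mul_mem (hM.conj_mem _ hx y⁻¹) hy
        inv_mem' := fun {x} hx => by
          show x⁻¹⁻¹ * β x⁻¹ ∈ zpowers a ⊔ Φ
          rw [map_inv, show x⁻¹⁻¹ * (β x)⁻¹ = x * (x⁻¹ * β x)⁻¹ * x⁻¹ by group]
          exact hM.conj_mem _ (inv_mem hx) x }
    intro x
    obtain ⟨m₀, i₀, q₀, rfl⟩ := hgen x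
    have hcK : c ∈ K := by
      show c⁻¹ * β c ∈ zpowers a ⊔ Φ
      rw [image_c_eq hc hcp hba β hβa hβb]
      exact mul_mem (inv_mem hcM) (pow_mem hcM _)
    have hxK : c ^ m₀ * (a ^ i₀ * b ^ q₀) ∈ K :=
      mul_mem (pow_mem hcK m₀) (mul_mem (pow_mem (show a ∈ K from h1) i₀) (pow_mem (show b ∈ K from h2') q₀))
    exact hxK

end Line

section PGroup

open Cfsg

variable {R : Type*} [Group R] [Finite R] {p : ℕ} [hp : Fact p.Prime]

/-- An automorphism group generated displacement cannot be everything in a non-abelian metacyclic group. -/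
theorem line_dichotomy' (h2 : p ≠ 2) (hR : IsPGroup p R) (hm : IsMetacyclic R) (hna : ¬ IsMulCommutative R) :
    (∃ x, x ∉ frattini R ∧ ∀ α : MulAut R, x⁻¹ * α x ∈ frattini R) ∨
      ∃ M : Subgroup R, M ≠ ⊤ ∧ ∀ α : MulAut R, ∀ x, x⁻¹ * α x ∈ M := by
  obtain ⟨S⟩ := MetaOdd.exists_setup hR hm
  have hn : S.n ≠ 0 := by
    intro h0
    apply hna
    have h := MetaOdd.Setup.commutator_eq S h2
    have hc1 : S.c = 1 := by
      have := S.hN
      rwa [h0, pow_zero, orderOf_eq_one_iff] at this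
    refine ⟨⟨fun x y => ?_⟩⟩
    rw [hc1, zpowers_one_eq_bot] at h
    rw [← commutatorElement_eq_one_iff_mul_comm, ← Subgroup.mem_bot, ← h]
    exact commutator_mem_commutator (mem_top x) (mem_top y)
  obtain ⟨N, hN⟩ : ∃ N, N = zpowers (S.c ^ p) := ⟨_, rfl⟩
  haveI hNn : N.Normal := ⟨fun x hx g => by
    rw [hN] at hx ⊢
    obtain ⟨i, rfl⟩ := hx
    show g * (S.c ^ p) ^ i * g⁻¹ ∈ _
    rw [← conj_zpow, ← conj_pow]
    refine zpow_mem ?_ i
    have hcn : g * S.c * g⁻¹ ∈ zpowers S.c := by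
      rw [← MetaOdd.Setup.commutator_eq S h2]
      exact (inferInstance : (commutator R).Normal).conj_mem _
        (by rw [MetaOdd.Setup.commutator_eq S h2]; exact mem_zpowers _) g
    obtain ⟨e, he⟩ := hcn
    rw [← show S.c ^ e = g * S.c * g⁻¹ from he, ← zpow_natCast (S.c ^ e), ← zpow_mul, mul_comm, zpow_mul, zpow_natCast]
    exact zpow_mem (mem_zpowers _) e⟩
  obtain ⟨π, hπ⟩ : ∃ π : R →* R ⧸ N, π = QuotientGroup.mk' N := ⟨_, rfl⟩
  have hπs : Function.Surjective π := hπ ▸ QuotientGroup.mk'_surjective N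
  have hker : ∀ x, π x = 1 ↔ x ∈ N := fun x => by rw [hπ, QuotientGroup.mk'_apply, QuotientGroup.eq_one_iff]
  have hNle : N ≤ frattini R := by
    rw [hN, zpowers_le]
    exact PGroups.pow_mem_frattini hR _
  have hfc : S.c ∈ frattini R := PGroups.commutator_le_frattini hR
    (by rw [MetaOdd.Setup.commutator_eq S h2]; exact mem_zpowers _)
  have hcp : π S.c ^ p = 1 := by rw [← map_pow, hker, hN]; exact mem_zpowers _
  have hc1 : π S.c ≠ 1 := by
    rw [Ne, hker, hN]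
    intro h
    obtain ⟨z, hz⟩ := h
    have h' : S.c ^ ((p : ℤ) * z - 1) = 1 := by
      rw [zpow_sub, zpow_one, zpow_mul, zpow_natCast, show (S.c ^ p) ^ z = S.c from hz, mul_inv_cancel]
    have hdv := orderOf_dvd_iff_zpow_eq_one.mpr h'
    rw [S.hN] at hdv
    have h1 : (p : ℤ) ∣ (p : ℤ) * z - 1 := dvd_trans (by push_cast; exact dvd_pow_self _ hn) hdv
    have h3 : (p : ℤ) ∣ 1 := by simpa using dvd_sub (dvd_mul_right (p : ℤ) z) h1
    exact hp.out.ne_one (Nat.dvd_one.mp (by exact_mod_cast h3))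
  have hcc : ∀ x, π S.c * x = x * π S.c := by
    intro x
    obtain ⟨x, rfl⟩ := hπs x
    obtain ⟨i, j, rfl⟩ := S.gen x
    have h1 : Commute (π S.c) (π S.a) := (Commute.pow_self S.a S.d).map π
    have h2 : Commute (π S.c) (π S.b) := by
      have h3 : π (S.b * S.c * S.b⁻¹) = π S.c := by
        obtain ⟨e, he⟩ := S.hd
        rw [show S.b * S.c * S.b⁻¹ = S.c * (S.c ^ p) ^ e by
          rw [show S.c = S.a ^ S.d from rfl, ← conj_pow, S.conj, ← pow_mul, ← pow_mul, ← pow_mul, ← pow_add]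
          congr 1
          rw [← he]; ring, map_mul, map_pow π (S.c ^ p), map_pow π S.c, hcp, one_pow, mul_one]
      rw [map_mul, map_mul, map_inv, mul_inv_eq_iff_eq_mul] at h3
      exact h3.symm
    rw [map_mul, map_pow π S.a i, map_pow π S.b j]
    exact ((h1.pow_right i).mul_right (h2.pow_right j)).eq
  have hba : π S.b * π S.a = π S.c * (π S.a * π S.b) := by
    rw [← map_mul, ← map_mul, ← map_mul]
    congr 1
    rw [← mul_assoc, show S.c = S.a ^ S.d from rfl, ← pow_succ, add_comm, ← S.conj, inv_mul_cancel_right]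
  have hgen : ∀ x, ∃ m i q : ℕ, x = π S.c ^ m * (π S.a ^ i * π S.b ^ q) := by
    intro x
    obtain ⟨x, rfl⟩ := hπs x
    obtain ⟨i, j, rfl⟩ := S.gen x
    exact ⟨0, i, j, by rw [pow_zero, one_mul, map_mul, map_pow, map_pow]⟩
  haveI : ((frattini R).map π).Normal := Subgroup.Normal.map inferInstance π hπs
  have hmem : ∀ x, π x ∈ (frattini R).map π → x ∈ frattini R := by
    rintro x ⟨y, hy, e⟩
    have : x * y⁻¹ ∈ N := by rw [← hker, map_mul, map_inv, e, mul_inv_cancel]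
    simpa using mul_mem (hNle this) hy
  have hfra : ∀ H : Subgroup (R ⧸ N), H ⊔ (frattini R).map π = ⊤ → H = ⊤ := by
    intro H hH
    have h := congrArg (fun X => X.comap π) hH
    simp only [Subgroup.comap_top] at h
    have h' : H.comap π ⊔ frattini R = ⊤ := by
      rw [eq_top_iff, ← h]
      intro x hx
      obtain ⟨u, hu, v, hv, e⟩ := Subgroup.mem_sup_of_normal_right.mp (Subgroup.mem_comap.mp hx)
      obtain ⟨y, hy, rfl⟩ := hv
      have e' : π (x * y⁻¹) = u := by rw [map_mul, map_inv, ← e, mul_inv_cancel_right]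
      simpa using mul_mem (mem_sup_left (T := frattini R) (show x * y⁻¹ ∈ H.comap π by
        rw [Subgroup.mem_comap, e']; exact hu)) (mem_sup_right hy)
    have h3 := frattini_nongenerating h'
    rw [eq_top_iff]
    intro x _
    obtain ⟨y, rfl⟩ := hπs x
    exact (h3 ▸ mem_top y : y ∈ H.comap π)
  have hres : ∀ α : MulAut R, ∃ β : R ⧸ N →* R ⧸ N, Function.Injective β ∧ ∀ x, β (π x) = π (α x) := by
    intro α
    have hle : N ≤ N.comap α.toMonoidHom := by
      intro x hx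
      rw [hN] at hx
      obtain ⟨i, rfl⟩ := hx
      have hcn : α S.c ∈ zpowers S.c := by
        rw [← MetaOdd.Setup.commutator_eq S h2]
        have : (commutator R).map α.toMonoidHom ≤ commutator R := by
          rw [_root_.commutator_def, Subgroup.map_commutator]
          exact commutator_mono le_top le_top
        exact this ⟨S.c, by rw [SetLike.mem_coe, MetaOdd.Setup.commutator_eq S h2]; exact mem_zpowers _, rfl⟩
      obtain ⟨e, he⟩ := hcn
      rw [Subgroup.mem_comap, hN]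
      show α ((S.c ^ p) ^ i) ∈ _
      rw [map_zpow, map_pow, ← show S.c ^ e = α S.c from he, ← zpow_natCast (S.c ^ e), ← zpow_mul, ← zpow_mul,
        show e * (p * i) = (p : ℤ) * (e * i) by ring, zpow_mul, zpow_natCast]
      exact zpow_mem (mem_zpowers _) _
    refine ⟨QuotientGroup.map N N α.toMonoidHom hle, ?_, fun x => by rw [hπ]; rfl⟩
    refine Finite.injective_iff_surjective.mpr fun y => ?_
    obtain ⟨y, rfl⟩ := QuotientGroup.mk'_surjective N y
    exact ⟨QuotientGroup.mk' N (α.symm y), by simp⟩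
  rcases line_dichotomy (a := π S.a) (b := π S.b) (c := π S.c) h2 (hR.of_surjective π hπs) hcc hcp hc1 S.hd
    (by rw [← map_pow]) hba hgen (Φ := (frattini R).map π)
    (fun x => by obtain ⟨y, rfl⟩ := hπs x; exact ⟨y ^ p, PGroups.pow_mem_frattini hR y, map_pow π y p⟩)
    (by
      rw [_root_.commutator_def, ← Subgroup.map_top_of_surjective π hπs, ← Subgroup.map_commutator]
      exact Subgroup.map_mono (PGroups.commutator_le_frattini hR))
    ⟨_, hfc, rfl⟩ hfra with ⟨x, hx, hall⟩ | ⟨M, hM, hall⟩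
  · obtain ⟨x, rfl⟩ := hπs x
    refine Or.inl ⟨x, fun h => hx ⟨x, h, rfl⟩, fun α => hmem _ ?_⟩
    obtain ⟨β, hβ, e⟩ := hres α
    rw [map_mul, map_inv, ← e]
    exact hall β hβ
  · refine Or.inr ⟨M.comap π, fun h => hM ?_, fun α x => ?_⟩
    · rw [← Subgroup.map_comap_eq_self_of_surjective hπs M, h, Subgroup.map_top_of_surjective π hπs]
    · obtain ⟨β, hβ, e⟩ := hres α
      rw [Subgroup.mem_comap, map_mul, map_inv, ← e]
      exact hall β hβ _

end PGroup

section Action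

open Cfsg

variable {G : Type*} [Group G] [Finite G] {p : ℕ} [hp : Fact p.Prime] {R A H : Subgroup G}

/-- A fixed element of an abelian quotient generated by displacements is trivial. -/
theorem norm_trick {W : Type*} [CommGroup W] (f : ↥H →* W) (hA : A ≤ normalizer (H : Set G))
    (hgen : ⁅H, A⁆ = H) {v : ↥H}
    (hv : ∀ (a : A), f ⟨a * v * (a : G)⁻¹, (mem_normalizer_iff.mp (hA a.2) _).mp v.2⟩ = f v) :
    f v ^ Nat.card A = 1 := by
  haveI := Fintype.ofFinite A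
  let η : ↥H →* W :=
    { toFun := fun x => ∏ a : A, f ⟨a * x * (a : G)⁻¹, (mem_normalizer_iff.mp (hA a.2) _).mp x.2⟩
      map_one' := Finset.prod_eq_one fun a _ => by
        rw [← map_one f]; congr 1; exact Subtype.ext (by simp)
      map_mul' := fun x y => by
        rw [← Finset.prod_mul_distrib]
        refine Finset.prod_congr rfl fun a _ => ?_
        rw [← map_mul]; congr 1; exact Subtype.ext (by simp [mul_assoc]) }
  have hη : ∀ x, η x = 1 := by
    have hK : η.ker.map H.subtype = H := by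
      refine le_antisymm (Subgroup.map_subtype_le _) ?_
      conv_lhs => rw [← hgen]
      rw [commutator_le]
      intro x hx b hb
      have hcomm : ⁅x, b⁆ ∈ H := hgen ▸ commutator_mem_commutator hx hb
      refine ⟨⟨⁅x, b⁆, hcomm⟩, ?_, rfl⟩
      rw [SetLike.mem_coe, MonoidHom.mem_ker]
      have hx' : b * x⁻¹ * b⁻¹ ∈ H := (mem_normalizer_iff.mp (hA hb) _).mp (inv_mem hx)
      have e : (⟨⁅x, b⁆, hcomm⟩ : ↥H) = ⟨x, hx⟩ * ⟨b * x⁻¹ * b⁻¹, hx'⟩ :=
        Subtype.ext (by simp [commutatorElement_def, mul_assoc])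
      rw [e, map_mul, mul_eq_one_iff_eq_inv, ← map_inv]
      show ∏ a : A, _ = ∏ a : A, _
      refine Fintype.prod_equiv (Equiv.mulRight (⟨b, hb⟩ : A)⁻¹) _ _ fun a => ?_
      congr 1
      exact Subtype.ext (by simp [mul_assoc])
    intro x
    obtain ⟨y, hy, hyx⟩ : (x : G) ∈ η.ker.map H.subtype := hK.symm ▸ x.2
    rw [show x = y from Subtype.ext hyx.symm]
    exact MonoidHom.mem_ker.mp hy
  have := hη v
  rw [show η v = ∏ _a : A, f v from Finset.prod_congr rfl fun a _ => hv a, Finset.prod_const, Finset.card_univ,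
    ← Nat.card_eq_fintype_card] at this
  exact this

theorem meta_sub (hm : IsMetacyclic ↥R) (hH : H ≤ R) : IsMetacyclic ↥H := by
  obtain ⟨N, hNn, hNc, hQc⟩ := hm
  obtain ⟨f, hf⟩ : ∃ f : ↥H →* ↥R, f = Subgroup.inclusion hH := ⟨_, rfl⟩
  have hfi : Function.Injective f := hf ▸ Subgroup.inclusion_injective hH
  obtain ⟨g, hg⟩ : ∃ g : ↥H →* ↥R ⧸ N, g = (QuotientGroup.mk' N).comp f := ⟨_, rfl⟩
  refine ⟨g.ker, inferInstance, ?_, ?_⟩
  · have hk : ∀ x : g.ker, f x ∈ N := fun x => by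
      have := (DFunLike.congr_fun hg x.1).symm.trans (MonoidHom.mem_ker.mp x.2)
      rwa [MonoidHom.comp_apply, QuotientGroup.mk'_apply, QuotientGroup.eq_one_iff] at this
    refine isCyclic_of_injective ((f.comp g.ker.subtype).codRestrict N hk) fun x y hxy => ?_
    exact Subtype.ext (hfi (congrArg Subtype.val hxy))
  · haveI := hQc
    exact isCyclic_of_surjective (QuotientGroup.quotientKerEquivRange g).symm (MulEquiv.surjective _)

/-- Every element of order `p` lies in a non-cyclic subgroup. -/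
theorem omega_le (h2 : p ≠ 2) (hR : IsPGroup p R) (hm : IsMetacyclic ↥R) (hH : H ≤ R) (hnc : ¬ IsCyclic ↥H)
    {x : G} (hx : x ∈ R) (hxp : x ^ p = 1) : x ∈ H := by
  obtain ⟨E, hEc, -, hall⟩ := Cfsg.Lib.Fusion.exists_small_omega_of_metacyclic hR h2 hm
  obtain ⟨E₀, -, hEe, hE₀c⟩ := Cfsg.Lib.SolvStruct.exists_normal_elementary_sq h2 (hR.to_le hH) hnc
  have hle : E₀.map H.subtype ≤ E.map R.subtype := by
    rintro _ ⟨e, he, rfl⟩
    refine ⟨⟨e, hH e.2⟩, hall _ (Subtype.ext ?_), rfl⟩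
    simpa using congrArg Subtype.val (hEe.2 e he)
  have heq := Subgroup.eq_of_le_of_card_ge hle (by
    rw [Subgroup.card_subtype, Subgroup.card_subtype, hE₀c]; exact hEc)
  obtain ⟨e, -, rfl⟩ : x ∈ E₀.map H.subtype := heq.symm ▸ ⟨⟨x, hx⟩, hall _ (Subtype.ext hxp), rfl⟩
  exact e.2

theorem exists_order_p (hH : IsPGroup p H) (h : H ≠ ⊥) : ∃ x ∈ H, x ≠ 1 ∧ x ^ p = 1 := by
  haveI : Nontrivial ↥H := (Subgroup.nontrivial_iff_ne_bot H).mpr h
  obtain ⟨k, hc⟩ := IsPGroup.iff_card.mp hH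
  have hk : 0 < k := Nat.pos_of_ne_zero fun h0 => by
    rw [h0, pow_zero] at hc
    exact (Finite.one_lt_card (α := ↥H)).ne hc.symm
  obtain ⟨x, hx⟩ := exists_prime_orderOf_dvd_card' (G := ↥H) p (hc ▸ dvd_pow_self p hk.ne')
  refine ⟨x, x.2, fun h => ?_, ?_⟩
  · rw [show x = 1 from Subtype.ext h, orderOf_one] at hx
    exact hp.out.one_lt.ne hx
  · have := congrArg Subtype.val (pow_orderOf_eq_one x)
    rw [hx] at this
    exact this

/-- Displacements of a non-abelian metacyclic group do not generate it. -/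
theorem commutator_ne_self (h2 : p ≠ 2) (hH : IsPGroup p H) (hm : IsMetacyclic ↥H) (hA : A ≤ normalizer (H : Set G))
    (hcop : (Nat.card A).Coprime p) (hna : ¬ IsMulCommutative ↥H) : ⁅H, A⁆ ≠ H := by
  intro hgen
  obtain ⟨α, hα⟩ : ∃ α : A → MulAut ↥H, ∀ (a : A) (x : ↥H), (α a x : G) = a * x * (a : G)⁻¹ :=
    ⟨fun a => H.normalizerMonoidHom ⟨a, hA a.2⟩, fun a x => rfl⟩
  rcases line_dichotomy' h2 hH hm hna with ⟨v, hv, hfix⟩ | ⟨M, hM, hall⟩
  · haveI hc := PGroups.isMulCommutative_quotient_frattini hH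
    letI : CommGroup (↥H ⧸ frattini ↥H) := { (inferInstance : Group (↥H ⧸ frattini ↥H)) with mul_comm := hc.is_comm.comm }
    have h := norm_trick (W := ↥H ⧸ frattini ↥H) (QuotientGroup.mk' _) hA hgen (v := v) fun a => by
      rw [QuotientGroup.mk'_apply, QuotientGroup.mk'_apply]
      refine (QuotientGroup.eq.mpr ?_).symm
      have := hfix (α a)
      rwa [show α a v = ⟨_, (mem_normalizer_iff.mp (hA a.2) _).mp v.2⟩ from Subtype.ext (hα a v)] at this
    rw [QuotientGroup.mk'_apply] at h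
    have h1 := PGroups.pow_prime_quotient_frattini hH (QuotientGroup.mk v)
    have h3 := Nat.eq_one_of_dvd_coprimes hcop (orderOf_dvd_of_pow_eq_one h) (orderOf_dvd_of_pow_eq_one h1)
    rw [orderOf_eq_one_iff, QuotientGroup.eq_one_iff] at h3
    exact hv h3
  · refine hM (Subgroup.map_injective H.subtype_injective ?_)
    rw [← MonoidHom.range_eq_map, Subgroup.range_subtype]
    refine le_antisymm (Subgroup.map_subtype_le _) ?_
    conv_lhs => rw [← hgen]
    rw [commutator_le]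
    intro x hx a ha
    have h := hall (α ⟨a, ha⟩) ⟨x, hx⟩⁻¹
    rw [inv_inv] at h
    refine ⟨_, h, ?_⟩
    simp [hα, commutatorElement_def, mul_assoc]

theorem coprime_structure (h2 : p ≠ 2) (hR : IsPGroup p R) (hm : IsMetacyclic ↥R) (hA : A ≤ normalizer (R : Set G))
    (hcop : (Nat.card A).Coprime p) :
    IsMulCommutative ↥⁅R, A⁆ ∧ ⁅R, A⁆ ⊔ (R ⊓ centralizer (A : Set G)) = R ∧
      ⁅R, A⁆ ⊓ (R ⊓ centralizer (A : Set G)) = ⊥ ∧
      (¬ IsMulCommutative R → ¬ A ≤ centralizer (R : Set G) →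
        ⁅R, A⁆ ≠ ⊥ ∧ IsCyclic ↥⁅R, A⁆ ∧ (R ⊓ centralizer (A : Set G)) ≠ ⊥ ∧
          IsCyclic ↥(R ⊓ centralizer (A : Set G)) ∧ ⁅R, R⁆ ≤ ⁅R, A⁆) := by
  have hRn : Group.IsSolvable ↥R := by
    haveI := hR.isNilpotent
    infer_instance
  obtain ⟨k, hk⟩ := IsPGroup.iff_card.mp hR
  have hcopR : (Nat.card A).Coprime (Nat.card R) := hk ▸ hcop.pow_right k
  obtain ⟨K, hK⟩ : ∃ K, K = ⁅R, A⁆ := ⟨_, rfl⟩
  obtain ⟨C, hC⟩ : ∃ C, C = R ⊓ centralizer (A : Set G) := ⟨_, rfl⟩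
  have hKR : K ≤ R := hK ▸ Coprime.commutator_le_of_le_normalizer hA
  have hKA : A ≤ normalizer (K : Set G) := hK ▸ Coprime.le_normalizer_commutator_right A R
  have hKn : R ≤ normalizer (K : Set G) := hK ▸ Coprime.le_normalizer_commutator_left A R
  have hKK : ⁅K, A⁆ = K := hK ▸ Coprime.commutator_commutator_eq hA hcopR (Or.inr hRn)
  have hsup : K ⊔ C = R := hK ▸ hC ▸ Coprime.commutator_sup_centralizer hA hcopR (Or.inr hRn)
  have hKp : IsPGroup p K := hR.to_le hKR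
  have hCR : C ≤ R := hC ▸ inf_le_left
  have hKab : IsMulCommutative ↥K := by
    by_contra hna
    exact commutator_ne_self h2 hKp (meta_sub hm hKR) hKA hcop hna hKK
  have hinf : K ⊓ C = ⊥ := by
    rw [eq_bot_iff]
    rintro x ⟨hxK, hxC⟩
    rw [SetLike.mem_coe, hC] at hxC
    letI : CommGroup ↥K := { (inferInstance : Group ↥K) with mul_comm := hKab.is_comm.comm }
    have h := norm_trick (MonoidHom.id ↥K) hKA hKK (v := ⟨x, hxK⟩) fun a => Subtype.ext (by
      show (a : G) * x * (a : G)⁻¹ = x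
      rw [mem_centralizer_iff.mp hxC.2 a a.2, mul_inv_cancel_right])
    obtain ⟨e, he⟩ := hKp ⟨x, hxK⟩
    have h3 := Nat.eq_one_of_dvd_coprimes (hcop.pow_right e) (orderOf_dvd_of_pow_eq_one h)
      (orderOf_dvd_of_pow_eq_one he)
    rw [orderOf_eq_one_iff] at h3
    exact Subgroup.mem_bot.mpr (congrArg Subtype.val h3)
  subst hK hC
  refine ⟨hKab, hsup, hinf, fun hna hnc => ?_⟩
  have hK1 : ⁅R, A⁆ ≠ ⊥ := fun h => hnc (by
    rw [commutator_comm] at h
    exact commutator_eq_bot_iff_le_centralizer.mp h)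
  have hC1 : R ⊓ centralizer (A : Set G) ≠ ⊥ := by
    intro h
    rw [h, sup_bot_eq] at hsup
    exact hna (hsup ▸ hKab)
  have hKc : IsCyclic ↥⁅R, A⁆ := by
    by_contra hcy
    obtain ⟨x, hx, hx1, hxp⟩ := exists_order_p (hR.to_le inf_le_left) hC1
    exact hx1 (Subgroup.mem_bot.mp (hinf ▸ ⟨omega_le h2 hR hm hKR hcy hx.1 hxp, hx⟩))
  have hCc : IsCyclic ↥(R ⊓ centralizer (A : Set G)) := by
    by_contra hcy
    obtain ⟨x, hx, hx1, hxp⟩ := exists_order_p hKp hK1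
    exact hx1 (Subgroup.mem_bot.mp (hinf ▸ ⟨hx, omega_le h2 hR hm inf_le_left hcy (hKR hx) hxp⟩))
  refine ⟨hK1, hKc, hC1, hCc, ?_⟩
  rw [commutator_le]
  intro x hx y hy
  have hn : R ⊓ centralizer (A : Set G) ≤ normalizer ((⁅R, A⁆ : Subgroup G) : Set G) := inf_le_left.trans hKn
  obtain ⟨u, hu, v, hv, rfl⟩ := (Coprime.mem_sup_of_le_normalizer hn).mp (hsup.symm ▸ hx)
  obtain ⟨u', hu', v', hv', rfl⟩ := (Coprime.mem_sup_of_le_normalizer hn).mp (hsup.symm ▸ hy)
  have hc : v * v' = v' * v := by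
    letI := hCc.commGroup
    exact congrArg Subtype.val (mul_comm (⟨v, hv⟩ : ↥(R ⊓ centralizer (A : Set G))) ⟨v', hv'⟩)
  have key : ⁅u * v, u' * v'⁆ = u * (v * u' * v⁻¹) * ((v * v' * v⁻¹) * u⁻¹ * (v * v' * v⁻¹)⁻¹) * u'⁻¹ := by
    calc ⁅u * v, u' * v'⁆
        = u * (v * u' * v⁻¹) * ((v * v' * v⁻¹) * u⁻¹ * (v * v' * v⁻¹)⁻¹) * ((v * v' * v⁻¹) * (v'⁻¹ * u'⁻¹)) := by
          simp only [commutatorElement_def]; group
      _ = _ := by rw [hc, mul_inv_cancel_right, mul_inv_cancel_left]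
  rw [key]
  exact mul_mem (mul_mem (mul_mem hu ((mem_normalizer_iff.mp (hn hv) _).mp hu'))
    ((mem_normalizer_iff.mp (hn (mul_mem (mul_mem hv hv') (inv_mem hv))) _).mp (inv_mem hu))) (inv_mem hu')

end Action

end Cfsg.Lib.MetaCoprime
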