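import Cfsg.Agent.PGroups.OmegaRankTwo
import Cfsg.Agent.PGroups.ClassThree
import Cfsg.Prelude.Def_OddOrderLocal

/-!
Small Omega in quotients, and Huppert's criterion for metacyclic groups.
-/

set_option autoImplicit false
set_option linter.unusedSectionVars false
set_option linter.style.haveILetI false

namespace Cfsg.Lib.PGroups.OmegaQuotient

open Subgroup
open scoped commutatorElement

variable {R : Type*} [Group R] [Finite R] {p : ℕ} [hp : Fact p.Prime]

/-- A quotient by a central subgroup of order `p` has no exponent-`p` subgroup of order `p³`. -/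
theorem no_cube (h3 : 3 < p) (hR : IsPGroup p R) (hO : Nat.card ↥(Cfsg.omegaOne p (⊤ : Subgroup R)) ≤ p ^ 2)
    (Z : Subgroup R) [Z.Normal] (hZc : Z ≤ center R) (hZ : Nat.card Z = p)
    (E : Subgroup (R ⧸ Z)) (hexp : ∀ u ∈ E, u ^ p = 1) : Nat.card E ≠ p ^ 3 := by
  intro hE
  set π := QuotientGroup.mk' Z with hπ
  set N := E.comap π with hN
  have hNp : ∀ x ∈ N, x ^ p ∈ Z := fun x hx => by
    rw [← QuotientGroup.eq_one_iff]
    show π (x ^ p) = 1
    rw [map_pow]
    exact hexp _ hx
  have hEp : IsPGroup p E := (hR.to_quotient Z).to_subgroup E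
  -- the commutator subgroup of `E` is central in `E`
  have hcen : ∀ a b : E, ⁅a, b⁆ ∈ center E := by
    haveI : Nontrivial E := Finite.one_lt_card_iff_nontrivial.mp (hE ▸ Nat.one_lt_pow (by omega) hp.out.one_lt)
    have hC : Nontrivial (center E) := hEp.center_nontrivial
    obtain ⟨k, hk, hkc⟩ := ((hEp.to_subgroup (center E))).nontrivial_iff_card.mp hC
    obtain ⟨j, hj⟩ := hEp.index (center E)
    have hm := (center E).card_mul_index
    rw [hkc, hj, hE, ← pow_add] at hm
    have hkj := Nat.pow_right_injective hp.out.two_le hm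
    intro a b
    have hcom : ∀ u v : E ⧸ center E, u * v = v * u := by
      rcases (show j = 0 ∨ j = 1 ∨ j = 2 by omega) with rfl | rfl | rfl
      · haveI : Subsingleton (E ⧸ center E) :=
          (Nat.card_eq_one_iff_unique.mp ((Subgroup.index_eq_card _).symm.trans hj)).1
        exact fun u v => Subsingleton.elim _ _
      · haveI : IsCyclic (E ⧸ center E) :=
          isCyclic_of_prime_card (p := p) ((Subgroup.index_eq_card _).symm.trans (hj.trans (pow_one p)))
        exact mul_comm'
      · letI : CommGroup (E ⧸ center E) :=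
          IsPGroup.commGroupOfCardEqPrimeSq ((Subgroup.index_eq_card _).symm.trans hj)
        exact mul_comm
    rw [← QuotientGroup.eq_one_iff]
    show QuotientGroup.mk' (center E) ⁅a, b⁆ = 1
    rw [map_commutatorElement]
    exact commutatorElement_eq_one_iff_mul_comm.mpr (hcom _ _)
  have hef : ∀ x ∈ N, ∀ y ∈ N, ∀ w ∈ N, ⁅x, ⁅y, w⁆⁆ ∈ Z := by
    intro x hx y hy w hw
    have h := congrArg Subtype.val (commutatorElement_eq_one_iff_mul_comm.mpr
      (Subgroup.mem_center_iff.mp (hcen ⟨π y, hy⟩ ⟨π w, hw⟩) ⟨π x, hx⟩))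
    rw [← QuotientGroup.eq_one_iff]
    show π ⁅x, ⁅y, w⁆⁆ = 1
    rw [map_commutatorElement, map_commutatorElement]
    simpa [commutatorElement_def] using h
  have hzp : ∀ z ∈ Z, z ^ p = 1 := fun z hz => by
    have := congrArg Subtype.val (pow_card_eq_one' (x := (⟨z, hz⟩ : Z)))
    rwa [hZ, SubgroupClass.coe_pow] at this
  have hch : ∀ z ∈ Z, ∀ m, p ∣ m → z ^ m = 1 := fun z hz m ⟨q, hq⟩ => by
    rw [hq, pow_mul, hzp z hz, one_pow]
  obtain ⟨hd2, hd3⟩ := Cfsg.Lib.PGroups.OmegaRankTwo.dvd_choose (p := p) h3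
  have hcp : ∀ x ∈ N, ∀ y ∈ N, ⁅y, x⁆ ^ p = 1 := by
    intro x hx y hy
    set c := ⁅y, x⁆ with hc
    have hcN : c ∈ N := by
      rw [hc, commutatorElement_def]
      exact mul_mem (mul_mem (mul_mem hy hx) (inv_mem hy)) (inv_mem hx)
    have hxp := Subgroup.mem_center_iff.mp (hZc (hNp x hx)) y
    have h1 : (c * x) ^ p = x ^ p := by
      rw [show c * x = y * x * y⁻¹ by rw [hc, commutatorElement_def]; group, conj_pow, hxp, mul_inv_cancel_right]
    have hxc : ⁅x, c⁆ ∈ Z := hef x hx y hy x hx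
    have hk : ⁅x, c⁆ ∈ center R := hZc hxc
    have e1 : ⁅c, ⁅x, c⁆⁆ = 1 :=
      commutatorElement_eq_one_iff_mul_comm.mpr (Subgroup.mem_center_iff.mp hk c)
    have e2 : ⁅x, ⁅x, c⁆⁆ = 1 :=
      commutatorElement_eq_one_iff_mul_comm.mpr (Subgroup.mem_center_iff.mp hk x)
    have h := (Cfsg.Lib.PGroups.mul_pow_class_three (x := c) (y := x) (by rw [e1]; exact one_mem _)
      (by rw [e2]; exact one_mem _) p).2.2
    rw [e1, e2, one_pow, one_pow, one_mul, one_mul, hch _ hxc _ hd2, one_mul, h1] at h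
    exact mul_eq_right.mp h.symm
  let φ : N →* R := MonoidHom.mk' (fun x => (x : R) ^ p) fun x y => by
    show ((x : R) * (y : R)) ^ p = (x : R) ^ p * (y : R) ^ p
    have ee : ⁅(x : R), ⁅(y : R), (x : R)⁆⁆ ∈ Z := hef _ x.2 _ y.2 _ x.2
    have ff : ⁅(y : R), ⁅(y : R), (x : R)⁆⁆ ∈ Z := hef _ y.2 _ y.2 _ x.2
    have h := (Cfsg.Lib.PGroups.mul_pow_class_three (x := (x : R)) (y := (y : R)) (hZc ee) (hZc ff) p).2.2
    obtain ⟨q, hq⟩ := hd2
    rw [hch _ ee _ (dvd_add (Dvd.dvd.mul_left hd3 2) ⟨q, hq⟩), hch _ ff _ hd3,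
      hq, pow_mul, hcp _ x.2 _ y.2, one_pow, one_mul, one_mul, one_mul] at h
    exact h
  have hker : Nat.card φ.ker ≤ p ^ 2 := by
    refine le_trans (Nat.card_le_card_of_injective (fun x : φ.ker =>
      (⟨((x : N) : R), Subgroup.subset_closure ⟨Subgroup.mem_top _, x.2⟩⟩ : Cfsg.omegaOne p (⊤ : Subgroup R)))
      fun x y h => ?_) hO
    exact Subtype.ext (Subtype.ext (congrArg (fun z : Cfsg.omegaOne p (⊤ : Subgroup R) => (z : R)) h))
  have hrange : Nat.card φ.range ≤ p := by
    rw [← hZ]
    refine Subgroup.card_le_of_le ?_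
    rintro _ ⟨x, rfl⟩
    exact hNp _ x.2
  have hcard : Nat.card N = p * p ^ 3 := by
    have h1 : Z ≤ N := fun z hz => by
      show π z ∈ E
      rw [show π z = 1 from (QuotientGroup.eq_one_iff z).mpr hz]
      exact one_mem E
    have h2 := Subgroup.relIndex_mul_relIndex (⊥ : Subgroup R) Z N bot_le h1
    rw [Subgroup.relIndex_bot_left, Subgroup.relIndex_bot_left, hZ] at h2
    rw [← h2]
    congr 1
    have h3 := Subgroup.relIndex_comap (⊥ : Subgroup (R ⧸ Z)) π N
    rw [MonoidHom.comap_bot, QuotientGroup.ker_mk', Subgroup.map_comap_eq_self_of_surjective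
      (QuotientGroup.mk'_surjective Z), Subgroup.relIndex_bot_left, hE] at h3
    exact h3
  have hlt : p * p ^ 3 ≤ p ^ 2 * p := by
    rw [← hcard, ← φ.ker.card_mul_index, Subgroup.index_ker]
    exact Nat.mul_le_mul hker hrange
  rw [← pow_succ, ← pow_succ'] at hlt
  have := (Nat.pow_le_pow_iff_right hp.out.one_lt).mp hlt
  omega

theorem omega_quotient_central (h3 : 3 < p) (hR : IsPGroup p R)
    (hO : Nat.card ↥(Cfsg.omegaOne p (⊤ : Subgroup R)) ≤ p ^ 2) (Z : Subgroup R) [Z.Normal]
    (hZc : Z ≤ center R) (hZ : Nat.card Z = p) :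
    Nat.card ↥(Cfsg.omegaOne p (⊤ : Subgroup (R ⧸ Z))) ≤ p ^ 2 := by
  have hQ := hR.to_quotient Z
  have key : ∀ E : Subgroup (R ⧸ Z), (∀ u ∈ E, u ^ p = 1) → Nat.card E ≤ p ^ 2 := by
    intro E hexp
    obtain ⟨k, hk⟩ := IsPGroup.iff_card.mp (hQ.to_subgroup E)
    rcases Nat.lt_or_ge k 3 with hlt | hge
    · rw [hk]
      exact Nat.pow_le_pow_right hp.out.pos (by omega)
    exfalso
    obtain ⟨H, hH⟩ := Sylow.exists_subgroup_card_pow_prime p (G := E) (n := 3) (hk ▸ pow_dvd_pow p hge)
    refine no_cube h3 hR hO Z hZc hZ (H.map E.subtype) ?_ (by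
      rw [Subgroup.card_map_of_injective E.subtype_injective, hH])
    rintro _ ⟨u, -, rfl⟩
    exact hexp _ u.2
  refine key _ fun g hg => ?_
  exact Cfsg.Lib.PGroups.OmegaRankTwo.omega_exponent h3 hQ (fun E hE => key E hE.2) _ ⊤ le_rfl g hg

theorem omegaOne_top_equiv_le {A B : Type*} [Group A] [Group B] [Finite A] (e : A ≃* B) :
    Nat.card ↥(Cfsg.omegaOne p (⊤ : Subgroup B)) ≤ Nat.card ↥(Cfsg.omegaOne p (⊤ : Subgroup A)) := by
  haveI : Finite B := Finite.of_equiv A e.toEquiv
  rw [← Subgroup.card_map_of_injective (f := e.toMonoidHom) e.injective (K := Cfsg.omegaOne p (⊤ : Subgroup A))]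
  refine Subgroup.card_le_of_le ((closure_le _).mpr ?_)
  rintro y ⟨-, hy⟩
  exact ⟨e.symm y, subset_closure ⟨mem_top _, by rw [← map_pow, hy, map_one]⟩, e.apply_symm_apply y⟩

theorem omega_quotient (h3 : 3 < p) : ∀ (n : ℕ) (R : Type u_1) [Group R] [Finite R], Nat.card R ≤ n →
    IsPGroup p R → Nat.card ↥(Cfsg.omegaOne p (⊤ : Subgroup R)) ≤ p ^ 2 →
    ∀ (T : Subgroup R) [T.Normal], Nat.card ↥(Cfsg.omegaOne p (⊤ : Subgroup (R ⧸ T))) ≤ p ^ 2 := by
  intro n
  induction n with
  | zero => intro R _ _ h; exact absurd h (Nat.not_le.mpr Nat.card_pos)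
  | succ n ih =>
    intro R _ _ hn hR hO T _
    by_cases hT : T = ⊥
    · subst hT
      exact (omegaOne_top_equiv_le (QuotientGroup.quotientBot (G := R)).symm).trans hO
    obtain ⟨z, hzT, hzc, hz⟩ := Cfsg.Lib.PGroups.exists_mem_center_of_normal_ne_bot hR hT
    set Z := zpowers z
    have hZc : Z ≤ center R := zpowers_le.mpr hzc
    haveI : Z.Normal := ⟨fun u hu g => by
      rw [mem_center_iff.mp (hZc hu) g, mul_inv_cancel_right]; exact hu⟩
    have hZT : Z ≤ T := zpowers_le.mpr hzT
    have hcard : Nat.card Z = p := by rw [Nat.card_zpowers, hz]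
    have hq := omega_quotient_central h3 hR hO Z hZc hcard
    have hlt : Nat.card (R ⧸ Z) ≤ n := by
      have h1 := Subgroup.card_eq_card_quotient_mul_card_subgroup Z
      rw [hcard] at h1
      have h2 := hp.out.two_le
      have h4 : 0 < Nat.card (R ⧸ Z) := Nat.card_pos
      nlinarith
    exact (omegaOne_top_equiv_le (QuotientGroup.quotientQuotientEquivQuotient Z T hZT)).trans
      (ih (R ⧸ Z) hlt (hR.to_quotient Z) hq (T.map (QuotientGroup.mk' Z)))

/-- Huppert's criterion. -/
theorem isMetacyclic_of_omega (h3 : 3 < p) : ∀ (n : ℕ) (R : Type u_1) [Group R] [Finite R], Nat.card R ≤ n →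
    IsPGroup p R → Nat.card ↥(Cfsg.omegaOne p (⊤ : Subgroup R)) ≤ p ^ 2 → Cfsg.IsMetacyclic R := by
  intro n
  induction n with
  | zero => intro R _ _ h; exact absurd h (Nat.not_le.mpr Nat.card_pos)
  | succ n ih =>
    intro R _ _ hn hR hO
    classical
    have hidx : (frattini R).index ≤ p ^ 2 := by
      have h := omega_quotient h3 _ R le_rfl hR hO (frattini R)
      rw [Subgroup.index_eq_card]
      refine le_trans (le_of_eq ?_) h
      rw [← Subgroup.card_top]
      refine congrArg (fun H : Subgroup (R ⧸ frattini R) => Nat.card H) (le_antisymm ?_ le_top)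
      exact fun u _ => subset_closure ⟨mem_top u, Cfsg.Lib.PGroups.pow_prime_quotient_frattini hR u⟩
    by_cases hcyc : IsCyclic R
    · haveI := hcyc
      exact ⟨⊤, inferInstance, inferInstance, by
        haveI : Subsingleton (R ⧸ (⊤ : Subgroup R)) := QuotientGroup.subsingleton_quotient_top
        exact isCyclic_of_subsingleton⟩
    have hVp : IsPGroup p (R ⧸ frattini R) := hR.to_quotient _
    obtain ⟨k, hk⟩ := IsPGroup.iff_card.mp hVp
    have hk2 : k = 2 := by
      rw [Subgroup.index_eq_card, hk] at hidx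
      have := (Nat.pow_le_pow_iff_right hp.out.one_lt).mp hidx
      rcases k with _ | _ | k
      · exfalso
        haveI : Subsingleton (R ⧸ frattini R) := (Nat.card_eq_one_iff_unique.mp (hk.trans (pow_zero p))).1
        haveI : IsCyclic (R ⧸ frattini R) := isCyclic_of_subsingleton
        exact hcyc Cfsg.Lib.PGroups.isCyclic_of_isCyclic_quotient_frattini
      · exfalso
        haveI : IsCyclic (R ⧸ frattini R) := isCyclic_of_prime_card (p := p) (hk.trans (pow_one p))
        exact hcyc Cfsg.Lib.PGroups.isCyclic_of_isCyclic_quotient_frattini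
      · omega
    subst hk2
    -- any element outside the Frattini subgroup completes to two generators
    have hgen2 : ∀ v : R, v ∉ frattini R → ∃ y : R, zpowers v ⊔ zpowers y = ⊤ := by
      intro v hv
      set W := zpowers v ⊔ frattini R
      have hWt : W ≠ ⊤ := by
        intro h
        refine hcyc ⟨⟨v, fun x => ?_⟩⟩
        have := frattini_nongenerating h
        exact Subgroup.mem_zpowers_iff.mp (this ▸ mem_top x)
      obtain ⟨y, -, hy⟩ := SetLike.exists_of_lt (lt_top_iff_ne_top.mpr hWt)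
      refine ⟨y, frattini_nongenerating ?_⟩
      set U := (zpowers v ⊔ zpowers y) ⊔ frattini R
      have h1 : frattini R < W := lt_of_le_of_ne le_sup_right fun h => hv (h.ge (mem_sup_left (mem_zpowers v)))
      have h2 : W < U := lt_of_le_of_ne (sup_le (le_sup_left.trans le_sup_left) le_sup_right)
        fun h => hy (h.ge (mem_sup_left (mem_sup_right (mem_zpowers y))))
      have hpos : ∀ A B : Subgroup R, A < B → p * B.index ≤ A.index := by
        intro A B hAB
        rw [← relIndex_mul_index hAB.le]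
        obtain ⟨j, hj⟩ : ∃ j, A.relIndex B = p ^ j := (hR.to_subgroup B).index (A.subgroupOf B)
        refine Nat.mul_le_mul_right _ ?_
        rcases j with _ | j
        · exact absurd (relIndex_eq_one.mp (hj.trans (pow_zero p))) hAB.not_ge
        · rw [hj]; exact Nat.le_self_pow (Nat.succ_ne_zero j) p
      have h3 := hpos _ _ h1
      have h4 := hpos _ _ h2
      rw [Subgroup.index_eq_card (frattini R), hk] at h3
      refine index_eq_one.mp (Nat.le_antisymm ?_ (Nat.one_le_iff_ne_zero.mpr Subgroup.index_ne_zero_of_finite))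
      have h5 : p * (p * U.index) ≤ p * (p * 1) := by
        rw [mul_one, ← pow_two]
        exact (Nat.mul_le_mul_left p h4).trans h3
      exact Nat.le_of_mul_le_mul_left (Nat.le_of_mul_le_mul_left h5 hp.out.pos) hp.out.pos
    have hmeta : ∀ (v : R) [(zpowers v).Normal], v ∉ frattini R → Cfsg.IsMetacyclic R := by
      intro v _ hv
      obtain ⟨y, hy⟩ := hgen2 v hv
      refine ⟨zpowers v, inferInstance, inferInstance, isCyclic_iff_exists_zpowers_eq_top.mpr ⟨(y : R ⧸ zpowers v), ?_⟩⟩
      have := congrArg (Subgroup.map (QuotientGroup.mk' (zpowers v))) hy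
      rw [Subgroup.map_sup, MonoidHom.map_zpowers, MonoidHom.map_zpowers,
        Subgroup.map_top_of_surjective _ (QuotientGroup.mk'_surjective _)] at this
      refine (eq_top_iff).mpr (this ▸ sup_le (zpowers_le.mpr ?_) le_rfl)
      rw [show QuotientGroup.mk' (zpowers v) v = 1 from (QuotientGroup.eq_one_iff v).mpr (mem_zpowers v)]
      exact one_mem _
    by_cases hab : commutator R = ⊥
    · obtain ⟨v, hv⟩ : ∃ v : R, v ∉ frattini R := by
        by_contra h
        push Not at h
        rw [Subgroup.index_eq_card] at hidx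
        have h1 : (frattini R).index = 1 := index_eq_one.mpr (eq_top_iff.mpr fun x _ => h x)
        rw [Subgroup.index_eq_card, hk] at h1
        have := hp.out.two_le
        nlinarith
      have hcom : ∀ a b : R, a * b = b * a := fun a b => commutatorElement_eq_one_iff_mul_comm.mp
        (Subgroup.mem_bot.mp (hab ▸ commutator_mem_commutator (mem_top a) (mem_top b)))
      haveI : (zpowers v).Normal := ⟨fun u hu g => by rw [hcom g u, mul_inv_cancel_right]; exact hu⟩
      exact hmeta v hv
    obtain ⟨z, hzD, hzc, hz⟩ := Cfsg.Lib.PGroups.exists_mem_center_of_normal_ne_bot hR hab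
    set Z := zpowers z with hZdef
    have hZc : Z ≤ center R := zpowers_le.mpr hzc
    haveI : Z.Normal := ⟨fun u hu g => by
      rw [mem_center_iff.mp (hZc hu) g, mul_inv_cancel_right]; exact hu⟩
    have hcard : Nat.card Z = p := by rw [hZdef, Nat.card_zpowers, hz]
    have hlt : Nat.card (R ⧸ Z) ≤ n := by
      have h1 := Subgroup.card_eq_card_quotient_mul_card_subgroup Z
      rw [hcard] at h1
      have h2 := hp.out.two_le
      have h4 : 0 < Nat.card (R ⧸ Z) := Nat.card_pos
      nlinarith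
    obtain ⟨M, hMn, hMc, hMq⟩ := ih (R ⧸ Z) hlt (hR.to_quotient Z) (omega_quotient_central h3 hR hO Z hZc hcard)
    set π := QuotientGroup.mk' Z
    set N := M.comap π with hNdef
    haveI hNn : N.Normal := hMn.comap π
    haveI hNq : IsCyclic (R ⧸ N) := by
      haveI := hMq
      let f : R ⧸ N →* (R ⧸ Z) ⧸ M := QuotientGroup.lift N ((QuotientGroup.mk' M).comp π) fun u hu =>
        MonoidHom.mem_ker.mpr ((QuotientGroup.eq_one_iff (π u)).mpr hu)
      refine isCyclic_of_injective (f := f) ((injective_iff_map_eq_one _).mpr fun u hu => ?_)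
      obtain ⟨w, rfl⟩ := QuotientGroup.mk_surjective u
      exact (QuotientGroup.eq_one_iff w).mpr ((QuotientGroup.eq_one_iff (π w)).mp hu)
    by_cases hNc : IsCyclic N
    · exact ⟨N, hNn, hNc, hNq⟩
    obtain ⟨a', ha'⟩ := (Subgroup.isCyclic_iff_exists_zpowers_eq_top M).mp hMc
    obtain ⟨a, rfl⟩ := QuotientGroup.mk'_surjective Z a'
    have haN : a ∈ N := ha'.le (mem_zpowers _)
    have hNdec : ∀ u ∈ N, ∃ (i : ℤ) (w : R), w ∈ Z ∧ u = a ^ i * w := by
      intro u hu
      obtain ⟨i, hi⟩ := mem_zpowers_iff.mp (ha'.ge hu)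
      refine ⟨i, (a ^ i)⁻¹ * u, ?_, (mul_inv_cancel_left _ _).symm⟩
      rw [← QuotientGroup.eq_one_iff]
      show π ((a ^ i)⁻¹ * u) = 1
      rw [map_mul, map_inv, map_zpow, hi, inv_mul_cancel]
    have haZ : z ∉ zpowers a := by
      intro h
      refine hNc ((Subgroup.isCyclic_iff_exists_zpowers_eq_top N).mpr ⟨a, le_antisymm (zpowers_le.mpr haN) fun u hu => ?_⟩)
      obtain ⟨i, w, hw, rfl⟩ := hNdec u hu
      exact mul_mem (zpow_mem (mem_zpowers a) i) (zpowers_le.mpr h hw)
    obtain ⟨t', ht'⟩ := IsCyclic.exists_zpow_surjective (G := R ⧸ N)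
    obtain ⟨t, rfl⟩ := QuotientGroup.mk_surjective t'
    have hNab : ∀ u ∈ N, ∀ w ∈ N, u * w = w * u := by
      intro u hu w hw
      obtain ⟨i, z1, h1, rfl⟩ := hNdec u hu
      obtain ⟨j, z2, h2, rfl⟩ := hNdec w hw
      have c1 := fun g => mem_center_iff.mp (hZc h1) g
      have c2 := fun g => mem_center_iff.mp (hZc h2) g
      exact (((Commute.zpow_zpow_self a i j).mul_right (c2 (a ^ i))).mul_left
        ((show Commute z1 (a ^ j) from (c1 (a ^ j)).symm).mul_right (show Commute z1 z2 from (c1 z2).symm))).eq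
    set c := t * a * t⁻¹ * a⁻¹ with hcdef
    have hcN : c ∈ N := mul_mem (hNn.conj_mem a haN t) (inv_mem haN)
    -- the derived group is generated by one commutator
    let ψ : N →* R := MonoidHom.mk' (fun u => t * (u : R) * t⁻¹ * (u : R)⁻¹) fun u w => by
      have h1 : (u : R)⁻¹ * (t * (w : R) * t⁻¹ * (w : R)⁻¹) = (t * (w : R) * t⁻¹ * (w : R)⁻¹) * (u : R)⁻¹ :=
        hNab _ (inv_mem u.2) _ (mul_mem (hNn.conj_mem _ w.2 t) (inv_mem w.2))
      show t * ((u : R) * (w : R)) * t⁻¹ * ((u : R) * (w : R))⁻¹ = _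
      calc t * ((u : R) * (w : R)) * t⁻¹ * ((u : R) * (w : R))⁻¹
          = t * (u : R) * t⁻¹ * ((t * (w : R) * t⁻¹ * (w : R)⁻¹) * (u : R)⁻¹) := by group
        _ = t * (u : R) * t⁻¹ * (u : R)⁻¹ * (t * (w : R) * t⁻¹ * (w : R)⁻¹) := by rw [← h1]; group
    have hψ : ψ.range ≤ zpowers c := by
      rintro _ ⟨⟨u, hu⟩, rfl⟩
      obtain ⟨i, w, hw, rfl⟩ := hNdec u hu
      refine ⟨i, ?_⟩
      have hcom : Commute (t * a * t⁻¹) a⁻¹ := hNab _ (hNn.conj_mem a haN t) _ (inv_mem haN)
      show c ^ i = t * (a ^ i * w) * t⁻¹ * (a ^ i * w)⁻¹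
      rw [hcdef, hcom.mul_zpow, conj_zpow, inv_zpow,
        show t * (a ^ i * w) * t⁻¹ * (a ^ i * w)⁻¹ = t * a ^ i * (w * t⁻¹) * w⁻¹ * (a ^ i)⁻¹ by group,
        ← mem_center_iff.mp (hZc hw) t⁻¹]
      group
    have hD : commutator R ≤ zpowers c := by
      have hdecR : ∀ g : R, ∃ j : ℤ, ∃ u ∈ N, g = u * t ^ j := by
        intro g
        obtain ⟨j, hj⟩ := ht' (g : R ⧸ N)
        refine ⟨j, g * (t ^ j)⁻¹, ?_, (inv_mul_cancel_right _ _).symm⟩
        rw [← QuotientGroup.eq_one_iff, QuotientGroup.mk_mul, QuotientGroup.mk_inv, QuotientGroup.mk_zpow]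
        exact mul_inv_eq_one.mpr hj.symm
      haveI hcn : (zpowers c).Normal := by
        refine ⟨fun u hu g => ?_⟩
        obtain ⟨i, rfl⟩ := mem_zpowers_iff.mp hu
        rw [← conj_zpow]
        refine zpow_mem ?_ i
        obtain ⟨j, w, hw, rfl⟩ := hdecR g
        have hconj : ∀ k : ℤ, t ^ k * c * (t ^ k)⁻¹ ∈ zpowers c := by
          have hfwd : ∀ u ∈ zpowers c, t * u * t⁻¹ ∈ zpowers c := by
            intro u hu
            have huN : u ∈ N := zpowers_le.mpr hcN hu
            have h1 := hψ ⟨⟨u, huN⟩, rfl⟩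
            have h2 := mul_mem h1 hu
            simpa [ψ, mul_assoc] using h2
          let K : Subgroup R := zpowers c
          have hmap : K.map (MulAut.conj t).toMonoidHom = K := by
            refine Subgroup.eq_of_le_of_card_ge ?_ (le_of_eq (Subgroup.card_map_of_injective (MulAut.conj t).injective).symm)
            rintro _ ⟨u, hu, rfl⟩
            exact hfwd u hu
          intro k
          have htK : t ∈ normalizer (K : Set R) := mem_normalizer_iff_map_conj_eq.mpr hmap
          exact ((mem_normalizer_iff.mp (zpow_mem htK k)) c).mp (mem_zpowers c)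
        have h2 := hconj j
        have h3 : w * (t ^ j * c * (t ^ j)⁻¹) = (t ^ j * c * (t ^ j)⁻¹) * w :=
          hNab w hw _ (zpowers_le.mpr hcN h2)
        have h4 : w * t ^ j * c * (w * t ^ j)⁻¹ = t ^ j * c * (t ^ j)⁻¹ := by
          rw [mul_inv_rev, show w * t ^ j * c * ((t ^ j)⁻¹ * w⁻¹) = w * (t ^ j * c * (t ^ j)⁻¹) * w⁻¹ by group,
            h3, mul_inv_cancel_right]
        rw [h4]
        exact h2
      refine Subgroup.Normal.quotient_commutative_iff_commutator_le.mp ⟨⟨fun u v => ?_⟩⟩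
      obtain ⟨g, rfl⟩ := QuotientGroup.mk_surjective u
      obtain ⟨g', rfl⟩ := QuotientGroup.mk_surjective v
      have hta : Commute (t : R ⧸ zpowers c) (a : R ⧸ zpowers c) := by
        have h1 : ((c : R) : R ⧸ zpowers c) = 1 := (QuotientGroup.eq_one_iff c).mpr (mem_zpowers c)
        have h2 : (t : R ⧸ zpowers c) * (a : R ⧸ zpowers c) * (t : R ⧸ zpowers c)⁻¹ * (a : R ⧸ zpowers c)⁻¹ = 1 := h1
        rw [mul_inv_eq_one, mul_inv_eq_iff_eq_mul] at h2
        exact h2
      obtain ⟨j, u, hu, rfl⟩ := hdecR g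
      obtain ⟨j', u', hu', rfl⟩ := hdecR g'
      have huu : ∀ u ∈ N, Commute (t : R ⧸ zpowers c) (u : R ⧸ zpowers c) := by
        intro u hu
        obtain ⟨i, w, hw, rfl⟩ := hNdec u hu
        rw [QuotientGroup.mk_mul, QuotientGroup.mk_zpow]
        exact (hta.zpow_right i).mul_right (congrArg (fun x : R => (x : R ⧸ zpowers c)) (mem_center_iff.mp (hZc hw) t))
      have e1 := huu u hu
      have e2 := huu u' hu'
      have e3 : Commute (u : R ⧸ zpowers c) (u' : R ⧸ zpowers c) :=
        congrArg (fun x : R => (x : R ⧸ zpowers c)) (hNab u hu u' hu')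
      rw [QuotientGroup.mk_mul, QuotientGroup.mk_mul, QuotientGroup.mk_zpow, QuotientGroup.mk_zpow]
      exact ((e3.mul_right ((e1.zpow_left j').symm)).mul_left ((e2.zpow_left j).mul_right (Commute.zpow_zpow_self _ j j'))).eq
    -- so the derived group has order `p`
    have hcZ : c ∈ Z := by
      obtain ⟨i, w, hw, hci⟩ := hNdec c hcN
      obtain ⟨e, he⟩ := mem_zpowers_iff.mp (hD hzD)
      obtain ⟨k, hk'⟩ := IsPGroup.iff_orderOf.mp hR (a ^ i)
      rcases k with _ | k
      · rw [pow_zero, orderOf_eq_one_iff] at hk'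
        rw [hci, hk', one_mul]; exact hw
      exfalso
      refine haZ ?_
      have hwp : w ^ p = 1 := by
        have := congrArg Subtype.val (pow_card_eq_one' (x := (⟨w, hw⟩ : Z)))
        rwa [hcard, SubgroupClass.coe_pow] at this
      have hcom : Commute (a ^ i) w := mem_center_iff.mp (hZc hw) _
      -- some power of `c` is `z`, with exponent divisible by the order of `c` over `p`
      by_cases hk0 : k = 0
      · subst hk0
        have hcp : c ^ p = 1 := by
          rw [hci, hcom.mul_pow, hwp, mul_one]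
          rw [pow_succ, pow_zero, one_mul] at hk'
          rw [← hk', pow_orderOf_eq_one]
        have hzc' : zpowers z = zpowers c := by
          refine Subgroup.eq_of_le_of_card_ge (zpowers_le.mpr ⟨e, he⟩) ?_
          rw [Nat.card_zpowers, Nat.card_zpowers, hz]
          exact Nat.le_of_dvd hp.out.pos (orderOf_dvd_of_pow_eq_one hcp)
        have hcz : c ∈ Z := hzc'.ge (mem_zpowers c)
        have haiz : a ^ i ∈ Z := by
          have := mul_mem hcz (inv_mem hw)
          rwa [hci, mul_inv_cancel_right] at this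
        have hzai : zpowers (a ^ i) = Z := by
          refine Subgroup.eq_of_le_of_card_ge (zpowers_le.mpr haiz) ?_
          rw [hcard, Nat.card_zpowers, hk', pow_succ, pow_zero, one_mul]
        exact zpowers_le.mpr (zpow_mem (mem_zpowers a) i) (hzai.ge (mem_zpowers z))
      · have hco : orderOf c = p ^ (k + 1) := by
          refine orderOf_eq_prime_pow ?_ ?_
          · rw [hci, hcom.mul_pow, show p ^ k = p * p ^ (k - 1) by rw [← pow_succ']; congr 1; omega,
              pow_mul w, hwp, one_pow, mul_one, show p * p ^ (k - 1) = p ^ k by rw [← pow_succ']; congr 1; omega]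
            intro h
            have := orderOf_dvd_of_pow_eq_one h
            rw [hk', Nat.pow_dvd_pow_iff_le_right hp.out.one_lt] at this
            omega
          · rw [hci, hcom.mul_pow, pow_succ', pow_mul w, hwp, one_pow, mul_one, ← pow_succ', ← hk', pow_orderOf_eq_one]
        have hpe : z ^ p = 1 := by rw [← hz, pow_orderOf_eq_one]
        have hdiv : (p : ℤ) ∣ e := by
          rw [← he, ← zpow_natCast, ← zpow_mul, ← orderOf_dvd_iff_zpow_eq_one, hco] at hpe
          have h2 : ((p ^ k : ℕ) : ℤ) * p ∣ e * p := by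
            rw [pow_succ] at hpe
            exact_mod_cast hpe
          have h3 := Int.dvd_of_mul_dvd_mul_right (by exact_mod_cast hp.out.ne_zero) h2
          exact (Int.natCast_dvd_natCast.mpr (dvd_pow_self p hk0)).trans h3
        obtain ⟨e', rfl⟩ := hdiv
        rw [← he, hci, hcom.mul_zpow, zpow_mul w, zpow_natCast, hwp, one_zpow, mul_one]
        exact zpow_mem (zpow_mem (mem_zpowers a) i) _
    have hDZ : commutator R ≤ Z := hD.trans (zpowers_le.mpr hcZ)
    have hzp : ∀ u ∈ Z, u ^ p = 1 := fun u hu => by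
      have := congrArg Subtype.val (pow_card_eq_one' (x := (⟨u, hu⟩ : Z)))
      rwa [hcard, SubgroupClass.coe_pow] at this
    obtain ⟨hd2, -⟩ := Cfsg.Lib.PGroups.OmegaRankTwo.dvd_choose (p := p) h3
    let pw : R →* R := MonoidHom.mk' (fun u => u ^ p) fun u w => by
      have hc' : ⁅w, u⁆ ∈ Z := hDZ (commutator_mem_commutator (mem_top w) (mem_top u))
      have e1 : ⁅u, ⁅w, u⁆⁆ = 1 := commutatorElement_eq_one_iff_mul_comm.mpr (mem_center_iff.mp (hZc hc') u)
      have e2 : ⁅w, ⁅w, u⁆⁆ = 1 := commutatorElement_eq_one_iff_mul_comm.mpr (mem_center_iff.mp (hZc hc') w)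
      have h := (Cfsg.Lib.PGroups.mul_pow_class_three (x := u) (y := w) (by rw [e1]; exact one_mem _)
        (by rw [e2]; exact one_mem _) p).2.2
      obtain ⟨q, hq⟩ := hd2
      rw [e1, e2, one_pow, one_pow, one_mul, one_mul, hq, pow_mul, hzp _ hc', one_pow, one_mul] at h
      exact h
    have hpw : pw.range = frattini R := by
      refine Subgroup.eq_of_le_of_card_ge ?_ ?_
      · rintro _ ⟨u, rfl⟩
        exact Cfsg.Lib.PGroups.pow_mem_frattini hR u
      have hker : Nat.card pw.ker ≤ p ^ 2 :=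
        (Subgroup.card_le_of_le (show pw.ker ≤ Cfsg.omegaOne p (⊤ : Subgroup R) from
          fun u hu => subset_closure ⟨mem_top u, hu⟩)).trans hO
      have h1 := pw.ker.card_mul_index
      rw [Subgroup.index_ker] at h1
      have h2 := (frattini R).card_mul_index
      rw [Subgroup.index_eq_card, hk] at h2
      refine Nat.le_of_mul_le_mul_left ?_ (pow_pos hp.out.pos 2)
      rw [mul_comm, h2, ← h1]
      exact Nat.mul_le_mul_right _ hker
    -- a deepest root of `z`
    have hbound : ∀ (j : ℕ) (v : R), v ^ p ^ j = z → j ≤ Nat.card R := by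
      intro j v hv
      have h1 : orderOf v = p ^ (j + 1) := by
        refine orderOf_eq_prime_pow ?_ ?_
        · rw [hv]; intro h; rw [h, orderOf_one] at hz; exact hp.out.ne_one hz.symm
        · rw [pow_succ, pow_mul, hv, ← hz, pow_orderOf_eq_one]
      have h2 : orderOf v ≤ Nat.card R := Nat.le_of_dvd Nat.card_pos (orderOf_dvd_natCard v)
      have h3 := Nat.lt_pow_self hp.out.one_lt (n := j + 1)
      omega
    let J : Set ℕ := {j | ∃ v : R, v ^ p ^ j = z}
    have hJfin : J.Finite := (Set.finite_Iic (Nat.card R)).subset fun j ⟨v, hv⟩ => hbound j v hv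
    obtain ⟨j, ⟨v, hv⟩, hjmax⟩ := Set.exists_max_image J id hJfin ⟨0, z, by rw [pow_zero, pow_one]⟩
    have hvΦ : v ∉ frattini R := by
      rw [← hpw]
      rintro ⟨u, rfl⟩
      have := hjmax (j + 1) ⟨u, by rw [pow_succ', pow_mul]; exact hv⟩
      simp only [id] at this
      omega
    haveI : (zpowers v).Normal := ⟨fun u hu g => by
      have h1 : ⁅g, u⁆ ∈ Z := hDZ (commutator_mem_commutator (mem_top g) (mem_top u))
      have h2 : Z ≤ zpowers v := zpowers_le.mpr ⟨(p ^ j : ℕ), by rw [← hv]; exact zpow_natCast v _⟩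
      have h3 := mul_mem (h2 h1) hu
      rwa [commutatorElement_def, inv_mul_cancel_right] at h3⟩
    exact hmeta v hvΦ

end Cfsg.Lib.PGroups.OmegaQuotient
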