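import Cfsg.Agent.PGroups.OmegaRankTwo
import Cfsg.Agent.PGroups.OmegaQuotient
import Cfsg.Agent.PGroups.MetaCoprime
import Cfsg.Agent.PGroups.CyclicIndexOdd
import Cfsg.Agent.Frobenius.UniqueSubgroup
import Cfsg.Agent.OddLocal.SmallAction

/-!
Rank two `p`-groups generated by their displacements under a group of odd order prime to `p`
(Blackburn): they are abelian, or the central product of an extraspecial group of order `p ^ 3` and
exponent `p` with a cyclic group.
-/

set_option autoImplicit false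
set_option linter.unusedSectionVars false
set_option linter.style.haveILetI false

namespace Cfsg.Lib.PGroups.BlackburnCoprime

open Subgroup
open scoped commutatorElement

universe u

/-! ## A product formula -/

section Formula

variable {R : Type u} [Group R] {p : ℕ} [hp : Fact p.Prime]

/-- The power map is multiplicative when the relevant commutators have class three and exponent `p`. -/
theorem mul_pow_of_class_three (h3 : 3 < p) {x y u v w : R} (hu : y * x * y⁻¹ = x * u) (hv : y * u * y⁻¹ = u * v)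
    (hw : u * x = x * u * w) (hvc : ∀ r, Commute v r) (hwc : ∀ r, Commute w r)
    (hup : u ^ p = 1) (hvp : v ^ p = 1) (hwp : w ^ p = 1) : (x * y) ^ p = x ^ p * y ^ p := by
  have hux : ∀ m : ℕ, u ^ m * x = x * u ^ m * w ^ m := by
    intro m
    induction m with
    | zero => simp
    | succ m ih =>
      calc u ^ (m + 1) * x = u ^ m * (u * x) := by rw [pow_succ]; group
        _ = u ^ m * x * (u * w) := by rw [hw]; group
        _ = x * u ^ m * (w ^ m * u) * w := by rw [ih]; group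
        _ = x * u ^ m * (u * w ^ m) * w := by rw [((hwc u).pow_left m).eq]
        _ = x * u ^ (m + 1) * w ^ (m + 1) := by rw [pow_succ, pow_succ]; group
  have hconj : ∀ i : ℕ, y ^ i * x * (y ^ i)⁻¹ = x * u ^ i * v ^ i.choose 2 := by
    intro i
    induction i with
    | zero => simp
    | succ i ih =>
      have e1 : y * u ^ i * y⁻¹ = u ^ i * v ^ i := by rw [← conj_pow, hv, (hvc u).symm.mul_pow]
      have e2 : y * v ^ i.choose 2 * y⁻¹ = v ^ i.choose 2 := by
        rw [← ((hvc y).pow_left _).eq, mul_inv_cancel_right]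
      calc y ^ (i + 1) * x * (y ^ (i + 1))⁻¹ = y * (y ^ i * x * (y ^ i)⁻¹) * y⁻¹ := by rw [pow_succ']; group
        _ = (y * x * y⁻¹) * (y * u ^ i * y⁻¹) * (y * v ^ i.choose 2 * y⁻¹) := by rw [ih]; group
        _ = x * (u * u ^ i) * (v ^ i * v ^ i.choose 2) := by rw [hu, e1, e2]; group
        _ = _ := by rw [← pow_succ', ← pow_add, Nat.choose_succ_succ, Nat.choose_one_right]
  have hS : ∀ k : ℕ, (x * y) ^ k = x ^ k * u ^ k.choose 2 * v ^ k.choose 3 * w ^ k.choose 3 * y ^ k := by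
    intro k
    induction k with
    | zero => simp
    | succ k ih =>
      have c1 : Commute (w ^ k.choose 3) x := (hwc x).pow_left _
      have c2 : Commute (v ^ k.choose 3) x := (hvc x).pow_left _
      have c3 : Commute (w ^ k.choose 3) (u ^ k) := (hwc u).pow_pow _ _
      have c4 : Commute (v ^ k.choose 3) (u ^ k) := (hvc u).pow_pow _ _
      have c5 : Commute (w ^ k.choose 2) (u ^ k) := (hwc u).pow_pow _ _
      have c6 : Commute (w ^ k.choose 2) (v ^ k.choose 3) := (hwc v).pow_pow _ _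
      have c7 : Commute (w ^ k.choose 3) (v ^ k.choose 2) := (hwc v).pow_pow _ _
      have c8 : Commute (w ^ k.choose 2) (v ^ k.choose 2) := (hwc v).pow_pow _ _
      calc (x * y) ^ (k + 1) = (x * y) ^ k * (x * y) := pow_succ _ _
        _ = x ^ k * u ^ k.choose 2 * v ^ k.choose 3 * w ^ k.choose 3 * (y ^ k * x * (y ^ k)⁻¹) * (y ^ k * y) := by
          rw [ih]; group
        _ = x ^ k * u ^ k.choose 2 * v ^ k.choose 3 * (w ^ k.choose 3 * x) * u ^ k * v ^ k.choose 2 * (y ^ k * y) := by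
          rw [hconj]; group
        _ = x ^ k * u ^ k.choose 2 * (v ^ k.choose 3 * x) * (w ^ k.choose 3 * u ^ k) * v ^ k.choose 2 * (y ^ k * y) := by
          rw [c1.eq]; group
        _ = x ^ k * (u ^ k.choose 2 * x) * (v ^ k.choose 3 * u ^ k) * (w ^ k.choose 3 * v ^ k.choose 2) * (y ^ k * y) := by
          rw [c2.eq, c3.eq]; group
        _ = x ^ k * x * u ^ k.choose 2 * (w ^ k.choose 2 * u ^ k) * (v ^ k.choose 3 * v ^ k.choose 2) * w ^ k.choose 3 * (y ^ k * y) := by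
          rw [hux, c4.eq, c7.eq]; group
        _ = x ^ k * x * (u ^ k.choose 2 * u ^ k) * (w ^ k.choose 2 * (v ^ k.choose 3 * v ^ k.choose 2)) * w ^ k.choose 3 * (y ^ k * y) := by
          rw [c5.eq]; group
        _ = x ^ k * x * (u ^ k.choose 2 * u ^ k) * (v ^ k.choose 3 * v ^ k.choose 2) * (w ^ k.choose 2 * w ^ k.choose 3) * (y ^ k * y) := by
          rw [(c6.mul_right c8).eq]; group
        _ = _ := by
          rw [← pow_succ, ← pow_succ, ← pow_add, ← pow_add, ← pow_add,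
            show k.choose 2 + k = (k + 1).choose 2 by rw [Nat.choose_succ_succ' k 1, Nat.choose_one_right]; exact add_comm _ _,
            show k.choose 3 + k.choose 2 = (k + 1).choose 3 by rw [Nat.choose_succ_succ' k 2]; exact add_comm _ _,
            show k.choose 2 + k.choose 3 = (k + 1).choose 3 by rw [Nat.choose_succ_succ' k 2]]
  obtain ⟨⟨a, ha⟩, ⟨b, hb⟩⟩ := OmegaRankTwo.dvd_choose (p := p) h3
  rw [hS, ha, hb, pow_mul, pow_mul, pow_mul, hup, hvp, hwp]
  simp

/-- Exponents of an element of prime order are read modulo the prime. -/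
theorem pow_congr_zmod {x : R} (hx : x ^ p = 1) {i j : ℕ} (h : (i : ZMod p) = j) : x ^ i = x ^ j :=
  pow_eq_pow_iff_modEq.mpr
    (Nat.ModEq.of_dvd (orderOf_dvd_of_pow_eq_one hx) ((ZMod.natCast_eq_natCast_iff i j p).mp h))

theorem zmod_eq_of_pow {x : R} (hx : x ^ p = 1) (hx1 : x ≠ 1) {i j : ℕ} (h : x ^ i = x ^ j) :
    (i : ZMod p) = j :=
  (MetaCoprime.c_pow_iff hx hx1).mp h

/-- A power description inside a subgroup of prime index. -/
theorem exists_pow_mul (N : Subgroup R) [N.Normal] {r : R} (g : R)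
    (h : ∀ q : R ⧸ N, ∃ i : ℕ, q = (QuotientGroup.mk' N r) ^ i) : ∃ i : ℕ, ∃ n ∈ N, g = r ^ i * n := by
  obtain ⟨i, hi⟩ := h (QuotientGroup.mk' N g)
  rw [← map_pow] at hi
  exact ⟨i, (r ^ i)⁻¹ * g, QuotientGroup.eq.mp hi.symm, (mul_inv_cancel_left _ _).symm⟩

end Formula

/-! ## Groups whose elements of order `p` form a non-abelian group of order `p ^ 3` -/

/-- The standing data. -/
structure Base {Q : Type u} [Group Q] (p : ℕ) (W : Subgroup Q) : Prop where
  big : 3 < p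
  pgroup : IsPGroup p Q
  mem_iff : ∀ x : Q, x ∈ W ↔ x ^ p = 1
  card_W : Nat.card W = p ^ 3
  nonabelian : ¬ IsMulCommutative W

namespace Base

variable {Q : Type u} [Group Q] [Finite Q] {p : ℕ} [hp : Fact p.Prime] {W : Subgroup Q} (B : Base p W)
include B

theorem characteristic : W.Characteristic := by
  refine characteristic_iff_le_map.mpr fun α w hw => ⟨α.symm w, ?_, α.apply_symm_apply w⟩
  rw [SetLike.mem_coe, B.mem_iff, ← map_pow, (B.mem_iff w).mp hw, map_one]

theorem card_center : Nat.card (center W) = p := by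
  have hWp : IsPGroup p W := IsPGroup.of_card B.card_W
  haveI : Nontrivial W := Finite.one_lt_card_iff_nontrivial.mp
    (B.card_W ▸ Nat.one_lt_pow three_ne_zero hp.out.one_lt)
  haveI := hWp.center_nontrivial
  obtain ⟨k, hk⟩ := IsPGroup.iff_card.mp (hWp.to_subgroup (center W))
  have hk0 : k ≠ 0 := fun h => by
    have h1 := Finite.one_lt_card (α := center W)
    rw [hk, h, pow_zero] at h1
    exact lt_irrefl _ h1
  by_contra hne
  have hk2 : 2 ≤ k := by
    rcases Nat.lt_or_ge k 2 with h | h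
    · exact absurd (by rw [hk, show k = 1 by omega, pow_one]) hne
    · exact h
  have hq : Nat.card (W ⧸ center W) ∣ p := by
    have h1 := Subgroup.card_eq_card_quotient_mul_card_subgroup (center W)
    rw [B.card_W, hk] at h1
    have h2 : Nat.card (W ⧸ center W) * p ^ 2 ∣ p * p ^ 2 := by
      rw [← pow_succ', show p ^ (2 + 1) = p ^ 3 from rfl, h1]
      exact Nat.mul_dvd_mul_left _ (pow_dvd_pow p hk2)
    exact Nat.dvd_of_mul_dvd_mul_right (pow_pos hp.out.pos 2) h2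
  haveI : IsCyclic (W ⧸ center W) := by
    rcases (Nat.dvd_prime hp.out).mp hq with h | h
    · haveI : Subsingleton (W ⧸ center W) := (Nat.card_eq_one_iff_unique.mp h).1
      infer_instance
    · exact isCyclic_of_prime_card h
  exact B.nonabelian (MonoidHom.isMulCommutative_of_isCyclic_of_ker_le_center (QuotientGroup.mk' (center W))
    (by rw [QuotientGroup.ker_mk']))

theorem map_center : (center W).map W.subtype = W ⊓ centralizer (W : Set Q) := by
  ext x
  constructor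
  · rintro ⟨y, hy, rfl⟩
    exact ⟨y.2, mem_centralizer_iff.mpr fun z hz => congrArg Subtype.val (mem_center_iff.mp hy ⟨z, hz⟩)⟩
  · rintro ⟨hx, hx'⟩
    exact ⟨⟨x, hx⟩, mem_center_iff.mpr fun z => Subtype.ext (mem_centralizer_iff.mp hx' z z.2), rfl⟩

theorem card_Z : Nat.card ↥(W ⊓ centralizer (W : Set Q)) = p := by
  rw [← B.map_center, Subgroup.card_subtype, B.card_center]

theorem comm_mem_Z {a b : Q} (ha : a ∈ W) (hb : b ∈ W) : ⁅a, b⁆ ∈ W ⊓ centralizer (W : Set Q) := by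
  have hWp : IsPGroup p W := IsPGroup.of_card B.card_W
  have h1 := Subgroup.card_eq_card_quotient_mul_card_subgroup (center W)
  rw [B.card_W, B.card_center] at h1
  have h2 : Nat.card (W ⧸ center W) = p ^ 2 := by
    refine Nat.eq_of_mul_eq_mul_right hp.out.pos ?_
    rw [← h1]; ring
  rw [← B.map_center]
  refine ⟨⁅(⟨a, ha⟩ : W), ⟨b, hb⟩⁆, ?_, rfl⟩
  rw [SetLike.mem_coe, ← QuotientGroup.eq_one_iff, ← QuotientGroup.mk'_apply, map_commutatorElement,
    commutatorElement_eq_one_iff_mul_comm]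
  exact IsPGroup.commutative_of_card_eq_prime_sq h2 _ _

theorem zpowers_eq_Z {z : Q} (hz : z ∈ W ⊓ centralizer (W : Set Q)) (hz1 : z ≠ 1) :
    zpowers z = W ⊓ centralizer (W : Set Q) := by
  refine eq_of_le_of_card_ge (zpowers_le.mpr hz) ?_
  rw [B.card_Z, Nat.card_zpowers, orderOf_eq_prime ((B.mem_iff z).mp hz.1) hz1]

theorem exists_pow_Z {z : Q} (hz : z ∈ W ⊓ centralizer (W : Set Q)) (hz1 : z ≠ 1) {y : Q}
    (hy : y ∈ W ⊓ centralizer (W : Set Q)) : ∃ i : ℕ, y = z ^ i := by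
  rw [← B.zpowers_eq_Z hz hz1] at hy
  obtain ⟨i, hi⟩ := (Submonoid.mem_powers_iff _ _).mp (mem_powers_iff_mem_zpowers.mpr hy)
  exact ⟨i, hi.symm⟩

theorem le_center_of_normal [hW : W.Characteristic] : W ⊓ centralizer (W : Set Q) ≤ center Q := by
  set Z := W ⊓ centralizer (W : Set Q)
  haveI : Group.IsNilpotent (⊤ : Subgroup Q) := (B.pgroup.to_subgroup ⊤).isNilpotent
  have h1 := OmegaRankTwo.commutator_card_le (a := 0) (N := Z) (H := ⊤) B.pgroup le_top
    (by rw [normalizer_eq_top]) (by rw [B.card_Z, zero_add, pow_one])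
  rw [pow_zero] at h1
  intro z hz
  refine mem_center_iff.mpr fun g => (commutatorElement_eq_one_iff_mul_comm.mp ?_).symm
  exact mem_bot.mp ((eq_bot_of_card_le _ h1).le (commutator_mem_commutator hz (mem_top g)))

theorem comm_eq_Z : ⁅W, W⁆ = W ⊓ centralizer (W : Set Q) := by
  refine le_antisymm (commutator_le.mpr fun a ha b hb => B.comm_mem_Z ha hb) ?_
  obtain ⟨a, ha, b, hb, hab⟩ : ∃ a ∈ W, ∃ b ∈ W, a * b ≠ b * a := by
    by_contra! h
    exact B.nonabelian ⟨⟨fun x y => Subtype.ext (h x x.2 y y.2)⟩⟩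
  rw [← B.zpowers_eq_Z (B.comm_mem_Z ha hb) fun h => hab (commutatorElement_eq_one_iff_mul_comm.mp h)]
  exact zpowers_le.mpr (commutator_mem_commutator ha hb)

theorem isCyclic_centralizer : IsCyclic ↥(centralizer (W : Set Q)) := by
  have hC : IsPGroup p ↥(centralizer (W : Set Q)) := B.pgroup.to_subgroup _
  refine (UniqueSub.isCyclic_or_quaternion hC fun x y hx hy => ?_).resolve_right
    fun h => by have := B.big; omega
  have hmem : ∀ z : centralizer (W : Set Q), orderOf z = p → (z : Q) ∈ W ⊓ centralizer (W : Set Q) ∧ (z : Q) ≠ 1 :=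
    fun z hz => by
      refine ⟨⟨(B.mem_iff _).mpr ?_, z.2⟩, fun h => ?_⟩
      · rw [← Subgroup.coe_pow, ← hz, pow_orderOf_eq_one, Subgroup.coe_one]
      · rw [show z = 1 from Subtype.ext h, orderOf_one] at hz
        exact hp.out.ne_one hz.symm
  have h1 := (B.zpowers_eq_Z (hmem x hx).1 (hmem x hx).2).ge (hmem y hy).1
  obtain ⟨i, hi⟩ := mem_zpowers_iff.mp h1
  exact mem_zpowers_iff.mpr ⟨i, Subtype.ext (by rw [Subgroup.coe_zpow, hi])⟩

/-- An element inducing on `W` only displacements in the centre lies in `W C(W)`. -/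
theorem mem_sup_of_comm {x : Q} (hx : ∀ w ∈ W, ⁅x, w⁆ ∈ W ⊓ centralizer (W : Set Q)) :
    x ∈ W ⊔ centralizer (W : Set Q) := by
  obtain ⟨a, ha, b, hb, hab⟩ : ∃ a ∈ W, ∃ b ∈ W, a * b ≠ b * a := by
    by_contra! h
    exact B.nonabelian ⟨⟨fun x y => Subtype.ext (h x x.2 y y.2)⟩⟩
  have hη : ∀ u ∈ W, ∀ v ∈ W, u * v ≠ v * u → ⁅u, v⁆ ≠ 1 := fun u _ v _ h e =>
    h (commutatorElement_eq_one_iff_mul_comm.mp e)
  obtain ⟨i, hi⟩ := B.exists_pow_Z (B.comm_mem_Z hb ha) (hη b hb a ha (Ne.symm hab)) (hx a ha)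
  obtain ⟨k, hk⟩ := B.exists_pow_Z (B.comm_mem_Z ha hb) (hη a ha b hb hab) (hx b hb)
  have hcen : ∀ u ∈ W, ∀ v ∈ W, ∀ w ∈ W, Commute ⁅u, v⁆ w := fun u hu v hv w hw =>
    (mem_centralizer_iff.mp (B.comm_mem_Z hu hv).2 w hw).symm
  have hmul : ∀ u ∈ W, ∀ v ∈ W, ∀ w ∈ W, ⁅u * v, w⁆ = ⁅v, w⁆ * ⁅u, w⁆ := fun u hu v hv w hw => by
    rw [mul_left_commutator, ← (hcen v hv w hw u hu).eq, mul_inv_cancel_right]
  have hpow : ∀ u ∈ W, ∀ w ∈ W, ∀ n : ℕ, ⁅u ^ n, w⁆ = ⁅u, w⁆ ^ n := fun u hu w hw n =>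
    commutator_pow_left_of_commute (hcen u hu w hw u hu) n
  set g := b ^ i * a ^ k with hg
  have hgW : g ∈ W := mul_mem (pow_mem hb i) (pow_mem ha k)
  have hga : ⁅g, a⁆ = ⁅x, a⁆ := by
    rw [hg, hmul _ (pow_mem hb i) _ (pow_mem ha k) _ ha, hpow b hb a ha, hpow a ha a ha, commutatorElement_self,
      one_pow, one_mul, hi]
  have hgb : ⁅g, b⁆ = ⁅x, b⁆ := by
    rw [hg, hmul _ (pow_mem hb i) _ (pow_mem ha k) _ hb, hpow b hb b hb, hpow a ha b hb, commutatorElement_self,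
      one_pow, mul_one, hk]
  have hcomm : ∀ u, ⁅g, u⁆ = ⁅x, u⁆ → (g⁻¹ * x) * u = u * (g⁻¹ * x) := fun u e => by
    simp only [commutatorElement_def, mul_left_inj] at e
    calc g⁻¹ * x * u = g⁻¹ * (x * u * x⁻¹) * x := by group
      _ = g⁻¹ * (g * u * g⁻¹) * x := by rw [e]
      _ = u * (g⁻¹ * x) := by group
  have hgen : closure ({a, b} : Set Q) = W := by
    have hle : closure ({a, b} : Set Q) ≤ W := (closure_le _).mpr (Set.insert_subset ha (Set.singleton_subset_iff.mpr hb))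
    refine eq_of_le_of_card_ge hle ?_
    obtain ⟨m, hm, hcard⟩ := (Nat.dvd_prime_pow hp.out).mp (B.card_W ▸ card_dvd_of_le hle)
    rw [B.card_W, hcard]
    refine Nat.pow_le_pow_right hp.out.pos ?_
    by_contra hlt
    have ha' : a ∈ closure ({a, b} : Set Q) := subset_closure (Set.mem_insert _ _)
    have hb' : b ∈ closure ({a, b} : Set Q) := subset_closure (Set.mem_insert_of_mem _ rfl)
    refine hab ?_
    have hc : IsMulCommutative ↥(closure ({a, b} : Set Q)) := by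
      rcases Nat.lt_or_ge m 2 with h | h
      · haveI : IsCyclic ↥(closure ({a, b} : Set Q)) := by
          rcases Nat.lt_or_ge m 1 with h0 | h0
          · haveI : Subsingleton ↥(closure ({a, b} : Set Q)) :=
              (Nat.card_eq_one_iff_unique.mp (by rw [hcard, show m = 0 by omega, pow_zero])).1
            infer_instance
          · exact isCyclic_of_prime_card (p := p) (by rw [hcard, show m = 1 by omega, pow_one])
        exact IsCyclic.isMulCommutative
      · exact ⟨⟨fun u v => IsPGroup.commutative_of_card_eq_prime_sq (by rw [hcard, show m = 2 by omega]) u v⟩⟩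
    exact congrArg Subtype.val (hc.is_comm.comm ⟨a, ha'⟩ ⟨b, hb'⟩)
  have hy : g⁻¹ * x ∈ centralizer (W : Set Q) := by
    rw [← hgen, centralizer_closure, mem_centralizer_iff]
    intro u hu
    rcases hu with rfl | hu
    · exact (hcomm _ hga).symm
    · rw [Set.mem_singleton_iff.mp hu]; exact (hcomm _ hgb).symm
  rw [show x = g * (g⁻¹ * x) by group]
  exact mul_mem (mem_sup_left hgW) (mem_sup_right hy)

/-- If `W C(W)` is proper, a proper normal subgroup absorbs the displacements of some element of order `p`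
under the automorphisms of odd order. -/
theorem exists_fixed [hW : W.Characteristic] (hN : W ⊔ centralizer (W : Set Q) ≠ ⊤) :
    ∃ (M : Subgroup Q) (v : Q), M.Normal ∧ commutator Q ≤ M ∧ v ∈ W ∧ v ∉ M ∧
      ∀ α : MulAut Q, Odd (orderOf α) → v⁻¹ * α v ∈ M := by
  classical
  set C := centralizer (W : Set Q) with hC
  haveI : W.Normal := normal_of_characteristic W
  haveI : C.Characteristic := hC ▸ inferInstance
  haveI : C.Normal := normal_of_characteristic C
  set Z := W ⊓ C with hZ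
  haveI : Z.Normal := normal_inf_normal W C
  set N := W ⊔ C with hNdef
  set L := ⁅W, (⊤ : Subgroup Q)⁆ with hL
  haveI : L.Normal := commutator_normal W ⊤
  have hpp := B.pgroup
  haveI := hpp.isNilpotent
  have hexpW : ∀ x ∈ W, x ^ p = 1 := fun x hx => (B.mem_iff x).mp hx
  have hLW : L ≤ W := commutator_le_left W ⊤
  have hLcard : Nat.card L ≤ p ^ 2 := OmegaRankTwo.commutator_card_le (a := 2) hpp le_top
    (by rw [normalizer_eq_top]) B.card_W.le
  have hZc : Z ≤ center Q := B.le_center_of_normal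
  have hZcard : Nat.card Z = p := B.card_Z
  have hZL : Z ≤ L := by
    rw [hZ, ← B.comm_eq_Z]
    exact commutator_mono le_rfl le_top
  obtain ⟨r₀, hr₀⟩ : ∃ r, r ∉ N := by
    by_contra! h
    exact hN ((eq_top_iff' _).mpr h)
  have hLZ : ¬ L ≤ Z := fun h => hr₀ (B.mem_sup_of_comm fun w hw => by
    rw [← commutatorElement_inv]
    exact inv_mem (h (commutator_mem_commutator hw (mem_top r₀))))
  have hLcard2 : Nat.card L = p ^ 2 := by
    obtain ⟨k, hk⟩ := IsPGroup.iff_card.mp (hpp.to_subgroup L)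
    have hlt : p ^ 1 < p ^ k := by
      rw [pow_one, ← hk, ← hZcard]
      exact Cfsg.Lib.PGroups.Regular.card_lt_of_lt (lt_of_le_not_ge hZL hLZ)
    rw [hk] at hLcard ⊢
    have h1 := (Nat.pow_lt_pow_iff_right hp.out.one_lt).mp hlt
    have h2 := (Nat.pow_le_pow_iff_right hp.out.one_lt).mp hLcard
    rw [show k = 2 by omega]
  have hLab : ∀ a ∈ L, ∀ b ∈ L, a * b = b * a := fun a ha b hb =>
    congrArg Subtype.val (IsPGroup.commutative_of_card_eq_prime_sq hLcard2 (⟨a, ha⟩ : L) ⟨b, hb⟩)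
  have hLQ : ∀ l ∈ L, ∀ x : Q, ⁅l, x⁆ ∈ Z := by
    intro l hl x
    have h1 : Nat.card ↥⁅L, (⊤ : Subgroup Q)⁆ ≤ p ^ 1 := OmegaRankTwo.commutator_card_le (a := 1) hpp le_top
      (by rw [normalizer_eq_top]) hLcard2.le
    have h2 := OmegaRankTwo.commutator_card_le (a := 0) (N := ⁅L, (⊤ : Subgroup Q)⁆) (H := ⊤) hpp le_top
      (by rw [normalizer_eq_top]) h1
    rw [pow_zero] at h2
    have hle : ⁅L, (⊤ : Subgroup Q)⁆ ≤ L := commutator_le_left L ⊤
    refine ⟨hLW (hle (commutator_mem_commutator hl (mem_top x))), mem_centralizer_iff.mpr fun w _ => ?_⟩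
    exact ((commutatorElement_eq_one_iff_mul_comm.mp (mem_bot.mp ((eq_bot_of_card_le _ h2).le
      (commutator_mem_commutator (commutator_mem_commutator hl (mem_top x)) (mem_top w)))))).symm
  have hLQ' : ∀ l ∈ L, ∀ x : Q, ⁅x, l⁆ ∈ Z := fun l hl x => by
    rw [← commutatorElement_inv]; exact inv_mem (hLQ l hl x)
  have hWWZ : ∀ a ∈ W, ∀ b ∈ W, ⁅a, b⁆ ∈ Z := fun a ha b hb => B.comm_mem_Z ha hb
  -- an element of `W` outside `L`
  obtain ⟨v, hvW, hvL⟩ : ∃ v ∈ W, v ∉ L := by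
    by_contra! h
    have h1 : Nat.card W ≤ Nat.card L := card_le_of_le h
    rw [B.card_W, hLcard2] at h1
    exact absurd ((Nat.pow_le_pow_iff_right hp.out.one_lt).mp h1) (by omega)
  have hvp : v ^ p = 1 := hexpW v hvW
  have hWgen : L ⊔ zpowers v = W := by
    refine eq_of_le_of_card_ge (sup_le hLW (zpowers_le.mpr hvW)) ?_
    obtain ⟨k, hk⟩ := IsPGroup.iff_card.mp (hpp.to_subgroup (L ⊔ zpowers v))
    have hlt : p ^ 2 < p ^ k := by
      rw [← hk, ← hLcard2]
      exact Cfsg.Lib.PGroups.Regular.card_lt_of_lt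
        (lt_of_le_not_ge le_sup_left fun h => hvL (h (mem_sup_right (mem_zpowers v))))
    rw [B.card_W, hk]
    exact Nat.pow_le_pow_right hp.out.pos ((Nat.pow_lt_pow_iff_right hp.out.one_lt).mp hlt)
  have hWdec : ∀ w ∈ W, ∃ i : ℕ, ∃ l ∈ L, w = v ^ i * l := by
    intro w hw
    rw [← hWgen, sup_comm] at hw
    obtain ⟨y, hy, l, hl, rfl⟩ := mem_sup_of_normal_right.mp hw
    obtain ⟨i, hi⟩ := (Submonoid.mem_powers_iff _ _).mp (mem_powers_iff_mem_zpowers.mpr hy)
    exact ⟨i, l, hl, by rw [hi]⟩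
  -- the displacement of `v` modulo `Z`
  let π := QuotientGroup.mk' Z
  have hπ : ∀ a : Q, π a = 1 ↔ a ∈ Z := fun a => QuotientGroup.eq_one_iff a
  have hLc : ∀ l ∈ L, ∀ y : Q, π y * π l = π l * π y := fun l hl y => by
    rw [← commutatorElement_eq_one_iff_mul_comm, ← map_commutatorElement, hπ]
    exact hLQ' l hl y
  have hmemL : ∀ x, ∀ w ∈ W, ⁅x, w⁆ ∈ L := fun x w hw => by
    rw [← commutatorElement_inv]
    exact inv_mem (commutator_mem_commutator hw (mem_top x))
  let δ : Q →* Q ⧸ Z :=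
    { toFun := fun x => π ⁅x, v⁆
      map_one' := by rw [commutatorElement_one_left, map_one]
      map_mul' := fun x y => by
        rw [mul_left_commutator, map_mul, map_mul, map_mul, hLc _ (hmemL y v hvW), map_inv, mul_inv_cancel_right,
          hLc _ (hmemL x v hvW)] }
  have hδ : ∀ x, δ x = π ⁅x, v⁆ := fun x => rfl
  have hδC : ∀ c ∈ C, δ c = 1 := fun c hc => by
    rw [hδ, commutatorElement_eq_one_iff_mul_comm.mpr (mem_centralizer_iff.mp hc v hvW).symm, map_one]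
  have hψ : ∀ (x : Q) (i : ℕ) (l : Q), l ∈ L → π ⁅x, v ^ i * l⁆ = δ x ^ i := by
    intro x i l hl
    rw [mul_right_commutator, map_mul, map_mul, map_mul, (hπ _).mpr (hLQ' l hl x), mul_one, map_inv,
      mul_inv_cancel, mul_one]
    induction i with
    | zero => simp
    | succ i ih =>
      rw [pow_succ' v, mul_right_commutator, map_mul, map_mul, map_mul, hLc _ (hmemL x _ (pow_mem hvW i)),
        map_inv, mul_inv_cancel_right, ih, pow_succ', hδ]
  have hNker : N = δ.ker := by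
    refine le_antisymm (sup_le (fun w hw => ?_) fun c hc => hδC c hc) fun x hx => ?_
    · rw [MonoidHom.mem_ker, hδ, hπ]; exact hWWZ w hw v hvW
    · refine B.mem_sup_of_comm fun w hw => ?_
      obtain ⟨i, l, hl, rfl⟩ := hWdec w hw
      rw [← hπ, hψ x i l hl, MonoidHom.mem_ker.mp hx, one_pow]
  haveI : N.Characteristic := by
    have hfix : ∀ α : MulAut Q, N.map α.toMonoidHom = N := fun α => by
      rw [hNdef, Subgroup.map_sup, characteristic_iff_map_eq.mp hW α,
        characteristic_iff_map_eq.mp (inferInstance : C.Characteristic) α]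
    exact characteristic_iff_map_eq.mpr hfix
  haveI : N.Normal := normal_of_characteristic N
  -- the values of the displacement
  set l₀ := ⁅r₀, v⁆ with hl₀
  have hl₀L : l₀ ∈ L := hmemL r₀ v hvW
  have hl₀Z : l₀ ∉ Z := fun h => hr₀ (hNker ▸ MonoidHom.mem_ker.mpr ((hδ r₀).trans ((hπ _).mpr h)))
  have hl₀p : l₀ ^ p = 1 := hexpW _ (hLW hl₀L)
  have hπl₀ : π l₀ ≠ 1 := fun h => hl₀Z ((hπ _).mp h)
  have hπl₀p : π l₀ ^ p = 1 := by rw [← map_pow, hl₀p, map_one]
  have hLdec : ∀ l ∈ L, ∃ i : ℕ, ∃ z ∈ Z, l = l₀ ^ i * z := by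
    have hle : L = Z ⊔ zpowers l₀ := by
      refine (eq_of_le_of_card_ge (sup_le hZL (zpowers_le.mpr hl₀L)) ?_).symm
      obtain ⟨k, hk⟩ := IsPGroup.iff_card.mp (hpp.to_subgroup (Z ⊔ zpowers l₀))
      have hlt : p ^ 1 < p ^ k := by
        rw [← hk, pow_one, ← hZcard]
        exact Cfsg.Lib.PGroups.Regular.card_lt_of_lt
          (lt_of_le_not_ge le_sup_left fun h => hl₀Z (h (mem_sup_right (mem_zpowers l₀))))
      rw [hLcard2, hk]
      exact Nat.pow_le_pow_right hp.out.pos ((Nat.pow_lt_pow_iff_right hp.out.one_lt).mp hlt)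
    intro l hl
    rw [hle, sup_comm] at hl
    obtain ⟨y, hy, z, hz, rfl⟩ := mem_sup_of_normal_right.mp hl
    obtain ⟨i, hi⟩ := (Submonoid.mem_powers_iff _ _).mp (mem_powers_iff_mem_zpowers.mpr hy)
    exact ⟨i, z, hz, by rw [hi]⟩
  have hdec : ∀ g : Q, ∃ i : ℕ, ∃ n ∈ N, g = r₀ ^ i * n := by
    intro g
    obtain ⟨i, z, hz, hiz⟩ := hLdec _ (hmemL g v hvW)
    refine ⟨i, (r₀ ^ i)⁻¹ * g, ?_, (mul_inv_cancel_left _ _).symm⟩
    rw [hNker, MonoidHom.mem_ker, map_mul, map_inv, map_pow, hδ g, hiz, map_mul, (hπ z).mpr hz, mul_one,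
      map_pow, hδ r₀, inv_mul_cancel]
  have hr₀p : r₀ ^ p ∈ N := by
    rw [hNker, MonoidHom.mem_ker, map_pow, hδ, hπl₀p]
  -- the derived subgroup lies in `L`
  have hZC : ∀ c ∈ C, ⁅r₀, c⁆ ∈ L := by
    intro c hc
    obtain ⟨⟨c₀, hc₀⟩, hgen⟩ := B.isCyclic_centralizer.exists_generator
    obtain ⟨i, hi⟩ := mem_zpowers_iff.mp (hgen ⟨c, hc⟩)
    have hci : c₀ ^ i = c := congrArg Subtype.val hi
    obtain ⟨k, hk⟩ : ∃ k : ℤ, c₀ ^ k = r₀ * c₀ * r₀⁻¹ := by
      obtain ⟨k, hk⟩ := mem_zpowers_iff.mp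
        (hgen ⟨r₀ * c₀ * r₀⁻¹, (inferInstance : C.Normal).conj_mem c₀ hc₀ r₀⟩)
      exact ⟨k, congrArg Subtype.val hk⟩
    have hit : ∀ n : ℕ, r₀ ^ n * c₀ * (r₀ ^ n)⁻¹ = c₀ ^ (k ^ n) := by
      intro n
      induction n with
      | zero => simp
      | succ n ih =>
        rw [pow_succ' r₀, show r₀ * r₀ ^ n * c₀ * (r₀ * r₀ ^ n)⁻¹ = r₀ * (r₀ ^ n * c₀ * (r₀ ^ n)⁻¹) * r₀⁻¹ by
          group, ih, ← conj_zpow, ← hk, ← zpow_mul, ← pow_succ']
    have hcN : ∀ n ∈ N, ∀ c' ∈ C, Commute n c' := by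
      intro n hn c' hc'
      obtain ⟨w, hw, c'', hc'', rfl⟩ := mem_sup_of_normal_left.mp hn
      refine Commute.mul_left (mem_centralizer_iff.mp hc' w hw) ?_
      obtain ⟨j, hj⟩ := mem_zpowers_iff.mp (hgen ⟨c'', hc''⟩)
      obtain ⟨j', hj'⟩ := mem_zpowers_iff.mp (hgen ⟨c', hc'⟩)
      rw [← show c₀ ^ j = c'' from congrArg Subtype.val hj, ← show c₀ ^ j' = c' from congrArg Subtype.val hj']
      exact Commute.zpow_zpow_self c₀ j j'
    have hfix : c₀ ^ (k ^ p) = c₀ := by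
      rw [← hit p, (hcN _ hr₀p c₀ hc₀).eq, mul_inv_cancel_right]
    obtain ⟨m, hm⟩ := IsPGroup.iff_orderOf.mp hpp c₀
    have hk1 : c₀ ^ ((k - 1) * p) = 1 := by
      rcases Nat.eq_zero_or_pos m with h0 | h0
      · rw [show c₀ = 1 from orderOf_eq_one_iff.mp (by rw [hm, h0, pow_zero]), one_zpow]
      have hd : ((p : ℤ) ^ m) ∣ k ^ p - 1 := by
        rw [← Nat.cast_pow, ← hm, orderOf_dvd_iff_zpow_eq_one, zpow_sub_one, hfix, mul_inv_cancel]
      have h2 : (p : ℤ) ^ (m - 1) ∣ k - 1 :=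
        CyclicIndexOdd.pow_dvd_sub_one hp.out (by have := B.big; omega) (by rwa [show m - 1 + 1 = m by omega])
      rw [← orderOf_dvd_iff_zpow_eq_one, hm, Nat.cast_pow, show m = m - 1 + 1 by omega, pow_succ]
      exact mul_dvd_mul_right h2 _
    refine hZL ?_
    have he : ⁅r₀, c⁆ = (c₀ ^ (k - 1)) ^ i := by
      rw [commutatorElement_def, ← hci, ← conj_zpow, ← hk, ← zpow_mul, ← zpow_neg, ← zpow_add, ← zpow_mul]
      congr 1
      ring
    rw [he]
    exact ⟨zpow_mem ((B.mem_iff _).mpr (by rw [← zpow_natCast, ← zpow_mul, hk1])) i,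
      zpow_mem (zpow_mem hc₀ _) i⟩
  have hderived : commutator Q ≤ L := by
    rw [_root_.commutator_def, commutator_le]
    have hq : ∀ a : Q ⧸ L, ∀ n ∈ N, a * QuotientGroup.mk' L n = QuotientGroup.mk' L n * a := by
      intro a n hn
      obtain ⟨g, rfl⟩ := QuotientGroup.mk'_surjective L a
      have hw : ∀ (y : Q), ∀ w ∈ W, Commute (QuotientGroup.mk' L y) (QuotientGroup.mk' L w) := fun y w hw => by
        rw [← commutatorElement_eq_one_iff_commute, ← map_commutatorElement]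
        exact (QuotientGroup.eq_one_iff _).mpr (hmemL y w hw)
      have hc : ∀ c ∈ C, Commute (QuotientGroup.mk' L r₀) (QuotientGroup.mk' L c) := fun c hc => by
        rw [← commutatorElement_eq_one_iff_commute, ← map_commutatorElement]
        exact (QuotientGroup.eq_one_iff _).mpr (hZC c hc)
      obtain ⟨i, n', hn', rfl⟩ := hdec g
      obtain ⟨w, hwW, c, hcC, rfl⟩ := mem_sup_of_normal_left.mp hn
      obtain ⟨w', hw'W, c', hc'C, rfl⟩ := mem_sup_of_normal_left.mp hn'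
      obtain ⟨⟨c₀, hc₀⟩, hgen⟩ := B.isCyclic_centralizer.exists_generator
      obtain ⟨j, hj⟩ := mem_zpowers_iff.mp (hgen ⟨c, hcC⟩)
      obtain ⟨j', hj'⟩ := mem_zpowers_iff.mp (hgen ⟨c', hc'C⟩)
      have hcc : Commute c' c := by
        rw [← show c₀ ^ j = c from congrArg Subtype.val hj, ← show c₀ ^ j' = c' from congrArg Subtype.val hj']
        exact Commute.zpow_zpow_self c₀ j' j
      rw [map_mul (QuotientGroup.mk' L) w c]
      refine Commute.mul_right (hw _ w hwW) ?_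
      rw [map_mul, map_mul, map_pow]
      exact ((hc c hcC).pow_left i).mul_left ((hw c w' hw'W).symm.mul_left (hcc.map (QuotientGroup.mk' L)))
    intro x _ y _
    rw [← QuotientGroup.eq_one_iff, ← QuotientGroup.mk'_apply, map_commutatorElement,
      commutatorElement_eq_one_iff_mul_comm]
    obtain ⟨i, n, hn, rfl⟩ := hdec x
    obtain ⟨j, n', hn', rfl⟩ := hdec y
    rw [map_mul, map_mul, map_pow, map_pow]
    have h1 : Commute (QuotientGroup.mk' L r₀) (QuotientGroup.mk' L n') := hq _ n' hn'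
    have h2 : Commute (QuotientGroup.mk' L n) (QuotientGroup.mk' L r₀) := (hq _ n hn).symm
    have h3 : Commute (QuotientGroup.mk' L n) (QuotientGroup.mk' L n') := (hq _ n hn).symm
    exact (((Commute.pow_pow_self _ i j).mul_right (h1.pow_left i)).mul_left ((h2.pow_right j).mul_right h3)).eq
  -- the power map is multiplicative
  have hmulp : ∀ x y : Q, (x * y) ^ p = x ^ p * y ^ p := by
    intro x y
    have hu : ⁅x⁻¹, y⁆ ∈ L := hderived (commutator_mem_commutator (mem_top _) (mem_top _))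
    refine mul_pow_of_class_three B.big (u := ⁅x⁻¹, y⁆) (v := ⁅⁅x⁻¹, y⁆⁻¹, y⁆) (w := ⁅⁅x⁻¹, y⁆⁻¹, x⁻¹⁆) ?_ ?_ ?_
      (fun r => (mem_center_iff.mp (hZc (hLQ _ (inv_mem hu) y)) r).symm)
      (fun r => (mem_center_iff.mp (hZc (hLQ _ (inv_mem hu) _)) r).symm)
      (hexpW _ (hLW hu)) (hexpW _ (hLQ _ (inv_mem hu) y).1) (hexpW _ (hLQ _ (inv_mem hu) _).1)
    · rw [commutatorElement_def x⁻¹ y]; group
    · rw [commutatorElement_def ⁅x⁻¹, y⁆⁻¹ y]; group
    · rw [commutatorElement_def ⁅x⁻¹, y⁆⁻¹ x⁻¹]; group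
  have hmulj : ∀ (j : ℕ) (x y : Q), (x * y) ^ p ^ j = x ^ p ^ j * y ^ p ^ j := by
    intro j
    induction j with
    | zero => simp
    | succ j ih => intro x y; rw [pow_succ, pow_mul, pow_mul, pow_mul, ih, hmulp]
  -- an element outside `N` of least order
  obtain ⟨r, hrN, hrmin⟩ := Set.exists_min_image {x : Q | x ∉ N} orderOf (Set.toFinite _) ⟨r₀, hr₀⟩
  obtain ⟨e, he⟩ := IsPGroup.iff_orderOf.mp hpp r
  have he2 : 2 ≤ e := by
    by_contra h
    refine hrN (mem_sup_left ((B.mem_iff r).mpr (orderOf_dvd_iff_pow_eq_one.mp ?_)))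
    rw [he]
    exact (pow_dvd_pow p (show e ≤ 1 by omega)).trans (pow_one p).dvd
  set J := p ^ (e - 1) with hJ
  have hJp : J * p = p ^ e := by rw [hJ, ← pow_succ, show e - 1 + 1 = e by omega]
  set t := r ^ J with ht
  have ht1 : t ≠ 1 := fun h => by
    have h1 := orderOf_dvd_of_pow_eq_one h
    rw [he, hJ, Nat.pow_dvd_pow_iff_le_right hp.out.one_lt] at h1
    omega
  have htW : t ∈ W := (B.mem_iff _).mpr (by rw [ht, ← pow_mul, hJp, ← he, pow_orderOf_eq_one])
  have hδr : δ r ≠ 1 := fun h => hrN (hNker ▸ MonoidHom.mem_ker.mpr h)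
  have hδp : ∀ x, δ x ^ p = 1 := fun x => by rw [hδ, ← map_pow, hexpW _ (hLW (hmemL x v hvW)), map_one]
  have htL : t ∈ L := by
    obtain ⟨i, l, hl, hil⟩ := hWdec t htW
    have h1 : δ r ^ i = δ r ^ 0 := by
      rw [← hψ r i l hl, ← hil, commutatorElement_eq_one_iff_mul_comm.mpr
        (((Commute.refl r).pow_right J).eq), map_one, pow_zero]
    have h2 := pow_congr_zmod hvp (zmod_eq_of_pow (hδp r) hδr h1)
    rw [pow_zero] at h2
    rw [hil, h2, one_mul]
    exact hl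
  -- the scalars of an automorphism
  set ζ := ⁅v, l₀⁆ with hζ
  have hζZ : ζ ∈ Z := hLQ' l₀ hl₀L v
  have hζ1 : ζ ≠ 1 := by
    intro h
    refine B.nonabelian ⟨⟨fun a b => Subtype.ext ?_⟩⟩
    have hvl : Commute v l₀ := commutatorElement_eq_one_iff_mul_comm.mp h
    have key : ∀ w ∈ W, ∃ (i j : ℕ) (z : Q), z ∈ Z ∧ w = v ^ i * (l₀ ^ j * z) := fun w hw => by
      obtain ⟨i, l, hl, rfl⟩ := hWdec w hw
      obtain ⟨j, z, hz, rfl⟩ := hLdec l hl
      exact ⟨i, j, z, hz, rfl⟩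
    obtain ⟨i, j, z, hz, ha⟩ := key a a.2
    obtain ⟨i', j', z', hz', hb⟩ := key b b.2
    show (a : Q) * b = b * a
    rw [ha, hb]
    have hzc : ∀ y, Commute z y := fun y => (mem_center_iff.mp (hZc hz) y).symm
    have hzc' : ∀ y, Commute z' y := fun y => (mem_center_iff.mp (hZc hz') y).symm
    exact (Commute.mul_left
      ((Commute.pow_pow_self v i i').mul_right ((hvl.pow_pow i j').mul_right (hzc' _).symm))
      (Commute.mul_left ((hvl.symm.pow_pow j i').mul_right ((Commute.pow_pow_self l₀ j j').mul_right (hzc' _).symm))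
        (hzc _))).eq
  have hbil : ∀ (a b : ℕ), ∀ z ∈ Z, ∀ l ∈ L, ⁅v ^ a * l, l₀ ^ b * z⁆ = ζ ^ (a * b) := by
    intro a b z hz l hl
    have hz1 : ∀ y, ⁅y, z⁆ = 1 := fun y =>
      commutatorElement_eq_one_iff_mul_comm.mpr (mem_center_iff.mp (hZc hz) y)
    have hcz : ∀ y, Commute ζ y := fun y => (mem_center_iff.mp (hZc hζZ) y).symm
    rw [mul_right_commutator, hz1, mul_one, mul_inv_cancel, mul_one, mul_left_commutator,
      commutatorElement_eq_one_iff_mul_comm.mpr (hLab l hl _ (pow_mem hl₀L b)), mul_one, mul_inv_cancel, one_mul]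
    have h1 : ⁅v ^ a, l₀⁆ = ζ ^ a := commutator_pow_left_of_commute (hcz v) a
    rw [commutator_pow_right_of_commute (x := v ^ a) (y := l₀) (by rw [h1]; exact (hcz l₀).pow_left a), h1,
      ← pow_mul]
  -- the conclusion
  refine ⟨L ⊔ C, v, inferInstance, hderived.trans le_sup_left, hvW, ?_, fun α hα => ?_⟩
  · intro h
    obtain ⟨l, hl, c, hc, hlc⟩ := mem_sup_of_normal_left.mp h
    have hcW : c ∈ W := by rw [show c = l⁻¹ * v by rw [← hlc]; group]; exact mul_mem (inv_mem (hLW hl)) hvW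
    exact hvL (hlc ▸ mul_mem hl (hZL ⟨hcW, hc⟩))
  refine mem_sup_left ?_
  have hαW : ∀ w ∈ W, α w ∈ W := fun w hw => by rw [B.mem_iff, ← map_pow, hexpW w hw, map_one]
  have hαZ : ∀ z ∈ Z, α z ∈ Z := fun z hz => by
    have hZchar : Z.map α.toMonoidHom = Z := by
      rw [hZ, Subgroup.map_inf _ _ _ α.injective, characteristic_iff_map_eq.mp hW α,
        characteristic_iff_map_eq.mp (inferInstance : C.Characteristic) α]
    exact hZchar ▸ mem_map_of_mem α.toMonoidHom hz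
  have hαL : ∀ l ∈ L, α l ∈ L := fun l hl => by
    have hLchar : L.map α.toMonoidHom = L := by
      rw [hL, map_commutator, characteristic_iff_map_eq.mp hW α,
        Subgroup.map_top_of_surjective _ α.surjective]
    exact hLchar ▸ mem_map_of_mem α.toMonoidHom hl
  obtain ⟨μ, l₁, hl₁, hαv⟩ := hWdec _ (hαW v hvW)
  obtain ⟨γ', n₀, hn₀, hαr₀⟩ := hdec (α r₀)
  -- the image of `r`
  obtain ⟨γ, n, hn, hαr⟩ : ∃ γ : ℕ, ∃ n ∈ N, α r = r ^ γ * n := by
    obtain ⟨i, m, hm, hr'⟩ := hdec r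
    obtain ⟨i', m', hm', hr''⟩ := hdec (α r)
    have hi : (i : ZMod p) ≠ 0 := fun h => by
      refine hδr ?_
      rw [hr', map_mul, (hNker ▸ hm : m ∈ δ.ker), mul_one, map_pow,
        pow_congr_zmod (hδp r₀) (show (i : ZMod p) = ((0 : ℕ) : ZMod p) by rw [h, Nat.cast_zero]), pow_zero]
    refine ⟨((i' : ZMod p) / i).val, (r ^ ((i' : ZMod p) / i).val)⁻¹ * α r, ?_, (mul_inv_cancel_left _ _).symm⟩
    rw [hNker, MonoidHom.mem_ker, map_mul, map_inv, map_pow, hr'', map_mul, (hNker ▸ hm' : m' ∈ δ.ker), mul_one,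
      hr', map_mul δ (r₀ ^ i), (hNker ▸ hm : m ∈ δ.ker), mul_one, map_pow, map_pow, ← pow_mul]
    rw [pow_congr_zmod (hδp r₀) (i := i * ((i' : ZMod p) / i).val) (j := i') (by
      rw [Nat.cast_mul, ZMod.natCast_zmod_val, mul_div_cancel₀ _ hi]), inv_mul_cancel]
  have hγ : (γ : ZMod p) ≠ 0 := fun h => by
    have h1 : α r ∈ N := by
      rw [hαr]
      refine mul_mem ?_ hn
      rw [hNker, MonoidHom.mem_ker, map_pow,
        pow_congr_zmod (hδp r) (show (γ : ZMod p) = ((0 : ℕ) : ZMod p) by rw [h, Nat.cast_zero]), pow_zero]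
    have h2 := mem_map_of_mem α.symm.toMonoidHom h1
    rw [characteristic_iff_map_eq.mp (inferInstance : N.Characteristic) α.symm] at h2
    simp at h2
    exact hrN h2
  -- the image of `[r, v]`
  set ℓ := ⁅r, v⁆ with hℓ
  have hℓL : ℓ ∈ L := hmemL r v hvW
  have hαℓ : π (α ℓ) = π ℓ ^ (γ * μ) := by
    rw [hℓ, map_commutatorElement α, hαr, hαv, hψ _ μ l₁ hl₁, map_mul δ, map_pow δ,
      (hNker ▸ hn : n ∈ δ.ker), mul_one, ← pow_mul]
    rfl
  have hℓp : π ℓ ^ p = 1 := hδp r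
  have hℓ1 : π ℓ ≠ 1 := hδr
  obtain ⟨s, z, hz, hsℓ⟩ := hLdec ℓ hℓL
  have hs : (s : ZMod p) ≠ 0 := fun h => hℓ1 (by
    rw [hsℓ, map_mul, (hπ z).mpr hz, mul_one, map_pow,
      pow_congr_zmod hπl₀p (show (s : ZMod p) = ((0 : ℕ) : ZMod p) by rw [h, Nat.cast_zero]), pow_zero])
  obtain ⟨q, z', hz', hqαℓ⟩ := hLdec _ (hαL ℓ hℓL)
  have hq : (q : ZMod p) = s * (γ * μ) := by
    have h1 : π l₀ ^ q = π l₀ ^ (s * (γ * μ)) := by
      rw [pow_mul, ← map_pow π l₀ s, ← show π ℓ = π (l₀ ^ s) by rw [hsℓ, map_mul, (hπ z).mpr hz, mul_one],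
        ← hαℓ, hqαℓ, map_mul, (hπ z').mpr hz', mul_one, map_pow]
    have h2 := zmod_eq_of_pow hπl₀p hπl₀ h1
    push_cast at h2
    exact h2
  -- the image of the centre
  set ξ := ⁅v, ℓ⁆ with hξ
  have hξ' : ξ = ζ ^ s := by
    have := hbil 1 s z hz 1 L.one_mem
    rwa [pow_one, mul_one, ← hsℓ, one_mul] at this
  have hξZ : ξ ∈ Z := hLQ' ℓ hℓL v
  have hξp : ξ ^ p = 1 := hexpW _ hξZ.1
  have hζp : ζ ^ p = 1 := hexpW _ hζZ.1
  have hξ1 : ξ ≠ 1 := fun h => hs (by
    rw [hξ'] at h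
    have := zmod_eq_of_pow hζp hζ1 (i := s) (j := 0) (by rw [h, pow_zero])
    rwa [Nat.cast_zero] at this)
  have hαξ : α ξ = ξ ^ (γ * μ * μ) := by
    rw [hξ, map_commutatorElement α, hαv, hqαℓ, hbil μ q z' hz' l₁ hl₁, ← hξ, hξ', ← pow_mul]
    exact pow_congr_zmod hζp (by push_cast; rw [hq]; ring)
  -- the relation given by the power
  have hnJ : n ^ J ∈ Z := by
    have h1 : n ^ (J * p) = 1 := by
      have h2 : (α r) ^ (J * p) = 1 := by rw [← map_pow, hJp, ← he, pow_orderOf_eq_one, map_one]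
      rw [hαr, hJp, hmulj, ← pow_mul, mul_comm, pow_mul, ← he, pow_orderOf_eq_one, one_pow, one_mul] at h2
      rwa [hJp, ← he]
    obtain ⟨w, hw, c, hc, hwc⟩ := mem_sup_of_normal_left.mp hn
    have hw1 : w ^ J = 1 := by
      rw [hJ, show e - 1 = (e - 2) + 1 by omega, pow_succ', pow_mul, hexpW w hw, one_pow]
    have hnc : n ^ J = c ^ J := by rw [← hwc, hJ, hmulj, ← hJ, hw1, one_mul]
    exact ⟨(B.mem_iff _).mpr (by rw [← pow_mul, h1]), hnc ▸ pow_mem hc J⟩
  have hαt : α t = t ^ γ * n ^ J := by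
    rw [ht, map_pow, hαr, hJ, hmulj, ← hJ, ← pow_mul, ← pow_mul, mul_comm γ]
  have hμ2 : (μ : ZMod p) ^ 2 = 1 := by
    by_cases htZ : t ∈ Z
    · have hn1 : n ^ J = 1 := by
        by_contra hne
        obtain ⟨j, hj⟩ := B.exists_pow_Z hnJ hne htZ
        have hr' : r * (n ^ j)⁻¹ ∉ N := fun h => hrN (by
          have := mul_mem h (pow_mem hn j)
          rwa [inv_mul_cancel_right] at this)
        have h1 : (r * (n ^ j)⁻¹) ^ J = 1 := by
          rw [hJ, hmulj, ← hJ, ← ht, inv_pow, ← pow_mul, mul_comm j, pow_mul, ← hj, mul_inv_cancel]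
        have h2 := Nat.le_of_dvd (pow_pos hp.out.pos _) (orderOf_dvd_of_pow_eq_one h1)
        have h3 := hrmin _ hr'
        rw [he] at h3
        have := (Nat.pow_le_pow_iff_right hp.out.one_lt).mp (h3.trans h2)
        omega
      rw [hn1, mul_one] at hαt
      obtain ⟨j, hj⟩ := B.exists_pow_Z hξZ hξ1 htZ
      have h1 : ξ ^ (γ * μ * μ * j) = ξ ^ (j * γ) := by
        rw [pow_mul, ← hαξ, ← map_pow, ← hj, hαt, hj, ← pow_mul]
      have h2 := zmod_eq_of_pow hξp hξ1 h1
      have hj0 : (j : ZMod p) ≠ 0 := fun h => ht1 (by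
        rw [hj, pow_congr_zmod hξp (show (j : ZMod p) = ((0 : ℕ) : ZMod p) by rw [h, Nat.cast_zero]), pow_zero])
      push_cast at h2
      refine mul_left_cancel₀ (mul_ne_zero hγ hj0) ?_
      linear_combination h2
    · obtain ⟨j, z₁, hz₁, hj⟩ := hLdec t htL
      have hπt : π t = π l₀ ^ j := by rw [hj, map_mul, (hπ z₁).mpr hz₁, mul_one, map_pow]
      -- express `t` through `ℓ`
      set k := ((j : ZMod p) / s).val with hk
      have hπt' : π t = π ℓ ^ k := by
        rw [hπt, hsℓ, map_mul, (hπ z).mpr hz, mul_one, map_pow, ← pow_mul]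
        exact pow_congr_zmod hπl₀p (by rw [Nat.cast_mul, hk, ZMod.natCast_zmod_val, mul_div_cancel₀ _ hs])
      have htℓ : t * (ℓ ^ k)⁻¹ ∈ Z := by
        rw [← hπ, map_mul π, map_inv π, hπt', map_pow π, mul_inv_cancel]
      have hπαt : π (α t) = π ℓ ^ (γ * μ * k) := by
        have e : t = t * (ℓ ^ k)⁻¹ * ℓ ^ k := by rw [inv_mul_cancel_right]
        rw [e, map_mul α, map_mul π, (hπ _).mpr (hαZ _ htℓ), one_mul, map_pow, map_pow, hαℓ, ← pow_mul]
      rw [hαt, map_mul, (hπ _).mpr hnJ, mul_one, map_pow, hπt', ← pow_mul] at hπαt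
      have h2 := zmod_eq_of_pow hℓp hℓ1 hπαt
      have hk0 : (k : ZMod p) ≠ 0 := fun h => htZ ((hπ t).mp (by
        rw [hπt', pow_congr_zmod hℓp (show (k : ZMod p) = ((0 : ℕ) : ZMod p) by rw [h, Nat.cast_zero]), pow_zero]))
      push_cast at h2
      have hμ1 : (μ : ZMod p) = 1 := by
        refine mul_left_cancel₀ (mul_ne_zero hγ hk0) ?_
        linear_combination (-1 : ZMod p) * h2
      rw [hμ1, one_pow]
  -- odd order
  obtain ⟨m, hm⟩ := hα
  let ρ := QuotientGroup.mk' L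
  have hit : ∀ i : ℕ, ρ ((α ^ i) v) = ρ v ^ (μ ^ i) := by
    intro i
    induction i with
    | zero => simp
    | succ i ih =>
      have h1 : (v ^ μ ^ i)⁻¹ * (α ^ i) v ∈ L := by
        rw [← QuotientGroup.eq, ← QuotientGroup.mk'_apply, ← QuotientGroup.mk'_apply, map_pow]
        exact ih.symm
      have h2 := hαL _ h1
      rw [map_mul, map_inv, map_pow, hαv] at h2
      have h3 : ρ ((α ^ (i + 1)) v) = ρ ((v ^ μ * l₁) ^ μ ^ i) := by
        rw [pow_succ', MulAut.mul_apply]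
        exact (QuotientGroup.eq.mpr h2).symm
      rw [h3, map_pow, map_mul, map_pow, show ρ l₁ = 1 from (QuotientGroup.eq_one_iff l₁).mpr hl₁, mul_one, ← pow_mul, pow_succ']
  have hρv : ρ v ≠ 1 := fun h => hvL ((QuotientGroup.eq_one_iff v).mp h)
  have hρp : ρ v ^ p = 1 := by rw [← map_pow, hvp, map_one]
  have hμm : (μ : ZMod p) ^ orderOf α = 1 := by
    have h1 := hit (orderOf α)
    rw [pow_orderOf_eq_one, MulAut.one_apply] at h1
    have h2 := zmod_eq_of_pow hρp hρv (i := μ ^ orderOf α) (j := 1) (by rw [pow_one]; exact h1.symm)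
    push_cast at h2
    exact h2
  have hμ1 : (μ : ZMod p) = 1 := by
    rwa [hm, pow_succ, pow_mul, hμ2, one_pow, one_mul] at hμm
  have hv1 : v ^ μ = v := by
    rw [pow_congr_zmod hvp (show (μ : ZMod p) = ((1 : ℕ) : ZMod p) by rw [hμ1, Nat.cast_one]), pow_one]
  rw [hαv, hv1, inv_mul_cancel_left]
  exact hl₁

end Base

/-! ## The theorem -/

variable {G : Type u} [Group G] [Finite G] {p : ℕ} [hp : Fact p.Prime]

theorem three_lt (hp2 : p ≠ 2) {R A : Subgroup G} (hR : IsPGroup p R) (hr : Cfsg.PRankLE p 2 R)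
    (hA : A ≤ normalizer (R : Set G)) (hcop : (Nat.card A).Coprime p) (hodd : Odd (Nat.card A))
    (hnc : ¬ A ≤ centralizer (R : Set G)) : 3 < p := by
  by_contra hp3
  have hp' : p = 3 := le_antisymm (by omega) (by have := hp.out.two_le; omega)
  obtain ⟨a₀, ha₀, ha₀'⟩ := SetLike.not_le_iff_exists.mp hnc
  obtain ⟨a, ⟨haA, haC⟩, hmin⟩ := Set.exists_min_image {x : G | x ∈ A ∧ x ∉ centralizer (R : Set G)} orderOf
    (Set.toFinite _) ⟨a₀, ha₀, ha₀'⟩
  have ha1 : orderOf a ≠ 1 := fun h => haC (by rw [orderOf_eq_one_iff.mp h]; exact one_mem _)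
  set q := (orderOf a).minFac with hq
  have hqp : q.Prime := Nat.minFac_prime ha1
  have hdvd : orderOf a ∣ Nat.card A := Subgroup.orderOf_coe (⟨a, haA⟩ : A) ▸ orderOf_dvd_natCard _
  have haq : a ^ q ∈ centralizer (R : Set G) := by
    by_contra h
    have h1 := hmin _ ⟨pow_mem haA q, h⟩
    rw [orderOf_pow_of_dvd hqp.ne_zero (Nat.minFac_dvd _)] at h1
    exact absurd h1 (not_le.mpr (Nat.div_lt_self (orderOf_pos a) hqp.one_lt))
  have hqA : q ∣ Nat.card A := (Nat.minFac_dvd _).trans hdvd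
  have hqne : q ≠ p := fun h => hp.out.ne_one (Nat.eq_one_of_dvd_coprimes hcop (h ▸ hqA) dvd_rfl)
  have hq2 : q ≠ 2 := fun h => Nat.not_even_iff_odd.mpr hodd (even_iff_two_dvd.mpr (h ▸ hqA))
  have h8 := Cfsg.Lib.OddP.prime_dvd_sq_sub_one hp2 hR hr (hA haA) (hcop.coprime_dvd_left hdvd) hqp hqne haq haC
  have h9 := Cfsg.Lib.OddP.prime_le_of_dvd_sq_sub_one hqp hq2 hp2 h8
  have := hqp.two_le
  omega

theorem exists_base (h3 : 3 < p) {R A : Subgroup G} (hR : IsPGroup p R)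
    (hr : Cfsg.PRankLE p 2 R) (hA : A ≤ normalizer (R : Set G)) (hcop : (Nat.card A).Coprime p)
    (hodd : Odd (Nat.card A)) (hRA : ⁅R, A⁆ = R) :
    IsMulCommutative R ∨ ∃ W : Subgroup R, Base p W ∧ W ⊔ centralizer (W : Set R) = ⊤ := by
  classical
  have hp2 : p ≠ 2 := by omega
  have hrk : ∀ E : Subgroup R, Cfsg.IsElementaryAbelian p E → Nat.card E ≤ p ^ 2 := fun E hE => hr E hE.1 hE.2
  set W : Subgroup R := Cfsg.omegaOne p (⊤ : Subgroup R) with hW
  have hexp : ∀ x ∈ W, x ^ p = 1 := OmegaRankTwo.omega_exponent h3 hR hrk _ ⊤ le_rfl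
  have hmemW : ∀ x : R, x ∈ W ↔ x ^ p = 1 := fun x => ⟨hexp x, fun h => subset_closure ⟨mem_top x, h⟩⟩
  have hWc := OmegaRankTwo.card_le_cube hR hexp hrk
  by_cases hsmall : Nat.card W ≤ p ^ 2
  · left
    have hm := OmegaQuotient.isMetacyclic_of_omega h3 _ R le_rfl hR hsmall
    have := (MetaCoprime.coprime_structure hp2 hR hm hA hcop).1
    rwa [hRA] at this
  have hWna : ¬ IsMulCommutative W := fun hc => hsmall (hr W hc hexp)
  have hW3 : Nat.card W = p ^ 3 := by
    obtain ⟨k, hk⟩ := IsPGroup.iff_card.mp (hR.to_subgroup W)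
    rw [hk] at hWc hsmall ⊢
    have h1 := (Nat.pow_le_pow_iff_right hp.out.one_lt).mp hWc
    have h2 : ¬ k ≤ 2 := fun h => hsmall (Nat.pow_le_pow_right hp.out.pos h)
    rw [show k = 3 by omega]
  have B : Base p W := ⟨h3, hR, hmemW, hW3, hWna⟩
  haveI := B.characteristic
  have hsup : W ⊔ centralizer (W : Set R) = ⊤ := by
    by_contra hne
    obtain ⟨M, v, hMn, hder, hvW, hvM, hfix⟩ := B.exists_fixed hne
    haveI hc : IsMulCommutative (↥R ⧸ M) := ⟨⟨fun a b => by
      obtain ⟨x, rfl⟩ := QuotientGroup.mk'_surjective M a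
      obtain ⟨y, rfl⟩ := QuotientGroup.mk'_surjective M b
      rw [← commutatorElement_eq_one_iff_mul_comm, ← map_commutatorElement]
      exact (QuotientGroup.eq_one_iff _).mpr (hder (commutator_mem_commutator (mem_top x) (mem_top y)))⟩⟩
    letI : CommGroup (↥R ⧸ M) := { (inferInstance : Group (↥R ⧸ M)) with mul_comm := hc.is_comm.comm }
    have h := MetaCoprime.norm_trick (W := ↥R ⧸ M) (QuotientGroup.mk' M) hA hRA (v := v) fun a => by
      rw [QuotientGroup.mk'_apply, QuotientGroup.mk'_apply]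
      refine (QuotientGroup.eq.mpr ?_).symm
      let φ : A →* MulAut R := R.normalizerMonoidHom.comp (Subgroup.inclusion hA)
      have hoddα : Odd (orderOf (φ a)) := Odd.of_dvd_nat hodd ((orderOf_map_dvd φ a).trans (orderOf_dvd_natCard a))
      exact hfix (φ a) hoddα
    rw [QuotientGroup.mk'_apply] at h
    have h1 : (QuotientGroup.mk v : ↥R ⧸ M) ^ p = 1 := by
      rw [← QuotientGroup.mk_pow, hexp v hvW, QuotientGroup.mk_one]
    have h4 := Nat.eq_one_of_dvd_coprimes hcop (orderOf_dvd_of_pow_eq_one h) (orderOf_dvd_of_pow_eq_one h1)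
    rw [orderOf_eq_one_iff, QuotientGroup.eq_one_iff] at h4
    exact hvM h4
  exact Or.inr ⟨W, B, hsup⟩

theorem structure_of_displacements (hp2 : p ≠ 2) {R A : Subgroup G} (hR : IsPGroup p R) (hR1 : R ≠ ⊥)
    (hr : Cfsg.PRankLE p 2 R) (hA : A ≤ normalizer (R : Set G)) (hcop : (Nat.card A).Coprime p)
    (hodd : Odd (Nat.card A)) (hRA : ⁅R, A⁆ = R) :
    3 < p ∧ (IsMulCommutative R ∨ ∃ R₁ R₂ : Subgroup G, R₁ ⊔ R₂ = R ∧ (∀ a ∈ R₁, ∀ b ∈ R₂, a * b = b * a) ∧
        ¬ IsMulCommutative R₁ ∧ Nat.card R₁ = p ^ 3 ∧ Monoid.exponent R₁ = p ∧ IsCyclic R₂ ∧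
        closure {x : G | x ∈ R₂ ∧ x ^ p = 1} = ⁅R₁, R₁⁆) := by
  classical
  have hnc : ¬ A ≤ centralizer (R : Set G) := fun h => hR1 (by
    rw [← hRA, commutator_comm]
    exact commutator_eq_bot_iff_le_centralizer.mpr h)
  have h3 := three_lt hp2 hR hr hA hcop hodd hnc
  refine ⟨h3, ?_⟩
  refine (exists_base h3 hR hr hA hcop hodd hRA).imp id ?_
  rintro ⟨W, B, hsup⟩
  have hexp : ∀ x ∈ W, x ^ p = 1 := fun x hx => (B.mem_iff x).mp hx
  have hmemW := B.mem_iff
  have hW3 := B.card_W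
  have hWna := B.nonabelian
  refine ⟨W.map R.subtype, (centralizer (W : Set R)).map R.subtype, ?_, ?_, ?_, ?_, ?_, ?_, ?_⟩
  · rw [← Subgroup.map_sup, hsup, ← MonoidHom.range_eq_map, range_subtype]
  · rintro _ ⟨a, ha, rfl⟩ _ ⟨b, hb, rfl⟩
    exact congrArg R.subtype (mem_centralizer_iff.mp hb a ha)
  · intro hc
    refine hWna ⟨⟨fun a b => ?_⟩⟩
    have := congrArg Subtype.val (hc.is_comm.comm (⟨_, mem_map_of_mem R.subtype a.2⟩ : W.map R.subtype)
      ⟨_, mem_map_of_mem R.subtype b.2⟩)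
    exact Subtype.ext (Subtype.ext this)
  · rw [Subgroup.card_subtype, hW3]
  · rw [← Monoid.exponent_eq_of_mulEquiv (W.equivMapOfInjective R.subtype R.subtype_injective)]
    refine ((Nat.dvd_prime hp.out).mp (Monoid.exponent_dvd_of_forall_pow_eq_one fun x =>
      Subtype.ext (by rw [Subgroup.coe_pow, hexp x x.2, Subgroup.coe_one]))).resolve_left fun h => ?_
    haveI := Monoid.exp_eq_one_iff.mp h
    rw [Nat.card_unique] at hW3
    exact (Nat.one_lt_pow three_ne_zero hp.out.one_lt).ne hW3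
  · haveI := B.isCyclic_centralizer
    exact isCyclic_of_surjective
      ((centralizer (W : Set R)).equivMapOfInjective R.subtype R.subtype_injective).toMonoidHom
      (MulEquiv.surjective _)
  · rw [← map_commutator, B.comm_eq_Z]
    refine le_antisymm ((closure_le _).mpr ?_) ?_
    · rintro _ ⟨⟨y, hy, rfl⟩, hxp⟩
      exact ⟨y, ⟨(hmemW y).mpr (R.subtype_injective (by rw [map_pow, hxp, map_one])), hy⟩, rfl⟩
    · rintro _ ⟨y, ⟨hyW, hyC⟩, rfl⟩
      exact subset_closure ⟨mem_map_of_mem R.subtype hyC, by rw [← map_pow, hexp y hyW, map_one]⟩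

end Cfsg.Lib.PGroups.BlackburnCoprime
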