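import Mathlib

/-!
An anisotropic quadratic map over the field of two elements: `dim U ≤ 2 dim M`.
-/

set_option linter.style.haveILetI false

namespace Cfsg.Lib.Anisotropic

open Module MvPolynomial

universe u v

variable {U : Type u} {M : Type v} [AddCommGroup U] [Module (ZMod 2) U] [Finite U]
  [AddCommGroup M] [Module (ZMod 2) M] [Finite M]

/-- The polar map of `q`. -/
def polar (q : U → M) (u v : U) : M := q (u + v) - q u - q v

theorem two_smul_zero (m : M) : m + m = 0 := by
  rw [← two_smul (ZMod 2) m, show (2 : ZMod 2) = 0 from rfl, zero_smul]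

/-- The main inequality. -/
theorem finrank_le (q : U → M) (hq : ∀ u v w, polar q (u + v) w = polar q u w + polar q v w)
    (haniso : ∀ u, q u = 0 → u = 0) : finrank (ZMod 2) U ≤ 2 * finrank (ZMod 2) M := by
  classical
  by_contra hlt
  push Not at hlt
  haveI : Module.Finite (ZMod 2) U := Module.Finite.of_finite
  haveI : Module.Finite (ZMod 2) M := Module.Finite.of_finite
  let e := Module.finBasis (ZMod 2) U
  let b := Module.finBasis (ZMod 2) M
  have hq0 : q 0 = 0 := by
    have h := hq 0 0 0
    simp [polar] at h
    exact h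
  have hsym : ∀ u v, polar q u v = polar q v u := fun u v => by
    rw [polar, polar, add_comm u v, sub_right_comm]
  let β : U → (U →ₗ[ZMod 2] M) := fun u => AddMonoidHom.toZModLinearMap 2
    (AddMonoidHom.mk' (fun v => polar q u v) fun a c => by simp only [hsym u, hq])
  have key : ∀ (i : Fin (finrank (ZMod 2) M)) (s : Finset (Fin (finrank (ZMod 2) U))),
      ∃ P : MvPolynomial (Fin (finrank (ZMod 2) U)) (ZMod 2), P.totalDegree ≤ 2 ∧
        ∀ x, eval x P = b.repr (q (∑ j ∈ s, x j • e j)) i := by
    intro i s
    induction s using Finset.induction_on with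
    | empty => exact ⟨0, by simp, fun x => by simp [hq0]⟩
    | @insert a s ha ih =>
      obtain ⟨P, hP, hPx⟩ := ih
      refine ⟨P + X a * (C (b.repr (q (e a)) i) + ∑ j ∈ s, C (b.repr (β (e a) (e j)) i) * X j), ?_, fun x => ?_⟩
      · refine (totalDegree_add _ _).trans (max_le hP ((totalDegree_mul _ _).trans ?_))
        rw [totalDegree_X]
        refine (Nat.add_le_add_left (m := 1) ?_ 1).trans (le_of_eq rfl)
        refine ((totalDegree_add _ _).trans (max_le (by simp) ?_))
        refine (totalDegree_finset_sum _ _).trans (Finset.sup_le fun j _ => (totalDegree_mul _ _).trans ?_)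
        simp [totalDegree_X]
      · rw [Finset.sum_insert ha]
        set w := ∑ j ∈ s, x j • e j with hw
        have hdec : q (x a • e a + w) = q w + x a • (q (e a) + β (e a) w) := by
          have hxa : x a = 0 ∨ x a = 1 := by
            generalize x a = c
            revert c; decide
          rcases hxa with h | h
          · simp [h]
          · rw [h, one_smul, one_smul]
            show q (e a + w) = q w + (q (e a) + polar q (e a) w)
            rw [polar]; abel
        rw [hdec]
        simp only [map_add, map_mul, eval_X, eval_C, map_sum, map_smul, Finsupp.add_apply, Finsupp.smul_apply,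
          Finsupp.finsetSum_apply, smul_eq_mul, hw, hPx]
        exact congrArg _ (congrArg _ (congrArg _ (Finset.sum_congr rfl fun j _ => mul_comm _ _)))
  choose P hP hPx using fun i => key i Finset.univ
  have hdvd := char_dvd_card_solutions_of_fintype_sum_lt (K := ZMod 2) (p := 2) (f := P) (by
    calc ∑ i, (P i).totalDegree ≤ ∑ _i : Fin (finrank (ZMod 2) M), 2 := Finset.sum_le_sum fun i _ => hP i
      _ < _ := by simpa [mul_comm] using hlt)
  have hone : Fintype.card { x : Fin (finrank (ZMod 2) U) → ZMod 2 // ∀ i, eval x (P i) = 0 } = 1 := by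
    refine Fintype.card_eq_one_iff.2 ⟨⟨0, fun i => by rw [hPx]; simp [hq0]⟩, fun x => Subtype.ext ?_⟩
    have h1 : ∑ j, x.1 j • e j = 0 := haniso _ (b.repr.injective (Finsupp.ext fun i => by
      rw [← hPx, x.2 i, map_zero]; rfl))
    funext j
    exact Fintype.linearIndependent_iff.1 e.linearIndependent x.1 h1 j
  have h2 : 2 ∣ 1 := by rw [← hone]; convert hdvd
  omega

/-- Strictness: a functional killing the polar map, or a radical vector. -/
theorem polar_props_of_eq (q : U → M) (hq : ∀ u v w, polar q (u + v) w = polar q u w + polar q v w)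
    (haniso : ∀ u, q u = 0 → u = 0) (heq : finrank (ZMod 2) U = 2 * finrank (ZMod 2) M) :
    Submodule.span (ZMod 2) (Set.range fun p : U × U => polar q p.1 p.2) = ⊤ ∧
      ∀ u, (∀ v, polar q u v = 0) → u = 0 := by
  classical
  haveI : Module.Finite (ZMod 2) U := Module.Finite.of_finite
  haveI : Module.Finite (ZMod 2) M := Module.Finite.of_finite
  have hq0 : q 0 = 0 := by
    have h := hq 0 0 0
    simp [polar] at h
    exact h
  refine ⟨?_, fun u hu => ?_⟩
  · by_contra hne
    obtain ⟨φ, hφ, hker⟩ := Submodule.exists_le_ker_of_lt_top _ (lt_top_iff_ne_top.2 hne)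
    let L : U →ₗ[ZMod 2] ZMod 2 := AddMonoidHom.toZModLinearMap 2 (AddMonoidHom.mk' (fun u => φ (q u)) fun a c => by
      have h1 : φ (polar q a c) = 0 := hker (Submodule.subset_span ⟨(a, c), rfl⟩)
      rw [polar, map_sub, map_sub, sub_sub, sub_eq_zero] at h1
      exact h1)
    have hmem : ∀ u : LinearMap.ker L, q u ∈ LinearMap.ker φ := fun u => u.2
    have h := finrank_le (fun u : LinearMap.ker L => (⟨q u, hmem u⟩ : LinearMap.ker φ))
      (fun a c d => Subtype.ext (hq a c d))
      (fun a ha => Subtype.ext (haniso a (congrArg Subtype.val ha)))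
    have h1 := LinearMap.finrank_range_add_finrank_ker φ
    have h2 := LinearMap.finrank_range_add_finrank_ker L
    have h3 : finrank (ZMod 2) (LinearMap.range L) ≤ 1 := (Submodule.finrank_le _).trans (finrank_self _).le
    have h4 : 0 < finrank (ZMod 2) (LinearMap.range φ) := by
      rw [Nat.pos_iff_ne_zero, Ne, Submodule.finrank_eq_zero, LinearMap.range_eq_bot]
      exact hφ
    omega
  · by_contra hne
    set c := q u with hc
    have hc0 : c ≠ 0 := fun h => hne (haniso u h)
    obtain ⟨U', hU'⟩ := Submodule.exists_isCompl (Submodule.span (ZMod 2) {u})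
    set C := Submodule.span (ZMod 2) {c}
    haveI : Finite (M ⧸ C) := Finite.of_surjective _ (Submodule.mkQ_surjective C)
    have h := finrank_le (fun v : U' => C.mkQ (q v)) (fun a d e => by
      show C.mkQ (q ((a : U) + d + e)) - C.mkQ (q ((a : U) + d)) - C.mkQ (q e) =
        (C.mkQ (q ((a : U) + e)) - C.mkQ (q a) - C.mkQ (q e)) + (C.mkQ (q ((d : U) + e)) - C.mkQ (q d) - C.mkQ (q e))
      simp only [← map_sub, ← map_add]
      exact congrArg C.mkQ (hq a d e)) (fun v hv => by
      rw [Submodule.mkQ_apply, Submodule.Quotient.mk_eq_zero, Submodule.mem_span_singleton] at hv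
      obtain ⟨t, ht⟩ := hv
      have ht' : t = 0 ∨ t = 1 := by
        clear ht; revert t; decide
      refine Subtype.ext (?_ : (v : U) = 0)
      rcases ht' with rfl | rfl
      · exact haniso v (by rw [← ht, zero_smul])
      · rw [one_smul] at ht
        have h1 : q (u + v) = 0 := by
          have h2 := hu v
          rw [polar, ← hc, ← ht, sub_sub, sub_eq_zero] at h2
          rw [h2, two_smul_zero]
        have h3 := haniso _ h1
        have h4 : (v : U) ∈ Submodule.span (ZMod 2) {u} := by
          rw [eq_neg_of_add_eq_zero_right h3]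
          exact neg_mem (Submodule.mem_span_singleton_self u)
        exact (Submodule.disjoint_def.1 hU'.disjoint) _ h4 v.2)
    have h1 := Submodule.finrank_quotient_add_finrank C
    have h2 := Submodule.finrank_add_eq_of_isCompl hU'
    rw [finrank_span_singleton hc0] at h1
    rw [finrank_span_singleton hne] at h2
    omega

end Cfsg.Lib.Anisotropic
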