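import Mathlib
import Cfsg.Agent.PGroups.Anisotropic
import Cfsg.Agent.Chars.Burnside
import Cfsg.Agent.Presentations.BinaryIcosahedral

/-!
The isometry group of an anisotropic quadratic map into a space of dimension at most two over the
field of two elements is solvable.
-/

set_option linter.style.haveILetI false

namespace Cfsg.Lib.Anisotropic

open Module

universe u v w

variable {U : Type u} {M : Type v} [AddCommGroup U] [Module (ZMod 2) U] [Finite U]
  [AddCommGroup M] [Module (ZMod 2) M] [Finite M]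

theorem q_zero (q : U → M) (hq : ∀ u v w, polar q (u + v) w = polar q u w + polar q v w) : q 0 = 0 := by
  have h := hq 0 0 0
  simp [polar] at h
  exact h

theorem zmod_two (t : ZMod 2) : t = 0 ∨ t = 1 := by revert t; decide

/-- An anisotropic map all of whose values at nonzero vectors are `a` or `b` lives in dimension at most two. -/
theorem finrank_le_two_of_values (q : U → M) (hq : ∀ u v w, polar q (u + v) w = polar q u w + polar q v w)
    (haniso : ∀ u, q u = 0 → u = 0) {a b : M} (hb : b ≠ 0) (hv : ∀ u, u ≠ 0 → q u = a ∨ q u = b) (ha : a ≠ 0) :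
    finrank (ZMod 2) U ≤ 2 := by
  let C : Submodule (ZMod 2) M := Submodule.span (ZMod 2) {a + b}
  haveI : Finite (M ⧸ C) := Finite.of_surjective _ (Submodule.mkQ_surjective C)
  let T : Submodule (ZMod 2) (M ⧸ C) := Submodule.span (ZMod 2) {C.mkQ a}
  have hab : C.mkQ b = C.mkQ a := by
    refine (Submodule.Quotient.eq C).2 (Submodule.mem_span_singleton.2 ⟨1, ?_⟩)
    rw [one_smul, sub_eq_add_neg, show -a = a from neg_eq_of_add_eq_zero_right (two_smul_zero a), add_comm]
  have hmem : ∀ u, C.mkQ (q u) ∈ T := fun u => by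
    by_cases hu : u = 0
    · rw [hu, q_zero q hq, map_zero]; exact zero_mem T
    · rcases hv u hu with h | h
      · rw [h]; exact Submodule.mem_span_singleton_self _
      · rw [h, hab]; exact Submodule.mem_span_singleton_self _
  have ha0 : C.mkQ a ≠ 0 := by
    intro h
    rw [Submodule.mkQ_apply, Submodule.Quotient.mk_eq_zero, Submodule.mem_span_singleton] at h
    obtain ⟨t, ht⟩ := h
    rcases zmod_two t with rfl | rfl
    · rw [zero_smul] at ht; exact ha ht.symm
    · rw [one_smul, add_eq_left] at ht; exact hb ht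
  have h := finrank_le (fun u => (⟨C.mkQ (q u), hmem u⟩ : T)) (fun u v w => Subtype.ext (by
      show C.mkQ (q (u + v + w)) - C.mkQ (q (u + v)) - C.mkQ (q w) =
        (C.mkQ (q (u + w)) - C.mkQ (q u) - C.mkQ (q w)) + (C.mkQ (q (v + w)) - C.mkQ (q v) - C.mkQ (q w))
      simp only [← map_sub, ← map_add]
      exact congrArg C.mkQ (hq u v w)))
    (fun u hu => by
      by_contra hu0
      have h0 : C.mkQ (q u) = 0 := congrArg Subtype.val hu
      rcases hv u hu0 with h | h
      · rw [h] at h0; exact ha0 h0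
      · rw [h, hab] at h0; exact ha0 h0)
  have h1 : finrank (ZMod 2) T ≤ 1 := (finrank_span_singleton ha0).le
  omega

/-- The nonzero fixed-point free part of an element of odd prime order. -/
theorem free_part (f : Module.End (ZMod 2) U) {r : ℕ} (hr : r.Prime) (hr2 : r ≠ 2) (hf : f ^ r = 1) (hf1 : f ≠ 1) :
    ∃ W : Submodule (ZMod 2) U, (∀ w ∈ W, f w ∈ W) ∧ W ≠ ⊥ ∧ (∀ w ∈ W, f w = w → w = 0) ∧
      (∃ k, k = finrank (ZMod 2) W ∧ 2 ^ k ≡ 1 [MOD r]) := by
  haveI : Fact r.Prime := ⟨hr⟩
  let Nm : Module.End (ZMod 2) U := ∑ i ∈ Finset.range r, f ^ i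
  have hcomm : Commute f Nm := Commute.sum_right _ _ _ fun i _ => (Commute.refl f).pow_right i
  have hprod : Nm * (f - 1) = 0 := by
    show (∑ i ∈ Finset.range r, f ^ i) * (f - 1) = 0
    rw [geom_sum_mul, hf, sub_self]
  let W := LinearMap.ker Nm
  have hinv : ∀ w ∈ W, f w ∈ W := fun w hw => by
    show Nm (f w) = 0
    rw [← Module.End.mul_apply, ← hcomm.eq, Module.End.mul_apply, LinearMap.mem_ker.1 hw, map_zero]
  have hne : W ≠ ⊥ := by
    obtain ⟨x, hx⟩ : ∃ x, f x ≠ x := by
      by_contra hall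
      push Not at hall
      exact hf1 (LinearMap.ext hall)
    intro hW
    have h1 : f x - x ∈ W := by
      show Nm (f x - x) = 0
      exact LinearMap.congr_fun hprod x
    rw [hW, Submodule.mem_bot, sub_eq_zero] at h1
    exact hx h1
  have hfix : ∀ w ∈ W, f w = w → w = 0 := by
    intro w hw hfw
    have hpow : ∀ i : ℕ, (f ^ i) w = w := fun i => by
      induction i with
      | zero => rfl
      | succ i ih => rw [pow_succ, Module.End.mul_apply, hfw, ih]
    have h1 : Nm w = (r : ZMod 2) • w := by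
      show (∑ i ∈ Finset.range r, f ^ i) w = _
      rw [LinearMap.sum_apply]
      simp [hpow, Nat.cast_smul_eq_nsmul]
    have h2 : (r : ZMod 2) = 1 := by
      obtain ⟨j, rfl⟩ := hr.odd_of_ne_two hr2
      push_cast
      rw [show (2 : ZMod 2) = 0 from rfl, zero_mul, zero_add]
    rw [LinearMap.mem_ker.1 hw, h2, one_smul] at h1
    exact h1.symm
  refine ⟨W, hinv, hne, hfix, _, rfl, ?_⟩
  let e : Equiv.Perm W :=
    { toFun := fun w => ⟨f w.1, hinv w.1 w.2⟩
      invFun := fun w => ⟨(f ^ (r - 1)) w.1, by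
        have : ∀ i : ℕ, ∀ x ∈ W, (f ^ i) x ∈ W := fun i => by
          induction i with
          | zero => exact fun x hx => hx
          | succ i ih => exact fun x hx => by rw [pow_succ, Module.End.mul_apply]; exact ih _ (hinv x hx)
        exact this _ _ w.2⟩
      left_inv := fun w => Subtype.ext (by
        show (f ^ (r - 1)) (f w.1) = w.1
        rw [← Module.End.mul_apply, ← pow_succ, Nat.sub_add_cancel hr.one_le, hf, Module.End.one_apply])
      right_inv := fun w => Subtype.ext (by
        show f ((f ^ (r - 1)) w.1) = w.1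
        rw [← Module.End.mul_apply, ← pow_succ', Nat.sub_add_cancel hr.one_le, hf, Module.End.one_apply]) }
  have hecoe : ∀ (i : ℕ) (w : W), (((e ^ i) w : W) : U) = (f ^ i) w.1 := fun i => by
    induction i with
    | zero => intro w; rfl
    | succ i ih => intro w; rw [pow_succ, Equiv.Perm.mul_apply, ih, pow_succ, Module.End.mul_apply]; rfl
  have her : e ^ r = 1 := Equiv.ext fun w => Subtype.ext (by rw [hecoe, hf]; rfl)
  have hp : IsPGroup r (Subgroup.zpowers e) := fun g => ⟨1, Subtype.ext (by
    obtain ⟨j, hj⟩ := Subgroup.mem_zpowers_iff.1 g.2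
    rw [pow_one, SubmonoidClass.coe_pow, ← hj, ← zpow_natCast, ← zpow_mul, mul_comm, zpow_mul, zpow_natCast, her,
      one_zpow]; rfl)⟩
  have h := hp.card_modEq_card_fixedPoints W
  have h0 : MulAction.fixedPoints (Subgroup.zpowers e) W = {0} := by
    ext w
    rw [MulAction.mem_fixedPoints, Set.mem_singleton_iff]
    constructor
    · intro hw
      exact Subtype.ext (hfix w.1 w.2 (congrArg Subtype.val (hw ⟨e, Subgroup.mem_zpowers e⟩)))
    · rintro rfl g
      obtain ⟨j, hj⟩ := Subgroup.mem_zpowers_iff.1 g.2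
      show (g : Equiv.Perm W) 0 = 0
      rw [← hj]
      exact Equiv.Perm.zpow_apply_eq_self_of_apply_eq_self (Subtype.ext (map_zero f)) j
  rw [h0, Nat.card_coe_set_eq, Set.ncard_singleton, Module.natCard_eq_pow_finrank (K := ZMod 2), Nat.card_zmod] at h
  exact h

/-- The vectors of the five-cycle in coordinates. -/
def fiveVec (i : ZMod 5) : Fin 4 → ZMod 2 := fun j => if (j : ℕ) = i.val ∨ i.val = 4 then 1 else 0

theorem five_cover (x : Fin 4 → ZMod 2) (hx : x ≠ 0) :
    ∃ i : ZMod 5, x = fiveVec i ∨ x = fiveVec i + fiveVec (i + 1) ∨ x = fiveVec i + fiveVec (i + 2) := by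
  revert x; decide

/-- The isometry group is solvable. -/
theorem isSolvable_isometries (q : U → M) (hq : ∀ u v w, polar q (u + v) w = polar q u w + polar q v w)
    (haniso : ∀ u, q u = 0 → u = 0) (hM : finrank (ZMod 2) M ≤ 2) {G : Type w} [Group G] [Finite G]
    (ρ : G →* Module.End (ZMod 2) U) (hinj : Function.Injective ρ) (hG : ∀ g u, q (ρ g u) = q u) :
    Group.IsSolvable G := by
  classical
  haveI : Module.Finite (ZMod 2) U := Module.Finite.of_finite
  have hU : finrank (ZMod 2) U ≤ 4 := (finrank_le q hq haniso).trans (by omega)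
  have hcan : ∀ g, Function.Injective (ρ g) := fun g x y e => by
    have := congrArg (ρ g⁻¹) e
    rwa [← Module.End.mul_apply, ← Module.End.mul_apply, ← map_mul, inv_mul_cancel, map_one] at this
  have hprime : ∀ r, r.Prime → r ∣ Nat.card G → r ≠ 2 → r ≠ 3 → r = 5 := by
    intro r hr hdvd hr2 hr3
    haveI : Fact r.Prime := ⟨hr⟩
    obtain ⟨g, hg⟩ := exists_prime_orderOf_dvd_card' r hdvd
    obtain ⟨W, hinv, hne, hfix, k, hk, hmod⟩ := free_part (ρ g) hr hr2
      (by rw [← map_pow, ← hg, pow_orderOf_eq_one, map_one])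
      (fun e => hr.ne_one (by rw [← hg, orderOf_eq_one_iff]; exact hinj (e.trans (map_one ρ).symm)))
    have hk4 : k ≤ 4 := hk ▸ (Submodule.finrank_le W).trans hU
    have hk0 : k ≠ 0 := fun e => hne (Submodule.finrank_eq_zero.1 (hk ▸ e))
    have hdv : r ∣ 2 ^ k - 1 := (Nat.modEq_iff_dvd' Nat.one_le_two_pow).1 hmod.symm
    rcases (show k = 1 ∨ k = 2 ∨ k = 3 ∨ k = 4 by omega) with h | h | h | h <;> rw [h] at hdv <;> norm_num at hdv
    · exact absurd hdv hr.ne_one
    · exact absurd ((Nat.prime_dvd_prime_iff_eq hr Nat.prime_three).1 hdv) hr3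
    · have h7 := (Nat.prime_dvd_prime_iff_eq hr (by norm_num : Nat.Prime 7)).1 hdv
      exfalso
      obtain ⟨w, hw, hw0⟩ := Submodule.exists_mem_ne_zero_of_ne_bot hne
      let o : Fin 7 → {x : U // x ∈ W ∧ x ≠ 0} := fun i => ⟨ρ (g ^ (i : ℕ)) w, by
        refine ⟨?_, fun e => hw0 (hcan _ (e.trans (map_zero _).symm))⟩
        generalize (i : ℕ) = j
        induction j with
        | zero => simpa using hw
        | succ j ih => rw [pow_succ', map_mul, Module.End.mul_apply]; exact hinv _ ih⟩
      have hoinj : Function.Injective o := by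
        intro i j e
        have e' : ρ (g ^ (i : ℕ)) w = ρ (g ^ (j : ℕ)) w := congrArg Subtype.val e
        by_contra hij
        let S : Subgroup G :=
          { carrier := {x | ρ x w = w}
            one_mem' := by simp
            mul_mem' := fun {a b} (ha : ρ a w = w) (hb : ρ b w = w) => show ρ (a * b) w = w by
              rw [map_mul, Module.End.mul_apply, hb, ha]
            inv_mem' := fun {a} (ha : ρ a w = w) => show ρ a⁻¹ w = w by
              nth_rewrite 1 [← ha]
              rw [← Module.End.mul_apply, ← map_mul, inv_mul_cancel, map_one, Module.End.one_apply] }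
        have hmem : (g ^ (j : ℕ))⁻¹ * g ^ (i : ℕ) ∈ S := by
          show ρ _ w = w
          rw [map_mul, Module.End.mul_apply, e', ← Module.End.mul_apply, ← map_mul, inv_mul_cancel, map_one,
            Module.End.one_apply]
        have hne1 : (g ^ (j : ℕ))⁻¹ * g ^ (i : ℕ) ≠ 1 := fun e1 => hij (Fin.ext (
          pow_injOn_Iio_orderOf (by rw [hg, h7]; exact i.2) (by rw [hg, h7]; exact j.2) (inv_mul_eq_one.1 e1).symm))
        have hz : (g ^ (j : ℕ))⁻¹ * g ^ (i : ℕ) ∈ Subgroup.zpowers g :=
          mul_mem (inv_mem (pow_mem (Subgroup.mem_zpowers g) _)) (pow_mem (Subgroup.mem_zpowers g) _)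
        have hgS : g ∈ Subgroup.zpowers ((g ^ (j : ℕ))⁻¹ * g ^ (i : ℕ)) := by
          have hord : orderOf ((g ^ (j : ℕ))⁻¹ * g ^ (i : ℕ)) = r := by
            rcases (Nat.dvd_prime hr).1 (hg ▸ orderOf_dvd_of_mem_zpowers hz) with h | h
            · exact absurd (orderOf_eq_one_iff.1 h) hne1
            · exact h
          rw [Subgroup.eq_of_le_of_card_ge (Subgroup.zpowers_le.2 hz)
            (by rw [Nat.card_zpowers, Nat.card_zpowers, hord, hg])]
          exact Subgroup.mem_zpowers g
        exact hw0 (hfix w hw ((Subgroup.zpowers_le.2 hmem) hgS))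
      have hcard : Nat.card {x : U // x ∈ W ∧ x ≠ 0} = 7 := by
        have h1 : Nat.card W = 8 := by
          rw [Module.natCard_eq_pow_finrank (K := ZMod 2), Nat.card_zmod, ← hk, ‹k = 3›]; norm_num
        have h2 : Nat.card {x : U // x ∈ W ∧ x ≠ 0} = ((W : Set U) \ {0}).ncard := Nat.card_coe_set_eq _
        rw [h2, Set.ncard_sdiff_singleton_of_mem W.zero_mem, ← Nat.card_coe_set_eq]
        exact (congrArg (· - 1) h1).trans rfl
      haveI := Fintype.ofFinite {x : U // x ∈ W ∧ x ≠ 0}
      have hsurj : Function.Surjective o := ((Fintype.bijective_iff_injective_and_card o).2 ⟨hoinj, by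
        rw [← Nat.card_eq_fintype_card, ← Nat.card_eq_fintype_card, hcard, Nat.card_fin]⟩).2
      have hval : ∀ x : W, x ≠ 0 → q x.1 = q w := fun x hx => by
        obtain ⟨i, hi⟩ := hsurj ⟨x.1, x.2, fun e => hx (Subtype.ext e)⟩
        rw [← congrArg Subtype.val hi]
        exact hG _ _
      have hqw : q w ≠ 0 := fun e => hw0 (haniso w e)
      have := finrank_le_two_of_values (U := W) (fun x => q x.1) (fun a b c => hq a.1 b.1 c.1)
        (fun x hx => Subtype.ext (haniso _ hx)) hqw (fun x hx => Or.inl (hval x hx)) hqw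
      omega
    · rcases (Nat.Prime.dvd_mul hr).1 (show r ∣ 3 * 5 by simpa using hdv) with h | h
      · exact absurd ((Nat.prime_dvd_prime_iff_eq hr Nat.prime_three).1 h) hr3
      · exact (Nat.prime_dvd_prime_iff_eq hr Nat.prime_five).1 h
  by_cases h5 : 5 ∣ Nat.card G
  swap
  · have hn : Nat.card G ≠ 0 := Nat.card_pos.ne'
    refine Cfsg.Lib.Chars.burnside_isSolvable 2 3 Nat.prime_two Nat.prime_three G
      ⟨(Nat.card G).factorization 2, (Nat.card G).factorization 3, ?_⟩
    refine Nat.eq_of_factorization_eq hn (by positivity) fun r => ?_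
    rw [Nat.factorization_mul (pow_ne_zero _ two_ne_zero) (pow_ne_zero _ three_ne_zero),
      Nat.prime_two.factorization_pow, Nat.prime_three.factorization_pow, Finsupp.add_apply,
      Finsupp.single_apply, Finsupp.single_apply]
    by_cases hr : r.Prime
    · by_cases h2 : r = 2
      · subst h2; simp
      by_cases h3 : r = 3
      · subst h3; simp
      rw [if_neg (Ne.symm h2), if_neg (Ne.symm h3), add_zero, Nat.factorization_eq_zero_iff]
      refine Or.inr (Or.inl fun hd => h5 ?_)
      rw [← hprime r hr hd h2 h3]; exact hd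
    · rw [Nat.factorization_eq_zero_of_not_prime _ hr, if_neg (fun e : 2 = r => hr (e ▸ Nat.prime_two)),
        if_neg (fun e : 3 = r => hr (e ▸ Nat.prime_three))]
      simp
  obtain ⟨g, hg⟩ := exists_prime_orderOf_dvd_card' (hp := ⟨Nat.prime_five⟩) 5 h5
  set f := ρ g with hfdef
  have hf5 : f ^ 5 = 1 := by rw [← map_pow, ← hg, pow_orderOf_eq_one, map_one]
  have hf1 : f ≠ 1 := fun e => by
    have : g = 1 := hinj (e.trans (map_one ρ).symm)
    rw [this, orderOf_one] at hg; omega
  obtain ⟨W, hinv, hne, hfix, k, hk, hmod⟩ := free_part f Nat.prime_five (by norm_num) hf5 hf1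
  have hk4 : k ≤ 4 := hk ▸ (Submodule.finrank_le W).trans hU
  have hk0 : k ≠ 0 := fun e => hne (Submodule.finrank_eq_zero.1 (hk ▸ e))
  have hk' : k = 4 := by
    rcases (show k = 1 ∨ k = 2 ∨ k = 3 ∨ k = 4 by omega) with h | h | h | h <;> rw [h] at hmod
    · exact absurd hmod (by decide)
    · exact absurd hmod (by decide)
    · exact absurd hmod (by decide)
    · exact h
  have hWtop : W = ⊤ := Submodule.eq_top_of_finrank_eq (by have := Submodule.finrank_le W; omega)
  have hdim : finrank (ZMod 2) U = 4 := by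
    rw [← hk', hk, hWtop, finrank_top]
  have hfix' : ∀ x, f x = x → x = 0 := fun x hx => hfix x (hWtop ▸ Submodule.mem_top) hx
  obtain ⟨v0, hv0⟩ : ∃ v0 : U, v0 ≠ 0 :=
    haveI : Nontrivial U := Module.nontrivial_of_finrank_pos (R := ZMod 2) (by omega)
    exists_ne 0
  let v : ZMod 5 → U := fun i => (f ^ i.val) v0
  have hvs : ∀ i, v (i + 1) = f (v i) := by
    intro i
    show (f ^ (i + 1).val) v0 = f ((f ^ i.val) v0)
    rw [← Module.End.mul_apply, ← pow_succ']
    rcases Nat.lt_or_ge (i.val + 1) 5 with h | h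
    · have h1 : (1 : ZMod 5).val = 1 := rfl
      rw [ZMod.val_add_of_lt (by rwa [h1]), h1]
    · have h4 : i.val = 4 := by have := i.val_lt; omega
      have : i = 4 := ZMod.val_injective 5 (h4.trans rfl)
      subst this
      show (f ^ 0) v0 = (f ^ 5) v0
      rw [hf5, pow_zero]
  -- the sum of the orbit vanishes
  have hsum : v 0 + v 1 + v 2 + v 3 + v 4 = 0 := by
    refine hfix' _ ?_
    simp only [map_add, ← hvs]
    show v 1 + v 2 + v 3 + v 4 + v 0 = _
    abel
  let Φ : (Fin 4 → ZMod 2) →ₗ[ZMod 2] U := Fintype.linearCombination (ZMod 2) (fun j : Fin 4 => v (j : ℕ))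
  have hΦ : ∀ x, Φ x = x 0 • v 0 + x 1 • v 1 + x 2 • v 2 + x 3 • v 3 := fun x => by
    show Fintype.linearCombination (ZMod 2) (fun j : Fin 4 => v (j : ℕ)) x = _
    rw [Fintype.linearCombination_apply, Fin.sum_univ_four]
    rfl
  have hΦv : ∀ i, Φ (fiveVec i) = v i := by
    intro i
    rw [hΦ]
    have h4 : v 4 = v 0 + v 1 + v 2 + v 3 := by
      rw [← neg_eq_of_add_eq_zero_right hsum, neg_eq_of_add_eq_zero_right (two_smul_zero _)]
    have key : ∀ i : ZMod 5, i = 0 ∨ i = 1 ∨ i = 2 ∨ i = 3 ∨ i = 4 := by decide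
    rcases key i with rfl | rfl | rfl | rfl | rfl
    · simp [show fiveVec 0 = ![1, 0, 0, 0] by decide]
    · simp [show fiveVec 1 = ![0, 1, 0, 0] by decide]
    · simp [show fiveVec 2 = ![0, 0, 1, 0] by decide]
    · simp [show fiveVec 3 = ![0, 0, 0, 1] by decide]
    · simp [show fiveVec 4 = ![1, 1, 1, 1] by decide, h4]
  have hrange : ∀ x ∈ LinearMap.range Φ, f x ∈ LinearMap.range Φ := by
    rintro _ ⟨x, rfl⟩
    rw [hΦ]
    simp only [map_add, map_smul, ← hvs]
    refine add_mem (add_mem (add_mem ?_ ?_) ?_) ?_ <;> refine Submodule.smul_mem _ _ ?_ <;>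
      exact ⟨_, hΦv _⟩
  have hΦtop : LinearMap.range Φ = ⊤ := by
    let R := LinearMap.range Φ
    have hR0 : R ≠ ⊥ := fun e => hv0 (by
      have : v 0 ∈ R := ⟨_, hΦv 0⟩
      rw [e, Submodule.mem_bot] at this
      exact this)
    let fR : Module.End (ZMod 2) R := f.restrict hrange
    have hfR5 : fR ^ 5 = 1 := LinearMap.ext fun x => Subtype.ext (by
      show ((fR ^ 5) x).1 = x.1
      rw [Module.End.pow_restrict, LinearMap.restrict_apply]
      show (f ^ 5) x.1 = x.1
      rw [hf5]; rfl)
    obtain ⟨x, hx, hx0⟩ := Submodule.exists_mem_ne_zero_of_ne_bot hR0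
    have hfR1 : fR ≠ 1 := fun e => hx0 (hfix' x (congrArg Subtype.val (LinearMap.congr_fun e ⟨x, hx⟩)))
    obtain ⟨W', -, hne', -, k', hk', hmod'⟩ := free_part fR Nat.prime_five (by norm_num) hfR5 hfR1
    have h4 : k' ≤ finrank (ZMod 2) R := hk' ▸ Submodule.finrank_le W'
    have h5' : finrank (ZMod 2) R ≤ finrank (ZMod 2) U := Submodule.finrank_le R
    refine Submodule.eq_top_of_finrank_eq (show finrank (ZMod 2) R = _ from ?_)
    have hk0' : k' ≠ 0 := fun e => hne' (Submodule.finrank_eq_zero.1 (hk' ▸ e))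
    by_contra hlt
    rcases (show k' = 1 ∨ k' = 2 ∨ k' = 3 by omega) with h | h | h <;> rw [h] at hmod' <;>
      exact absurd hmod' (by decide)
  have hcover : ∀ u : U, u ≠ 0 → ∃ i, u = v i ∨ u = v i + v (i + 1) ∨ u = v i + v (i + 2) := by
    intro u hu
    obtain ⟨x, rfl⟩ : u ∈ LinearMap.range Φ := hΦtop ▸ Submodule.mem_top
    obtain ⟨i, hi⟩ := five_cover x (fun e => hu (by rw [e, map_zero]))
    refine ⟨i, ?_⟩
    rcases hi with rfl | rfl | rfl
    · exact Or.inl (hΦv i)
    · exact Or.inr (Or.inl (by rw [map_add, hΦv, hΦv]))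
    · exact Or.inr (Or.inr (by rw [map_add, hΦv, hΦv]))
  have hΦinj : Function.Injective Φ :=
    (LinearMap.injective_iff_surjective_of_finrank_eq_finrank (by rw [hdim]; simp)).2 (LinearMap.range_eq_top.1 hΦtop)
  have hvinj : Function.Injective v := fun i j e => by
    rw [← hΦv, ← hΦv] at e
    have key : ∀ i j : ZMod 5, fiveVec i = fiveVec j → i = j := by decide
    exact key i j (hΦinj e)
  -- the three values
  set a := q (v 0) with ha
  set c1 := q (v 0 + v 1) with hc1
  set c2 := q (v 0 + v 2) with hc2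
  have hshift : ∀ i j, q (v (i + j)) = q (v j) ∧ ∀ l, q (v (i + j) + v (i + l)) = q (v j + v l) := by
    intro i
    have key : ∀ n : ℕ, ∀ l, v ((n : ZMod 5) + l) = (f ^ n) (v l) := fun n => by
      induction n with
      | zero => intro l; simp
      | succ n ih => intro l; rw [Nat.cast_succ, add_right_comm, hvs, ih, pow_succ', Module.End.mul_apply]
    intro j
    rw [← ZMod.natCast_zmod_val i, key]
    refine ⟨by rw [hfdef, ← map_pow]; exact hG _ _, fun l => ?_⟩
    rw [key, ← map_add, hfdef, ← map_pow]; exact hG _ _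
  have hqv : ∀ i, q (v i) = a := fun i => by simpa using (hshift i 0).1
  have hq1 : ∀ i, q (v i + v (i + 1)) = c1 := fun i => by simpa using (hshift i 0).2 1
  have hq2 : ∀ i, q (v i + v (i + 2)) = c2 := fun i => by simpa using (hshift i 0).2 2
  have hvals : ∀ u, u ≠ 0 → q u = a ∨ q u = c1 ∨ q u = c2 := fun u hu => by
    obtain ⟨i, rfl | rfl | rfl⟩ := hcover u hu
    · exact Or.inl (hqv i)
    · exact Or.inr (Or.inl (hq1 i))
    · exact Or.inr (Or.inr (hq2 i))
  have hv_ne : ∀ i, v i ≠ 0 := fun i e => by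
    rw [← hΦv] at e
    have key : ∀ i : ZMod 5, fiveVec i ≠ 0 := by decide
    exact key i (hΦinj (e.trans (map_zero Φ).symm))
  have hsum_ne : ∀ i j, i ≠ j → v i + v j ≠ 0 := fun i j hij e =>
    hij (hvinj (by rw [← neg_eq_of_add_eq_zero_right e, neg_eq_of_add_eq_zero_right (two_smul_zero _)]))
  have ha0 : a ≠ 0 := fun e => hv_ne 0 (haniso _ e)
  have hc10 : c1 ≠ 0 := fun e => hsum_ne 0 1 (by decide) (haniso _ e)
  have hc20 : c2 ≠ 0 := fun e => hsum_ne 0 2 (by decide) (haniso _ e)
  have hac1 : a ≠ c1 := fun e => by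
    have := finrank_le_two_of_values q hq haniso hc20 (a := a) (b := c2) (fun u hu => by
      rcases hvals u hu with h | h | h
      · exact Or.inl h
      · exact Or.inl (h.trans e.symm)
      · exact Or.inr h) ha0
    omega
  have hac2 : a ≠ c2 := fun e => by
    have := finrank_le_two_of_values q hq haniso hc10 (a := a) (b := c1) (fun u hu => by
      rcases hvals u hu with h | h | h
      · exact Or.inl h
      · exact Or.inr h
      · exact Or.inl (h.trans e.symm)) ha0
    omega
  have hc12 : c1 ≠ c2 := fun e => by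
    have := finrank_le_two_of_values q hq haniso hc10 (a := a) (b := c1) (fun u hu => by
      rcases hvals u hu with h | h | h
      · exact Or.inl h
      · exact Or.inr h
      · exact Or.inr (h.trans e.symm)) ha0
    omega
  have himg : ∀ (h : G) i, ∃ j, ρ h (v i) = v j := fun h i => by
    have h0 : ρ h (v i) ≠ 0 := fun e => hv_ne i (hcan h (e.trans (map_zero _).symm))
    have hval : q (ρ h (v i)) = a := (hG h _).trans (hqv i)
    obtain ⟨j, e | e | e⟩ := hcover _ h0
    · exact ⟨j, e⟩
    · exact absurd ((congrArg q e).symm.trans hval) (by rw [hq1]; exact Ne.symm hac1)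
    · exact absurd ((congrArg q e).symm.trans hval) (by rw [hq2]; exact Ne.symm hac2)
  have hnbr : ∀ i j, q (v i + v j) = c1 → j = i + 1 ∨ j = i - 1 := fun i j hij => by
    obtain ⟨d, rfl⟩ : ∃ d, j = i + d := ⟨j - i, by ring⟩
    have key : ∀ d : ZMod 5, d = 0 ∨ d = 1 ∨ d = 2 ∨ d = -2 ∨ d = -1 := by decide
    rcases key d with rfl | rfl | rfl | rfl | rfl
    · rw [add_zero, two_smul_zero, q_zero q hq] at hij; exact absurd hij.symm hc10
    · exact Or.inl rfl
    · rw [hq2] at hij; exact absurd hij.symm hc12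
    · have := hq2 (i + -2)
      rw [neg_add_cancel_right, add_comm] at this
      exact absurd (hij.symm.trans this) hc12
    · exact Or.inr (by ring)
  have hdet : ∀ h : G, ρ h (v 0) = v 0 → ρ h (v 1) = v 1 → h = 1 := by
    intro h e0 e1
    have step : ∀ i, ρ h (v (i - 1)) = v (i - 1) → ρ h (v i) = v i → ρ h (v (i + 1)) = v (i + 1) := by
      intro i em ei
      obtain ⟨j, hj⟩ := himg h (i + 1)
      have hq' : q (v i + v j) = c1 := by rw [← ei, ← hj, ← map_add, hG, hq1]
      rcases hnbr i j hq' with rfl | rfl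
      · exact hj
      · exfalso
        have := hvinj (hcan h (hj.trans em.symm))
        revert this
        generalize i = i
        revert i; decide
    have e2 := step 1 (by simpa using e0) e1
    have e3 := step 2 (by rw [show (2 : ZMod 5) - 1 = 1 from rfl]; exact e1) e2
    refine hinj ?_
    rw [map_one]
    refine LinearMap.ext fun u => ?_
    obtain ⟨x, rfl⟩ : u ∈ LinearMap.range Φ := hΦtop ▸ Submodule.mem_top
    rw [hΦ, Module.End.one_apply]
    simp only [map_add, map_smul, e0, e1]
    rw [show (1 : ZMod 5) + 1 = 2 from rfl] at e2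
    rw [show (2 : ZMod 5) + 1 = 3 from rfl] at e3
    rw [e2, e3]
  choose σ hσ using himg
  have hbound : Nat.card G ≤ 25 := by
    refine (Nat.card_le_card_of_injective (fun h : G => (σ h 0, σ h 1)) (fun h h' e => ?_)).trans ?_
    · obtain ⟨e0, e1⟩ := Prod.ext_iff.1 e
      have h0 : ρ h (v 0) = ρ h' (v 0) := by rw [hσ, hσ]; exact congrArg v e0
      have h1 : ρ h (v 1) = ρ h' (v 1) := by rw [hσ, hσ]; exact congrArg v e1
      refine (inv_mul_eq_one.1 (hdet (h'⁻¹ * h) ?_ ?_)).symm <;>
        rw [map_mul, Module.End.mul_apply] <;>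
        first
        | rw [h0, ← Module.End.mul_apply, ← map_mul, inv_mul_cancel, map_one, Module.End.one_apply]
        | rw [h1, ← Module.End.mul_apply, ← map_mul, inv_mul_cancel, map_one, Module.End.one_apply]
    · simp [Nat.card_prod]
  exact Cfsg.Lib.Presentations.isSolvable_of_card_lt_sixty _ G rfl (by omega)

end Cfsg.Lib.Anisotropic
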