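import Cfsg.Agent.Fusion.Metacyclic
import Cfsg.Agent.SolvStruct.PGroupBasics
import Cfsg.Agent.PGroups.Commutators
import Cfsg.Agent.PGroups.MetaOdd.Main

/-!
A metacyclic `p`-group of odd order without cyclic maximal subgroup: the elements killed by `p` and by `p ^ 2` form
subgroups `E ≤ M` of orders `p ^ 2` and `p ^ 4`, `E` is central in `M`, and the `p`-th power maps `M` onto `E`.
-/

set_option autoImplicit false
set_option linter.unusedSectionVars false
set_option linter.style.haveILetI false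

namespace Cfsg.Lib.PGroups.MetaOmega

open Subgroup
open scoped commutatorElement

variable {L : Type*} [Group L] {p : ℕ} [hp : Fact p.Prime]

theorem meta_surjective {Q : Type*} [Group Q] (f : L →* Q) (hf : Function.Surjective f)
    (hm : Cfsg.IsMetacyclic L) : Cfsg.IsMetacyclic Q := by
  obtain ⟨N, hNn, hNc, hQc⟩ := hm
  haveI := hNc
  haveI := hQc
  haveI : (N.map f).Normal := hNn.map f hf
  refine ⟨N.map f, inferInstance, isCyclic_of_surjective (f.subgroupMap N) (f.subgroupMap_surjective N), ?_⟩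
  refine isCyclic_of_surjective (QuotientGroup.map N (N.map f) f (le_comap_map f N)) ?_
  intro q
  obtain ⟨u, rfl⟩ := QuotientGroup.mk'_surjective _ q
  obtain ⟨x, rfl⟩ := hf u
  exact ⟨QuotientGroup.mk x, rfl⟩

theorem meta_subgroup (H : Subgroup L) (hm : Cfsg.IsMetacyclic L) : Cfsg.IsMetacyclic H := by
  obtain ⟨N, hNn, hNc, hQc⟩ := hm
  haveI := hNc
  haveI := hQc
  set g : ↥H →* L ⧸ N := (QuotientGroup.mk' N).comp H.subtype with hg
  refine ⟨g.ker, inferInstance, ?_, ?_⟩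
  · refine isCyclic_of_injective ((H.subtype.comp g.ker.subtype).codRestrict N fun x => ?_) fun x y hxy => ?_
    · have h := MonoidHom.mem_ker.mp x.2
      exact (QuotientGroup.eq_one_iff _).1 h
    · exact Subtype.ext (Subtype.ext (congrArg Subtype.val hxy :))
  · exact isCyclic_of_surjective (QuotientGroup.quotientKerEquivRange g).symm (MulEquiv.surjective _)

/-- The two omega subgroups. -/
structure Tower (L : Type*) [Group L] (p : ℕ) where
  E : Subgroup L
  M : Subgroup L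
  mem_E : ∀ x, x ∈ E ↔ x ^ p = 1
  mem_M : ∀ x, x ∈ M ↔ x ^ p ^ 2 = 1
  card_E : Nat.card E = p ^ 2
  card_M : Nat.card M = p ^ 4
  cent : ∀ e ∈ E, ∀ x ∈ M, Commute e x
  comm : ∀ x ∈ M, ∀ y ∈ M, ⁅x, y⁆ ∈ E
  hom : ∀ x ∈ M, ∀ y ∈ M, (x * y) ^ p = x ^ p * y ^ p
  root : ∀ e ∈ E, ∃ x ∈ M, x ^ p = e

variable [Finite L]

theorem exists_omega (hp2 : p ≠ 2) (hL : IsPGroup p L) (hm : Cfsg.IsMetacyclic L) (hnc : ¬ IsCyclic L) :
    ∃ E : Subgroup L, E.Normal ∧ Nat.card E = p ^ 2 ∧ ∀ x, x ∈ E ↔ x ^ p = 1 := by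
  obtain ⟨A, hAn, hAe, hAc⟩ := Cfsg.Lib.SolvStruct.exists_normal_elementary_sq hp2 hL hnc
  obtain ⟨E, hEc, -, hall⟩ := Cfsg.Lib.Fusion.exists_small_omega_of_metacyclic hL hp2 hm
  have hEA : A = E := eq_of_le_of_card_ge (fun a ha => hall a (hAe.2 a ha)) (hAc ▸ hEc)
  exact ⟨A, hAn, hAc, fun x => ⟨hAe.2 x, fun hx => hEA.ge (hall x hx)⟩⟩

theorem exists_tower (hp2 : p ≠ 2) (hL : IsPGroup p L) (hm : Cfsg.IsMetacyclic L) (hnc : ¬ IsCyclic L)
    (hmax : ∀ C : Subgroup L, IsCyclic C → C.index ≠ p) : Nonempty (Tower L p) := by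
  obtain ⟨E, hEn, hEc, hE⟩ := exists_omega hp2 hL hm hnc
  haveI := hEn
  have hidx : E.index * p ^ 2 = Nat.card L := by rw [mul_comm, ← hEc, card_mul_index]
  -- the quotient is not cyclic
  have hncQ : ¬ IsCyclic (L ⧸ E) := by
    intro hc
    obtain ⟨q, hq⟩ := hc.exists_generator
    obtain ⟨x, rfl⟩ := QuotientGroup.mk'_surjective E q
    have hord : orderOf (QuotientGroup.mk' E x) = E.index := by
      rw [index_eq_card, orderOf_eq_card_of_forall_mem_zpowers hq]
    obtain ⟨k, hk⟩ := hL.index E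
    rcases k with _ | k
    · -- `L = E`
      rw [hk, pow_zero, one_mul] at hidx
      obtain ⟨C, hC⟩ := Sylow.exists_subgroup_card_pow_prime p
        (show p ^ 1 ∣ Nat.card L by rw [← hidx]; exact pow_dvd_pow p one_le_two)
      refine hmax C (isCyclic_of_prime_card (p := p) (by rw [hC, pow_one])) ?_
      have h := C.card_mul_index
      rw [hC, ← hidx, pow_one, sq] at h
      exact Nat.eq_of_mul_eq_mul_left hp.out.pos h
    rw [hk] at hord
    have hx1 : x ^ p ^ (k + 1) ≠ 1 := fun h => by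
      have h1 : x ^ p ^ k ∈ E := (hE _).2 (by rw [← pow_mul, ← pow_succ, h])
      have h2 : orderOf (QuotientGroup.mk' E x) ∣ p ^ k := by
        refine orderOf_dvd_of_pow_eq_one ?_
        rw [← map_pow]
        exact (QuotientGroup.eq_one_iff _).2 h1
      rw [hord, Nat.pow_dvd_pow_iff_le_right hp.out.one_lt] at h2
      omega
    have hx2 : x ^ p ^ (k + 2) = 1 := by
      rw [pow_succ, pow_mul, ← hE, ← QuotientGroup.eq_one_iff, QuotientGroup.mk_pow, ← hord]
      exact pow_orderOf_eq_one _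
    refine hmax (zpowers x) inferInstance ?_
    have h := (zpowers x).card_mul_index
    rw [Nat.card_zpowers, orderOf_eq_prime_pow hx1 hx2, ← hidx, hk, ← pow_add,
      show k + 1 + 2 = k + 1 + 1 + 1 by omega, pow_succ p (k + 1 + 1)] at h
    exact Nat.eq_of_mul_eq_mul_left (pow_pos hp.out.pos _) h
  obtain ⟨E', -, hE'c, hE'⟩ := exists_omega hp2 (hL.to_quotient E)
    (meta_surjective _ (QuotientGroup.mk'_surjective E) hm) hncQ
  set M := E'.comap (QuotientGroup.mk' E) with hMdef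
  have hM : ∀ x, x ∈ M ↔ x ^ p ^ 2 = 1 := fun x => by
    rw [hMdef, mem_comap, hE', ← map_pow, sq, pow_mul, ← hE]
    exact QuotientGroup.eq_one_iff _
  have hMc : Nat.card M = p ^ 4 := by
    have h := M.card_mul_index
    rw [hMdef, index_comap_of_surjective _ (QuotientGroup.mk'_surjective E), ← hMdef, ← hidx,
      index_eq_card (H := E), ← E'.card_mul_index, hE'c] at h
    refine Nat.eq_of_mul_eq_mul_right (Nat.pos_of_ne_zero E'.index_ne_zero_of_finite) (h.trans ?_)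
    ring
  -- generators of `M`
  obtain ⟨S⟩ := Cfsg.Lib.MetaOdd.exists_setup (hL.to_subgroup M) (meta_subgroup M hm)
  have hMe : ∀ u : M, u ^ p ^ 2 = 1 := fun u => Subtype.ext ((hM u).1 u.2)
  have hd2 : p ^ 2 ∣ S.d * p := by rw [sq]; exact Nat.mul_dvd_mul_right S.hd p
  have hphi : ∀ e, p ∣ e → p ∣ MetaOdd.phi e p := fun e he =>
    Nat.modEq_zero_iff_dvd.1 ((MetaOdd.phi_modEq he p).trans (Nat.modEq_zero_iff_dvd.2 dvd_rfl))
  have hadp : S.a ^ (S.d * p) = 1 := orderOf_dvd_iff_pow_eq_one.1 ((orderOf_dvd_of_pow_eq_one (hMe S.a)).trans hd2)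
  -- the `p`-th powers of the generators are central
  have hba : Commute S.b (S.a ^ p) := by
    show S.b * S.a ^ p = S.a ^ p * S.b
    have h := S.bpow_apow 1 p
    rw [pow_one] at h
    rw [h, pow_one, Nat.mul_add, mul_one, pow_add, mul_comm p S.d, hadp, mul_one]
  have hab : Commute (S.b ^ p) S.a := by
    have h := S.bpow_apow p 1
    rw [pow_one, one_mul, Cfsg.Lib.MetaOdd.pow_eq, pow_add, pow_one] at h
    obtain ⟨c, hc⟩ := hphi S.d S.hd
    rw [hc, ← mul_assoc, pow_mul, hadp, one_pow, mul_one] at h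
    exact h
  have hcen : ∀ i j : ℕ, (S.a ^ p) ^ i * (S.b ^ p) ^ j ∈ center M := by
    have ha : S.a ^ p ∈ center M := mem_center_iff.2 fun g => by
      obtain ⟨i, j, rfl⟩ := S.gen g
      exact (((Commute.self_pow S.a p).pow_left i).mul_left (hba.pow_left j)).eq
    have hb : S.b ^ p ∈ center M := mem_center_iff.2 fun g => by
      obtain ⟨i, j, rfl⟩ := S.gen g
      exact ((hab.symm.pow_left i).mul_left ((Commute.self_pow S.b p).pow_left j)).eq
    exact fun i j => mul_mem (pow_mem ha i) (pow_mem hb j)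
  -- the normal form is unique
  haveI : Fintype M := Fintype.ofFinite M
  let f : Fin (p ^ 2) × Fin (p ^ 2) → M := fun u => S.a ^ (u.1 : ℕ) * S.b ^ (u.2 : ℕ)
  have hpp : 0 < p ^ 2 := pow_pos hp.out.pos 2
  have hred : ∀ (u : M) (i : ℕ), u ^ (i % p ^ 2) = u ^ i := fun u i => by
    conv_rhs => rw [← Nat.mod_add_div i (p ^ 2), pow_add, pow_mul, hMe, one_pow, mul_one]
  have hfs : Function.Surjective f := fun g => by
    obtain ⟨i, j, rfl⟩ := S.gen g
    exact ⟨(⟨i % p ^ 2, Nat.mod_lt _ hpp⟩, ⟨j % p ^ 2, Nat.mod_lt _ hpp⟩), by simp [f, hred]⟩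
  have hfi : Function.Injective f := ((Fintype.bijective_iff_surjective_and_card f).2 ⟨hfs, by
    rw [Fintype.card_prod, Fintype.card_fin, ← Nat.card_eq_fintype_card, hMc, ← pow_add]⟩).1
  -- the elements killed by `p`
  have hEM : E ≤ M := fun x hx => (hM x).2 (by rw [sq, pow_mul, (hE x).1 hx, one_pow])
  let φ : Fin p × Fin p → E := fun u => ⟨(((S.a ^ p) ^ (u.1 : ℕ) * (S.b ^ p) ^ (u.2 : ℕ) : M) : L), (hE _).2 (by
    rw [← coe_pow, ((show Commute ((S.a ^ p) ^ (u.1 : ℕ)) ((S.b ^ p) ^ (u.2 : ℕ)) from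
      (hab.symm.pow_left p).pow_pow _ _)).mul_pow, ← pow_mul, ← pow_mul, ← pow_mul, ← pow_mul,
      show p * (u.1 * p) = p ^ 2 * u.1 by ring, show p * (u.2 * p) = p ^ 2 * u.2 by ring, pow_mul, pow_mul,
      hMe, hMe, one_pow, one_pow, one_mul, coe_one])⟩
  have hφi : Function.Injective φ := by
    intro u v h
    have h' : (S.a ^ p) ^ (u.1 : ℕ) * (S.b ^ p) ^ (u.2 : ℕ) = (S.a ^ p) ^ (v.1 : ℕ) * (S.b ^ p) ^ (v.2 : ℕ) :=
      Subtype.ext (congrArg Subtype.val h :)
    have hlt : ∀ i : Fin p, p * (i : ℕ) < p ^ 2 := fun i => by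
      rw [sq]; exact Nat.mul_lt_mul_of_pos_left i.2 hp.out.pos
    simp only [← pow_mul] at h'
    have := @hfi (⟨_, hlt u.1⟩, ⟨_, hlt u.2⟩) (⟨_, hlt v.1⟩, ⟨_, hlt v.2⟩) h'
    simp only [Prod.mk.injEq, Fin.mk.injEq, mul_right_inj' hp.out.ne_zero] at this
    exact Prod.ext (Fin.ext this.1) (Fin.ext this.2)
  haveI : Fintype E := Fintype.ofFinite E
  have hφs : Function.Surjective φ := ((Fintype.bijective_iff_injective_and_card φ).2 ⟨hφi, by
    rw [Fintype.card_prod, Fintype.card_fin, ← Nat.card_eq_fintype_card, hEc, sq]⟩).2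
  have hcent : ∀ e ∈ E, ∀ x ∈ M, Commute e x := by
    intro e he x hx
    obtain ⟨u, hu⟩ := hφs ⟨e, he⟩
    rw [← show _ = e from congrArg Subtype.val hu]
    exact (congrArg Subtype.val (mem_center_iff.1 (hcen u.1 u.2) ⟨x, hx⟩)).symm
  have hcomm : ∀ x ∈ M, ∀ y ∈ M, ⁅x, y⁆ ∈ E := by
    intro x hx y hy
    have h := commutator_mem_commutator (mem_top (⟨x, hx⟩ : M)) (mem_top ⟨y, hy⟩)
    rw [← _root_.commutator_def, S.commutator_eq hp2] at h
    obtain ⟨k, hk⟩ := mem_powers_iff_mem_zpowers.2 h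
    refine (hE _).2 ?_
    set c : M := ⁅(⟨x, hx⟩ : M), (⟨y, hy⟩ : M)⁆
    have h1 : c ^ p = 1 := by
      rw [← show S.c ^ k = _ from hk, ← pow_mul, mul_comm k, pow_mul, ← pow_mul S.a, hadp, one_pow]
    exact (congrArg Subtype.val h1 :)
  have hhom : ∀ x ∈ M, ∀ y ∈ M, (x * y) ^ p = x ^ p * y ^ p := by
    intro x hx y hy
    set c : M := ⁅(⟨y, hy⟩ : M), (⟨x, hx⟩ : M)⁆ with hcd
    have hc : c ∈ center M := mem_center_iff.2 fun g =>
      Subtype.ext (hcent _ (hcomm y hy x hx) g g.2).symm.eq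
    have h1 : c ^ p.choose 2 = 1 := by
      obtain ⟨q, hq⟩ := hp.out.dvd_choose_self (k := 2) two_ne_zero (lt_of_le_of_ne hp.out.two_le fun e => hp2 e.symm)
      rw [hq, pow_mul, show c ^ p = 1 from Subtype.ext ((hE _).1 (hcomm y hy x hx)), one_pow]
    have h := Cfsg.Lib.PGroups.mul_pow_of_central hc p
    rw [← hcd, h1, mul_one] at h
    exact congrArg Subtype.val h
  refine ⟨⟨E, M, hE, hM, hEc, hMc, hcent, hcomm, hhom, fun e he => ?_⟩⟩
  obtain ⟨u, hu⟩ := hφs ⟨e, he⟩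
  refine ⟨((S.a ^ (u.1 : ℕ) * S.b ^ (u.2 : ℕ) : M) : L), SetLike.coe_mem _, ?_⟩
  rw [coe_mul, hhom _ (SetLike.coe_mem _) _ (SetLike.coe_mem _), ← show _ = e from congrArg Subtype.val hu,
    ← coe_pow, ← coe_pow, ← coe_mul]
  simp only [φ, ← pow_mul, mul_comm p]

end Cfsg.Lib.PGroups.MetaOmega
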