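/-
A bound on the span of `⁅V, L⁆` in a finite Lie ring generated by `V` when all `ad x`, `x ∈ V`, have small images.
This is the linear core of Vaughan-Lee's theorem on breadth and derived subgroups of `p`-groups.
-/
import Mathlib.Algebra.Lie.Basic
import Mathlib.GroupTheory.Index
import Mathlib.GroupTheory.QuotientGroup.Basic
import Mathlib.Tactic

set_option linter.unusedSectionVars false

namespace Cfsg.Lib.Breadth

open AddSubgroup

variable {L : Type*} [LieRing L]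

/-- `ad x` as an additive map. -/
def adH (x : L) : L →+ L := AddMonoidHom.mk' (fun l => ⁅x, l⁆) (lie_add x)

@[simp] theorem adH_apply (x l : L) : adH x l = ⁅x, l⁆ := rfl

/-- The kernel of `ad x` modulo `W`. -/
def Ker (W : AddSubgroup L) (x : L) : AddSubgroup L := W.comap (adH x)

theorem mem_Ker {W : AddSubgroup L} {x l : L} : l ∈ Ker W x ↔ ⁅x, l⁆ ∈ W := Iff.rfl

/-- `W` enlarged by the image of `ad v`. -/
def ext (W : AddSubgroup L) (v : L) : AddSubgroup L := W ⊔ (adH v).range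

theorem le_ext (W : AddSubgroup L) (v : L) : W ≤ ext W v := le_sup_left

theorem lie_mem_ext (W : AddSubgroup L) (v l : L) : ⁅v, l⁆ ∈ ext W v :=
  mem_sup_right ⟨l, rfl⟩

theorem Ker_mono {W W' : AddSubgroup L} (h : W ≤ W') (x : L) : Ker W x ≤ Ker W' x := comap_mono h

theorem Ker_ext_add (W : AddSubgroup L) (v y : L) : Ker (ext W v) (y + v) = Ker (ext W v) y := by
  refine SetLike.ext fun l => ?_
  rw [mem_Ker, mem_Ker, add_lie]
  exact AddSubgroup.add_mem_cancel_right _ (lie_mem_ext W v l)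

theorem Ker_add_of_nodrop {W : AddSubgroup L} {v y : L} (h : Ker (ext W v) y = Ker W y) :
    Ker W (y + v) = Ker W v ⊓ Ker W y := by
  refine le_antisymm (fun l hl => ?_) fun l hl => ?_
  · rw [mem_Ker, add_lie] at hl
    have h1 : l ∈ Ker (ext W v) y := by
      rw [mem_Ker]
      exact (AddSubgroup.add_mem_cancel_right _ (lie_mem_ext W v l)).1 (le_ext W v hl)
    rw [h] at h1
    exact ⟨(AddSubgroup.add_mem_cancel_left _ (mem_Ker.1 h1)).1 hl, h1⟩
  · rw [mem_Ker, add_lie]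
    exact add_mem hl.2 hl.1

theorem ext_inf_ext_le {W : AddSubgroup L} {v y : L} (h : Ker (ext W v) y = Ker W y) :
    ext W v ⊓ ext W y ≤ W := by
  rintro a ⟨ha, hb⟩
  obtain ⟨w, hw, u, ⟨m, rfl⟩, rfl⟩ := mem_sup.1 hb
  refine add_mem hw ?_
  have h1 : m ∈ Ker (ext W v) y := by
    rw [mem_Ker]
    exact (AddSubgroup.add_mem_cancel_left _ (le_ext W v hw)).1 ha
  rw [h] at h1
  exact h1

variable [Finite L]

theorem card_ext (W : AddSubgroup L) (v : L) : Nat.card ↥(ext W v) = Nat.card W * (Ker W v).index := by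
  have h1 : ((QuotientAddGroup.mk' W).comp (adH v)).ker = Ker W v := by
    refine SetLike.ext fun l => ?_
    rw [AddMonoidHom.mem_ker, AddMonoidHom.comp_apply, QuotientAddGroup.mk'_apply, QuotientAddGroup.eq_zero_iff,
      mem_Ker, adH_apply]
  have h2 : (ext W v).map (QuotientAddGroup.mk' W) = ((QuotientAddGroup.mk' W).comp (adH v)).range := by
    rw [ext, AddSubgroup.map_sup, AddMonoidHom.range_comp, QuotientAddGroup.map_mk'_self, bot_sup_eq]
  have h3 := AddSubgroup.index_ker ((QuotientAddGroup.mk' W).comp (adH v))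
  rw [h1, ← h2] at h3
  have h4 := AddSubgroup.relIndex_ker (K := ext W v) (QuotientAddGroup.mk' W)
  rw [QuotientAddGroup.ker_mk'] at h4
  rw [h3, ← h4, ← AddSubgroup.relIndex_bot_left W, ← AddSubgroup.relIndex_bot_left (ext W v)]
  exact (AddSubgroup.relIndex_mul_relIndex ⊥ W (ext W v) bot_le (le_ext W v)).symm

variable (p : ℕ)

/-- The breadth of `x` modulo `W`. -/
noncomputable def rk (W : AddSubgroup L) (x : L) : ℕ := Nat.log p (Ker W x).index

variable {p} [hp : Fact p.Prime]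

section
variable (hL : ∃ N : ℕ, Nat.card L = p ^ N)
include hL

theorem index_eq (W : AddSubgroup L) (x : L) : (Ker W x).index = p ^ rk p W x := by
  obtain ⟨N, hN⟩ := hL
  obtain ⟨j, -, hj⟩ := (Nat.dvd_prime_pow hp.out).1 (hN ▸ (Ker W x).index_dvd_card)
  rw [rk, hj, Nat.log_pow hp.out.one_lt]

theorem rk_le_iff {W W' : AddSubgroup L} {x y : L} : rk p W x ≤ rk p W' y ↔ (Ker W x).index ≤ (Ker W' y).index := by
  rw [index_eq hL W x, index_eq hL W' y, Nat.pow_le_pow_iff_right hp.out.one_lt]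

theorem rk_antitone {W W' : AddSubgroup L} {x y : L} (h : Ker W x ≤ Ker W' y) : rk p W' y ≤ rk p W x :=
  (rk_le_iff hL).2 (Nat.le_of_dvd (Nat.pos_of_ne_zero AddSubgroup.index_ne_zero_of_finite)
    (AddSubgroup.index_dvd_of_le h))

theorem eq_of_le_of_rk {W W' : AddSubgroup L} {x y : L} (h : Ker W x ≤ Ker W' y)
    (hr : rk p W x ≤ rk p W' y) : Ker W x = Ker W' y := by
  refine le_antisymm h ?_
  have h1 := AddSubgroup.relIndex_mul_index h
  rw [index_eq hL W x, index_eq hL W' y, le_antisymm hr (rk_antitone hL h)] at h1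
  exact AddSubgroup.relIndex_eq_one.1 (mul_eq_right₀ (pow_ne_zero _ hp.out.ne_zero) |>.1 h1)

theorem eq_top_of_rk_zero {W : AddSubgroup L} {x : L} (h : rk p W x = 0) : Ker W x = ⊤ := by
  rw [← AddSubgroup.index_eq_one, index_eq hL, h, pow_zero]

/-- The basic alternative after adjoining the image of `ad v`. -/
theorem step {V : AddSubgroup L} {W K : AddSubgroup L} {v : L} {s : ℕ} (hv : v ∈ V) (hvK : ¬ K ≤ Ker W v)
    (hvs : rk p W v = s) (hmax : ∀ x ∈ V, ¬ K ≤ Ker W x → rk p W x ≤ s) {y : L} (hy : y ∈ V) :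
    rk p (ext W v) y < s ∨ (Ker (ext W v) y = Ker W v ∧
      ∃ h ∈ V, ¬ K ≤ Ker W h ∧ rk p W h = s ∧ Ker W h = Ker W v ∧ Ker (ext W v) h = Ker W h) := by
  obtain ⟨y', hy'V, hy'K, hKy⟩ : ∃ y' ∈ V, ¬ K ≤ Ker W y' ∧ Ker (ext W v) y' = Ker (ext W v) y := by
    by_cases hK : K ≤ Ker W y
    · refine ⟨y + v, add_mem hy hv, fun h => hvK fun k hk => ?_, Ker_ext_add W v y⟩
      have h1 := mem_Ker.1 (h hk)
      rw [add_lie] at h1
      exact (AddSubgroup.add_mem_cancel_left _ (mem_Ker.1 (hK hk))).1 h1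
    · exact ⟨y, hy, hK, rfl⟩
  have hle : rk p W y' ≤ s := hmax y' hy'V hy'K
  have hmono := Ker_mono (le_ext W v) y'
  rw [rk, ← hKy, ← rk]
  by_cases hlt : rk p (ext W v) y' < s
  · exact Or.inl hlt
  right
  have h0 := rk_antitone hL hmono
  have he : rk p W y' = s := by omega
  have hdrop : Ker (ext W v) y' = Ker W y' := (eq_of_le_of_rk hL hmono (by omega)).symm
  have hsum := Ker_add_of_nodrop hdrop
  have hsK : ¬ K ≤ Ker W (y' + v) := fun h => hvK (h.trans (hsum ▸ inf_le_left))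
  have h1 : Ker W (y' + v) = Ker W v :=
    eq_of_le_of_rk hL (hsum ▸ inf_le_left) (hvs ▸ hmax _ (add_mem hy'V hv) hsK)
  have h2 : Ker W v ≤ Ker W y' := h1 ▸ hsum ▸ inf_le_right
  have h3 : Ker W v = Ker W y' := eq_of_le_of_rk hL h2 (by omega)
  exact ⟨by rw [hdrop, h3], y', hy'V, hy'K, he, h3.symm, hdrop⟩

theorem rk_le_pred {W W' : AddSubgroup L} {v x : L} {ℓ : L} (h : Ker W v ≤ Ker W' x) (hx : ℓ ∈ Ker W' x)
    (hv : ℓ ∉ Ker W v) : rk p W' x < rk p W v := by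
  refine lt_of_le_of_ne (rk_antitone hL h) fun he => hv ?_
  rw [eq_of_le_of_rk hL h (le_of_eq he.symm)]
  exact hx

end

/-! ### Spanned subgroups -/

/-- The span of `⁅V, L⁆`. -/
def span (V : AddSubgroup L) : AddSubgroup L := ⨆ x : V, (adH (x : L)).range

theorem lie_mem_span {V : AddSubgroup L} {x : L} (hx : x ∈ V) (l : L) : ⁅x, l⁆ ∈ span V :=
  mem_iSup_of_mem (⟨x, hx⟩ : V) ⟨l, rfl⟩

theorem span_le {V W : AddSubgroup L} (h : ∀ x ∈ V, Ker W x = ⊤) : span V ≤ W :=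
  iSup_le fun x => by
    rintro a ⟨l, rfl⟩
    exact mem_Ker.1 ((h x x.2).symm ▸ mem_top l)

/-- `W` is the span of the images of `ad z` for some elements `z` of `V`. -/
def IsSpan (V W : AddSubgroup L) : Prop :=
  ∃ Z : Set L, Z ⊆ V ∧ W = ⨆ z ∈ Z, (adH z).range

theorem IsSpan.bot (V : AddSubgroup L) : IsSpan V ⊥ := ⟨∅, Set.empty_subset _, by simp⟩

theorem IsSpan.ext {V W : AddSubgroup L} (h : IsSpan V W) {v : L} (hv : v ∈ V) : IsSpan V (Breadth.ext W v) := by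
  obtain ⟨Z, hZ, rfl⟩ := h
  exact ⟨insert v Z, Set.insert_subset hv hZ, by rw [iSup_insert, Breadth.ext, sup_comm]⟩

/-- The subgroup generated by the brackets of two sets. -/
def span' (X : Set L) (M : AddSubgroup L) : AddSubgroup L :=
  AddSubgroup.closure {a | ∃ x ∈ X, ∃ m ∈ M, a = ⁅x, m⁆}

/-- A filtration witnessing that `L` is generated by `V`. -/
structure Generates (V : AddSubgroup L) (F : ℕ → AddSubgroup L) : Prop where
  top : F 0 = ⊤
  bot : ∃ c, F c = ⊥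
  base : F 0 ≤ V ⊔ F 1
  succ : ∀ n, F (n + 1) ≤ span' (V : Set L) (F n)
  lie : ∀ n (x f : L), f ∈ F n → ⁅x, f⁆ ∈ F (n + 1)

theorem Generates.exists_pair {V : AddSubgroup L} {F : ℕ → AddSubgroup L} (hF : Generates V F) {W : AddSubgroup L}
    (hW : IsSpan V W) (h : ¬ span V ≤ W) :
    ∃ v ∈ V, ∃ ℓ, (∀ x ∈ V, ℓ ∈ Ker (Breadth.ext W v) x) ∧ ∃ x ∈ V, ℓ ∉ Ker W x := by
  by_contra hno
  push Not at hno
  refine h (span_le fun x hx => top_le_iff.1 ?_)
  obtain ⟨Z, hZV, rfl⟩ := hW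
  set W := ⨆ z ∈ Z, (adH z).range with hWdef
  set M : AddSubgroup L := ⨆ v : V, ⨅ q : L, Ker (Breadth.ext W v) q with hMdef
  have hMN : M ≤ ⨅ x : V, Ker W x := iSup_le fun v => le_iInf fun x => fun l hl =>
    hno v v.2 l (fun y _ => mem_iInf.1 hl y) x x.2
  have hVM : V ≤ M := fun v hv => mem_iSup_of_mem (⟨v, hv⟩ : V) (mem_iInf.2 fun q => by
    rw [mem_Ker, ← lie_skew]
    exact neg_mem (lie_mem_ext W v q))
  have hMz : ∀ z ∈ Z, M ≤ M.comap (adH z) := fun z hz => iSup_le fun v l hl => by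
    refine mem_iSup_of_mem v (mem_iInf.2 fun q => ?_)
    rw [mem_Ker, adH_apply, leibniz_lie]
    refine add_mem (mem_Ker.1 (mem_iInf.1 hl ⁅q, z⁆)) (le_ext W v ?_)
    exact mem_iSup_of_mem z (mem_iSup_of_mem hz ⟨_, rfl⟩)
  have hall : ∀ n, (⊤ : AddSubgroup L) ≤ M ⊔ F (n + 1) := by
    intro n
    induction n with
    | zero => exact hF.top ▸ hF.base.trans (sup_le_sup_right hVM _)
    | succ n ih =>
      have hW' : W ≤ M ⊔ F (n + 1 + 1) := iSup₂_le fun z hz => by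
        rintro a ⟨l, rfl⟩
        obtain ⟨m, hm, g, hg, rfl⟩ := mem_sup.1 (ih (mem_top l))
        rw [adH_apply, lie_add]
        exact add_mem (mem_sup_left (hMz z hz hm)) (mem_sup_right (hF.lie _ z g hg))
      refine ih.trans (sup_le le_sup_left ((hF.succ n).trans ((closure_le _).2 ?_)))
      rintro a ⟨y, hy, f, -, rfl⟩
      obtain ⟨m, hm, g, hg, rfl⟩ := mem_sup.1 (ih (mem_top f))
      rw [lie_add]
      exact add_mem (hW' (mem_iInf.1 (hMN hm) ⟨y, hy⟩)) (mem_sup_right (hF.lie _ y g hg))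
  obtain ⟨c, hc⟩ := hF.bot
  have hc1 : F (c + 1) = ⊥ := le_bot_iff.1 ((hF.succ c).trans ((closure_le _).2 (by
    rintro a ⟨y, -, f, hf, rfl⟩
    rw [hc, mem_bot] at hf
    rw [hf, lie_zero]
    exact zero_mem _)))
  intro l hl
  exact mem_iInf.1 (hMN (by simpa [hc1] using hall c hl)) ⟨x, hx⟩

/-! ### The bound -/

variable [Finite L] {p : ℕ} [hp : Fact p.Prime]

theorem sum_step (s : ℕ) : s + 1 + s * (s + 1) / 2 = (s + 1) * (s + 1 + 1) / 2 := by
  rw [show (s + 1) * (s + 1 + 1) = s * (s + 1) + (s + 1) * 2 by ring, Nat.add_mul_div_right _ _ two_pos]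
  ring

theorem glue (hL : ∃ N : ℕ, Nat.card L = p ^ N) {V W : AddSubgroup L} {v : L} {s r : ℕ} (hs : s < r)
    (hv : rk p W v ≤ s + 1)
    (h : Nat.card ↥(Breadth.ext W v ⊔ span V) ≤ Nat.card ↥(Breadth.ext W v) * p ^ (s * (s + 1) / 2)) :
    Nat.card ↥(W ⊔ span V) ≤ Nat.card W * p ^ (r * (r + 1) / 2) := by
  refine (AddSubgroup.card_le_of_le (sup_le_sup_right (le_ext W v) _)).trans (h.trans ?_)
  rw [card_ext, index_eq hL, mul_assoc, ← pow_add]
  refine Nat.mul_le_mul_left _ (Nat.pow_le_pow_right hp.out.pos ?_)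
  calc rk p W v + s * (s + 1) / 2 ≤ s + 1 + s * (s + 1) / 2 := by omega
    _ = (s + 1) * (s + 1 + 1) / 2 := sum_step s
    _ ≤ r * (r + 1) / 2 := Nat.div_le_div_right (Nat.mul_le_mul hs (by omega))

theorem key (hL : ∃ N : ℕ, Nat.card L = p ^ N) {V : AddSubgroup L} {F : ℕ → AddSubgroup L} (hF : Generates V F) :
    ∀ (r : ℕ) (W K : AddSubgroup L), IsSpan V W → (∀ x ∈ V, ¬ K ≤ Ker W x → rk p W x ≤ r) →
      (∃ x ∈ V, ¬ K ≤ Ker W x) → Nat.card ↥(W ⊔ span V) ≤ Nat.card W * p ^ (r * (r + 1) / 2) := by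
  intro r
  induction r using Nat.strong_induction_on with
  | _ r IH =>
  intro W K hW hle hex
  have fin : ∀ r' < r, ∀ W', IsSpan V W' → (∀ x ∈ V, rk p W' x ≤ r') →
      Nat.card ↥(W' ⊔ span V) ≤ Nat.card W' * p ^ (r' * (r' + 1) / 2) := by
    intro r' hr' W' hW' hle'
    by_cases he : ∀ x ∈ V, Ker W' x = ⊤
    · rw [sup_eq_left.2 (span_le he)]
      exact Nat.le_mul_of_pos_right _ (pow_pos hp.out.pos _)
    · push Not at he
      obtain ⟨x, hx, hne⟩ := he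
      exact IH r' hr' W' ⊤ hW' (fun y hy _ => hle' y hy) ⟨x, hx, fun h => hne (top_le_iff.1 h)⟩
  obtain ⟨x₀, hx₀, hK₀⟩ := hex
  haveI : Nonempty {x : L // x ∈ V ∧ ¬ K ≤ Ker W x} := ⟨⟨x₀, hx₀, hK₀⟩⟩
  obtain ⟨⟨v₀, hv₀, hv₀K⟩, hv₀max⟩ :=
    Finite.exists_max fun x : {x : L // x ∈ V ∧ ¬ K ≤ Ker W x} => rk p W x.1
  set s := rk p W v₀ with hs
  have hsr : s ≤ r := hle v₀ hv₀ hv₀K
  have hs0 : s ≠ 0 := fun h => hv₀K (by rw [eq_top_of_rk_zero hL h]; exact le_top)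
  have hmax : ∀ x ∈ V, ¬ K ≤ Ker W x → rk p W x ≤ s := fun x hx hK => hv₀max ⟨x, hx, hK⟩
  obtain ⟨t, ht⟩ : ∃ t, s = t + 1 := ⟨s - 1, by omega⟩
  by_cases hcase : ∃ v ∈ V, ¬ K ≤ Ker W v ∧ rk p W v = s ∧ ∀ x ∈ V, Ker W v ≤ Ker W x
  · -- all kernels contain the kernel of `v`
    obtain ⟨v, hv, hvK, hvs, hall⟩ := hcase
    have hns : ¬ span V ≤ W := fun h => hvK fun k _ => h (lie_mem_span hv k)
    obtain ⟨v', hv', ℓ, hℓ, x₁, hx₁, hℓ₁⟩ := hF.exists_pair hW hns
    have hℓv : ℓ ∉ Ker W v := fun h => hℓ₁ (hall x₁ hx₁ h)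
    refine glue hL (v := v') (s := t) (by omega) ?_ ?_
    · exact (rk_antitone hL (hall v' hv')).trans (by omega)
    · refine fin t (by omega) _ (hW.ext hv') fun x hx => ?_
      have := rk_le_pred hL ((hall x hx).trans (Ker_mono (le_ext W v') x)) (hℓ x hx) hℓv
      omega
  · push Not at hcase
    by_cases hdrop : ∀ y ∈ V, rk p (Breadth.ext W v₀) y < s
    · refine glue hL (v := v₀) (s := t) (by omega) (by omega) (fin t (by omega) _ (hW.ext hv₀) fun x hx => ?_)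
      have := hdrop x hx
      omega
    push Not at hdrop
    obtain ⟨y, hy, hys⟩ := hdrop
    obtain ⟨-, h, hh, hhK, hhs, hKh, hnd⟩ := (step hL hv₀ hv₀K hs.symm hmax hy).resolve_left (by omega)
    -- one of `v₀`, `h` is suitable
    obtain ⟨v, hv, hvK, hvs, hvker, hnondeg⟩ : ∃ v ∈ V, ¬ K ≤ Ker W v ∧ rk p W v = s ∧ Ker W v = Ker W v₀ ∧
        ∃ x ∈ V, ¬ Ker W v₀ ≤ Ker (Breadth.ext W v) x := by
      by_contra hboth
      push Not at hboth
      obtain ⟨x, hx, hxK⟩ := hcase v₀ hv₀ hv₀K rfl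
      refine hxK fun l hl => ext_inf_ext_le hnd ⟨?_, ?_⟩
      · exact hboth v₀ hv₀ hv₀K rfl rfl x hx hl
      · exact hboth h hh hhK hhs hKh x hx hl
    refine glue hL (v := v) (s := t) (by omega) (by omega) (IH t (by omega) _ (Ker W v₀) (hW.ext hv) (fun x hx hxK => ?_)
      hnondeg)
    rcases step hL hv hvK hvs hmax hx with h1 | ⟨h1, -⟩
    · omega
    · exact absurd (le_of_eq (h1.trans hvker).symm) hxK

/-- The bound on the span of `⁅V, L⁆`. -/
theorem card_span_le (hL : ∃ N : ℕ, Nat.card L = p ^ N) {V : AddSubgroup L} {F : ℕ → AddSubgroup L}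
    (hF : Generates V F) (b : ℕ) (hb : ∀ x ∈ V, (adH x).ker.index ≤ p ^ b) :
    Nat.card ↥(span V) ≤ p ^ (b * (b + 1) / 2) := by
  have hker : ∀ x : L, Ker (⊥ : AddSubgroup L) x = (adH x).ker := fun x => rfl
  by_cases he : ∀ x ∈ V, Ker (⊥ : AddSubgroup L) x = ⊤
  · rw [le_bot_iff.1 (span_le he), AddSubgroup.card_bot]
    exact pow_pos hp.out.pos _
  · push Not at he
    obtain ⟨x, hx, hne⟩ := he
    have h := key hL hF b ⊥ ⊤ (IsSpan.bot V) (fun y hy _ => ?_) ⟨x, hx, fun h => hne (top_le_iff.1 h)⟩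
    · simpa using h
    · rw [← Nat.pow_le_pow_iff_right hp.out.one_lt, ← index_eq hL, hker]
      exact hb y hy

end Cfsg.Lib.Breadth
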