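/-
The associated Lie ring of a group as a test ground for the breadth bound.
-/
import Cfsg.Agent.PGroups.BreadthLie
import Cfsg.Agent.LieFpf.AssocLie

set_option linter.unusedSectionVars false

open scoped commutatorElement

namespace Cfsg.Lib.Breadth

open Cfsg.Lib.LieFpf

variable {G : Type*} [Group G] [Finite G] {c : ℕ}

/-- The part of degree at least `n`. -/
def deg (c : ℕ) (n : ℕ) : AddSubgroup (Gr G c) :=
  AddSubgroup.closure {x | ∃ k, n ≤ k ∧ ∃ a ∈ lcs G k, x = ι k a}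

theorem ι_mem_deg {n k : ℕ} (h : n ≤ k) {a : G} (ha : a ∈ lcs G k) : (ι k a : Gr G c) ∈ deg c n :=
  AddSubgroup.subset_closure ⟨k, h, a, ha, rfl⟩

/-- The degree zero part. -/
def base (c : ℕ) : AddSubgroup (Gr G c) where
  carrier := Set.range fun g : G => (ι 0 g : Gr G c)
  zero_mem' := ⟨1, ι_one 0⟩
  add_mem' := by
    rintro _ _ ⟨a, rfl⟩ ⟨b, rfl⟩
    exact ⟨a * b, ι_mul (Subgroup.mem_top a) (Subgroup.mem_top b)⟩
  neg_mem' := by
    rintro _ ⟨a, rfl⟩
    exact ⟨a⁻¹, ι_inv (Subgroup.mem_top a)⟩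

theorem deg_succ_le (c n : ℕ) : deg (G := G) c (n + 1) ≤ span' ((base c : AddSubgroup (Gr G c)) : Set _) (deg c n) := by
  refine (AddSubgroup.closure_le _).2 ?_
  rintro x ⟨k, hk, a, ha, rfl⟩
  obtain ⟨j, rfl⟩ : ∃ j, k = j + 1 := ⟨k - 1, by omega⟩
  have hmem : ∀ b ∈ ⁅lcs G j, (⊤ : Subgroup G)⁆,
      b ∈ lcs G (j + 1) ∧ (ι (j + 1) b : Gr G c) ∈ span' ((base c : AddSubgroup (Gr G c)) : Set _) (deg c n) := by
    intro b hb
    rw [Subgroup.commutator_def] at hb
    induction hb using Subgroup.closure_induction with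
    | mem b hb =>
      obtain ⟨g, hg, h, -, rfl⟩ := hb
      refine ⟨comm_mem (j := 0) hg (Subgroup.mem_top h), ?_⟩
      rw [← lie_ι (c := c) (j := 0) hg (Subgroup.mem_top h), ← lie_skew]
      exact neg_mem (AddSubgroup.subset_closure ⟨ι 0 h, ⟨h, rfl⟩, _, ι_mem_deg (by omega) hg, rfl⟩)
    | one => exact ⟨one_mem _, by rw [ι_one]; exact zero_mem _⟩
    | mul y z _ _ hy hz => exact ⟨mul_mem hy.1 hz.1, by rw [ι_mul hy.1 hz.1]; exact add_mem hy.2 hz.2⟩
    | inv y _ hy => exact ⟨inv_mem hy.1, by rw [ι_inv hy.1]; exact neg_mem hy.2⟩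
  exact (hmem a ha).2

theorem deg_top (c : ℕ) : deg (G := G) c 0 = ⊤ :=
  top_le_iff.1 fun x _ => by
    rw [← sum_ι_rep x]
    exact sum_mem fun k _ => ι_mem_deg (Nat.zero_le _) (rep_mem x k)

theorem deg_last (c : ℕ) : deg (G := G) c c = ⊥ := by
  refine le_bot_iff.1 ((AddSubgroup.closure_le _).2 ?_)
  rintro x ⟨k, hk, a, -, rfl⟩
  exact ι_of_ge hk a

theorem lie_deg (n : ℕ) (x f : Gr G c) (hf : f ∈ deg c n) : ⁅x, f⁆ ∈ deg c (n + 1) := by
  revert f
  suffices h : deg c n ≤ (deg c (n + 1)).comap (adH x) from fun f hf => h hf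
  refine (AddSubgroup.closure_le _).2 ?_
  rintro f ⟨k, hk, a, ha, rfl⟩
  show ⁅x, (ι k a : Gr G c)⁆ ∈ deg c (n + 1)
  rw [← sum_ι_rep x, ← lie_skew, lie_sum]
  refine neg_mem (sum_mem fun i _ => ?_)
  rw [lie_ι ha (rep_mem x i)]
  exact ι_mem_deg (by omega) (comm_mem ha (rep_mem x i))

theorem generates (c : ℕ) : Generates (base (G := G) c) (deg c) where
  top := deg_top c
  bot := ⟨c, deg_last c⟩
  base := by
    refine (AddSubgroup.closure_le _).2 ?_
    rintro x ⟨k, -, a, ha, rfl⟩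
    rcases Nat.eq_zero_or_pos k with rfl | hk
    · exact AddSubgroup.mem_sup_left ⟨a, rfl⟩
    · exact AddSubgroup.mem_sup_right (ι_mem_deg hk ha)
  succ := deg_succ_le c
  lie := lie_deg

theorem deg_apply_eq_zero {n : ℕ} {x : Gr G c} (hx : x ∈ deg c n) (k : Fin c) (hk : (k : ℕ) < n) : x k = 0 := by
  induction hx using AddSubgroup.closure_induction with
  | mem x hx =>
    obtain ⟨j, hj, a, ha, rfl⟩ := hx
    by_cases hjc : j < c
    · rw [ι_eq hjc ha, Pi.single_eq_of_ne (fun e => by subst e; simp only at hk; omega)]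
    · rw [ι_of_ge (not_lt.1 hjc)]; rfl
  | zero => rfl
  | add y z _ _ hy hz => rw [Pi.add_apply, hy, hz, add_zero]
  | neg y _ hy => rw [Pi.neg_apply, hy, neg_zero]

/-- A subgroup is no larger than any subgroup of the graded ring containing all its classes. -/
theorem card_inf_lcs_le (hc : lcs G c = ⊥) (C : Subgroup G) (K : AddSubgroup (Gr G c))
    (hCK : ∀ k, ∀ a ∈ C ⊓ lcs G k, (ι k a : Gr G c) ∈ K) (k : ℕ) :
    Nat.card ↥(C ⊓ lcs G k) ≤ Nat.card ↥(K ⊓ deg c k) := by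
  obtain hk | hk := le_or_gt c k
  · have : C ⊓ lcs G k = ⊥ := le_bot_iff.1 (inf_le_right.trans ((lcs_le G hk).trans hc.le))
    rw [this, Subgroup.card_bot]
    exact Nat.card_pos
  · have hle : C ⊓ lcs G (k + 1) ≤ C ⊓ lcs G k := inf_le_inf_left _ (lcs_succ_le G k)
    have hle' : K ⊓ deg c (k + 1) ≤ K ⊓ deg c k :=
      inf_le_inf_left _ (AddSubgroup.closure_mono fun x ⟨j, hj, r⟩ => ⟨j, by omega, r⟩)
    have hinj : ∀ a b : ↥(C ⊓ lcs G k), (ι k (a : G) : Gr G c) - ι k (b : G) ∈ deg c (k + 1) →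
        (b : G)⁻¹ * a ∈ C ⊓ lcs G (k + 1) := by
      intro a b h
      refine Subgroup.mem_inf.2 ⟨C.mul_mem (C.inv_mem b.2.1) a.2.1, inv_mul_mem_of_ι_eq hk b.2.2 a.2.2 ?_⟩
      have h0 := deg_apply_eq_zero h ⟨k, hk⟩ (Nat.lt_succ_self k)
      rw [Pi.sub_apply, ι_eq hk a.2.2, ι_eq hk b.2.2, Pi.single_eq_same, Pi.single_eq_same, sub_eq_zero] at h0
      rw [ι_eq hk a.2.2, ι_eq hk b.2.2, h0]
    let f : ↥(C ⊓ lcs G k) ⧸ (C ⊓ lcs G (k + 1)).subgroupOf (C ⊓ lcs G k) →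
        ↥(K ⊓ deg c k) ⧸ (K ⊓ deg c (k + 1)).addSubgroupOf (K ⊓ deg c k) :=
      fun q => QuotientAddGroup.mk ⟨ι k (q.out : G), hCK k _ q.out.2, ι_mem_deg le_rfl q.out.2.2⟩
    have hf : Function.Injective f := by
      intro q q' h
      have h1 := ((QuotientAddGroup.eq_iff_sub_mem).1 h).2
      rw [← QuotientGroup.out_eq' q, ← QuotientGroup.out_eq' q']
      refine (QuotientGroup.eq).2 ?_
      rw [Subgroup.mem_subgroupOf, Subgroup.coe_mul, Subgroup.coe_inv]
      have := hinj q'.out q.out (by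
        rw [← neg_sub]
        exact neg_mem h1)
      exact this
    calc Nat.card ↥(C ⊓ lcs G k) = Nat.card (↥(C ⊓ lcs G k) ⧸ (C ⊓ lcs G (k + 1)).subgroupOf (C ⊓ lcs G k)) *
        Nat.card ↥(C ⊓ lcs G (k + 1)) := by
          rw [Subgroup.card_eq_card_quotient_mul_card_subgroup ((C ⊓ lcs G (k + 1)).subgroupOf (C ⊓ lcs G k)),
            Nat.card_congr (Subgroup.subgroupOfEquivOfLe hle).toEquiv]
      _ ≤ Nat.card (↥(K ⊓ deg c k) ⧸ (K ⊓ deg c (k + 1)).addSubgroupOf (K ⊓ deg c k)) *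
        Nat.card ↥(K ⊓ deg c (k + 1)) :=
          Nat.mul_le_mul (Nat.card_le_card_of_injective f hf) (card_inf_lcs_le hc C K hCK (k + 1))
      _ = Nat.card ↥(K ⊓ deg c k) := by
          rw [← Nat.card_congr (AddSubgroup.addSubgroupOfEquivOfLe hle').toEquiv,
            ← AddSubgroup.card_eq_card_quotient_mul_card_addSubgroup]
termination_by c - k

theorem prod_card_Q (n : ℕ) : (∏ k : Fin n, Nat.card (Q G k)) * Nat.card ↥(lcs G n) = Nat.card G := by
  induction n with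
  | zero => simp
  | succ n ih =>
    rw [Fin.prod_univ_castSucc, ← ih]
    simp only [Fin.val_castSucc, Fin.val_last]
    rw [Subgroup.card_eq_card_quotient_mul_card_subgroup ((lcs G (n + 1)).subgroupOf (lcs G n)),
      Nat.card_congr (Subgroup.subgroupOfEquivOfLe (lcs_succ_le G n)).toEquiv, mul_assoc]

theorem card_gr (hc : lcs G c = ⊥) : Nat.card (Gr G c) = Nat.card G := by
  rw [← prod_card_Q (G := G) c, hc, Subgroup.card_bot, mul_one, Nat.card_pi]
  exact Finset.prod_congr rfl fun k _ => Nat.card_congr Additive.toMul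

theorem ad_ker_index_le (hc : lcs G c = ⊥) (g : G) :
    (adH (ι 0 g : Gr G c)).ker.index ≤ (Subgroup.centralizer ({g} : Set G)).index := by
  have h := card_inf_lcs_le hc (Subgroup.centralizer ({g} : Set G)) (adH (ι 0 g : Gr G c)).ker (fun k a ha => ?_) 0
  · simp only [deg_top, inf_top_eq] at h
    have htop : Subgroup.centralizer ({g} : Set G) ⊓ lcs G 0 = Subgroup.centralizer ({g} : Set G) := inf_eq_left.2 (by simp)
    rw [htop] at h
    have h1 := AddSubgroup.index_mul_card (adH (ι 0 g : Gr G c)).ker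
    have h2 := Subgroup.index_mul_card (Subgroup.centralizer ({g} : Set G))
    rw [card_gr hc] at h1
    refine Nat.le_of_mul_le_mul_right ?_ (Nat.card_pos (α := ↥(Subgroup.centralizer ({g} : Set G))))
    rw [h2, ← h1]
    exact Nat.mul_le_mul_left _ h
  · rw [AddMonoidHom.mem_ker, adH_apply, lie_ι (Subgroup.mem_top g) ha.2,
      show ⁅g, a⁆ = 1 from commutatorElement_eq_one_iff_commute.2 (Subgroup.mem_centralizer_iff.1 ha.1 g rfl), ι_one]

theorem card_lcs_one_le (hc : lcs G c = ⊥) : Nat.card ↥(lcs G 1) ≤ Nat.card ↥(span (base (G := G) c)) := by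
  have h := card_inf_lcs_le hc ⊤ (⊤ : AddSubgroup (Gr G c)) (fun _ _ _ => AddSubgroup.mem_top _) 1
  rw [top_inf_eq, top_inf_eq] at h
  refine h.trans (AddSubgroup.card_le_of_le ((deg_succ_le c 0).trans ((AddSubgroup.closure_le _).2 ?_)))
  rintro x ⟨v, hv, m, -, rfl⟩
  exact lie_mem_span hv m

end Cfsg.Lib.Breadth
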