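import Cfsg.Agent.PGroups.MaxClassAgemo

/-!
In a group with a central series, the top Hall–Petrescu element of `x, y ^ m` splits by degree in
`m`; summing over `m` modulo `p` isolates the part linear in `y`. Hence a `p`-group of maximal class
and order at least `p ^ (p + 1)` has a `p`-th power outside the `p`-th term of the central series.
-/

set_option autoImplicit false
set_option linter.unusedSectionVars false
set_option linter.style.haveILetI false

namespace Cfsg.Lib.PGroups.EngelTop

open Subgroup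
open Cfsg.Lib.PGroups
open scoped commutatorElement

universe u

section Series

variable {Y : Type u} [Group Y]

/-- A descending central series with a pair of elements. -/
structure CSeries (Y : Type u) [Group Y] where
  M : ℕ → Subgroup Y
  zero : M 0 = ⊤
  norm : ∀ k, (M k).Normal
  comm : ∀ k, ∀ g ∈ M k, ∀ w : Y, ⁅g, w⁆ ∈ M (k + 1)
  anti : ∀ k, M (k + 1) ≤ M k

variable (S : CSeries Y)

instance (k : ℕ) : (S.M k).Normal := S.norm k

/-- The quotient by the next term. -/
abbrev Q (k : ℕ) := Y ⧸ S.M (k + 1)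

/-- A factor of the series. -/
abbrev Layer (k : ℕ) : Subgroup (Q S k) := (S.M k).map (QuotientGroup.mk' (S.M (k + 1)))

theorem layer_central (k : ℕ) {u : Q S k} (hu : u ∈ Layer S k) (q : Q S k) : Commute u q := by
  obtain ⟨g, hg, rfl⟩ := hu
  obtain ⟨w, rfl⟩ := QuotientGroup.mk'_surjective _ q
  rw [← commutatorElement_eq_one_iff_commute, ← map_commutatorElement]
  exact (QuotientGroup.eq_one_iff _).2 (S.comm k g hg w)

instance layerComm (k : ℕ) : CommGroup (Layer S k) :=
  { (inferInstance : Group (Layer S k)) with mul_comm := fun a b => Subtype.ext (layer_central S k a.2 b) }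

/-- The class of an element. -/
def cls (k : ℕ) : S.M k →* Layer S k := (QuotientGroup.mk' (S.M (k + 1))).subgroupMap (S.M k)

theorem cls_surjective (k : ℕ) : Function.Surjective (cls S k) := MonoidHom.subgroupMap_surjective _ _

theorem cls_eq_one (k : ℕ) {g : S.M k} (h : (g : Y) ∈ S.M (k + 1)) : cls S k g = 1 :=
  Subtype.ext ((QuotientGroup.eq_one_iff _).2 h)

theorem mem_of_cls (k : ℕ) {g : S.M k} (h : cls S k g = 1) : (g : Y) ∈ S.M (k + 1) :=
  (QuotientGroup.eq_one_iff _).1 (congrArg Subtype.val h)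

theorem cls_congr (k : ℕ) {g h : S.M k} (e : (g : Y) = h) : cls S k g = cls S k h := by rw [Subtype.ext e]

/-- The class of a commutator, as a function of the second entry. -/
def brW (k : ℕ) (g : S.M k) : Y →* Layer S (k + 1) where
  toFun w := cls S (k + 1) ⟨⁅(g : Y), w⁆, S.comm k g g.2 w⟩
  map_one' := cls_eq_one S (k + 1) (by show ⁅(g : Y), (1 : Y)⁆ ∈ _; rw [commutatorElement_one_right]; exact one_mem _)
  map_mul' v w := by
    refine Subtype.ext ?_
    show QuotientGroup.mk' _ ⁅(g : Y), v * w⁆ = QuotientGroup.mk' _ ⁅(g : Y), v⁆ * QuotientGroup.mk' _ ⁅(g : Y), w⁆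
    have h := layer_central S (k + 1) (mem_map_of_mem (QuotientGroup.mk' (S.M (k + 1 + 1))) (S.comm k g g.2 w))
      (QuotientGroup.mk' _ v)
    rw [show ⁅(g : Y), v * w⁆ = ⁅(g : Y), v⁆ * (v * ⁅(g : Y), w⁆ * v⁻¹) by simp only [commutatorElement_def]; group,
      map_mul, map_mul, map_mul, ← h.eq, map_inv, mul_inv_cancel_right]

/-- The class of a commutator, as a function of the first entry. -/
def brU (k : ℕ) (w : Y) : S.M k →* Layer S (k + 1) where
  toFun g := brW S k g w
  map_one' := cls_eq_one S (k + 1) (by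
    show ⁅((1 : S.M k) : Y), w⁆ ∈ _
    rw [OneMemClass.coe_one, commutatorElement_one_left]; exact one_mem _)
  map_mul' g h := by
    refine Subtype.ext ?_
    show QuotientGroup.mk' _ ⁅((g : Y) * h), w⁆ = QuotientGroup.mk' _ ⁅(g : Y), w⁆ * QuotientGroup.mk' _ ⁅(h : Y), w⁆
    have hh := layer_central S (k + 1) (mem_map_of_mem (QuotientGroup.mk' (S.M (k + 1 + 1))) (S.comm k h h.2 w))
      (QuotientGroup.mk' _ (g : Y))
    have hg := layer_central S (k + 1) (mem_map_of_mem (QuotientGroup.mk' (S.M (k + 1 + 1))) (S.comm k g g.2 w))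
      (QuotientGroup.mk' _ ⁅(h : Y), w⁆)
    rw [show ⁅(g : Y) * h, w⁆ = ((g : Y) * ⁅(h : Y), w⁆ * (g : Y)⁻¹) * ⁅(g : Y), w⁆ by
        simp only [commutatorElement_def]; group,
      map_mul, map_mul, map_mul, ← hh.eq, map_inv, mul_inv_cancel_right, hg.eq]

theorem brU_apply (k : ℕ) (w : Y) (g : S.M k) : brU S k w g = brW S k g w := rfl

/-- Commutation with `w`, on classes. -/
noncomputable def kap (k : ℕ) (w : Y) : Layer S k →* Layer S (k + 1) :=
  (cls S k).liftOfSurjective (cls_surjective S k) ⟨brU S k w, fun g hg => by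
    refine cls_eq_one S (k + 1) ?_
    exact S.comm (k + 1) g (mem_of_cls S k hg) w⟩

theorem kap_cls (k : ℕ) (w : Y) (g : S.M k) : kap S k w (cls S k g) = brW S k g w :=
  MonoidHom.liftOfRightInverse_comp_apply _ _ _ _ g

/-- The element `g` as an element of the first term. -/
def top' (g : Y) : S.M 0 := ⟨g, S.zero ▸ mem_top g⟩

/-- The iterated commutators. -/
def iter (X0 Y0 : Y) : ℕ → Y
  | 0 => Y0
  | k + 1 => ⁅iter X0 Y0 k, X0⁆

theorem iter_mem (X0 Y0 : Y) : ∀ k, iter X0 Y0 k ∈ S.M k
  | 0 => S.zero ▸ mem_top _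
  | k + 1 => S.comm k _ (iter_mem X0 Y0 k) X0

/-- The class of the iterated commutator. -/
def ucls (X0 Y0 : Y) (k : ℕ) : Layer S k := cls S k ⟨iter X0 Y0 k, iter_mem S X0 Y0 k⟩

variable (X0 Y0 : Y) (E : ∀ k, Subgroup (Layer S k))

/-- `g` splits by degree. -/
def Split (φ : ℕ → (FreeGroup Bool →* Y)) (k : ℕ) (g : FreeGroup Bool) : Prop :=
  ∃ (c : ℤ) (e : ℕ → Layer S k), e 0 = 1 ∧ e 1 = ucls S X0 Y0 k ^ c ∧ (∀ d, 2 ≤ d → e d ∈ E k) ∧
    ∀ m : ℕ, ∃ h : φ m g ∈ S.M k, cls S k ⟨φ m g, h⟩ = ∏ d ∈ Finset.range (k + 1), e d ^ (m ^ d)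

theorem split_one (φ : ℕ → (FreeGroup Bool →* Y)) (k : ℕ) : Split S X0 Y0 E φ k 1 :=
  ⟨0, fun _ => 1, rfl, (zpow_zero _).symm, fun _ _ => one_mem _, fun m => ⟨by rw [map_one]; exact one_mem _, by
    rw [cls_eq_one S k (show ((⟨φ m 1, _⟩ : S.M k) : Y) ∈ S.M (k + 1) by
      show φ m 1 ∈ _; rw [map_one]; exact one_mem _)]
    simp⟩⟩

theorem split_mul (φ : ℕ → (FreeGroup Bool →* Y)) (k : ℕ) {g g' : FreeGroup Bool} (h : Split S X0 Y0 E φ k g)
    (h' : Split S X0 Y0 E φ k g') : Split S X0 Y0 E φ k (g * g') := by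
  obtain ⟨c, e, h0, h1, hE, hm⟩ := h
  obtain ⟨c', e', h0', h1', hE', hm'⟩ := h'
  refine ⟨c + c', fun d => e d * e' d, by simp [h0, h0'], by simp [h1, h1', zpow_add],
    fun d hd => mul_mem (hE d hd) (hE' d hd), fun m => ?_⟩
  obtain ⟨a, ha⟩ := hm m
  obtain ⟨a', ha'⟩ := hm' m
  refine ⟨by rw [map_mul]; exact mul_mem a a', ?_⟩
  rw [cls_congr S k (show φ m (g * g') = ((⟨φ m g, a⟩ : S.M k) * ⟨φ m g', a'⟩ : S.M k) by simp), map_mul, ha, ha',
    ← Finset.prod_mul_distrib]
  exact Finset.prod_congr rfl fun d _ => (mul_pow _ _ _).symm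

theorem split_inv (φ : ℕ → (FreeGroup Bool →* Y)) (k : ℕ) {g : FreeGroup Bool} (h : Split S X0 Y0 E φ k g) :
    Split S X0 Y0 E φ k g⁻¹ := by
  obtain ⟨c, e, h0, h1, hE, hm⟩ := h
  refine ⟨-c, fun d => (e d)⁻¹, by simp [h0], by simp [h1], fun d hd => inv_mem (hE d hd), fun m => ?_⟩
  obtain ⟨a, ha⟩ := hm m
  refine ⟨by rw [map_inv]; exact inv_mem a, ?_⟩
  rw [cls_congr S k (show φ m g⁻¹ = ((⟨φ m g, a⟩ : S.M k)⁻¹ : S.M k) by simp), map_inv, ha, ← Finset.prod_inv_distrib]
  exact Finset.prod_congr rfl fun d _ => (inv_pow _ _).symm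

/-- The evaluation at `x, y ^ m`. -/
noncomputable def phi (m : ℕ) : FreeGroup Bool →* Y := FreeGroup.lift fun b => if b then X0 else Y0 ^ m

/-- The exponent sum of a generator. -/
noncomputable def expSum (b : Bool) : FreeGroup Bool →* Multiplicative ℤ :=
  FreeGroup.lift fun b' => if b' = b then Multiplicative.ofAdd 1 else 1

theorem hom_phi {C : Type u} [CommGroup C] (f : Y →* C) (m : ℕ) (w : FreeGroup Bool) :
    f (phi X0 Y0 m w) = f X0 ^ (expSum true w).toAdd * f Y0 ^ ((m : ℤ) * (expSum false w).toAdd) := by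
  let g : FreeGroup Bool →* C :=
    { toFun := fun w => f X0 ^ (expSum true w).toAdd * f Y0 ^ ((m : ℤ) * (expSum false w).toAdd)
      map_one' := by simp
      map_mul' := fun u v => by
        simp only [map_mul, toAdd_mul, mul_add, zpow_add]
        ac_rfl }
  have : f.comp (phi X0 Y0 m) = g := FreeGroup.ext_hom _ _ fun b => by
    cases b <;> simp [g, phi, expSum]
  exact DFunLike.congr_fun this w

theorem split_lcs (hY : ∀ k, 1 ≤ k → ∀ g : S.M k, brW S k g Y0 ∈ E (k + 1))
    (hE : ∀ k (w : Y), ∀ u ∈ E k, kap S k w u ∈ E (k + 1)) :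
    ∀ k, 1 ≤ k → ∀ g ∈ (⊤ : Subgroup (FreeGroup Bool)).lowerCentralSeries k, Split S X0 Y0 E (phi X0 Y0) k g := by
  have hclos : ∀ k, (∀ g ∈ (⊤ : Subgroup (FreeGroup Bool)).lowerCentralSeries k, ∀ w, Split S X0 Y0 E (phi X0 Y0) (k + 1) ⁅g, w⁆) →
      ∀ g ∈ (⊤ : Subgroup (FreeGroup Bool)).lowerCentralSeries (k + 1), Split S X0 Y0 E (phi X0 Y0) (k + 1) g := by
    intro k h g hg
    rw [Subgroup.lowerCentralSeries_succ, Subgroup.commutator_def] at hg
    induction hg using Subgroup.closure_induction with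
    | mem y hy =>
      obtain ⟨a, ha, b, -, rfl⟩ := hy
      exact h a ha b
    | one => exact split_one S X0 Y0 E _ _
    | mul a b _ _ ha hb => exact split_mul S X0 Y0 E _ _ ha hb
    | inv a _ ha => exact split_inv S X0 Y0 E _ _ ha
  intro k hk
  induction k, hk using Nat.le_induction with
  | base =>
    refine hclos 0 fun g _ w => ?_
    set z := ucls S X0 Y0 1
    have hxx : brW S 0 (top' S X0) X0 = 1 :=
      cls_eq_one S 1 (by show ⁅X0, X0⁆ ∈ _; rw [commutatorElement_self]; exact one_mem _)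
    have hyy : brW S 0 (top' S Y0) Y0 = 1 :=
      cls_eq_one S 1 (by show ⁅Y0, Y0⁆ ∈ _; rw [commutatorElement_self]; exact one_mem _)
    have hyx : brW S 0 (top' S Y0) X0 = z := rfl
    have hxy : brW S 0 (top' S X0) Y0 = z⁻¹ := by
      refine eq_inv_of_mul_eq_one_left ?_
      rw [← hyx]
      show cls S 1 _ * cls S 1 _ = 1
      rw [← map_mul]
      refine cls_eq_one S 1 ?_
      show ⁅X0, Y0⁆ * ⁅Y0, X0⁆ ∈ _
      rw [← commutatorElement_inv, inv_mul_cancel]
      exact one_mem _
    set a := (expSum true g).toAdd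
    set b := (expSum false g).toAdd
    set a' := (expSum true w).toAdd
    set b' := (expSum false w).toAdd
    refine ⟨b * a' - a * b', fun d => if d = 1 then z ^ (b * a' - a * b') else 1, by simp, (if_pos rfl).trans rfl,
      fun d hd => by show (if d = 1 then _ else _) ∈ _; rw [if_neg (by omega)]; exact one_mem _, fun m => ?_⟩
    have hmem : phi X0 Y0 m ⁅g, w⁆ ∈ S.M 1 := by
      rw [map_commutatorElement]; exact S.comm 0 _ (S.zero ▸ mem_top _) _
    refine ⟨hmem, ?_⟩
    let f : Y → (Y →* Layer S 1) := fun v =>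
      { toFun := fun u => brW S 0 (top' S u) v
        map_one' := (brU S 0 v).map_one
        map_mul' := fun u u' => (brU S 0 v).map_mul (top' S u) (top' S u') }
    have e1 : cls S 1 ⟨phi X0 Y0 m ⁅g, w⁆, hmem⟩ = brW S 0 (top' S (phi X0 Y0 m g)) (phi X0 Y0 m w) :=
      cls_congr S 1 (map_commutatorElement _ g w)
    have ex : f X0 (phi X0 Y0 m g) = z ^ ((m : ℤ) * b) := by
      rw [hom_phi X0 Y0 (f X0) m g, show f X0 X0 = 1 from hxx, one_zpow, one_mul, show f X0 Y0 = z from hyx]
    have ey : f Y0 (phi X0 Y0 m g) = (z⁻¹) ^ a := by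
      rw [hom_phi X0 Y0 (f Y0) m g, show f Y0 Y0 = 1 from hyy, one_zpow, mul_one, show f Y0 X0 = z⁻¹ from hxy]
    rw [e1, hom_phi X0 Y0 (brW S 0 (top' S (phi X0 Y0 m g))) m w,
      show brW S 0 (top' S (phi X0 Y0 m g)) X0 = z ^ ((m : ℤ) * b) from ex,
      show brW S 0 (top' S (phi X0 Y0 m g)) Y0 = (z⁻¹) ^ a from ey]
    simp only [Finset.prod_range_succ, Finset.prod_range_zero, one_mul, pow_one, if_true, Nat.zero_ne_one, if_false,
      one_pow, inv_zpow', ← zpow_mul, ← zpow_natCast, ← zpow_add, Nat.cast_one, one_zpow]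
    congr 1
    ring
  | succ k hk ih =>
    refine hclos k fun g hg w => ?_
    obtain ⟨c, e, h0, h1, hEe, hm⟩ := ih g hg
    set a := (expSum true w).toAdd
    set b := (expSum false w).toAdd
    let e' : ℕ → Layer S (k + 1) := fun d =>
      kap S k X0 (if d ≤ k then e d else 1) ^ a * (if d = 0 then 1 else kap S k Y0 (e (d - 1)) ^ b)
    refine ⟨c * a, e', by simp [e', h0], ?_, fun d hd => ?_, fun m => ?_⟩
    · have : kap S k X0 (ucls S X0 Y0 k) = ucls S X0 Y0 (k + 1) := kap_cls S k X0 _
      simp only [e', if_pos hk, Nat.one_ne_zero, if_false, Nat.sub_self, h0, map_one, one_zpow, mul_one, h1, map_zpow,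
        this, ← zpow_mul]
    · have hkY : ∀ u : Layer S k, kap S k Y0 u ∈ E (k + 1) := fun u => by
        obtain ⟨v, rfl⟩ := cls_surjective S k u
        rw [kap_cls]; exact hY k hk v
      simp only [e', if_neg (show d ≠ 0 by omega)]
      refine mul_mem (zpow_mem ?_ a) (zpow_mem (hkY _) b)
      split_ifs
      · exact hE k X0 _ (hEe d hd)
      · rw [map_one]; exact one_mem _
    · obtain ⟨hmg, hcl⟩ := hm m
      have hmem : phi X0 Y0 m ⁅g, w⁆ ∈ S.M (k + 1) := by
        rw [map_commutatorElement]; exact S.comm k _ hmg _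
      refine ⟨hmem, ?_⟩
      rw [cls_congr S (k + 1) (h := ⟨⁅phi X0 Y0 m g, phi X0 Y0 m w⁆, S.comm k _ hmg _⟩) (map_commutatorElement _ g w)]
      show brW S k ⟨phi X0 Y0 m g, hmg⟩ (phi X0 Y0 m w) = _
      rw [hom_phi X0 Y0 (brW S k ⟨phi X0 Y0 m g, hmg⟩) m w, ← kap_cls, ← kap_cls, hcl, map_prod, map_prod]
      simp only [e', mul_pow, Finset.prod_mul_distrib]
      congr 1
      · rw [Finset.prod_range_succ _ (k + 1), if_neg (by omega), map_one, one_zpow, one_pow, mul_one,
          ← Finset.prod_zpow]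
        refine Finset.prod_congr rfl fun d hd => ?_
        rw [Finset.mem_range] at hd
        rw [if_pos (by omega), map_pow, ← zpow_natCast, ← zpow_natCast, ← zpow_mul, ← zpow_mul, mul_comm]
      · rw [Finset.prod_range_succ' _ (k + 1), if_pos rfl, one_pow, mul_one, ← Finset.prod_zpow]
        refine Finset.prod_congr rfl fun d _ => ?_
        rw [if_neg (Nat.succ_ne_zero d), Nat.add_sub_cancel, map_pow, ← zpow_natCast, ← zpow_natCast, ← zpow_mul,
          ← zpow_mul, pow_succ]
        congr 1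
        push_cast
        ring

end Series

open MaxClassRank MaxClassAgemo ShiftModel in
/-- Some `p`-th power lies outside the `p`-th term. -/
theorem exists_pow_not_mem {X : Type u} [Group X] [Finite X] {p : ℕ} [hp : Fact p.Prime] [Group.IsNilpotent X] {n : ℕ}
    {x : X} (D : MaxClassAgemo.Data p n x) (hn : p + 1 ≤ n) : ∃ g : X, g ^ p ∉ MaxClassRank.L X p := by
  classical
  by_contra hall
  push Not at hall
  have hp3 := D.odd
  haveI := fun k => ShiftModel.dsub_normal (p := p) k
  -- a second generator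
  obtain ⟨y, hy⟩ : ∃ y, y ∉ MaxClassRank.L X 1 ⊔ zpowers x := by
    by_contra h
    push Not at h
    have e : zpowers x = ⊤ := D.eq_top_of_sup (by rw [sup_comm]; exact eq_top_iff.2 fun g _ => h g)
    have h1 := D.cent
    rw [show centralizer ({x} : Set X) = ⊤ from eq_top_iff.2 fun g _ => by
      obtain ⟨i, rfl⟩ := mem_zpowers_iff.1 (e ▸ mem_top g : g ∈ zpowers x)
      exact mem_centralizer_singleton_iff.2 (((Commute.refl x).zpow_left i).eq), card_top, D.card] at h1
    have := Nat.pow_right_injective hp.out.two_le h1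
    omega
  let P : Subgroup (X × amb p) := closure {(x, shift), (y, delta)}
  let M0 : ℕ → Subgroup (X × amb p) := fun k => (MaxClassRank.L X k).prod (dsub p k)
  have hn0 : ∀ k, (M0 k).Normal := fun k => Subgroup.prod_normal _ _
  have hcomm : ∀ k, ∀ g ∈ M0 k, ∀ w : X × amb p, ⁅g, w⁆ ∈ M0 (k + 1) := by
    rintro k ⟨g1, g2⟩ ⟨hg1, hg2⟩ ⟨w1, w2⟩
    refine ⟨comm_mem_succ hg1 w1, ?_⟩
    rw [← commutatorElement_inv]
    exact (dsub p (k + 1)).inv_mem (ShiftModel.disp_mem w2 hg2)
  have hcommP : ∀ g ∈ P, ∀ w ∈ P, ⁅g, w⁆ ∈ M0 1 := by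
    haveI := hn0 1
    set π := QuotientGroup.mk' (M0 1)
    have hc : Commute (π (x, shift)) (π (y, delta)) := by
      rw [← commutatorElement_eq_one_iff_commute, ← map_commutatorElement]
      refine (QuotientGroup.eq_one_iff _).2 ⟨?_, ShiftModel.disp_mem shift delta_mem⟩
      rw [show MaxClassRank.L X 1 = commutator X from top_lowerCentralSeries_one]
      exact commutator_mem_commutator (mem_top _) (mem_top _)
    have hcm : ∀ g ∈ P, ∀ w ∈ ({(x, shift), (y, delta)} : Set (X × amb p)), Commute (π g) (π w) := by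
      intro g hg w hw
      have hle : P ≤ (centralizer ({π w} : Set _)).comap π := (closure_le _).2 fun v hv => by
        refine mem_centralizer_singleton_iff.2 ?_
        rcases hw with rfl | rfl <;> rcases hv with rfl | rfl
        · rfl
        · exact hc.symm.eq
        · exact hc.eq
        · rfl
      exact mem_centralizer_singleton_iff.1 (hle hg)
    intro g hg w hw
    rw [← QuotientGroup.eq_one_iff]
    show π ⁅g, w⁆ = 1
    rw [map_commutatorElement, commutatorElement_eq_one_iff_commute]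
    have hle : P ≤ (centralizer ({π g} : Set _)).comap π := (closure_le _).2 fun v hv =>
      mem_centralizer_singleton_iff.2 (hcm g hg v hv).symm.eq
    exact (mem_centralizer_singleton_iff.1 (hle hw)).symm
  let S : CSeries P :=
    { M := fun k => if k = 0 then ⊤ else (M0 k).subgroupOf P
      zero := if_pos rfl
      norm := fun k => by
        rcases k with _ | k
        · simp only [if_pos]; infer_instance
        · simp only [if_neg (Nat.succ_ne_zero k)]; haveI := hn0 (k + 1); infer_instance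
      comm := fun k g hg w => by
        simp only [if_neg (Nat.succ_ne_zero k)]
        show ((⁅g, w⁆ : P) : X × amb p) ∈ M0 (k + 1)
        rcases k with _ | k
        · exact hcommP g g.2 w w.2
        · simp only [if_neg (Nat.succ_ne_zero k)] at hg
          exact hcomm (k + 1) g hg w
      anti := fun k g hg => by
        rcases k with _ | k
        · simp
        · simp only [if_neg (Nat.succ_ne_zero _)] at hg ⊢
          exact ⟨L_le (Nat.le_succ _) hg.1, ShiftModel.dsub_le hg.2⟩ }
  letI instLayer : CommGroup (Layer S (p - 1)) := layerComm S (p - 1)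
  have hM : ∀ k, 1 ≤ k → ∀ g : P, g ∈ S.M k → (g : X × amb p) ∈ M0 k := fun k hk g hg => by
    simp only [S, if_neg (show k ≠ 0 by omega)] at hg
    exact hg
  let X0 : P := ⟨(x, shift), subset_closure (by simp)⟩
  let Y0 : P := ⟨(y, delta), subset_closure (by simp)⟩
  let K : Subgroup P := ((⊤ : Subgroup X).prod (⊥ : Subgroup (amb p))).subgroupOf P
  let E : ∀ k, Subgroup (Layer S k) := fun k => (K.subgroupOf (S.M k)).map (cls S k)
  have hY : ∀ k, 1 ≤ k → ∀ g : S.M k, brW S k g Y0 ∈ E (k + 1) := fun k hk g => by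
    refine ⟨⟨⁅(g : P), Y0⁆, S.comm k g g.2 Y0⟩, ?_, rfl⟩
    refine ⟨mem_top _, ?_⟩
    show ⁅((g : P) : X × amb p).2, (delta : amb p)⁆ ∈ (⊥ : Subgroup (amb p))
    rw [mem_bot, commutatorElement_eq_one_iff_commute]
    exact comm_dsub (hM k hk g g.2).2 delta_mem
  have hEk : ∀ k (w : P), ∀ u ∈ E k, kap S k w u ∈ E (k + 1) := by
    rintro k w _ ⟨g, hg, rfl⟩
    refine ⟨⟨⁅(g : P), w⁆, S.comm k g g.2 w⟩, ⟨mem_top _, ?_⟩, (kap_cls S k w g).symm⟩
    show ⁅((g : P) : X × amb p).2, (w : X × amb p).2⁆ ∈ (⊥ : Subgroup (amb p))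
    have h' : ((g : P) : X × amb p).2 = 1 := mem_bot.1 hg.2
    rw [mem_bot, h', commutatorElement_one_left]
  have hlow := split_lcs S X0 Y0 E hY hEk
  -- the top coefficient in the free group
  set G0 : FreeGroup Bool := HallPetrescu.coeff (FreeGroup.of true) (FreeGroup.of false) p
  have hG0 : ∀ k, HallPetrescu.coeff (FreeGroup.of true) (FreeGroup.of false) k ∈
      (⊤ : Subgroup (FreeGroup Bool)).lowerCentralSeries (k - 1) := fun k => by
    have e : closure ({FreeGroup.of true, FreeGroup.of false} : Set (FreeGroup Bool)) = ⊤ := by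
      rw [← FreeGroup.closure_range_of Bool]
      congr 1
      ext g
      simp [eq_comm, or_comm]
    exact e ▸ HallPetrescu.coeff_mem _ _ k
  have hφ : ∀ m k, ((phi X0 Y0 m (HallPetrescu.coeff (FreeGroup.of true) (FreeGroup.of false) k) : P) : X × amb p).1
      = HallPetrescu.coeff x (y ^ m) k := fun m k => by
    have hd : ∀ j, ((phi X0 Y0 m (HallPetrescu.defect (FreeGroup.of true) (FreeGroup.of false) j) : P) : X × amb p).1
        = HallPetrescu.defect x (y ^ m) j := fun j => by
      simp [HallPetrescu.defect, phi, X0, Y0]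
    have hpp : ∀ i j, ((phi X0 Y0 m (HallPetrescu.partialProd (FreeGroup.of true) (FreeGroup.of false) i j) : P) : X × amb p).1
        = HallPetrescu.partialProd x (y ^ m) i j := by
      intro i
      induction i with
      | zero => intro j; simp [HallPetrescu.partialProd]
      | succ i ih => intro j; simp [HallPetrescu.partialProd, ih, hd]
    simp [HallPetrescu.coeff, hpp, hd]
  have hψ : ∀ k, ((phi X0 Y0 1 (HallPetrescu.coeff (FreeGroup.of true) (FreeGroup.of false) k) : P) : X × amb p).2
      = HallPetrescu.coeff (shift : amb p) delta k := fun k => by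
    have hd : ∀ j, ((phi X0 Y0 1 (HallPetrescu.defect (FreeGroup.of true) (FreeGroup.of false) j) : P) : X × amb p).2
        = HallPetrescu.defect (shift : amb p) delta j := fun j => by
      simp [HallPetrescu.defect, phi, X0, Y0]
    have hpp : ∀ i j, ((phi X0 Y0 1 (HallPetrescu.partialProd (FreeGroup.of true) (FreeGroup.of false) i j) : P) : X × amb p).2
        = HallPetrescu.partialProd (shift : amb p) delta i j := by
      intro i
      induction i with
      | zero => intro j; simp [HallPetrescu.partialProd]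
      | succ i ih => intro j; simp [HallPetrescu.partialProd, ih, hd]
    simp [HallPetrescu.coeff, hpp, hd]
  have hLp : p ≤ n - 1 := by omega
  obtain ⟨c, e, he00, h1, hE', hm⟩ := hlow (p - 1) (by omega) G0 (hG0 p)
  have hr : Finset.range (p - 1 + 1) = Finset.range p := by rw [Nat.sub_add_cancel (by omega : 1 ≤ p)]
  simp only [hr] at hm
  let cl : Layer S (p - 1) →* X ⧸ MaxClassRank.L X p :=
    ((cls S (p - 1)).liftOfSurjective (cls_surjective S (p - 1)))
      ⟨((QuotientGroup.mk' (MaxClassRank.L X p)).comp ((MonoidHom.fst X (amb p)).comp P.subtype)).comp (S.M (p - 1)).subtype,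
        fun g hg => by
          refine (QuotientGroup.eq_one_iff _).2 ?_
          have := hM _ (by omega) _ (mem_of_cls S (p - 1) hg)
          rw [show p - 1 + 1 = p by omega] at this
          exact this.1⟩
  have hcl : ∀ g : S.M (p - 1), cl (cls S (p - 1) g) = QuotientGroup.mk' (MaxClassRank.L X p) ((g : P) : X × amb p).1 :=
    fun g => MonoidHom.liftOfRightInverse_comp_apply _ _ _ _ g
  -- all values vanish in `X`
  have hzero : ∀ m : ℕ, cl (∏ d ∈ Finset.range p, e d ^ (m ^ d)) = 1 := fun m => by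
    obtain ⟨h, he⟩ := hm m
    rw [← he, hcl, hφ m p]
    refine (QuotientGroup.eq_one_iff _).2 ?_
    have htop := defect_eq_top hp.out x (y ^ m) (MaxClassRank.L X p) fun k _ _ => hall _
    have hdef : HallPetrescu.defect x (y ^ m) p ∈ MaxClassRank.L X p :=
      mul_mem (mul_mem (inv_mem (hall _)) (hall x)) (hall _)
    have := mul_mem (inv_mem htop) hdef
    rwa [mul_inv_rev, inv_inv, inv_mul_cancel_right] at this
  have hpow : ∀ d, cl (e d) ^ p = 1 := fun d => by
    obtain ⟨g, hg⟩ := cls_surjective S (p - 1) (e d)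
    rw [← hg, hcl, ← map_pow]
    exact (QuotientGroup.eq_one_iff _).2 (hall _)
  have hlin : cl (e 1) = 1 := by
    have hsum : ∀ d ∈ Finset.range p, cl (e d) ^ (∑ m ∈ Finset.range p, m ^ d * m ^ (p - 2)) =
        if d = 1 then (cl (e d))⁻¹ else 1 := by
      intro d hd
      rw [Finset.mem_range] at hd
      set s := ∑ m ∈ Finset.range p, m ^ d * m ^ (p - 2)
      have hs : ((s : ℕ) : ZMod p) = if d = 1 then -1 else 0 := by
        have e1 : ((s : ℕ) : ZMod p) = ∑ t : ZMod p, t ^ (d + (p - 2)) := by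
          rw [Nat.cast_sum]
          refine Finset.sum_bij (fun m _ => (m : ZMod p)) (fun _ _ => Finset.mem_univ _) ?_ ?_ ?_
          · intro a ha b hb hab
            rw [Finset.mem_range] at ha hb
            have := congrArg ZMod.val hab
            rwa [ZMod.val_natCast_of_lt ha, ZMod.val_natCast_of_lt hb] at this
          · exact fun t _ => ⟨t.val, Finset.mem_range.2 (ZMod.val_lt t), ZMod.natCast_zmod_val t⟩
          · intro m _
            rw [Nat.cast_mul, Nat.cast_pow, Nat.cast_pow, pow_add]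
        rw [e1]
        have hpos : d + (p - 2) ≠ 0 := by omega
        have e2 : ∑ t : ZMod p, t ^ (d + (p - 2)) = ∑ u : (ZMod p)ˣ, (u : ZMod p) ^ (d + (p - 2)) := by
          rw [← Finset.sum_subset (Finset.subset_univ (Finset.univ.filter (fun t : ZMod p => t ≠ 0))) (fun t _ ht => by
            rw [show t = 0 by simpa using ht, zero_pow hpos])]
          symm
          refine Finset.sum_bij (fun u _ => (u : ZMod p)) (fun u _ => by simp) (fun a _ b _ h => Units.ext h) ?_ (fun _ _ => rfl)
          intro t ht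
          exact ⟨Units.mk0 t (Finset.mem_filter.1 ht).2, Finset.mem_univ _, rfl⟩
        rw [e2, FiniteField.sum_pow_units, ZMod.card]
        refine ite_congr (propext ⟨fun hdvd => ?_, fun h => ⟨1, by omega⟩⟩) (fun _ => rfl) (fun _ => rfl)
        obtain ⟨t, ht⟩ := hdvd
        rcases t with _ | _ | t
        · omega
        · omega
        · have : (p - 1) * 2 ≤ (p - 1) * (t + 1 + 1) := Nat.mul_le_mul_left _ (by omega)
          omega
      split_ifs at hs ⊢ with h1
      · obtain ⟨t, ht⟩ : p ∣ s + 1 := (ZMod.natCast_eq_zero_iff (s + 1) p).1 (by rw [Nat.cast_succ, hs]; ring)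
        refine eq_inv_of_mul_eq_one_left ?_
        rw [← pow_succ, ht, pow_mul, hpow, one_pow]
      · obtain ⟨t, ht⟩ := (ZMod.natCast_eq_zero_iff s p).1 hs
        rw [ht, pow_mul, hpow, one_pow]
    have htot : cl (∏ m ∈ Finset.range p, (∏ d ∈ Finset.range p, e d ^ (m ^ d)) ^ (m ^ (p - 2))) = 1 := by
      refine (MonoidHom.mem_ker (f := cl)).1 (prod_mem fun m _ => ?_)
      rw [MonoidHom.mem_ker, map_pow, hzero, one_pow]
    have e2 : (∏ m ∈ Finset.range p, (∏ d ∈ Finset.range p, e d ^ (m ^ d)) ^ (m ^ (p - 2))) =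
        ∏ d ∈ Finset.range p, e d ^ (∑ m ∈ Finset.range p, m ^ d * m ^ (p - 2)) := by
      simp only [← Finset.prod_pow, ← pow_mul]
      rw [Finset.prod_comm]
      exact Finset.prod_congr rfl fun d _ => Finset.prod_pow_eq_pow_sum _ _ _
    rw [e2] at htot
    have h2 : ∀ d ∈ Finset.range p, d ≠ 1 → e d ^ (∑ m ∈ Finset.range p, m ^ d * m ^ (p - 2)) ∈ cl.ker := by
      intro d hd hd1
      rw [MonoidHom.mem_ker, map_pow, hsum d hd, if_neg hd1]
    rw [← Finset.mul_prod_erase _ _ (Finset.mem_range.2 (show 1 < p by omega)), map_mul, map_pow,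
      hsum 1 (Finset.mem_range.2 (by omega)), if_pos rfl,
      (MonoidHom.mem_ker (f := cl)).1 (prod_mem fun d hd => h2 d (Finset.mem_of_mem_erase hd) (Finset.ne_of_mem_erase hd)),
      mul_one, inv_eq_one] at htot
    exact htot
  -- the iterated commutator is exact
  have hit : ∀ k, 1 ≤ k → k ≤ p - 1 → ((iter X0 Y0 k : P) : X × amb p).1 ∈ MaxClassRank.L X k ∧
      ((iter X0 Y0 k : P) : X × amb p).1 ∉ MaxClassRank.L X (k + 1) := by
    intro k hk
    induction k, hk using Nat.le_induction with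
    | base =>
      intro _
      have hm1 : ⁅y, x⁆ ∈ MaxClassRank.L X 1 := comm_mem_succ (i := 0)
        (show y ∈ (⊤ : Subgroup X).lowerCentralSeries 0 by rw [Subgroup.lowerCentralSeries_zero]; trivial) x
      refine ⟨hm1, fun hm2 => ?_⟩
      have hgen : closure ({x, y} : Set X) = ⊤ := by
        refine D.eq_top_of_sup (by_contra fun hne => ?_)
        set U := closure ({x, y} : Set X) ⊔ MaxClassRank.L X 1
        have h1 : MaxClassRank.L X 1 ⊔ zpowers x < U := lt_of_le_of_ne
          (sup_le le_sup_right ((zpowers_le.2 (subset_closure (by simp))).trans le_sup_left))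
          fun e => hy (e ▸ mem_sup_left (subset_closure (by simp)))
        have h2 : MaxClassRank.L X 1 < MaxClassRank.L X 1 ⊔ zpowers x := lt_of_le_of_ne le_sup_left fun e => by
          refine D.x_not_mem (e ▸ mem_sup_right (mem_zpowers x))
        have e0 := D.L_index le_rfl (show 1 ≤ n - 1 by omega)
        have d1 := relIndex_mul_index h2.le
        have d2 := relIndex_mul_index h1.le
        rw [e0] at d1
        set r1 := (MaxClassRank.L X 1).relIndex (MaxClassRank.L X 1 ⊔ zpowers x)
        set r2 := (MaxClassRank.L X 1 ⊔ zpowers x).relIndex U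
        have hr1 : r1 ≠ 1 := fun h => h2.ne (le_antisymm h2.le (relIndex_eq_one.1 h))
        have hr2 : r2 ≠ 1 := fun h => h1.ne (le_antisymm h1.le (relIndex_eq_one.1 h))
        have hU1 : U.index ≠ 1 := fun h => hne (index_eq_one.1 h)
        rw [← d2, ← mul_assoc] at d1
        have hd : ∀ a, a ∣ p ^ 2 → a ≠ 1 → p ≤ a := fun a ha ha1 => by
          obtain ⟨i, -, rfl⟩ := (Nat.dvd_prime_pow hp.out).1 ha
          exact Nat.le_self_pow (fun h => ha1 (by rw [h, pow_zero])) p
        have g1 := hd r1 (d1 ▸ Dvd.intro (r2 * U.index) (mul_assoc _ _ _).symm) hr1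
        have g2 := hd r2 (d1 ▸ Dvd.intro (r1 * U.index) (by ring)) hr2
        have g3 := hd U.index (d1 ▸ Dvd.intro_left (r1 * r2) rfl) hU1
        have := Nat.mul_le_mul (Nat.mul_le_mul g1 g2) g3
        rw [d1, sq] at this
        nlinarith [Nat.mul_le_mul_left (p * p) hp3]
      haveI : (MaxClassRank.L X 2).Normal := inferInstance
      set π := QuotientGroup.mk' (MaxClassRank.L X 2)
      have hc : Commute (π x) (π y) := by
        refine Commute.symm ?_
        rw [← commutatorElement_eq_one_iff_commute, ← map_commutatorElement]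
        exact (QuotientGroup.eq_one_iff _).2 hm2
      refine (D.L_lt (show 1 < n - 1 by omega)).ne (le_antisymm (L_le (by omega)) ?_)
      rw [show MaxClassRank.L X 1 = commutator X from top_lowerCentralSeries_one, _root_.commutator_def, Subgroup.commutator_le]
      have hcm : ∀ g : X, ∀ w ∈ ({x, y} : Set X), Commute (π g) (π w) := by
        intro g w hw
        have hle : (⊤ : Subgroup X) ≤ (centralizer ({π w} : Set _)).comap π := hgen ▸ (closure_le _).2 (fun v hv => by
          refine mem_centralizer_singleton_iff.2 ?_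
          rcases hw with rfl | rfl <;> rcases hv with rfl | rfl
          · rfl
          · exact hc.symm.eq
          · exact hc.eq
          · rfl)
        exact mem_centralizer_singleton_iff.1 (hle (mem_top g))
      intro g _ w _
      show ⁅g, w⁆ ∈ MaxClassRank.L X 2
      rw [← QuotientGroup.eq_one_iff]
      show π ⁅g, w⁆ = 1
      rw [map_commutatorElement, commutatorElement_eq_one_iff_commute]
      have hle : (⊤ : Subgroup X) ≤ (centralizer ({π g} : Set _)).comap π := hgen ▸ (closure_le _).2 (fun v hv =>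
        mem_centralizer_singleton_iff.2 (hcm g v hv).symm.eq)
      exact (mem_centralizer_singleton_iff.1 (hle (mem_top w))).symm
    | succ k hk ih =>
      intro hk2
      obtain ⟨h1', h2'⟩ := ih (by omega)
      exact ⟨comm_mem_succ h1' x, D.comm_step hk (by omega) h1' h2'⟩
  -- so the exponent is divisible by `p`
  obtain ⟨hu, hu'⟩ := hit (p - 1) (by omega) le_rfl
  rw [show p - 1 + 1 = p by omega] at hu'
  have hcdvd : (p : ℤ) ∣ c := by
    by_contra hc
    rw [h1, map_zpow, show cl (ucls S X0 Y0 (p - 1)) = _ from hcl _] at hlin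
    obtain ⟨a, b, hab⟩ := ((Nat.prime_iff_prime_int.mp hp.out).coprime_iff_not_dvd.mpr hc)
    apply hu'
    rw [← QuotientGroup.eq_one_iff]
    set v := ((iter X0 Y0 (p - 1) : P) : X × amb p).1
    show QuotientGroup.mk' (MaxClassRank.L X p) v = 1
    have hvp : QuotientGroup.mk' (MaxClassRank.L X p) v ^ (p : ℤ) = 1 := by
      rw [zpow_natCast, ← map_pow]; exact (QuotientGroup.eq_one_iff _).2 (hall v)
    rw [← zpow_one (QuotientGroup.mk' (MaxClassRank.L X p) v), ← hab, zpow_add, mul_comm a, zpow_mul, hvp, one_zpow,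
      one_mul, mul_comm b, zpow_mul, hlin, one_zpow]
  -- but the model says otherwise
  obtain ⟨hg0, he0⟩ := hm 1
  simp only [one_pow, pow_one] at he0
  let cl2 : Layer S (p - 1) →* amb p :=
    ((cls S (p - 1)).liftOfSurjective (cls_surjective S (p - 1)))
      ⟨((MonoidHom.snd X (amb p)).comp P.subtype).comp (S.M (p - 1)).subtype, fun g hg => by
        have := hM _ (by omega) _ (mem_of_cls S (p - 1) hg)
        rw [show p - 1 + 1 = p by omega] at this
        exact eq_one_of_top this.2⟩
  have hcl2 : ∀ g : S.M (p - 1), cl2 (cls S (p - 1) g) = ((g : P) : X × amb p).2 :=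
    fun g => MonoidHom.liftOfRightInverse_comp_apply _ _ _ _ g
  have hE2 : ∀ d, 2 ≤ d → cl2 (e d) = 1 := fun d hd => by
    obtain ⟨g, hg, hge⟩ := hE' d hd
    rw [← hge, hcl2]
    exact mem_bot.1 hg.2
  have hcoeff : HallPetrescu.coeff (shift : amb p) delta p = 1 := by
    rw [← hψ p, ← hcl2 ⟨_, hg0⟩, he0]
    refine (MonoidHom.mem_ker (f := cl2)).1 (prod_mem fun d _ => ?_)
    rw [MonoidHom.mem_ker]
    rcases Nat.lt_or_ge d 2 with hd | hd
    · interval_cases d
      · rw [he00, map_one]
      · obtain ⟨t, rfl⟩ := hcdvd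
        rw [h1, map_zpow, show cl2 (ucls S X0 Y0 (p - 1)) = _ from hcl2 _, zpow_mul, zpow_natCast,
          pow_eq_one (hM _ (by omega) _ (iter_mem S X0 Y0 (p - 1))).2, one_zpow]
    · exact hE2 d hd
  have h2 := defect_eq_top hp.out (shift : amb p) delta ⊥ fun k h2 hk => by
    rw [mem_bot, ← hψ k]
    obtain ⟨c', e', -, -, -, hm'⟩ := hlow (k - 1) (by omega) _ (hG0 k)
    obtain ⟨hg', -⟩ := hm' 1
    exact pow_eq_one (hM _ (by omega) _ hg').2
  rw [hcoeff, inv_one, mul_one, mem_bot, HallPetrescu.defect, shift_pow_prime,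
    pow_eq_one delta_mem, mul_one, mul_one, inv_eq_one] at h2
  exact pow_mul_ne_one h2

end Cfsg.Lib.PGroups.EngelTop
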