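import Mathlib

/-!
Abelian 2-groups with an involutory automorphism whose fixed points form a four-group on which a
commuting automorphism has no fixed point.
-/

set_option autoImplicit false
set_option linter.style.haveILetI false
set_option linter.unusedSimpArgs false

namespace Cfsg.Lib.FixedFours

open Subgroup

variable {X : Type*} [CommGroup X] [Finite X]

theorem homocyclic (hX : IsPGroup 2 X) [Nontrivial X] (ρ : MulAut X) (hfix : ∀ v : X, v ^ 2 = 1 → ρ v = v → v = 1)
    (hom : Nat.card {v : X // v ^ 2 = 1} ≤ 4) :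
    ∃ n : ℕ, 1 ≤ n ∧ Nonempty (X ≃* Multiplicative (ZMod (2 ^ n)) × Multiplicative (ZMod (2 ^ n))) := by
  classical
  haveI : Fact (Nat.Prime 2) := ⟨Nat.prime_two⟩
  obtain ⟨x, hx⟩ := Monoid.exists_orderOf_eq_exponent (G := X) Monoid.ExponentExists.of_finite
  obtain ⟨m, hm⟩ := (IsPGroup.iff_orderOf.1 hX) x
  have hm1 : 1 ≤ m := by
    by_contra h
    rw [show m = 0 by omega, pow_zero] at hm
    rw [hm] at hx
    obtain ⟨y, hy⟩ := exists_ne (1 : X)
    apply hy
    have h1 := Monoid.pow_exponent_eq_one y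
    rwa [← hx, pow_one] at h1
  have hbound : ∀ k : ℕ, Nat.card (powMonoidHom (α := X) (2 ^ k)).ker ≤ 4 ^ k := by
    intro k
    induction k with
    | zero =>
      have h : (powMonoidHom (α := X) (2 ^ 0)).ker = ⊥ := by
        ext z; simp [MonoidHom.mem_ker]
      rw [h]; simp
    | succ k ih =>
      let f : (powMonoidHom (α := X) (2 ^ (k + 1))).ker →* (powMonoidHom (α := X) (2 ^ k)).ker :=
        MonoidHom.mk' (fun z => ⟨(z : X) ^ 2, by
          show ((z : X) ^ 2) ^ 2 ^ k = 1
          rw [← pow_mul, ← pow_succ']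
          exact z.2⟩) (fun a b => Subtype.ext (mul_pow (a : X) (b : X) 2))
      have h1 := f.ker.card_eq_card_quotient_mul_card_subgroup
      rw [Nat.card_congr (QuotientGroup.quotientKerEquivRange f).toEquiv] at h1
      have h2 : Nat.card f.range ≤ 4 ^ k := le_trans (Subgroup.card_le_card_group _) ih
      have h3 : Nat.card f.ker ≤ 4 := by
        refine le_trans (Nat.card_le_card_of_injective
          (fun z : f.ker => (⟨((z : (powMonoidHom (α := X) (2 ^ (k + 1))).ker) : X), ?_⟩ :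
            {v : X // v ^ 2 = 1})) ?_) hom
        · exact congrArg Subtype.val z.2
        · intro a b h
          exact Subtype.ext (Subtype.ext (congrArg (fun w : {v : X // v ^ 2 = 1} => (w : X)) h))
      rw [h1]
      exact le_trans (Nat.mul_le_mul h2 h3) (le_of_eq (pow_succ 4 k).symm)
  have hcard : Nat.card X ≤ 4 ^ m := by
    refine le_trans ?_ (hbound m)
    rw [show (powMonoidHom (α := X) (2 ^ m)).ker = ⊤ from eq_top_iff.2 fun z _ => by
      show z ^ 2 ^ m = 1
      rw [← hm, hx]; exact Monoid.pow_exponent_eq_one z, Subgroup.card_top]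
  have hy : orderOf (ρ x) = 2 ^ m := by rw [MulEquiv.orderOf_eq, hm]
  let fa : Multiplicative (ZMod (2 ^ m)) →* X :=
    AddMonoidHom.toMultiplicativeLeft (ZMod.lift (2 ^ m)
      ⟨(zmultiplesHom (Additive X)) (Additive.ofMul x), by
        simp only [zmultiplesHom_apply, natCast_zsmul]
        rw [← ofMul_pow, ← hm, pow_orderOf_eq_one]; rfl⟩)
  have hfa : ∀ i : ℤ, fa (Multiplicative.ofAdd (i : ZMod (2 ^ m))) = x ^ i := fun i => by
    simp [fa, ZMod.lift_coe]
  let f : Multiplicative (ZMod (2 ^ m)) × Multiplicative (ZMod (2 ^ m)) →* X :=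
    fa.coprod (ρ.toMonoidHom.comp fa)
  have hfainj : Function.Injective fa := by
    rw [injective_iff_map_eq_one]
    intro a ha
    obtain ⟨i, rfl⟩ : ∃ i : ℤ, Multiplicative.ofAdd (i : ZMod (2 ^ m)) = a := by
      obtain ⟨i, hi⟩ := ZMod.intCast_surjective (Multiplicative.toAdd a)
      exact ⟨i, by rw [hi, ofAdd_toAdd]⟩
    rw [hfa, ← orderOf_dvd_iff_zpow_eq_one, hm] at ha
    rw [(ZMod.intCast_zmod_eq_zero_iff_dvd i (2 ^ m)).2 (by exact_mod_cast ha), ofAdd_zero]
  have hinj : Function.Injective f := by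
    rw [injective_iff_map_eq_one]
    intro a ha
    by_contra hne
    have hpA : IsPGroup 2 (Multiplicative (ZMod (2 ^ m)) × Multiplicative (ZMod (2 ^ m))) :=
      IsPGroup.of_card (n := m + m) (by simp [Nat.card_prod, pow_add])
    obtain ⟨k, hk⟩ := (IsPGroup.iff_orderOf.1 hpA) a
    have hk1 : k ≠ 0 := fun h => hne (by rw [h, pow_zero, orderOf_eq_one_iff] at hk; exact hk)
    set b := a ^ 2 ^ (k - 1) with hbdef
    have hb2 : b ^ 2 = 1 := by
      rw [hbdef, ← pow_mul, ← pow_succ, show k - 1 + 1 = k by omega, ← hk, pow_orderOf_eq_one]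
    have hb1 : b ≠ 1 := fun h => by
      have h2 := orderOf_dvd_of_pow_eq_one h
      rw [hk, Nat.pow_dvd_pow_iff_le_right (by norm_num)] at h2
      omega
    have hfb : f b = 1 := by rw [hbdef, map_pow, ha, one_pow]
    obtain ⟨b1, b2⟩ := b
    change fa b1 * ρ (fa b2) = 1 at hfb
    have h21 : fa b1 ^ 2 = 1 := by
      rw [← map_pow, show b1 ^ 2 = 1 from congrArg Prod.fst hb2, map_one]
    have h22 : fa b2 ^ 2 = 1 := by
      rw [← map_pow, show b2 ^ 2 = 1 from congrArg Prod.snd hb2, map_one]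
    have hcyc : ∀ u w : Multiplicative (ZMod (2 ^ m)), u ^ 2 = 1 → w ^ 2 = 1 → u ≠ 1 → w ≠ 1 → u = w := by
      intro u w hu hw hu1 hw1
      by_contra hne'
      have hle : Nat.card ({1, u, w} : Set (Multiplicative (ZMod (2 ^ m)))) ≤ 2 := by
        refine le_trans (Nat.card_mono (Set.toFinite _)
          (t := {z : Multiplicative (ZMod (2 ^ m)) | z ^ 2 = 1}) ?_) ?_
        · rintro z (rfl | rfl | rfl)
          · exact one_pow 2
          · exact hu
          · exact hw
        · rw [Nat.card_coe_set_eq, Set.ncard_eq_toFinset_card']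
          refine le_trans (le_of_eq ?_) (IsCyclic.card_pow_eq_one_le (α := Multiplicative (ZMod (2 ^ m))) (n := 2) (by norm_num))
          congr 1
          ext z; simp
      rw [Nat.card_coe_set_eq, Set.ncard_eq_toFinset_card'] at hle
      simp [Finset.card_insert_of_notMem, Ne.symm hu1, Ne.symm hw1, hne'] at hle
    by_cases h1 : b1 = 1
    · rw [h1, map_one, one_mul, MulEquiv.map_eq_one_iff] at hfb
      exact hb1 (Prod.ext h1 (hfainj (hfb.trans (map_one fa).symm)))
    by_cases h2 : b2 = 1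
    · rw [h2, map_one, map_one, mul_one] at hfb
      exact h1 (hfainj (hfb.trans (map_one fa).symm))
    have e : b1 = b2 := hcyc b1 b2 (congrArg Prod.fst hb2) (congrArg Prod.snd hb2) h1 h2
    subst e
    have h3 : ρ (fa b1) = fa b1 := by
      rw [eq_inv_of_mul_eq_one_right hfb]
      exact inv_eq_of_mul_eq_one_right (by rw [← sq]; exact h21)
    exact h1 (hfainj ((hfix _ h21 h3).trans (map_one fa).symm))
  have hbij : Function.Bijective f := by
    refine ⟨hinj, ?_⟩
    have hle : Nat.card (Multiplicative (ZMod (2 ^ m)) × Multiplicative (ZMod (2 ^ m))) = 4 ^ m := by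
      rw [Nat.card_prod]
      simp [← mul_pow]
    have hge := Nat.card_le_card_of_injective f hinj
    exact ((Nat.bijective_iff_injective_and_card f).2 ⟨hinj, by omega⟩).2
  exact ⟨m, hm1, ⟨(MulEquiv.ofBijective f hbij).symm⟩⟩

/-- The elementary case: an involution outside the fixed points. -/
theorem elementary (hX : IsPGroup 2 X) (α ρ : MulAut X) (hα : ∀ x, α (α x) = x) (hc : ∀ x, α (ρ x) = ρ (α x))
    (V : Subgroup X) (hV : ∀ x, x ∈ V ↔ α x = x) (hV2 : ∀ v ∈ V, v ^ 2 = 1) (hV4 : Nat.card V = 4)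
    (hfix : ∀ v ∈ V, ρ v = v → v = 1) {x : X} (hx : x ^ 2 = 1) (hxV : x ∉ V) :
    Nat.card X = 16 ∧ ∀ y : X, y ^ 2 = 1 := by
  classical
  set E := (powMonoidHom (α := X) 2).ker with hE
  have memE : ∀ z, z ∈ E ↔ z ^ 2 = 1 := fun z => Iff.rfl
  have hinv : ∀ z : X, z * α z ∈ V := fun z => (hV _).2 (by rw [map_mul, hα, mul_comm])
  let f : E →* V := MonoidHom.mk' (fun z => ⟨(z : X) * α z, hinv z⟩) (fun a b => Subtype.ext (by
    simp only [Subgroup.coe_mul, map_mul]; exact mul_mul_mul_comm _ _ _ _))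
  have hker : ∀ z : E, f z = 1 → (z : X) ∈ V := fun z h => by
    have h1 : (z : X) * α z = 1 := congrArg Subtype.val h
    rw [hV, eq_inv_of_mul_eq_one_right h1]
    exact inv_eq_of_mul_eq_one_right (by rw [← sq]; exact (memE _).1 z.2)
  have hv0 : f ⟨x, hx⟩ ≠ 1 := fun h => hxV (hker _ h)
  have hρV : ∀ v ∈ V, ρ v ∈ V := fun v hv => (hV _).2 (by rw [hc, (hV v).1 hv])
  have hsurj : Function.Surjective f := by
    rw [← MonoidHom.range_eq_top]
    set v0 : X := (f ⟨x, hx⟩ : X) with hv0def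
    have hv0V : v0 ∈ V := (f ⟨x, hx⟩).2
    have h1 : (⟨v0, hv0V⟩ : V) ∈ f.range := ⟨⟨x, hx⟩, rfl⟩
    have h2 : (⟨ρ v0, hρV _ hv0V⟩ : V) ∈ f.range := ⟨⟨ρ x, by rw [memE, ← map_pow, hx, map_one]⟩, Subtype.ext (by
      show ρ x * α (ρ x) = ρ (x * α x)
      rw [map_mul, hc])⟩
    have hne : (⟨ρ v0, hρV _ hv0V⟩ : V) ≠ ⟨v0, hv0V⟩ := fun h =>
      hv0 (Subtype.ext (hfix v0 hv0V (congrArg Subtype.val h)))
    have h3 : 3 ≤ Nat.card f.range := by
      rw [← SetLike.coe_sort_coe, Nat.card_coe_set_eq]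
      refine le_trans ?_ (Set.ncard_le_ncard (s := {1, (⟨v0, hv0V⟩ : V), ⟨ρ v0, hρV _ hv0V⟩}) ?_ (Set.toFinite _))
      · refine ge_of_eq (Set.ncard_eq_three.2 ⟨1, ⟨v0, hv0V⟩, ⟨ρ v0, hρV _ hv0V⟩, ?_, ?_, hne.symm, rfl⟩)
        · exact fun h => hv0 (Subtype.ext (congrArg Subtype.val h).symm)
        · intro h
          have h' : ρ v0 = 1 := (congrArg Subtype.val h).symm
          rw [MulEquiv.map_eq_one_iff] at h'
          exact hv0 (Subtype.ext h')
      · rintro z (rfl | rfl | rfl)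
        · exact one_mem _
        · exact h1
        · exact h2
    have h4 := Subgroup.card_subgroup_dvd_card f.range
    rw [hV4] at h4
    have h5 := Nat.le_of_dvd (by norm_num) h4
    interval_cases h : Nat.card f.range <;> first | omega | exact Subgroup.eq_top_of_card_eq _ (by rw [h, hV4])
  have hkcard : Nat.card f.ker = 4 := by
    rw [← hV4]
    refine Nat.card_congr ⟨fun z => ⟨(z : E), hker _ z.2⟩,
      fun v => ⟨⟨v, (memE _).2 (hV2 _ v.2)⟩, Subtype.ext ?_⟩, fun z => rfl, fun v => rfl⟩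
    show (v : X) * α v = 1
    rw [(hV _).1 v.2, ← sq]
    exact hV2 _ v.2
  have hEcard : Nat.card E = 16 := by
    rw [f.ker.card_eq_card_quotient_mul_card_subgroup,
      Nat.card_congr (QuotientGroup.quotientKerEquivOfSurjective f hsurj).toEquiv, hV4, hkcard]
  have step : ∀ y : X, y ^ 2 ∈ E → y ∈ E := by
    intro y hy
    obtain ⟨⟨z, hz⟩, hfz⟩ := hsurj ⟨y * α y, hinv y⟩
    have hfz' : z * α z = y * α y := congrArg Subtype.val hfz
    have hz2 : z ^ 2 = 1 := hz
    set u := y * z with hu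
    have hzinv : z⁻¹ = z := inv_eq_of_mul_eq_one_right (by rw [← sq]; exact hz2)
    have hu1 : u * α u = 1 := by
      rw [hu, map_mul, mul_mul_mul_comm, hfz', ← sq]
      exact hV2 _ (hinv y)
    have hu2 : u ^ 2 = y ^ 2 := by rw [hu, mul_pow, hz2, mul_one]
    have hu2V : u ^ 2 ∈ V := by
      have h2 : (y ^ 2) ^ 2 = 1 := hy
      rw [hV, map_pow, eq_inv_of_mul_eq_one_right hu1, inv_pow, hu2]
      exact inv_eq_of_mul_eq_one_right (by rw [← sq]; exact h2)
    obtain ⟨⟨w, hw⟩, hfw⟩ := hsurj ⟨u ^ 2, hu2V⟩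
    have hfw' : w * α w = u ^ 2 := congrArg Subtype.val hfw
    have hwinv : w⁻¹ = w := inv_eq_of_mul_eq_one_right (by rw [← sq]; exact hw)
    have hfixed : u * w ∈ V := by
      have e : α w = u ^ 2 * w := by
        rw [← hfw', mul_comm w (α w), mul_assoc, ← sq, show w ^ 2 = 1 from hw, mul_one]
      rw [hV, map_mul, eq_inv_of_mul_eq_one_right hu1, e, sq, ← mul_assoc, ← mul_assoc, inv_mul_cancel, one_mul]
    have huE : u ∈ E := by
      have := mul_mem ((memE _).2 (hV2 _ hfixed)) hw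
      rwa [mul_assoc, ← sq, show w ^ 2 = 1 from hw, mul_one] at this
    rw [memE] at huE ⊢
    rw [← hu2, huE]
  have htop : ∀ (k : ℕ) (y : X), y ^ 2 ^ k ∈ E → y ∈ E := by
    intro k
    induction k with
    | zero => intro y h; simpa using h
    | succ k ih => intro y h; exact step y (ih _ (by rwa [← pow_mul, ← pow_succ']))
  have hall : ∀ y : X, y ∈ E := fun y => by
    obtain ⟨k, hk⟩ := hX y
    exact htop k y (by rw [hk]; exact one_mem _)
  refine ⟨?_, fun y => (memE y).1 (hall y)⟩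
  rw [← hEcard, show E = ⊤ from eq_top_iff.2 fun y _ => hall y, Subgroup.card_top]

end Cfsg.Lib.FixedFours
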