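import Cfsg.Agent.PGroups.Basic
import Cfsg.Agent.PGroups.SpecialCoprime
import Cfsg.Prelude.Def_Transfer

/-!
The Heisenberg group inside a general linear group.
-/

namespace Cfsg.Lib.HeisGL

open Subgroup
open scoped Matrix commutatorElement

variable (p : ℕ) [hp : Fact p.Prime] (n : ℕ)

abbrev V := ZMod p × (Fin n → ZMod p) × ZMod p

/-- The transvection-like map. -/
def op (x y : Fin n → ZMod p) (z : ZMod p) : Module.End (ZMod p) (V p n) where
  toFun v := (v.1 + x ⬝ᵥ v.2.1 + z * v.2.2, v.2.1 + v.2.2 • y, v.2.2)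
  map_add' u v := by
    ext <;> simp [dotProduct_add, mul_add, add_smul] <;> ring
  map_smul' s v := by
    ext <;> simp [dotProduct_smul, smul_smul, mul_add] <;> ring

variable {p n}

theorem op_mul (x y x' y' : Fin n → ZMod p) (z z' : ZMod p) :
    op p n x y z * op p n x' y' z' = op p n (x + x') (y + y') (z + z' + x ⬝ᵥ y') := by
  refine LinearMap.ext fun v => ?_
  ext <;> simp [op, dotProduct_add, add_dotProduct, dotProduct_smul, add_mul, smul_add] <;> ring

theorem op_zero : op p n 0 0 0 = 1 := LinearMap.ext fun v => by ext <;> simp [op]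

theorem op_inj {x y x' y' : Fin n → ZMod p} {z z' : ZMod p} (h : op p n x y z = op p n x' y' z') :
    x = x' ∧ y = y' ∧ z = z' := by
  have h1 := LinearMap.congr_fun h ((0 : ZMod p), (0 : Fin n → ZMod p), (1 : ZMod p))
  simp [op] at h1
  refine ⟨?_, h1.2, h1.1⟩
  ext i
  have h2 := LinearMap.congr_fun h ((0 : ZMod p), (Pi.single i 1 : Fin n → ZMod p), (0 : ZMod p))
  simp [op] at h2
  exact h2

variable (p n)

/-- The group of these maps. -/
def heis : Subgroup (Module.End (ZMod p) (V p n))ˣ where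
  carrier := {u | ∃ x y z, (u : Module.End (ZMod p) (V p n)) = op p n x y z}
  one_mem' := ⟨0, 0, 0, by rw [op_zero]; rfl⟩
  mul_mem' := by
    rintro u v ⟨x, y, z, hu⟩ ⟨x', y', z', hv⟩
    exact ⟨_, _, _, by rw [Units.val_mul, hu, hv, op_mul]⟩
  inv_mem' := by
    rintro u ⟨x, y, z, hu⟩
    refine ⟨-x, -y, -z + x ⬝ᵥ y, Units.inv_eq_of_mul_eq_one_right ?_⟩
    rw [hu, op_mul, add_neg_cancel, add_neg_cancel, dotProduct_neg, ← op_zero]
    congr 1
    ring

variable {p n}

def elem (x y : Fin n → ZMod p) (z : ZMod p) : heis p n :=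
  ⟨⟨op p n x y z, op p n (-x) (-y) (-z + x ⬝ᵥ y),
    by rw [op_mul, add_neg_cancel, add_neg_cancel, dotProduct_neg, ← op_zero]; congr 1; ring,
    by rw [op_mul, neg_add_cancel, neg_add_cancel, neg_dotProduct, ← op_zero]; congr 1; ring⟩, x, y, z, rfl⟩

theorem elem_mul (x y x' y' : Fin n → ZMod p) (z z' : ZMod p) :
    elem x y z * elem x' y' z' = elem (x + x') (y + y') (z + z' + x ⬝ᵥ y') :=
  Subtype.ext (Units.ext (op_mul x y x' y' z z'))

theorem exists_elem (g : heis p n) : ∃ x y z, g = elem x y z := by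
  obtain ⟨x, y, z, h⟩ := g.2
  exact ⟨x, y, z, Subtype.ext (Units.ext h)⟩

theorem elem_inj {x y x' y' : Fin n → ZMod p} {z z' : ZMod p} (h : elem x y z = elem x' y' z') :
    x = x' ∧ y = y' ∧ z = z' := op_inj (congrArg (fun g : heis p n => ((g : (Module.End (ZMod p) (V p n))ˣ) : Module.End (ZMod p) (V p n))) h)

theorem elem_zero : (elem 0 0 0 : heis p n) = 1 := Subtype.ext (Units.ext op_zero)

theorem card_heis : Nat.card (heis p n) = p ^ (1 + 2 * n) := by
  have hb : Function.Bijective fun t : (Fin n → ZMod p) × (Fin n → ZMod p) × ZMod p => elem t.1 t.2.1 t.2.2 := by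
    refine ⟨fun a b h => ?_, fun g => ?_⟩
    · obtain ⟨h1, h2, h3⟩ := elem_inj h
      exact Prod.ext h1 (Prod.ext h2 h3)
    · obtain ⟨x, y, z, rfl⟩ := exists_elem g
      exact ⟨(x, y, z), rfl⟩
  rw [← Nat.card_eq_of_bijective _ hb, Nat.card_prod, Nat.card_prod, Nat.card_fun, Nat.card_fin, Nat.card_zmod]
  ring

theorem elem_pow (x y : Fin n → ZMod p) (z : ZMod p) (k : ℕ) :
    elem x y z ^ k = elem (k • x) (k • y) (k • z + k.choose 2 • (x ⬝ᵥ y)) := by
  induction k with
  | zero => simp [elem_zero]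
  | succ k ih =>
    rw [pow_succ, ih, elem_mul, Nat.choose_succ_succ' k 1, Nat.choose_one_right, smul_dotProduct, succ_nsmul, succ_nsmul,
      succ_nsmul, add_nsmul]
    congr 1
    ring

theorem pow_prime (hp2 : p ≠ 2) (g : heis p n) : g ^ p = 1 := by
  obtain ⟨x, y, z, rfl⟩ := exists_elem g
  have hc : ((p.choose 2 : ℕ) : ZMod p) = 0 := by
    rw [ZMod.natCast_eq_zero_iff]
    exact hp.out.dvd_choose_self (by norm_num) (lt_of_le_of_ne hp.out.two_le (Ne.symm hp2))
  rw [elem_pow, ← elem_zero, nsmul_eq_mul (p.choose 2), hc, zero_mul, nsmul_eq_mul p z, ZMod.natCast_self, zero_mul,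
    add_zero]
  congr 1 <;>
  · ext i
    simp [Pi.smul_apply]

theorem center_eq (hn : 1 ≤ n) : center (heis p n) = zpowers (elem 0 0 1) := by
  apply le_antisymm
  · intro g hg
    obtain ⟨x, y, z, rfl⟩ := exists_elem g
    have key : ∀ x' y', x ⬝ᵥ y' = x' ⬝ᵥ y := fun x' y' => by
      have h := mem_center_iff.1 hg (elem x' y' 0)
      rw [elem_mul, elem_mul] at h
      have := (elem_inj h).2.2
      linear_combination -this
    have hx : x = 0 := by
      ext i
      simpa using key 0 (Pi.single i 1)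
    have hy : y = 0 := by
      ext i
      simpa [hx] using (key (Pi.single i 1) 0).symm
    refine ⟨(z.val : ℤ), ?_⟩
    show elem 0 0 1 ^ (z.val : ℤ) = _
    rw [zpow_natCast, elem_pow, hx, hy]
    simp
  · rw [zpowers_le, mem_center_iff]
    intro g
    obtain ⟨x, y, z, rfl⟩ := exists_elem g
    rw [elem_mul, elem_mul]
    simp [add_comm]

theorem isExtraspecial (hp2 : p ≠ 2) (hn : 1 ≤ n) : Cfsg.IsExtraspecial p (heis p n) := by
  haveI : Finite (heis p n) := Nat.finite_of_card_ne_zero (by rw [card_heis]; exact pow_ne_zero _ hp.out.ne_zero)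
  have hP : IsPGroup p (heis p n) := IsPGroup.of_card card_heis
  have hcard : Nat.card (center (heis p n)) = p := by
    rw [center_eq hn, Nat.card_zpowers]
    refine orderOf_eq_prime (pow_prime hp2 _) fun h => ?_
    exact one_ne_zero (elem_inj (h.trans elem_zero.symm)).2.2
  have hcomm : center (heis p n) ≤ commutator (heis p n) := by
    rw [center_eq hn, zpowers_le]
    let e : Fin n → ZMod p := Pi.single ⟨0, hn⟩ 1
    have h := commutator_mem_commutator (mem_top (elem e 0 0 : heis p n)) (mem_top (elem 0 e 0 : heis p n))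
    have hc : ⁅(elem e 0 0 : heis p n), elem 0 e 0⁆ = elem 0 0 1 := by
      rw [commutatorElement_def, mul_inv_eq_iff_eq_mul, mul_inv_eq_iff_eq_mul, elem_mul, elem_mul, elem_mul]
      simp [e]
    rw [_root_.commutator_def]
    rwa [hc] at h
  have hquot : commutator (heis p n) ≤ center (heis p n) := by
    rw [_root_.commutator_def, commutator_le]
    intro g _ h _
    obtain ⟨x, y, z, rfl⟩ := exists_elem g
    obtain ⟨x', y', z', rfl⟩ := exists_elem h
    have hc : ⁅(elem x y z : heis p n), elem x' y' z'⁆ = elem 0 0 (x ⬝ᵥ y' - x' ⬝ᵥ y) := by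
      rw [commutatorElement_def, mul_inv_eq_iff_eq_mul, mul_inv_eq_iff_eq_mul, elem_mul, elem_mul, elem_mul]
      congr 1
      · simp [add_comm]
      · simp [add_comm]
      · simp
        ring
    rw [hc, mem_center_iff]
    intro g
    obtain ⟨a, b, c, rfl⟩ := exists_elem g
    rw [elem_mul, elem_mul]
    simp [add_comm]
  have hF : frattini (heis p n) = center (heis p n) := by
    refine le_antisymm ?_ (hcomm.trans (Cfsg.Lib.PGroups.commutator_le_frattini hP))
    exact frattini_le_center hP (fun g => by rw [pow_prime hp2]; exact one_mem _) hquot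
  exact ⟨⟨hP, hF, le_antisymm hquot hcomm⟩, hcard⟩
where frattini_le_center {G : Type} [Group G] [Finite G] (_hP : IsPGroup p G) (hexp : ∀ g : G, g ^ p ∈ center G)
    (hc : commutator G ≤ center G) : frattini G ≤ center G :=
  Cfsg.Lib.PGroups.SpecialCoprime.frattini_le_of_elementary _ hexp hc

/-- The image of the group under an injective map is again extraspecial of exponent `p`. -/
theorem map_isExtraspecial (hp2 : p ≠ 2) (hn : 1 ≤ n) {E : Type*} [Group E] [Finite E] (f : heis p n ≃* E) :
    Cfsg.IsExtraspecial p E := by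
  have h := isExtraspecial (p := p) hp2 hn
  have hP : IsPGroup p E := h.1.1.of_equiv f
  have hZ : center E = (center (heis p n)).map f.toMonoidHom := by
    ext y
    obtain ⟨x, rfl⟩ := f.surjective y
    rw [mem_center_iff]
    constructor
    · intro hy
      refine ⟨x, mem_center_iff.2 fun g => f.injective ?_, rfl⟩
      rw [map_mul, map_mul]; exact hy _
    · rintro ⟨x', hx', he⟩ g
      obtain ⟨g', rfl⟩ := f.surjective g
      rw [show f x = f x' from he.symm, ← map_mul, ← map_mul, mem_center_iff.1 hx' g']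
  have hC : commutator E = center E := by
    rw [hZ, ← h.1.2.2, _root_.commutator_def, _root_.commutator_def, map_commutator,
      map_top_of_surjective f.toMonoidHom f.surjective]
  have hexp : ∀ g : E, g ^ p ∈ center E := fun g => by
    obtain ⟨x, rfl⟩ := f.surjective g
    rw [← map_pow, pow_prime hp2, map_one]; exact one_mem _
  refine ⟨⟨hP, le_antisymm (Cfsg.Lib.PGroups.SpecialCoprime.frattini_le_of_elementary _ hexp hC.le)
    (hC.ge.trans (Cfsg.Lib.PGroups.commutator_le_frattini hP)), hC⟩, ?_⟩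
  rw [hZ, Subgroup.card_map_of_injective f.injective, h.2]

end Cfsg.Lib.HeisGL
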