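import Cfsg.Agent.PGroups.MaxClassThree

/-!
A `p`-group of maximal class has an element outside all two-step centralizers; its `p`-th power is
central, so powers move the lower central series down by exactly `p - 1` steps, and a subgroup of
the derived subgroup has agemo of index at most `p ^ (p - 1)`.
(The first half repeats the arguments of `MaxClassRank` under the weaker hypothesis on `x ^ p`.)
-/

set_option autoImplicit false
set_option linter.unusedSectionVars false
set_option linter.style.haveILetI false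

namespace Cfsg.Lib.PGroups.MaxClassAgemo

open Subgroup
open Cfsg.Lib.PGroups MaxClassRank MaxClassThree
open scoped commutatorElement

universe u

variable {X : Type u} [Group X] {p : ℕ}

/-- The group data. -/
structure Base (p n : ℕ) (X : Type u) [Group X] : Prop where
  odd : 3 ≤ p
  three : 3 ≤ n
  card : Nat.card X = p ^ n
  cls : Group.nilpotencyClass X = n - 1

/-- The data of an element outside all two-step centralizers. -/
structure Data (p n : ℕ) (x : X) : Prop extends Base p n X where
  ord : x ^ p ∈ center X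
  cent : Nat.card (centralizer ({x} : Set X)) = p ^ 2

namespace Base

variable [Finite X] [hp : Fact p.Prime] [Group.IsNilpotent X] {n : ℕ} (D : Base p n X)
include D

theorem isP : IsPGroup p X := IsPGroup.of_card D.card

theorem L_eq_bot {i : ℕ} (h : n - 1 ≤ i) : L X i = ⊥ :=
  Subgroup.lowerCentralSeries_eq_bot_iff_nilpotencyClass_le.2 (D.cls ▸ h)

theorem L_ne_bot {i : ℕ} (h : i < n - 1) : L X i ≠ ⊥ := fun e => by
  have := Subgroup.lowerCentralSeries_eq_bot_iff_nilpotencyClass_le.1 e
  rw [D.cls] at this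
  omega

theorem L_lt {i : ℕ} (h : i < n - 1) : L X (i + 1) < L X i := by
  refine lt_of_le_of_ne (L_le (Nat.le_succ i)) fun e => D.L_ne_bot h ?_
  have hst : ∀ j, L X (i + j) = L X i := by
    intro j
    induction j with
    | zero => rfl
    | succ j ih =>
      rw [← Nat.add_assoc, show L X (i + j + 1) = ⁅L X (i + j), ⊤⁆ from
        Subgroup.lowerCentralSeries_succ _ _, ih, ← Subgroup.lowerCentralSeries_succ]
      exact e
  rw [← hst (n - 1), D.L_eq_bot (by omega)]

theorem L_index {i : ℕ} (h1 : 1 ≤ i) (h2 : i ≤ n - 1) : (L X i).index = p ^ (i + 1) := by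
  obtain ⟨r, hr⟩ := D.isP.index (L X i)
  have hr2 : 2 ≤ r := by
    have hle : L X i ≤ commutator X := by
      rw [← top_lowerCentralSeries_one]; exact L_le h1
    have h3 := Subgroup.index_dvd_of_le hle
    rw [MaxClass.commutator_index n X D.card (by have := D.three; omega) D.cls, hr] at h3
    exact (Nat.pow_dvd_pow_iff_le_right hp.out.one_lt).1 h3
  have hrn : r ≤ n := by
    have h3 := (L X i).index_dvd_card
    rw [hr, D.card] at h3
    exact (Nat.pow_dvd_pow_iff_le_right hp.out.one_lt).1 h3
  have he := MaxClass.normal_eq_lcs n X D.card (by have := D.three; omega) D.cls (L X i) r hr2 hr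
  rw [hr]
  congr 1
  by_contra hne
  rcases Nat.lt_or_ge i (r - 1) with h | h
  · exact (D.L_lt (show i < n - 1 by omega)).ne
      (le_antisymm (L_le (Nat.le_succ i)) (he.le.trans (L_le (show i + 1 ≤ r - 1 by omega))))
  · exact (D.L_lt (show r - 1 < n - 1 by omega)).ne
      (le_antisymm (L_le (Nat.le_succ _)) (he.ge.trans (L_le (show r - 1 + 1 ≤ i by omega))))

theorem L_card {i : ℕ} (h1 : 1 ≤ i) (h2 : i ≤ n - 1) : Nat.card (L X i) = p ^ (n - 1 - i) := by
  have h := (L X i).card_mul_index
  rw [D.L_index h1 h2, D.card] at h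
  refine Nat.eq_of_mul_eq_mul_right (pow_pos hp.out.pos (i + 1)) (h.trans ?_)
  rw [← pow_add]
  congr 1
  omega

/-- A coordinate in a step. -/
theorem step_gen {i : ℕ} (h1 : 1 ≤ i) {a b : X} (ha : a ∈ L X i) (ha' : a ∉ L X (i + 1))
    (hb : b ∈ L X i) : ∃ c : ℤ, (a ^ c)⁻¹ * b ∈ L X (i + 1) := by
  have hi : i < n - 1 := by
    by_contra h
    exact ha' (by rw [D.L_eq_bot (le_of_not_gt h), mem_bot] at ha; exact ha ▸ one_mem _)
  haveI : (L X (i + 1)).Normal := inferInstance
  set π := QuotientGroup.mk' (L X (i + 1))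
  have hc : Nat.card ((L X i).map π) = p := by
    have e1 := ((L X (i + 1)).subgroupOf (L X i)).card_mul_index
    rw [Nat.card_congr (subgroupOfEquivOfLe (L_le (Nat.le_succ i))).toEquiv, D.L_card h1 hi.le,
      D.L_card (by omega) (by omega), show n - 1 - i = n - 1 - (i + 1) + 1 by omega, pow_succ] at e1
    have e2 := Nat.eq_of_mul_eq_mul_left (pow_pos hp.out.pos _) e1
    rw [← e2, ← show (π.comp (L X i).subtype).range = (L X i).map π by
        rw [MonoidHom.range_comp, range_subtype], ← Subgroup.index_ker]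
    congr 1
    rw [← MonoidHom.comap_ker, QuotientGroup.ker_mk']
    rfl
  have hne : π a ≠ 1 := fun e => ha' ((QuotientGroup.eq_one_iff a).1 e)
  have hgen : zpowers (π a) = (L X i).map π :=
    eq_of_le_of_card_ge (zpowers_le.2 ⟨a, ha, rfl⟩) (by
      have ho : orderOf (π a) = p := by
        have hd : orderOf (π a) ∣ p := by
          rw [← hc, ← Subgroup.orderOf_mk (π a) (mem_map_of_mem π ha)]
          exact orderOf_dvd_natCard _
        exact ((Nat.dvd_prime hp.out).1 hd).resolve_left fun e => hne (orderOf_eq_one_iff.1 e)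
      rw [Nat.card_zpowers, ho, hc])
  obtain ⟨c, hcb⟩ := hgen.ge ⟨b, hb, rfl⟩
  change π a ^ c = π b at hcb
  refine ⟨c, ?_⟩
  rw [← map_zpow] at hcb
  exact QuotientGroup.eq.1 hcb

theorem mem_stepCent_of_exact {j : ℕ} (h1 : 1 ≤ j) {a w : X} (ha : a ∈ L X j) (ha' : a ∉ L X (j + 1))
    (h : ⁅a, w⁆ ∈ L X (j + 2)) : w ∈ stepCent X j := by
  refine mem_stepCent.2 fun b hb => ?_
  obtain ⟨c, hc⟩ := D.step_gen h1 ha ha' hb
  set π := QuotientGroup.mk' (L X (j + 2))
  have h1 : Commute (π a) (π w) := by
    rw [← commutatorElement_eq_one_iff_commute, ← map_commutatorElement]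
    exact (QuotientGroup.eq_one_iff _).2 h
  have h2 : Commute (π ((a ^ c)⁻¹ * b)) (π w) := central_step hc w
  rw [← QuotientGroup.eq_one_iff]
  show π ⁅b, w⁆ = 1
  rw [map_commutatorElement, commutatorElement_eq_one_iff_commute,
    show π b = π a ^ c * π ((a ^ c)⁻¹ * b) by rw [← map_zpow, ← map_mul, mul_inv_cancel_left]]
  exact (h1.zpow_left c).mul_left h2

/-- Every element of the derived subgroup outside a term has an exact level. -/
theorem exists_level {a : X} (ha : a ∈ L X 1) : ∀ m, a ∉ L X m → ∃ i, 1 ≤ i ∧ i < m ∧ a ∈ L X i ∧ a ∉ L X (i + 1) := by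
  intro m
  induction m with
  | zero => intro h; exact absurd (L_le (show 0 ≤ 1 by omega) ha) h
  | succ m ih =>
    intro h
    by_cases hm : a ∈ L X m
    · rcases Nat.eq_zero_or_pos m with rfl | hpos
      · exact absurd ha h
      · exact ⟨m, hpos, Nat.lt_succ_self m, hm, h⟩
    · obtain ⟨i, h1, h2, h3⟩ := ih hm
      exact ⟨i, h1, h2.trans (Nat.lt_succ_self m), h3⟩

theorem center_eq : center X = L X (n - 2) := by
  have h3 := D.three
  obtain ⟨hZ, -, -⟩ := MaxClass.center_facts n X D.card (by omega) D.cls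
  have hle := MaxClass.center_le_of_normal D.isP hZ (L X (n - 2)) (D.L_ne_bot (by omega))
  refine eq_of_le_of_card_ge hle ?_
  rw [hZ, D.L_card (by omega) (by omega), show n - 1 - (n - 2) = 1 by omega, pow_one]

theorem frattini_eq : frattini X = L X 1 :=
  (MaxClass.frattini_eq_commutator n X D.card D.three D.cls).trans top_lowerCentralSeries_one.symm

theorem eq_top_of_sup {H : Subgroup X} (h : H ⊔ L X 1 = ⊤) : H = ⊤ :=
  frattini_nongenerating (by rw [D.frattini_eq]; exact h)

/-- A proper subgroup together with the derived subgroup has index at least `p`. -/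
theorem relIndex_derived_le {H : Subgroup X} (h : H ≠ ⊤) : (L X 1).relIndex H ≤ p := by
  have h3 := D.three
  rw [← relIndex_sup_left]
  set S := L X 1 ⊔ H
  have e := relIndex_mul_index (le_sup_left : L X 1 ≤ S)
  rw [D.L_index le_rfl (by omega)] at e
  obtain ⟨k, -, hk⟩ := (Nat.dvd_prime_pow hp.out).1 (Dvd.intro_left _ e)
  rcases k with _ | k
  · exact absurd (D.eq_top_of_sup (by rw [sup_comm]; exact index_eq_one.1 (by rw [hk, pow_zero]))) h
  · have hle : (L X 1).relIndex S * p ≤ p * p := by
      refine le_trans (Nat.mul_le_mul_left _ (Nat.le_self_pow (Nat.succ_ne_zero k) p)) ?_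
      rw [← hk, e, sq]
    exact Nat.le_of_mul_le_mul_right hle hp.out.pos

end Base

namespace Data

variable [Finite X] [hp : Fact p.Prime] [Group.IsNilpotent X] {n : ℕ} {x : X} (D : Data p n x)
include D

/-- The class of `x` is the whole coset. -/
theorem exists_conj {s : X} (hs : s ∈ L X 1) : ∃ g : X, g * x * g⁻¹ = s * x := by
  set C := centralizer ({x} : Set X)
  let f : X ⧸ C → L X 1 := fun q => ⟨q.out * x * q.out⁻¹ * x⁻¹, by
    rw [← commutatorElement_def, show L X 1 = commutator X from top_lowerCentralSeries_one]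
    exact commutator_mem_commutator (mem_top _) (mem_top _)⟩
  have hinj : Function.Injective f := fun q r e => by
    have e' : q.out * x * q.out⁻¹ = r.out * x * r.out⁻¹ :=
      mul_right_cancel (congrArg Subtype.val e : q.out * x * q.out⁻¹ * x⁻¹ = _)
    rw [← QuotientGroup.out_eq' q, ← QuotientGroup.out_eq' r, QuotientGroup.eq]
    refine mem_centralizer_singleton_iff.2 ?_
    calc q.out⁻¹ * r.out * x = q.out⁻¹ * (r.out * x * r.out⁻¹) * r.out := by group
      _ = x * (q.out⁻¹ * r.out) := by rw [← e']; group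
  have hcard : Nat.card (X ⧸ C) = Nat.card (L X 1) := by
    have h := C.card_mul_index
    rw [D.cent, D.card, ← pow_mul_pow_sub p (show 2 ≤ n by have := D.three; omega)] at h
    rw [← index_eq_card, Nat.eq_of_mul_eq_mul_left (pow_pos hp.out.pos 2) h,
      D.L_card le_rfl (by have := D.three; omega), Nat.sub_sub]
  obtain ⟨q, hq⟩ := ((Nat.bijective_iff_injective_and_card f).2 ⟨hinj, hcard⟩).2 ⟨s, hs⟩
  refine ⟨q.out, ?_⟩
  have h' : q.out * x * q.out⁻¹ * x⁻¹ = s := congrArg Subtype.val hq
  rw [← h', inv_mul_cancel_right]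

theorem x_ne_one : x ≠ 1 := by
  intro e
  have h := D.cent
  rw [e, show centralizer ({1} : Set X) = ⊤ from
    eq_top_iff.2 fun g _ => mem_centralizer_singleton_iff.2 (by simp), card_top, D.card] at h
  have := Nat.pow_right_injective hp.out.two_le h
  have := D.three
  omega

theorem x_not_mem : x ∉ L X 1 := by
  intro hx
  obtain ⟨g, hg⟩ := D.exists_conj ((L X 1).inv_mem hx)
  rw [inv_mul_cancel, conj_eq_one_iff] at hg
  exact D.x_ne_one hg

theorem mul_pow_eq {s : X} (hs : s ∈ L X 1) : (x * s) ^ p = x ^ p := by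
  obtain ⟨g, hg⟩ := D.exists_conj ((inferInstance : (L X 1).Normal).conj_mem s hs x)
  rw [inv_mul_cancel_right] at hg
  rw [← hg, conj_pow, Subgroup.mem_center_iff.1 D.ord g, mul_inv_cancel_right]

theorem card_map_step {i m : ℕ} (h1 : 1 ≤ i) (him : i ≤ m) (hm : m ≤ n - 1) :
    Nat.card ((L X i).map (QuotientGroup.mk' (L X m))) = p ^ (m - i) := by
  set π := QuotientGroup.mk' (L X m)
  have e1 := ((L X m).subgroupOf (L X i)).card_mul_index
  rw [Nat.card_congr (subgroupOfEquivOfLe (L_le him)).toEquiv, D.L_card h1 (him.trans hm),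
    D.L_card (h1.trans him) hm, show n - 1 - i = n - 1 - m + (m - i) by omega, pow_add] at e1
  have e2 := Nat.eq_of_mul_eq_mul_left (pow_pos hp.out.pos _) e1
  rw [← e2]
  have hr : (π.comp (L X i).subtype).range = (L X i).map π := by
    rw [MonoidHom.range_comp, range_subtype]
  rw [← hr, ← Subgroup.index_ker]
  congr 1
  rw [← MonoidHom.comap_ker, QuotientGroup.ker_mk']
  rfl

/-- Commutation with `x` moves down exactly one step. -/
theorem comm_step {j : ℕ} (h1 : 1 ≤ j) (h2 : j + 1 < n - 1) {u : X} (hu : u ∈ L X j)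
    (hu' : u ∉ L X (j + 1)) : ⁅u, x⁆ ∉ L X (j + 2) := by
  intro hux
  set π := QuotientGroup.mk' (L X (j + 2))
  have hπ : Function.Surjective π := QuotientGroup.mk'_surjective _
  set C := centralizer ({π x} : Set (X ⧸ L X (j + 2)))
  set M := (L X j).map π
  -- the centralizer in the quotient is small
  have hC : p ^ (j + 1) ≤ C.index := by
    rw [index_eq_card, ← show j + 2 - 1 = j + 1 by omega, ← D.card_map_step le_rfl (show 1 ≤ j + 2 by omega) (by omega)]
    refine Nat.card_le_card_of_surjective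
      (fun q : (X ⧸ L X (j + 2)) ⧸ C => (⟨q.out * π x * q.out⁻¹ * (π x)⁻¹, by
        obtain ⟨g, hg⟩ := hπ q.out
        refine ⟨g * x * g⁻¹ * x⁻¹, ?_, by rw [map_mul, map_mul, map_mul, map_inv, map_inv, hg]⟩
        rw [← commutatorElement_def, show L X 1 = commutator X from top_lowerCentralSeries_one]
        exact commutator_mem_commutator (mem_top _) (mem_top _)⟩ : (L X 1).map π)) ?_
    rintro ⟨_, s, hs, rfl⟩
    obtain ⟨g, hg⟩ := D.exists_conj hs
    refine ⟨QuotientGroup.mk (π g), Subtype.ext ?_⟩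
    obtain ⟨c, hc⟩ := QuotientGroup.mk_out_eq_mul C (π g)
    show (QuotientGroup.mk (π g) : (X ⧸ L X (j + 2)) ⧸ C).out * π x *
      (QuotientGroup.mk (π g) : (X ⧸ L X (j + 2)) ⧸ C).out⁻¹ * (π x)⁻¹ = π s
    have hcc : (c : X ⧸ L X (j + 2)) * π x = π x * c := mem_centralizer_singleton_iff.1 c.2
    rw [hc]
    calc π g * c * π x * (π g * c)⁻¹ * (π x)⁻¹ = π g * ((c : X ⧸ L X (j + 2)) * π x) * (c : X ⧸ L X (j + 2))⁻¹ * (π g)⁻¹ * (π x)⁻¹ := by group
      _ = π g * π x * (π g)⁻¹ * (π x)⁻¹ := by rw [hcc]; group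
      _ = π s := by rw [← map_mul, ← map_inv, ← map_mul, hg, map_mul, mul_inv_cancel_right]
  -- it contains `x` and the step of `u`
  have hMC : M ≤ C := by
    rintro _ ⟨v, hv, rfl⟩
    obtain ⟨c, hc⟩ := D.step_gen h1 hu hu' hv
    have hcu : Commute (π u) (π x) := by
      rw [← commutatorElement_eq_one_iff_commute, ← map_commutatorElement]
      exact (QuotientGroup.eq_one_iff _).2 hux
    have hcr : Commute (π ((u ^ c)⁻¹ * v)) (π x) := by
      rw [← commutatorElement_eq_one_iff_commute, ← map_commutatorElement]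
      exact (QuotientGroup.eq_one_iff _).2 (comm_mem_succ hc x)
    have e : π v = π u ^ c * π ((u ^ c)⁻¹ * v) := by rw [← map_zpow, ← map_mul, mul_inv_cancel_left]
    exact mem_centralizer_singleton_iff.2 (e ▸ (hcu.zpow_left c).mul_left hcr).eq
  have hxC : π x ∈ C := mem_centralizer_singleton_iff.2 rfl
  have hxM : π x ∉ M := by
    rintro ⟨v, hv, e⟩
    refine D.x_not_mem ?_
    have := (L X 1).mul_mem (L_le h1 hv) (L_le (show 1 ≤ j + 2 by omega) (QuotientGroup.eq.1 e))
    rwa [mul_inv_cancel_left] at this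
  have hlt : M < M ⊔ C := lt_of_le_of_ne le_sup_left fun e => hxM (e.ge (mem_sup_right hxC))
  rw [sup_eq_right.2 hMC] at hlt
  have hMc : Nat.card M = p ^ 2 := by
    rw [show M = (L X j).map π from rfl, D.card_map_step h1 (by omega) (by omega)]
    congr 1
    omega
  have hXc : Nat.card (X ⧸ L X (j + 2)) = p ^ (j + 3) := by
    rw [← index_eq_card, D.L_index (by omega) (by omega)]
  have hmul := C.card_mul_index
  rw [hXc] at hmul
  have hCM : Nat.card C ≤ p ^ 2 := by
    refine Nat.le_of_mul_le_mul_right ?_ (pow_pos hp.out.pos (j + 1))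
    rw [← pow_add, show 2 + (j + 1) = j + 3 by omega, ← hmul]
    exact Nat.mul_le_mul_left _ hC
  exact hlt.ne (eq_of_le_of_card_ge hMC (hMc ▸ hCM))

/-! ### Powers -/

open ShiftModel in
/-- Iterated commutators with the two generators. -/
def seq (D : Data p n x) (s : X) : ℕ → X × amb p
  | 0 => (s, delta)
  | k + 1 => (⁅(seq D s k).1, x⁆, ⁅(seq D s k).2, shift⁆)

theorem seq_mem {i : ℕ} {s : X} (hs : s ∈ L X i) :
    ∀ k, (D.seq s k).1 ∈ L X (i + k) ∧ (D.seq s k).2 ∈ ShiftModel.dsub p k
  | 0 => ⟨hs, ShiftModel.delta_mem⟩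
  | k + 1 => by
    obtain ⟨h1, h2⟩ := seq_mem hs k
    refine ⟨comm_mem_succ h1 x, ?_⟩
    have := (ShiftModel.dsub p (k + 1)).inv_mem (ShiftModel.disp_mem ShiftModel.shift h2)
    show ⁅(D.seq s k).2, ShiftModel.shift⁆ ∈ _
    rw [← commutatorElement_inv]
    rwa [← commutatorElement_def] at this

theorem seq_not_mem {i : ℕ} (h1 : 1 ≤ i) {s : X} (hs : s ∈ L X i) (hs' : s ∉ L X (i + 1)) :
    ∀ k, i + k < n - 1 → (D.seq s k).1 ∉ L X (i + k + 1)
  | 0, _ => hs'
  | k + 1, hk => D.comm_step (show 1 ≤ i + k by omega) (by omega) (D.seq_mem hs k).1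
      (seq_not_mem h1 hs hs' k (by omega))

open ShiftModel in
/-- The top Hall–Petrescu element in both components. -/
theorem coeff_pair {i : ℕ} (h1 : 1 ≤ i) {s : X} (hs : s ∈ L X i) {k : ℕ} (hk : 1 ≤ k) :
    ∃ c : ℤ, ((D.seq s k).1 ^ c)⁻¹ * HallPetrescu.coeff x s (k + 1) ∈ L X (i + k + 1) ∧
      ((D.seq s k).2 ^ c)⁻¹ * HallPetrescu.coeff (shift : amb p) delta (k + 1) ∈ dsub p (k + 1) := by
  classical
  haveI := fun k => dsub_normal (p := p) k
  set R := closure ({(x, shift), (s, delta)} : Set (X × amb p))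
  let M : ℕ → Subgroup (X × amb p) := fun k => (L X (i + k + 1)).prod (dsub p (k + 1))
  have hMn : ∀ k, (M k).Normal := fun k => Subgroup.prod_normal _ _
  let U := fun k => D.seq s k
  let Q : ℕ → Subgroup (X × amb p) := fun k =>
    haveI := hMn k
    (zpowers (QuotientGroup.mk' (M k) (U k))).comap (QuotientGroup.mk' (M k))
  have hMQ : ∀ k, M k ≤ Q k := fun k g hg => by
    haveI := hMn k
    refine ⟨0, ?_⟩
    show QuotientGroup.mk' (M k) (U k) ^ (0 : ℤ) = QuotientGroup.mk' (M k) g
    rw [zpow_zero, eq_comm]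
    exact (QuotientGroup.eq_one_iff g).2 hg
  have hUQ : ∀ k, U k ∈ Q k := fun k => ⟨1, zpow_one _⟩
  have hQn : ∀ k, (Q k).Normal := by
    intro k
    haveI := hMn k
    have : (zpowers (QuotientGroup.mk' (M k) (U k))).Normal := by
      refine ⟨?_⟩
      rintro _ ⟨c, rfl⟩ g
      obtain ⟨⟨a, b⟩, rfl⟩ := QuotientGroup.mk'_surjective (M k) g
      refine ⟨c, ?_⟩
      have hcom : QuotientGroup.mk' (M k) (a, b) * QuotientGroup.mk' (M k) (U k) *
          (QuotientGroup.mk' (M k) (a, b))⁻¹ = QuotientGroup.mk' (M k) (U k) := by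
        rw [← map_mul, ← map_inv, ← map_mul, ← mul_inv_eq_one, ← map_inv, ← map_mul]
        refine (QuotientGroup.eq_one_iff _).2 ⟨?_, ?_⟩
        · exact disp_succ (D.seq_mem hs k).1 a
        · exact ShiftModel.disp_mem b (D.seq_mem hs k).2
      show QuotientGroup.mk' (M k) (U k) ^ c = _
      rw [← conj_zpow, hcom]
    exact this.comap _
  -- the defining property
  have hstep : ∀ k, ∀ g ∈ Q k, ∀ y ∈ R, ⁅g, y⁆ ∈ Q (k + 1) := by
    intro k
    haveI := hQn (k + 1)
    haveI := hMn k
    set ρ := QuotientGroup.mk' (Q (k + 1))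
    have hgen : ∀ g ∈ Q k, ∀ y ∈ ({(x, shift), (s, delta)} : Set (X × amb p)), Commute (ρ g) (ρ y) := by
      intro g hg y hy
      obtain ⟨c, hc⟩ := hg
      change QuotientGroup.mk' (M k) (U k) ^ c = QuotientGroup.mk' (M k) g at hc
      rw [← map_zpow] at hc
      have hm := QuotientGroup.eq.1 hc
      have hMy : ∀ m ∈ M k, Commute (ρ m) (ρ y) := by
        rintro ⟨m1, m2⟩ ⟨hm1, hm2⟩
        rw [← commutatorElement_eq_one_iff_commute, ← map_commutatorElement]
        refine (QuotientGroup.eq_one_iff _).2 (hMQ _ ⟨?_, ?_⟩)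
        · exact comm_mem_succ hm1 y.1
        · have := (dsub p (k + 1 + 1)).inv_mem (ShiftModel.disp_mem y.2 hm2)
          rw [← commutatorElement_inv]
          exact this
      have hUy : Commute (ρ (U k)) (ρ y) := by
        rw [← commutatorElement_eq_one_iff_commute, ← map_commutatorElement]
        refine (QuotientGroup.eq_one_iff _).2 ?_
        rcases hy with rfl | rfl
        · exact hUQ (k + 1)
        · refine hMQ _ ⟨?_, ?_⟩
          · exact L_le (show i + (k + 1) + 1 ≤ i + k + i + 1 by omega)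
              (lcs_comm_le i (i + k) (commutator_mem_commutator (D.seq_mem hs k).1 hs))
          · show ⁅(U k).2, (delta : amb p)⁆ ∈ dsub p (k + 1 + 1)
            rw [(commutatorElement_eq_one_iff_commute).2 (comm_dsub (D.seq_mem hs k).2 delta_mem)]
            exact one_mem _
      have e : g = U k ^ c * ((U k ^ c)⁻¹ * g) := (mul_inv_cancel_left _ _).symm
      rw [e, map_mul, map_zpow]
      exact (hUy.zpow_left c).mul_left (hMy _ hm)
    intro g hg y hy
    rw [← QuotientGroup.eq_one_iff]
    show ρ ⁅g, y⁆ = 1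
    rw [map_commutatorElement, commutatorElement_eq_one_iff_commute]
    have hle : R ≤ (centralizer ({ρ g} : Set _)).comap ρ := (closure_le _).2 fun z hz =>
      mem_centralizer_singleton_iff.2 (hgen g hg z hz).symm.eq
    exact (mem_centralizer_singleton_iff.1 (hle hy)).symm
  have hR1 : ⁅R, R⁆ ≤ Q 1 := by
    haveI := hQn 1
    set ρ := QuotientGroup.mk' (Q 1)
    have hXY : Commute (ρ (U 0)) (ρ (x, shift)) := by
      rw [← commutatorElement_eq_one_iff_commute, ← map_commutatorElement]
      exact (QuotientGroup.eq_one_iff _).2 (hUQ 1)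
    have hcm : ∀ g ∈ R, ∀ y ∈ ({(x, shift), (s, delta)} : Set (X × amb p)), Commute (ρ g) (ρ y) := by
      intro g hg y hy
      have hle : R ≤ (centralizer ({ρ y} : Set _)).comap ρ := (closure_le _).2 fun z hz => by
        refine mem_centralizer_singleton_iff.2 ?_
        rcases hy with rfl | rfl <;> rcases hz with rfl | rfl
        · rfl
        · exact hXY.eq
        · exact hXY.symm.eq
        · rfl
      exact mem_centralizer_singleton_iff.1 (hle hg)
    rw [commutator_le]
    intro g hg y hy
    rw [← QuotientGroup.eq_one_iff]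
    show ρ ⁅g, y⁆ = 1
    rw [map_commutatorElement, commutatorElement_eq_one_iff_commute]
    have hle : R ≤ (centralizer ({ρ g} : Set _)).comap ρ := (closure_le _).2 fun z hz =>
      mem_centralizer_singleton_iff.2 (hcm g hg z hz).symm.eq
    exact (mem_centralizer_singleton_iff.1 (hle hy)).symm
  have hlcs : ∀ k, 1 ≤ k → R.lowerCentralSeries k ≤ Q k := by
    intro k hk
    induction k, hk using Nat.le_induction with
    | base => rw [Subgroup.lowerCentralSeries_succ, Subgroup.lowerCentralSeries_zero]; exact hR1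
    | succ k _ ih =>
      rw [Subgroup.lowerCentralSeries_succ, commutator_le]
      exact fun g hg y hy => hstep k g (ih hg) y hy
  have hmem : HallPetrescu.coeff (x, (shift : amb p)) (s, delta) (k + 1) ∈ Q k :=
    hlcs k hk (HallPetrescu.coeff_mem _ _ (k + 1))
  obtain ⟨c, hc⟩ := hmem
  haveI := hMn k
  change QuotientGroup.mk' (M k) (U k) ^ c = _ at hc
  rw [← map_zpow] at hc
  have hm := QuotientGroup.eq.1 hc
  have e1 := coeff_map (MonoidHom.fst X (amb p)) (x, (shift : amb p)) (s, delta) (k + 1)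
  have e2 : (HallPetrescu.coeff (x, (shift : amb p)) (s, delta) (k + 1)).2 =
      HallPetrescu.coeff (shift : amb p) delta (k + 1) := by
    have hd : ∀ n, (HallPetrescu.defect (x, (shift : amb p)) (s, delta) n).2 =
        HallPetrescu.defect (shift : amb p) delta n := fun n => by
      simp [HallPetrescu.defect]
    have hpp : ∀ j n, (HallPetrescu.partialProd (x, (shift : amb p)) (s, delta) j n).2 =
        HallPetrescu.partialProd (shift : amb p) delta j n := by
      intro j
      induction j with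
      | zero => intro n; simp [HallPetrescu.partialProd]
      | succ j ih => intro n; simp [HallPetrescu.partialProd, ih, hd]
    simp [HallPetrescu.coeff, hpp, hd]
  refine ⟨c, ?_, ?_⟩
  · have := hm.1
    simp only [Prod.fst_mul, Prod.fst_inv, Prod.pow_fst] at this
    rw [show (HallPetrescu.coeff (x, (shift : amb p)) (s, delta) (k + 1)).1 =
      HallPetrescu.coeff x s (k + 1) from e1] at this
    exact this
  · have := hm.2
    simp only [Prod.snd_mul, Prod.snd_inv, Prod.pow_snd] at this
    rw [e2] at this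
    exact this

open ShiftModel in
/-- Powers move down by `p - 1` steps. -/
theorem pow_step : ∀ (t i : ℕ), n - 1 ≤ i + t → 1 ≤ i → ∀ s ∈ L X i,
    s ^ p ∈ L X (i + (p - 1)) ∧ (s ∉ L X (i + 1) → i + (p - 1) < n - 1 → s ^ p ∉ L X (i + p)) := by
  intro t
  induction t with
  | zero =>
    intro i hi h1 s hs
    rw [D.L_eq_bot (show n - 1 ≤ i by omega), mem_bot] at hs
    subst hs
    exact ⟨by rw [one_pow]; exact one_mem _, fun h => absurd (one_mem _) h⟩
  | succ t ih =>
    intro i hi h1 s hs
    have hp2 := D.odd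
    have hlow : ∀ k, 2 ≤ k → k < p → HallPetrescu.coeff x s k ^ p ∈ L X (i + p) := by
      intro k h2 hk
      obtain ⟨k', rfl⟩ : ∃ k', k = k' + 1 := ⟨k - 1, by omega⟩
      obtain ⟨c, hc, -⟩ := D.coeff_pair h1 hs (show 1 ≤ k' by omega)
      have hmem : HallPetrescu.coeff x s (k' + 1) ∈ L X (i + k') := by
        have := (L X (i + k')).mul_mem ((L X (i + k')).zpow_mem (D.seq_mem hs k').1 c)
          (L_le (Nat.le_succ _) hc)
        rwa [mul_inv_cancel_left] at this
      exact L_le (show i + p ≤ i + k' + (p - 1) by omega) (ih (i + k') (by omega) (by omega) _ hmem).1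
    have htop := defect_eq_top hp.out x s (L X (i + p)) hlow
    have hdef : HallPetrescu.defect x s p = s ^ p := by
      rw [HallPetrescu.defect, D.mul_pow_eq (L_le h1 hs), inv_mul_cancel, one_mul]
    rw [hdef] at htop
    obtain ⟨c, hc, hc2⟩ := D.coeff_pair h1 hs (show 1 ≤ p - 1 by omega)
    rw [show p - 1 + 1 = p by omega, show i + (p - 1) + 1 = i + p by omega] at hc
    rw [show p - 1 + 1 = p by omega] at hc2
    set u := (D.seq s (p - 1)).1
    have hu : u ∈ L X (i + (p - 1)) := (D.seq_mem hs _).1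
    have hsp : (u ^ c)⁻¹ * s ^ p ∈ L X (i + p) := by
      have h2 := (inferInstance : (L X (i + p)).Normal).conj_mem _ htop (u ^ c)⁻¹
      have h3 := (L X (i + p)).mul_mem h2 hc
      rw [inv_inv] at h3
      convert h3 using 1
      group
    refine ⟨?_, fun hs' hin hsp' => ?_⟩
    · have := (L X (i + (p - 1))).mul_mem ((L X (i + (p - 1))).zpow_mem hu c) (L_le (by omega) hsp)
      rwa [mul_inv_cancel_left] at this
    · -- the model shows that the exponent is prime to `p`
      have hw : (D.seq s (p - 1)).2 ^ c = HallPetrescu.coeff (shift : amb p) delta p := by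
        have := eq_one_of_top hc2
        rwa [inv_mul_eq_one] at this
      have hne : HallPetrescu.coeff (shift : amb p) delta p ≠ 1 := by
        intro h
        have h2 := defect_eq_top hp.out (shift : amb p) delta ⊥ fun k h2 hk => by
          obtain ⟨k', rfl⟩ : ∃ k', k = k' + 1 := ⟨k - 1, by omega⟩
          obtain ⟨e, -, he⟩ := D.coeff_pair h1 hs (show 1 ≤ k' by omega)
          have hmem : HallPetrescu.coeff (shift : amb p) delta (k' + 1) ∈ dsub p k' := by
            have := (dsub p k').mul_mem ((dsub p k').zpow_mem (D.seq_mem hs k').2 e) (dsub_le he)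
            rwa [mul_inv_cancel_left] at this
          rw [mem_bot]
          exact pow_eq_one hmem
        rw [h, inv_one, mul_one, mem_bot, HallPetrescu.defect, shift_pow_prime,
          pow_eq_one delta_mem, mul_one, mul_one, inv_eq_one] at h2
        exact pow_mul_ne_one h2
      have hcp : ¬ (p : ℤ) ∣ c := by
        rintro ⟨e, rfl⟩
        rw [zpow_mul, zpow_natCast, pow_eq_one (D.seq_mem hs _).2, one_zpow] at hw
        exact hne hw.symm
      have huc : u ^ c ∈ L X (i + p) := by
        have := (L X (i + p)).mul_mem hsp' ((L X (i + p)).inv_mem hsp)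
        rwa [mul_inv_rev, inv_inv, mul_inv_cancel_left] at this
      obtain ⟨a, b, hab⟩ := ((Nat.prime_iff_prime_int.mp hp.out).coprime_iff_not_dvd.mpr hcp)
      have hup : u ^ p ∈ L X (i + p) :=
        L_le (show i + p ≤ i + (p - 1) + (p - 1) by omega) (ih _ (by omega) (by omega) u hu).1
      refine D.seq_not_mem h1 hs hs' (p - 1) hin ?_
      rw [show i + (p - 1) + 1 = i + p by omega]
      show u ∈ _
      rw [← zpow_one u, ← hab, zpow_add, mul_comm a, zpow_mul, zpow_natCast, mul_comm b, zpow_mul]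
      exact mul_mem (zpow_mem hup a) (zpow_mem huc b)

/-- The two-step centralizers are periodic with period `p - 1`. -/
theorem stepCent_periodic {i : ℕ} (h1 : 1 ≤ i) (h2 : i + (p - 1) + 1 < n - 1) :
    stepCent X i ≤ stepCent X (i + (p - 1)) := by
  intro y hy
  have hp3 := D.odd
  obtain ⟨a, ha, ha'⟩ := SetLike.exists_of_lt (D.L_lt (show i < n - 1 by omega))
  obtain ⟨hp1, hp2⟩ := D.pow_step n i (by omega) h1 a ha
  refine D.mem_stepCent_of_exact (by omega) hp1 (by rw [show i + (p - 1) + 1 = i + p by omega]; exact hp2 ha' (by omega)) ?_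
  rw [show i + (p - 1) + 2 = i + p + 1 by omega]
  set r := a⁻¹ * (y * a * y⁻¹) with hr'
  have hr : r ∈ L X (i + 2) := by
    have h2 := (inferInstance : (L X (i + 2)).Normal).conj_mem _ ((L X (i + 2)).inv_mem (mem_stepCent.1 hy a ha)) a⁻¹
    convert h2 using 1
    simp only [r, commutatorElement_def]
    group
  set S := closure ({a, r} : Set X) with hS
  have hSi : S ≤ L X i := (closure_le _).2 (by
    rintro _ (rfl | rfl)
    · exact ha
    · exact L_le (by omega) hr)
  have hlcs : ∀ k, 1 ≤ k → S.lowerCentralSeries k ≤ L X (i + k + 2) := by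
    intro k hk
    induction k, hk using Nat.le_induction with
    | base =>
      rw [Subgroup.lowerCentralSeries_succ, Subgroup.lowerCentralSeries_zero, commutator_le]
      set π := QuotientGroup.mk' (L X (i + 1 + 2))
      have hcr : Commute (π a) (π r) := by
        rw [← commutatorElement_eq_one_iff_commute, ← map_commutatorElement]
        exact (QuotientGroup.eq_one_iff _).2 (L_le (show i + 1 + 2 ≤ i + (i + 2) + 1 by omega)
          (lcs_comm_le (i + 2) i (commutator_mem_commutator ha hr)))
      have hcm : ∀ g ∈ S, ∀ w ∈ ({a, r} : Set X), Commute (π g) (π w) := by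
        intro g hg w hw
        have hle : S ≤ (centralizer ({π w} : Set _)).comap π := (closure_le _).2 fun v hv => by
          refine mem_centralizer_singleton_iff.2 ?_
          rcases hw with rfl | rfl <;> rcases hv with rfl | rfl
          · rfl
          · exact hcr.symm.eq
          · exact hcr.eq
          · rfl
        exact mem_centralizer_singleton_iff.1 (hle hg)
      intro g hg w hw
      rw [← QuotientGroup.eq_one_iff]
      show π ⁅g, w⁆ = 1
      rw [map_commutatorElement, commutatorElement_eq_one_iff_commute]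
      have hle : S ≤ (centralizer ({π g} : Set _)).comap π := (closure_le _).2 fun v hv =>
        mem_centralizer_singleton_iff.2 (hcm g hg v hv).symm.eq
      exact (mem_centralizer_singleton_iff.1 (hle hw)).symm
    | succ k hk ih =>
      rw [Subgroup.lowerCentralSeries_succ]
      exact (commutator_mono ih hSi).trans ((lcs_comm_le i (i + k + 2)).trans (L_le (by omega)))
  have hcoeff : ∀ k, 2 ≤ k → HallPetrescu.coeff a r k ∈ L X (i + k + 1) := fun k hk =>
    L_le (show i + k + 1 ≤ i + (k - 1) + 2 by omega) (hlcs (k - 1) (by omega) (HallPetrescu.coeff_mem a r k))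
  have htop := defect_eq_top hp.out a r (L X (i + p + 1)) fun k h2' hk =>
    L_le (show i + p + 1 ≤ i + k + 1 + (p - 1) by omega) (D.pow_step n (i + k + 1) (by omega) (by omega) _ (hcoeff k h2')).1
  have hdef : HallPetrescu.defect a r p ∈ L X (i + p + 1) := by
    have := (L X (i + p + 1)).mul_mem htop (hcoeff p (by omega))
    rwa [inv_mul_cancel_right] at this
  have hrp : r ^ p ∈ L X (i + p + 1) :=
    L_le (show i + p + 1 ≤ i + 2 + (p - 1) by omega) (D.pow_step n (i + 2) (by omega) (by omega) r hr).1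
  set π := QuotientGroup.mk' (L X (i + p + 1))
  have e1 : π (HallPetrescu.defect a r p) = 1 := (QuotientGroup.eq_one_iff _).2 hdef
  have e2 : π r ^ p = 1 := by rw [← map_pow]; exact (QuotientGroup.eq_one_iff _).2 hrp
  simp only [HallPetrescu.defect, map_mul, map_inv, map_pow, e2, mul_one, inv_mul_eq_one] at e1
  rw [← QuotientGroup.eq_one_iff]
  show π ⁅a ^ p, y⁆ = 1
  rw [map_commutatorElement, commutatorElement_eq_one_iff_mul_comm, map_pow, eq_comm,
    ← mul_inv_eq_iff_eq_mul, ← conj_pow]
  have e : π y * π a * (π y)⁻¹ = π a * π r := by simp only [r, map_mul, map_inv, mul_inv_cancel_left]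
  rw [e, e1]

end Data

/-- In a `p`-group fewer than `p + 1` proper subgroups do not cover. -/
theorem exists_not_mem [Finite X] [hp : Fact p.Prime] (hX : IsPGroup p X) (s : Finset (Subgroup X)) (hs : s.card ≤ p)
    (hne : ∀ C ∈ s, C ≠ ⊤) [Nontrivial X] : ∃ x : X, x ≠ 1 ∧ ∀ C ∈ s, x ∉ C := by
  classical
  haveI : Fintype X := Fintype.ofFinite X
  by_contra hno
  push Not at hno
  have hsub : (Finset.univ : Finset X).erase 1 ⊆ s.biUnion (fun C => (Finset.univ.filter (fun g => g ∈ C)).erase 1) := by
    intro g hg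
    obtain ⟨C, hC, hgC⟩ := hno g (Finset.ne_of_mem_erase hg)
    exact Finset.mem_biUnion.2 ⟨C, hC, Finset.mem_erase.2 ⟨Finset.ne_of_mem_erase hg, by simpa using hgC⟩⟩
  have h1 := (Finset.card_le_card hsub).trans Finset.card_biUnion_le
  rw [Finset.card_erase_of_mem (Finset.mem_univ _), Finset.card_univ, ← Nat.card_eq_fintype_card] at h1
  have h2 : ∀ C ∈ s, ((Finset.univ.filter (fun g => g ∈ C)).erase (1 : X)).card * p + p ≤ Nat.card X := by
    intro C hC
    rw [Finset.card_erase_of_mem (by simp)]
    have e : (Finset.univ.filter (fun g => g ∈ C)).card = Nat.card C := by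
      rw [Nat.card_eq_fintype_card, Fintype.card_subtype]
    rw [e]
    obtain ⟨k, hk⟩ := hX.index C
    have hk0 : k ≠ 0 := fun h => hne C hC (index_eq_one.1 (by rw [hk, h, pow_zero]))
    have h5 := C.card_mul_index
    have h6 : p ≤ C.index := hk ▸ Nat.le_self_pow hk0 p
    have h7 : 0 < Nat.card C := Nat.card_pos
    obtain ⟨c, hc⟩ : ∃ c, Nat.card C = c + 1 := ⟨Nat.card C - 1, by omega⟩
    rw [hc] at h5 ⊢
    rw [← h5, Nat.add_sub_cancel, ← Nat.succ_mul]
    exact Nat.mul_le_mul_left _ h6
  have h3 := Finset.sum_le_sum h2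
  rw [Finset.sum_add_distrib, ← Finset.sum_mul, Finset.sum_const, Finset.sum_const, smul_eq_mul, smul_eq_mul] at h3
  have h4 : 1 < Nat.card X := Finite.one_lt_card
  have hp1 := hp.out.two_le
  set S := ∑ C ∈ s, ((Finset.univ.filter (fun g => g ∈ C)).erase (1 : X)).card
  rcases Nat.eq_zero_or_pos s.card with h0 | h0
  · rw [h0] at h3
    simp only [Nat.zero_mul, nonpos_iff_eq_zero, Nat.add_eq_zero_iff, mul_eq_zero] at h3
    omega
  · nlinarith [Nat.mul_le_mul_right (Nat.card X) hs, Nat.mul_le_mul_right p (show Nat.card X - 1 ≤ S from h1),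
      Nat.sub_add_cancel h4.le]

/-- An element outside all two-step centralizers. -/
theorem exists_data [hp : Fact p.Prime] (hp3 : 3 ≤ p) : ∀ (n : ℕ) (X : Type u) [Group X] [Finite X] [Group.IsNilpotent X],
    Nat.card X = p ^ n → 4 ≤ n → Group.nilpotencyClass X = n - 1 → ∃ x : X, Data p n x := by
  intro n
  induction n using Nat.strong_induction_on with
  | _ n ih =>
  intro X _ _ _ hX hn hc
  classical
  have B : Base p n X := ⟨hp3, by omega, hX, hc⟩
  have hP := B.isP
  haveI : Nontrivial X := Finite.one_lt_card_iff_nontrivial.1 (by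
    rw [hX]; exact Nat.one_lt_pow (by omega) hp.out.one_lt)
  -- periodicity inherited from the quotient by the centre
  have hper : ∀ i, 1 ≤ i → i + (p - 1) + 2 ≤ n - 2 → stepCent X i ≤ stepCent X (i + (p - 1)) := by
    intro i h1 h2 y hy
    obtain ⟨-, hq, hqc⟩ := MaxClass.center_facts n X hX (by omega) hc
    obtain ⟨x', D'⟩ := ih (n - 1) (by omega) (X ⧸ center X) hq (by omega) hqc
    set π := QuotientGroup.mk' (center X) with hπ
    have hLmap : ∀ j, L (X ⧸ center X) j = (L X j).map π := fun j => by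
      rw [L, L, map_lowerCentralSeries, map_top_of_surjective _ (QuotientGroup.mk'_surjective _)]
    have hy' : π y ∈ stepCent (X ⧸ center X) i := by
      refine mem_stepCent.2 fun b hb => ?_
      rw [hLmap] at hb ⊢
      obtain ⟨a, ha, rfl⟩ := hb
      exact ⟨⁅a, y⁆, mem_stepCent.1 hy a ha, map_commutatorElement π a y⟩
    have h3 := mem_stepCent.1 (D'.stepCent_periodic h1 (by omega) hy')
    refine mem_stepCent.2 fun a ha => ?_
    have h4 := h3 (π a) (by rw [hLmap]; exact mem_map_of_mem π ha)
    rw [hLmap, ← map_commutatorElement] at h4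
    have h5 : ⁅a, y⁆ ∈ ((L X (i + (p - 1) + 2)).map π).comap π := h4
    rwa [comap_map_eq, hπ, QuotientGroup.ker_mk', sup_eq_left.2 (by rw [B.center_eq]; exact L_le (by omega))] at h5
  set T : Finset ℕ := (Finset.Icc 1 (n - 3)).filter (fun j => n ≤ j + 2 + p) with hT
  have hTc : (T.image (stepCent X)).card ≤ p := by
    refine Finset.card_image_le.trans ?_
    refine (Finset.card_le_card (t := Finset.Icc (n - 2 - p) (n - 3)) ?_).trans (by rw [Nat.card_Icc]; omega)
    intro j hj
    simp only [hT, Finset.mem_filter, Finset.mem_Icc] at hj ⊢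
    omega
  have hne : ∀ j, j + 1 < n - 1 → stepCent X j ≠ ⊤ := by
    intro j hj h
    refine (B.L_lt hj).ne (le_antisymm (L_le (Nat.le_succ _)) ?_)
    show L X (j + 1) ≤ L X (j + 2)
    rw [show L X (j + 1) = ⁅L X j, ⊤⁆ from Subgroup.lowerCentralSeries_succ _ j, commutator_le]
    exact fun a ha g _ => mem_stepCent.1 (h ▸ mem_top g) a ha
  obtain ⟨x, -, hx⟩ := exists_not_mem hP (T.image (stepCent X)) hTc (fun C hC => by
    obtain ⟨j, hj, rfl⟩ := Finset.mem_image.1 hC
    simp only [hT, Finset.mem_filter, Finset.mem_Icc] at hj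
    exact hne j (by omega))
  have hxall : ∀ t j, n ≤ j + 2 + p + t → 1 ≤ j → j ≤ n - 3 → x ∉ stepCent X j := by
    intro t
    induction t with
    | zero => intro j h1 h2 h3; exact hx _ (Finset.mem_image_of_mem _ (by simp [hT]; omega))
    | succ t iht =>
      intro j h1 h2 h3
      by_cases h : n ≤ j + 2 + p
      · exact hx _ (Finset.mem_image_of_mem _ (by simp [hT]; omega))
      · exact fun hm => iht (j + (p - 1)) (by omega) (by omega) (by omega) (hper j h2 (by omega) hm)
  set C := centralizer ({x} : Set X) with hC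
  have hx1 : x ∉ L X 1 := fun h => hxall n 1 (by omega) le_rfl (by omega) (derived_le_stepCent 1 h)
  have hCL : C ⊓ L X 1 = L X (n - 2) := by
    refine le_antisymm (fun a ha => ?_) (le_inf ?_ (L_le (by omega)))
    · by_contra hne'
      obtain ⟨i, h1, h2, h3, h4⟩ := B.exists_level ha.2 _ hne'
      refine hxall n i (by omega) h1 (by omega) (B.mem_stepCent_of_exact h1 h3 h4 ?_)
      rw [commutatorElement_eq_one_iff_mul_comm.2 (mem_centralizer_singleton_iff.1 ha.1)]
      exact one_mem _
    · rw [← B.center_eq]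
      exact fun z hz => mem_centralizer_singleton_iff.2 (mem_center_iff.1 hz x).symm
  have hxC : x ∈ C := mem_centralizer_singleton_iff.2 rfl
  have hCt : C ≠ ⊤ := fun h => by
    refine hx1 (L_le (show 1 ≤ n - 2 by omega) (B.center_eq ▸ mem_center_iff.2 fun g => ?_))
    exact mem_centralizer_singleton_iff.1 (h ▸ mem_top g : g ∈ C)
  have hcardC : Nat.card C = p ^ 2 := by
    have e1 : Nat.card C = Nat.card ↥(L X (n - 2)) * (L X 1).relIndex C := by
      have h := ((L X 1).subgroupOf C).card_mul_index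
      rw [← inf_subgroupOf_left, Nat.card_congr (subgroupOfEquivOfLe inf_le_left).toEquiv, hCL] at h
      rw [← h]
      congr 1
      show ((L X (n - 2)).subgroupOf C).index = ((L X 1).subgroupOf C).index
      rw [← hCL, inf_subgroupOf_left]
    rw [B.L_card (by omega) (by omega), show n - 1 - (n - 2) = 1 by omega, pow_one] at e1
    obtain ⟨k, hk⟩ := IsPGroup.iff_card.1 (hP.to_subgroup C)
    have h2 : p ^ k ≤ p * p := by rw [← hk, e1]; exact Nat.mul_le_mul_left _ (B.relIndex_derived_le hCt)
    have h3 : p ^ 1 < p ^ k := by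
      rw [← hk, e1, pow_one]
      refine lt_mul_of_one_lt_right hp.out.pos ?_
      have hne1 : (L X 1).relIndex C ≠ 1 := fun h => hx1 (relIndex_eq_one.1 h hxC)
      have hne0 : (L X 1).relIndex C ≠ 0 := index_ne_zero_of_finite
      omega
    rw [← sq] at h2
    have h4 := (Nat.pow_le_pow_iff_right hp.out.one_lt).1 h2
    have h5 := (Nat.pow_lt_pow_iff_right hp.out.one_lt).1 h3
    rw [hk, show k = 2 by omega]
  refine ⟨x, { toBase := B, ord := ?_, cent := hcardC }⟩
  have : x ^ p ∈ C ⊓ L X 1 := ⟨pow_mem hxC p, B.frattini_eq ▸ Cfsg.Lib.PGroups.pow_mem_frattini hP x⟩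
  rw [hCL, ← B.center_eq] at this
  exact this

/-- The subgroup generated by the `p`-th powers. -/
def agemo (p : ℕ) (H : Subgroup X) : Subgroup X := closure {y : X | ∃ h ∈ H, y = h ^ p}

theorem agemo_mono {H K : Subgroup X} (h : K ≤ H) : agemo p K ≤ agemo p H :=
  closure_mono fun _ ⟨k, hk, e⟩ => ⟨k, h hk, e⟩

theorem agemo_le (H : Subgroup X) : agemo p H ≤ H :=
  (closure_le _).2 fun _ ⟨_, hk, e⟩ => e ▸ pow_mem hk p

variable [Finite X] [hp : Fact p.Prime] [Group.IsNilpotent X] {n : ℕ} {x : X}

/-- The agemo of a subgroup of the derived subgroup has index at most `p ^ (p - 1)`. -/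
theorem agemo_relIndex_le (D : Data p n x) {K : Subgroup X} (hK : K ≤ L X 1) :
    (agemo p K).relIndex K ≤ p ^ (p - 1) := by
  classical
  have hp3 := D.odd
  have hn3 := D.three
  set A := agemo p K
  have hchain : ∀ k ∈ K, ∀ i, 1 ≤ i → k ∈ L X i → k ∉ L X (i + 1) → ∀ t, 1 ≤ t → i + t * (p - 1) < n - 1 →
      ∃ a ∈ A, a ∈ L X (i + t * (p - 1)) ∧ a ∉ L X (i + t * (p - 1) + 1) := by
    intro k hk i h1 hi hi' t ht
    induction t, ht using Nat.le_induction with
    | base =>
      intro hlt
      rw [one_mul] at hlt ⊢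
      obtain ⟨h3, h4⟩ := D.pow_step n i (by omega) h1 k hi
      exact ⟨k ^ p, subset_closure ⟨k, hk, rfl⟩, h3, by rw [show i + (p - 1) + 1 = i + p by omega]; exact h4 hi' hlt⟩
    | succ t ht iht =>
      intro hlt
      rw [Nat.succ_mul] at hlt ⊢
      obtain ⟨a, ha, ha1, ha2⟩ := iht (by omega)
      obtain ⟨h3, h4⟩ := D.pow_step n (i + t * (p - 1)) (by omega) (by omega) a ha1
      refine ⟨a ^ p, pow_mem ha p, ?_, ?_⟩
      · rwa [← Nat.add_assoc]
      · rw [← Nat.add_assoc, show i + t * (p - 1) + (p - 1) + 1 = i + t * (p - 1) + p by omega]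
        exact h4 ha2 (by omega)
  set U : Finset ℕ := (Finset.range (n - 1)).filter
    (fun i => 1 ≤ i ∧ (∃ k ∈ K, k ∈ L X i ∧ k ∉ L X (i + 1)) ∧ ¬ ∃ a ∈ A, a ∈ L X i ∧ a ∉ L X (i + 1)) with hU
  have hUc : U.card ≤ p - 1 := by
    refine (Finset.card_le_card_of_injOn (fun i => i % (p - 1)) (fun i _ => Finset.mem_range.2 (Nat.mod_lt _ (by omega))) ?_).trans
      (Finset.card_range _).le
    have key : ∀ a ∈ U, ∀ b ∈ U, a < b → a % (p - 1) ≠ b % (p - 1) := by
      intro a ha b hb hab he
      simp only [hU, Finset.mem_filter, Finset.mem_range] at ha hb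
      obtain ⟨k, hk, hk1, hk2⟩ := ha.2.2.1
      obtain ⟨t, ht⟩ : p - 1 ∣ b - a := (Nat.modEq_iff_dvd' hab.le).1 he
      have hb' : b = a + t * (p - 1) := by rw [mul_comm]; omega
      refine hb.2.2.2 (hb' ▸ hchain k hk a ha.2.1 hk1 hk2 t ?_ (by omega))
      rcases t with _ | t
      · rw [mul_zero] at ht; omega
      · omega
    intro a ha b hb he
    by_contra hne
    rcases Nat.lt_or_gt_of_ne hne with h | h
    · exact key a ha b hb h he
    · exact key b hb a ha h he.symm
  have hdown : ∀ t i, n - 1 ≤ i + t → 1 ≤ i →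
      Nat.card ↥(K ⊓ L X i) ≤ Nat.card ↥(A ⊓ L X i) * p ^ (U.filter (fun j => i ≤ j)).card := by
    intro t
    induction t with
    | zero =>
      intro i hi _
      rw [D.L_eq_bot (show n - 1 ≤ i by omega), inf_bot_eq, card_bot]
      exact Nat.mul_pos Nat.card_pos (pow_pos hp.out.pos _)
    | succ t iht =>
      intro i hi h1
      rcases Nat.lt_or_ge i (n - 1) with hlt | hge
      swap
      · rw [D.L_eq_bot hge, inf_bot_eq, card_bot]
        exact Nat.mul_pos Nat.card_pos (pow_pos hp.out.pos _)
      have hrec := iht (i + 1) (by omega) (by omega)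
      have hsub : (U.filter (fun j => i + 1 ≤ j)).card ≤ (U.filter (fun j => i ≤ j)).card :=
        Finset.card_le_card fun j hj => by simp only [Finset.mem_filter] at hj ⊢; exact ⟨hj.1, by omega⟩
      have hmul : ∀ B : Subgroup X, Nat.card ↥(B ⊓ L X i) =
          Nat.card ↥(B ⊓ L X (i + 1)) * (L X (i + 1)).relIndex (B ⊓ L X i) := by
        intro B
        have h := ((L X (i + 1)).subgroupOf (B ⊓ L X i)).card_mul_index
        rw [← inf_subgroupOf_left, Nat.card_congr (subgroupOfEquivOfLe inf_le_left).toEquiv,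
          inf_assoc, inf_eq_right.2 (L_le (Nat.le_succ i))] at h
        rw [← h]
        congr 1
        show ((B ⊓ L X (i + 1)).subgroupOf (B ⊓ L X i)).index = ((L X (i + 1)).subgroupOf (B ⊓ L X i)).index
        rw [← inf_subgroupOf_left (H := L X (i + 1)) (K := B ⊓ L X i), inf_assoc, inf_eq_right.2 (L_le (Nat.le_succ i))]
      have hpstep : (L X (i + 1)).relIndex (L X i) = p := by
        have e := relIndex_mul_index (L_le (Nat.le_succ i) : L X (i + 1) ≤ L X i)
        rw [D.L_index h1 hlt.le, D.L_index (by omega) (by omega), pow_succ' p (i + 1)] at e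
        exact Nat.eq_of_mul_eq_mul_right (pow_pos hp.out.pos _) e
      have hKle : (L X (i + 1)).relIndex (K ⊓ L X i) ≤ p := by
        refine le_of_le_of_eq (relIndex_le_of_le_right inf_le_right ?_) hpstep
        rw [hpstep]; exact hp.out.ne_zero
      by_cases hKe : ∃ k ∈ K, k ∈ L X i ∧ k ∉ L X (i + 1)
      swap
      · push Not at hKe
        have e : K ⊓ L X i = K ⊓ L X (i + 1) :=
          le_antisymm (fun k hk => ⟨hk.1, hKe k hk.1 hk.2⟩) (inf_le_inf_left _ (L_le (Nat.le_succ i)))
        rw [e]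
        exact hrec.trans (Nat.mul_le_mul (card_le_of_le (inf_le_inf_left _ (L_le (Nat.le_succ i))))
          (Nat.pow_le_pow_right hp.out.pos hsub))
      rw [hmul K]
      by_cases hAe : ∃ a ∈ A, a ∈ L X i ∧ a ∉ L X (i + 1)
      · obtain ⟨a, ha, ha1, ha2⟩ := hAe
        have hAge : p ≤ (L X (i + 1)).relIndex (A ⊓ L X i) := by
          obtain ⟨e, he⟩ := (D.isP.to_subgroup (A ⊓ L X i)).index ((L X (i + 1)).subgroupOf (A ⊓ L X i))
          have he' : (L X (i + 1)).relIndex (A ⊓ L X i) = p ^ e := he
          rcases e with _ | e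
          · exact absurd (relIndex_eq_one.1 (he'.trans (pow_zero p)) ⟨ha, ha1⟩) ha2
          · rw [he']; exact Nat.le_self_pow (Nat.succ_ne_zero e) p
        rw [hmul A]
        calc _ ≤ Nat.card ↥(A ⊓ L X (i + 1)) * p ^ (U.filter (fun j => i + 1 ≤ j)).card * p :=
              Nat.mul_le_mul hrec hKle
          _ ≤ Nat.card ↥(A ⊓ L X (i + 1)) * p ^ (U.filter (fun j => i ≤ j)).card *
              (L X (i + 1)).relIndex (A ⊓ L X i) :=
              Nat.mul_le_mul (Nat.mul_le_mul_left _ (Nat.pow_le_pow_right hp.out.pos hsub)) hAge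
          _ = _ := by ring
      · have hins : (U.filter (fun j => i + 1 ≤ j)).card + 1 ≤ (U.filter (fun j => i ≤ j)).card := by
          refine Finset.card_lt_card ⟨fun j hj => by simp only [Finset.mem_filter] at hj ⊢; exact ⟨hj.1, by omega⟩, fun h => ?_⟩
          have hiU : i ∈ U.filter (fun j => i ≤ j) := by
            simp only [hU, Finset.mem_filter, Finset.mem_range]
            exact ⟨⟨hlt, h1, hKe, hAe⟩, le_rfl⟩
          have := (Finset.mem_filter.1 (h hiU)).2
          omega
        calc _ ≤ Nat.card ↥(A ⊓ L X (i + 1)) * p ^ (U.filter (fun j => i + 1 ≤ j)).card * p :=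
              Nat.mul_le_mul hrec hKle
          _ = Nat.card ↥(A ⊓ L X (i + 1)) * p ^ ((U.filter (fun j => i + 1 ≤ j)).card + 1) := by rw [pow_succ, mul_assoc]
          _ ≤ _ := Nat.mul_le_mul (card_le_of_le (inf_le_inf_left _ (L_le (Nat.le_succ i))))
              (Nat.pow_le_pow_right hp.out.pos hins)
  have h := hdown n 1 (by omega) le_rfl
  rw [inf_eq_left.2 hK, inf_eq_left.2 ((agemo_le K).trans hK)] at h
  have e := (A.subgroupOf K).card_mul_index
  rw [Nat.card_congr (subgroupOfEquivOfLe (agemo_le K)).toEquiv] at e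
  rw [← e] at h
  refine (Nat.le_of_mul_le_mul_left h Nat.card_pos).trans (Nat.pow_le_pow_right hp.out.pos ?_)
  exact (Finset.card_filter_le _ _).trans hUc

end Cfsg.Lib.PGroups.MaxClassAgemo
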