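import Cfsg.Agent.PGroups.MaxClassDegree

/-!
A `p`-group of maximal class has, outside any proper subgroup, an element whose centralizer has order `p ^ 2`.
-/

set_option autoImplicit false
set_option linter.unusedSectionVars false
set_option linter.style.haveILetI false

namespace Cfsg.Lib.MaxClassSelfCent

open Subgroup
open Cfsg.Lib.PGroups MaxClassRank MaxClassThree MaxClassAgemo MaxClassOutside MaxClassDegree
open scoped commutatorElement

universe u

variable {p : ℕ} [hp : Fact p.Prime] {X : Type u} [Group X] [Finite X]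

theorem exists_not_mem_two {A B : Subgroup X} (hA : A ≠ ⊤) (hB : B ≠ ⊤) : ∃ s, s ∉ A ∧ s ∉ B := by
  obtain ⟨a, ha⟩ : ∃ a, a ∉ A := by
    by_contra h; push Not at h; exact hA (eq_top_iff.2 fun g _ => h g)
  obtain ⟨b, hb⟩ : ∃ b, b ∉ B := by
    by_contra h; push Not at h; exact hB (eq_top_iff.2 fun g _ => h g)
  by_cases haB : a ∈ B
  · by_cases hbA : b ∈ A
    · exact ⟨a * b, fun h => ha (by simpa using A.mul_mem h (A.inv_mem hbA)),
        fun h => hb (by simpa using B.mul_mem (B.inv_mem haB) h)⟩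
    · exact ⟨b, hbA, hb⟩
  · exact ⟨a, ha, haB⟩

theorem exists_not_mem_three (hX : IsPGroup p X) (hp3 : 3 ≤ p) {A B C : Subgroup X} (hA : A ≠ ⊤) (hB : B ≠ ⊤)
    (hC : C ≠ ⊤) : ∃ s, s ∉ A ∧ s ∉ B ∧ s ∉ C := by
  classical
  haveI := Fintype.ofFinite X
  obtain ⟨n, hn⟩ := IsPGroup.iff_card.1 hX
  have hsmall : ∀ H : Subgroup X, H ≠ ⊤ → p * Nat.card H ≤ Nat.card X := by
    intro H hH
    obtain ⟨j, hj⟩ := hX.index H
    rw [← H.card_mul_index, mul_comm p, hj]
    refine Nat.mul_le_mul_left _ (le_self_pow₀ hp.out.one_lt.le fun h0 => hH ?_)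
    rw [← index_eq_one, hj, h0, pow_zero]
  by_contra hne
  push Not at hne
  set SA := Finset.univ.filter (fun g : X => g ∈ A)
  set SB := Finset.univ.filter (fun g : X => g ∈ B ∧ g ≠ 1)
  set SC := Finset.univ.filter (fun g : X => g ∈ C)
  have hcover : (Finset.univ : Finset X) ⊆ SA ∪ SB ∪ SC := by
    intro g _
    simp only [SA, SB, SC, Finset.mem_union, Finset.mem_filter, Finset.mem_univ, true_and]
    by_cases hg : g = 1
    · exact Or.inr (hg ▸ one_mem _)
    by_cases hgA : g ∈ A
    · exact Or.inl (Or.inl hgA)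
    by_cases hgB : g ∈ B
    · exact Or.inl (Or.inr ⟨hgB, hg⟩)
    exact Or.inr (hne g hgA hgB)
  have hcA : ∀ H : Subgroup X, (Finset.univ.filter (fun g : X => g ∈ H)).card = Nat.card H := fun H => by
    rw [Nat.card_eq_fintype_card, ← Fintype.card_subtype]
  have hcB : SB.card + 1 ≤ Nat.card B := by
    rw [← hcA B]
    refine Finset.card_lt_card (Finset.ssubset_iff_subset_ne.2 ⟨fun g hg => ?_, fun e => ?_⟩)
    · simp only [SB, Finset.mem_filter] at hg ⊢
      exact ⟨hg.1, hg.2.1⟩
    · have h1 : (1 : X) ∈ Finset.univ.filter (fun g : X => g ∈ B) := by simp [one_mem]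
      rw [← e] at h1
      simp [SB] at h1
  have h := (Finset.card_le_card hcover).trans ((Finset.card_union_le _ _).trans
    (Nat.add_le_add_right (Finset.card_union_le _ _) _))
  rw [Finset.card_univ, ← Nat.card_eq_fintype_card] at h
  have h1 := hsmall A hA
  have h2 := hsmall B hB
  have h3 := hsmall C hC
  have h4 : 3 * Nat.card A ≤ Nat.card X := le_trans (Nat.mul_le_mul_right _ hp3) h1
  have h5 : 3 * Nat.card B ≤ Nat.card X := le_trans (Nat.mul_le_mul_right _ hp3) h2
  have h6 : 3 * Nat.card C ≤ Nat.card X := le_trans (Nat.mul_le_mul_right _ hp3) h3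
  have h7 := hcA A
  have h8 := hcA C
  simp only [SA, SC] at h
  omega

/-- The element. -/
theorem exists_card_centralizer_sq {n : ℕ} (hX : Nat.card X = p ^ n) (hn : 2 ≤ n)
    (hc : Group.nilpotencyClass X = n - 1) {K : Subgroup X} (hK : K ≠ ⊤) :
    ∃ s : X, s ∉ K ∧ Nat.card (centralizer ({s} : Set X)) = p ^ 2 := by
  classical
  have hP : IsPGroup p X := IsPGroup.of_card hX
  haveI : Group.IsNilpotent X := hP.isNilpotent
  obtain hn2 | hn3 := Nat.eq_or_lt_of_le hn
  · subst hn2
    haveI := IsPGroup.isMulCommutative_of_card_eq_prime_sq (p := p) hX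
    obtain ⟨s, hs⟩ : ∃ s, s ∉ K := by
      by_contra h; push Not at h; exact hK (eq_top_iff.2 fun g _ => h g)
    refine ⟨s, hs, ?_⟩
    rw [show centralizer ({s} : Set X) = ⊤ from eq_top_iff.2 fun g _ =>
      mem_centralizer_singleton_iff.2 (mul_comm' g s), card_top, hX]
  have hn3 : 3 ≤ n := hn3
  obtain ⟨hZ, -, -⟩ := MaxClass.center_facts n X hX hn3 hc
  have hZtop : center X ≠ ⊤ := fun h => by
    rw [h, card_top, hX] at hZ
    exact absurd hZ (Nat.ne_of_gt (by simpa using Nat.pow_lt_pow_right hp.out.one_lt (show 1 < n by omega)))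
  have hctop : ∀ s, s ∉ center X → centralizer ({s} : Set X) ≠ ⊤ := fun s hs h => hs (mem_center_iff.2 fun g =>
    mem_centralizer_singleton_iff.1 (h ▸ mem_top g))
  rcases Nat.eq_or_lt_of_le hn3 with hn3' | hn4
  · obtain ⟨s, hs, hsK⟩ := exists_not_mem_two hZtop hK
    refine ⟨s, hsK, ?_⟩
    obtain ⟨i, hi⟩ := IsPGroup.iff_card.1 (hP.to_subgroup (centralizer ({s} : Set X)))
    have h1 : center X < centralizer ({s} : Set X) := lt_of_le_of_ne (fun g hg =>
      mem_centralizer_singleton_iff.2 (mem_center_iff.1 hg s).symm) fun h =>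
        hs (h ▸ mem_centralizer_singleton_iff.2 rfl)
    have h2 : p ^ 1 < p ^ i := by
      rw [pow_one, ← hi, ← hZ]
      exact lt_of_le_of_ne (card_le_of_le h1.le) fun h => h1.ne (eq_of_le_of_card_ge h1.le h.ge)
    have h3 : p ^ i < p ^ n := by
      rw [← hi, ← hX]
      exact lt_of_le_of_ne (card_le_card_group _) fun h => hctop s hs (eq_top_of_card_eq _ h)
    have := (Nat.pow_lt_pow_iff_right hp.out.one_lt).1 h2
    have := (Nat.pow_lt_pow_iff_right hp.out.one_lt).1 h3
    rw [hi, show i = 2 by omega]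
  have hn4 : 4 ≤ n := hn4
  rcases Nat.lt_or_ge p 3 with hp3 | hp3
  · obtain rfl : p = 2 := by have := hp.out.two_le; omega
    obtain ⟨A, hA, hi⟩ := MaxClass.exists_cyclic_index_two n X hX hn3 hc
    obtain ⟨-, hout⟩ := MaxClass.outside hX hn3 hc hA hi
    obtain ⟨s, hsA, hsK⟩ := exists_not_mem_two (show A ≠ ⊤ from fun h => by rw [h, index_top] at hi; omega) hK
    refine ⟨s, hsK, ?_⟩
    set C := centralizer ({s} : Set X)
    have h1 : Nat.card ↥(A ⊓ C) * A.relIndex C = Nat.card C := by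
      rw [← inf_relIndex_right, ← relIndex_bot_left, ← relIndex_bot_left,
        relIndex_mul_relIndex _ _ _ bot_le inf_le_right]
    haveI := normal_of_index_eq_two hi
    have h2 : A.relIndex C ∣ 2 := hi ▸ relIndex_dvd_index_of_normal A C
    have h3 : A.relIndex C ≠ 1 := fun h => hsA (relIndex_eq_one.1 h (mem_centralizer_singleton_iff.2 rfl))
    rw [← h1, (hout s hsA).2, hZ, ((Nat.dvd_prime Nat.prime_two).1 h2).resolve_left h3, sq]
  -- `p` odd
  have B : Base p n X := ⟨hp3, hn3, hX, hc⟩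
  have hS1 : stepCent X 1 ≠ ⊤ := stepCent_ne_top B (by omega)
  have hS2 : stepCent X (n - 3) ≠ ⊤ := stepCent_ne_top B (by omega)
  obtain ⟨s, hsK, hs1, hs2⟩ := exists_not_mem_three hP hp3 hK hS1 hS2
  refine ⟨s, hsK, ?_⟩
  have hout : ∀ j, 1 ≤ j → j + 3 ≤ n → s ∉ stepCent X j := by
    intro j h1 h2
    rcases Nat.lt_or_ge (j + 3) n with h3 | h3
    · rwa [stepCent_eq n X B j h1 (by omega)]
    · rwa [show j = n - 3 by omega]
  set C := centralizer ({s} : Set X)
  have hCL : L X 1 ⊓ C = center X := by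
    refine le_antisymm (fun g hg => ?_) (le_inf ?_ ?_)
    · rw [B.center_eq]
      by_contra hg'
      obtain ⟨i, h1, h2, h3, h4⟩ := B.exists_level hg.1 _ hg'
      refine hout i h1 (by omega) (B.mem_stepCent_of_exact h1 h3 h4 ?_)
      rw [commutatorElement_eq_one_iff_mul_comm.2 (mem_centralizer_singleton_iff.1 hg.2)]
      exact one_mem _
    · rw [B.center_eq]; exact L_le (by omega)
    · exact fun g hg => mem_centralizer_singleton_iff.2 (mem_center_iff.1 hg s).symm
  have hsZ : s ∉ center X := fun h => hs1 (derived_le_stepCent 1 (by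
    rw [B.center_eq] at h; exact L_le (by omega) h))
  have h1 : Nat.card ↥(L X 1 ⊓ C) * (L X 1).relIndex C = Nat.card C := by
    rw [← inf_relIndex_right, ← relIndex_bot_left, ← relIndex_bot_left,
      relIndex_mul_relIndex _ _ _ bot_le inf_le_right]
  rw [hCL, hZ] at h1
  have hL : (L X 1).index = p ^ 2 := B.L_index le_rfl (by omega)
  obtain ⟨r, hr, hr2⟩ := (Nat.dvd_prime_pow hp.out).1 (hL ▸ relIndex_dvd_index_of_normal (L X 1) C)
  have hr0 : r ≠ 0 := fun h => hs1 (derived_le_stepCent 1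
    (relIndex_eq_one.1 (by rw [hr2, h, pow_zero]) (mem_centralizer_singleton_iff.2 rfl)))
  have hr1 : r ≠ 2 := fun h => by
    have e := relIndex_sup_right C (L X 1)
    rw [hr2, h, ← hL] at e
    have htop : C ⊔ L X 1 = ⊤ := by
      rw [← index_eq_one]
      have h5 := relIndex_mul_index (le_sup_right : L X 1 ≤ C ⊔ L X 1)
      rw [e] at h5
      exact (mul_eq_left₀ (by rw [hL]; exact pow_ne_zero _ hp.out.ne_zero)).1 h5
    have hfr : frattini X = L X 1 := by
      rw [MaxClass.frattini_eq_commutator n X hX hn3 hc, ← top_lowerCentralSeries_one]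
    rw [← hfr] at htop
    exact hctop s hsZ (frattini_nongenerating htop)
  rw [← h1, hr2, show r = 1 by omega, pow_one, sq]

end Cfsg.Lib.MaxClassSelfCent
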