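import Cfsg.Agent.PGroups.MetaOmega
import Mathlib.GroupTheory.Perm.Cycle.Type

/-!
An automorphism of order `p` of a metacyclic `p`-group which moves an element of order `p`: then `p = 3` and the
fixed points have order `3`.
-/

set_option autoImplicit false
set_option linter.unusedSectionVars false

namespace Cfsg.Lib.PGroups.MetaAutThree

open Subgroup MetaOmega

variable {L : Type*} [Group L] [Finite L] {p : ℕ} [hp : Fact p.Prime]

/-- The fixed points of an automorphism. -/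
def fixed (a : MulAut L) : Subgroup L := MonoidHom.eqLocus a.toMonoidHom (MonoidHom.id L)

theorem mem_fixed {a : MulAut L} {x : L} : x ∈ fixed a ↔ a x = x := Iff.rfl

theorem exists_fixed (a : MulAut L) (ha : a ^ p = 1) (R : Subgroup L) (hR : ∀ x ∈ R, a x ∈ R)
    (hd : p ∣ Nat.card R) : ∃ y ∈ R, y ≠ 1 ∧ a y = y := by
  classical
  haveI : Fintype R := Fintype.ofFinite R
  let f : R → R := fun y => ⟨a y, hR y y.2⟩
  let σ : Equiv.Perm R := Equiv.ofBijective f (Finite.injective_iff_bijective.1 fun y z h =>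
    Subtype.ext (a.injective (congrArg Subtype.val h)))
  have hpow : ∀ (k : ℕ) (y : R), ((σ ^ k) y : L) = (a ^ k) y := by
    intro k
    induction k with
    | zero => intro y; rfl
    | succ k ih => intro y; rw [pow_succ', pow_succ', MulAut.mul_apply, ← ih]; rfl
  have hσ : σ ^ p ^ 1 = 1 := by
    refine Equiv.ext fun y => Subtype.ext ?_
    rw [pow_one, hpow, ha]
    rfl
  obtain ⟨b, hb, hb1⟩ := Equiv.Perm.exists_fixed_point_of_prime' (Nat.card_eq_fintype_card (α := R) ▸ hd) hσ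
    (a := 1) (Subtype.ext (map_one a))
  exact ⟨b, b.2, fun h => hb1 (Subtype.ext h), congrArg Subtype.val hb⟩

variable (T : Tower L p) (a : MulAut L)

theorem map_mem_E {x : L} (hx : x ∈ T.E) : a x ∈ T.E :=
  (T.mem_E _).2 (by rw [← map_pow, (T.mem_E x).1 hx, map_one])

theorem map_mem_M {x : L} (hx : x ∈ T.M) : a x ∈ T.M :=
  (T.mem_M _).2 (by rw [← map_pow, (T.mem_M x).1 hx, map_one])

theorem E_le_M : T.E ≤ T.M := fun x hx => (T.mem_M x).2 (by rw [sq, pow_mul, (T.mem_E x).1 hx, one_pow])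

theorem forward (hp2 : p ≠ 2) (hL : IsPGroup p L) (ha : a ^ p = 1) {e : L} (he : e ∈ T.E) (hne : a e ≠ e) :
    p = 3 ∧ fixed a ≤ T.E ∧ Nat.card (fixed a) = p := by
  have hEM := E_le_M T
  let δ : T.E →* T.E := MonoidHom.mk' (fun u => ⟨a u * (u : L)⁻¹, mul_mem (map_mem_E T a u.2) (inv_mem u.2)⟩)
    fun u v => Subtype.ext (by
      show a ((u : L) * v) * ((u : L) * v)⁻¹ = a u * (u : L)⁻¹ * (a v * (v : L)⁻¹)
      have h : Commute (a v * (v : L)⁻¹) (u : L)⁻¹ :=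
        (T.cent _ (mul_mem (map_mem_E T a v.2) (inv_mem v.2)) _ (inv_mem (hEM u.2)))
      rw [map_mul, mul_inv_rev, mul_assoc, mul_assoc, ← h.eq]
      group)
  have hδ : ∀ u : T.E, ((δ u : T.E) : L) = a u * (u : L)⁻¹ := fun u => rfl
  have hker : ∀ u : T.E, u ∈ δ.ker ↔ a u = (u : L) := fun u => by
    rw [MonoidHom.mem_ker, ← mul_inv_eq_one (a := a u)]
    exact Subtype.ext_iff
  -- the sizes of kernel and image
  have hF : Nat.card δ.ker = p ∧ Nat.card δ.range = p := by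
    have h := δ.ker.card_mul_index
    rw [index_ker, T.card_E] at h
    obtain ⟨i, hi, hik⟩ := (Nat.dvd_prime_pow hp.out).1 (Dvd.intro _ h)
    have hi1 : i ≠ 0 := fun h0 => by
      obtain ⟨y, hy, hy1, hay⟩ := exists_fixed a ha T.E (fun x => map_mem_E T a)
        (by rw [T.card_E]; exact dvd_pow_self p two_ne_zero)
      rw [h0, pow_zero, card_eq_one] at hik
      have h1 : (⟨y, hy⟩ : T.E) ∈ δ.ker := (hker _).2 hay
      rw [hik, mem_bot] at h1
      exact hy1 (congrArg Subtype.val h1)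
    have hi2 : i ≠ 2 := fun h2 => by
      have h1 : δ.ker = ⊤ := eq_top_of_card_eq _ (by rw [hik, h2, T.card_E])
      exact hne ((hker ⟨e, he⟩).1 (h1 ▸ mem_top _))
    rw [hik, show i = 1 by omega, pow_one, sq] at h
    exact ⟨by rw [hik, show i = 1 by omega, pow_one], Nat.eq_of_mul_eq_mul_left hp.out.pos h⟩
  -- the image is fixed
  have himg : ∀ u : T.E, a (a u * (u : L)⁻¹) = a u * (u : L)⁻¹ := by
    have hRc : Nat.card (δ.range.map T.E.subtype) = p := by rw [card_subtype]; exact hF.2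
    obtain ⟨y, hy, hy1, hay⟩ := exists_fixed a ha (δ.range.map T.E.subtype) (by
      rintro _ ⟨_, ⟨u, rfl⟩, rfl⟩
      refine ⟨δ ⟨a u, map_mem_E T a u.2⟩, ⟨_, rfl⟩, ?_⟩
      show a (a u) * (a u)⁻¹ = a (a u * (u : L)⁻¹)
      rw [map_mul, map_inv]) (by rw [hRc])
    have hgen : zpowers y = δ.range.map T.E.subtype := by
      refine eq_of_le_of_card_ge (zpowers_le.2 hy) ?_
      rw [hRc, Nat.card_zpowers]
      have hd : orderOf y ∣ p := by
        rw [← hRc, ← Subgroup.orderOf_mk y hy]; exact orderOf_dvd_natCard _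
      exact (((Nat.dvd_prime hp.out).1 hd).resolve_left fun h => hy1 (orderOf_eq_one_iff.1 h)).ge
    intro u
    obtain ⟨j, hj⟩ := hgen.ge (mem_map_of_mem T.E.subtype (show δ u ∈ δ.range from ⟨u, rfl⟩))
    change y ^ j = a u * (u : L)⁻¹ at hj
    rw [← hj, map_zpow, hay]
  -- the chain `x, y, e₁, e₂`
  obtain ⟨x, hx, hxe⟩ := T.root e he
  set y := a x * x⁻¹ with hy
  have hyM : y ∈ T.M := mul_mem (map_mem_M T a hx) (inv_mem hx)
  have hyp : y ^ p = a e * e⁻¹ := by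
    rw [hy, T.hom _ (map_mem_M T a hx) _ (inv_mem hx), ← map_pow, inv_pow, hxe]
  have hfix0 : a (y ^ p) = y ^ p := by rw [hyp]; exact himg ⟨e, he⟩
  have hy1 : y ^ p ≠ 1 := by rw [hyp, Ne, mul_inv_eq_one]; exact hne
  set e₁ := a y * y⁻¹ with he₁
  have he₁E : e₁ ∈ T.E := (T.mem_E _).2 (by
    rw [he₁, T.hom _ (map_mem_M T a hyM) _ (inv_mem hyM), ← map_pow, inv_pow, hfix0, mul_inv_cancel])
  set e₂ := a e₁ * e₁⁻¹ with he₂
  have he₂E : e₂ ∈ T.E := mul_mem (map_mem_E T a he₁E) (inv_mem he₁E)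
  have hfix2 : a e₂ = e₂ := himg ⟨e₁, he₁E⟩
  have hax : a x = y * x := by rw [hy, inv_mul_cancel_right]
  have hay : a y = e₁ * y := by rw [he₁, inv_mul_cancel_right]
  have hae : a e₁ = e₂ * e₁ := by rw [he₂, inv_mul_cancel_right]
  have hiter : ∀ k : ℕ, (a ^ k) x = e₁ ^ k.choose 2 * e₂ ^ k.choose 3 * y ^ k * x := by
    intro k
    induction k with
    | zero => simp
    | succ k ih =>
      have c1 : Commute e₂ e₁ := T.cent _ he₂E _ (hEM he₁E)
      have c2 : Commute e₁ y := T.cent _ he₁E _ hyM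
      rw [pow_succ' a, MulAut.mul_apply, ih, map_mul, map_mul, map_mul, map_pow, map_pow, map_pow, hax, hay, hae,
        hfix2, c1.mul_pow, c2.mul_pow, Nat.choose_succ_succ' k 1, Nat.choose_one_right, Nat.choose_succ_succ' k 2,
        pow_add e₁, pow_add e₂, pow_succ y]
      have key : e₂ ^ k.choose 2 * e₁ ^ k.choose 2 * e₂ ^ k.choose 3 * e₁ ^ k =
          e₁ ^ k * e₁ ^ k.choose 2 * (e₂ ^ k.choose 2 * e₂ ^ k.choose 3) := by
        calc e₂ ^ k.choose 2 * e₁ ^ k.choose 2 * e₂ ^ k.choose 3 * e₁ ^ k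
            = e₂ ^ k.choose 2 * e₁ ^ k.choose 2 * (e₂ ^ k.choose 3 * e₁ ^ k) := by rw [mul_assoc]
          _ = e₁ ^ k.choose 2 * e₂ ^ k.choose 2 * (e₁ ^ k * e₂ ^ k.choose 3) := by
            rw [(c1.pow_pow _ _).eq, (c1.pow_pow (k.choose 3) k).eq]
          _ = e₁ ^ k.choose 2 * (e₂ ^ k.choose 2 * e₁ ^ k) * e₂ ^ k.choose 3 := by group
          _ = e₁ ^ k.choose 2 * (e₁ ^ k * e₂ ^ k.choose 2) * e₂ ^ k.choose 3 := by rw [(c1.pow_pow _ _).eq]
          _ = e₁ ^ k.choose 2 * e₁ ^ k * (e₂ ^ k.choose 2 * e₂ ^ k.choose 3) := by group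
          _ = _ := by rw [(Commute.pow_pow_self e₁ (k.choose 2) k).eq]
      rw [← key]
      group
  have hrel : e₁ ^ p.choose 2 * e₂ ^ p.choose 3 * y ^ p = 1 := by
    have h := hiter p
    rw [ha, MulAut.one_apply] at h
    exact mul_eq_right.1 h.symm
  have hc2 : e₁ ^ p.choose 2 = 1 := by
    obtain ⟨q, hq⟩ := hp.out.dvd_choose_self (k := 2) two_ne_zero (lt_of_le_of_ne hp.out.two_le fun e => hp2 e.symm)
    rw [hq, pow_mul, (T.mem_E _).1 he₁E, one_pow]
  rw [hc2, one_mul] at hrel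
  have hp3 : p = 3 := by
    by_contra h3
    have h2 := hp.out.two_le
    obtain ⟨q, hq⟩ := hp.out.dvd_choose_self (k := 3) (by norm_num) (show 3 < p by omega)
    rw [hq, pow_mul, (T.mem_E _).1 he₂E, one_pow, one_mul] at hrel
    exact hy1 hrel
  subst hp3
  rw [Nat.choose_self, pow_one] at hrel
  have he₂1 : e₂ ≠ 1 := fun h => hy1 (by rwa [h, one_mul] at hrel)
  -- fixed points in `M` lie in `E`
  have hM : ∀ w ∈ T.M, a w = w → w ∈ T.E := by
    intro w hw haw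
    by_contra hwE
    have hw3 : w ^ 3 ∈ T.E := (T.mem_E _).2 (by rw [← pow_mul]; exact (T.mem_M w).1 hw)
    -- `w ^ 3` is a power of `y ^ 3`
    have hy3E : y ^ 3 ∈ T.E := hyp ▸ mul_mem (map_mem_E T a he) (inv_mem he)
    obtain ⟨j, hj⟩ : ∃ j : ℕ, (y ^ 3) ^ j = w ^ 3 := by
      have hgen : zpowers (⟨y ^ 3, hy3E⟩ : T.E) = δ.ker := by
        refine eq_of_le_of_card_ge (zpowers_le.2 ((hker _).2 hfix0)) ?_
        rw [hF.1, Nat.card_zpowers, Subgroup.orderOf_mk]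
        exact (orderOf_eq_prime ((T.mem_E _).1 hy3E) hy1).ge
      obtain ⟨j, hj⟩ := mem_powers_iff_mem_zpowers.2
        (hgen.ge ((hker ⟨w ^ 3, hw3⟩).2 (by rw [map_pow, haw])))
      exact ⟨j, congrArg Subtype.val hj⟩
    set f := (y ^ j)⁻¹ * w with hf
    have hfE : f ∈ T.E := (T.mem_E _).2 (by
      rw [hf, T.hom _ (inv_mem (pow_mem hyM j)) _ hw, inv_pow, ← hj, ← pow_mul, ← pow_mul, mul_comm j,
        inv_mul_cancel])
    have hwf : w = y ^ j * f := by rw [hf, mul_inv_cancel_left]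
    have hj3 : ¬ 3 ∣ j := by
      rintro ⟨c, rfl⟩
      refine hwE ((T.mem_E _).2 ?_)
      rw [← hj, pow_mul, ← pow_mul y, show 3 * 3 = 3 ^ 2 from rfl, (T.mem_M y).1 hyM, one_pow]
    rw [hwf, map_mul, map_pow, hay, (T.cent _ he₁E _ hyM : Commute e₁ y).mul_pow,
      (T.cent _ (pow_mem he₁E j) _ (pow_mem hyM j) : Commute _ _).eq, mul_assoc, mul_right_inj] at haw
    have he1f : e₁ ^ j = (a f * f⁻¹)⁻¹ := by
      rw [mul_inv_rev, inv_inv, eq_mul_inv_iff_mul_eq]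
      exact haw
    have hfixj : a (e₁ ^ j) = e₁ ^ j := by rw [he1f, map_inv, himg ⟨f, hfE⟩]
    rw [map_pow, hae, (T.cent _ he₂E _ (hEM he₁E) : Commute e₂ e₁).mul_pow, mul_eq_right] at hfixj
    exact he₂1 (orderOf_eq_one_iff.1 (Nat.eq_one_of_dvd_coprimes ((Nat.prime_three.coprime_iff_not_dvd).2 hj3)
      (orderOf_dvd_of_pow_eq_one ((T.mem_E _).1 he₂E)) (orderOf_dvd_of_pow_eq_one hfixj)))
  have hle : fixed a ≤ T.E := by
    intro z hz
    by_contra hzE
    obtain ⟨k, hk⟩ := IsPGroup.iff_orderOf.1 hL z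
    rcases Nat.lt_or_ge k 2 with h | h
    · exact hzE ((T.mem_E z).2 (orderOf_dvd_iff_pow_eq_one.1 (hk ▸ (pow_dvd_pow 3 (show k ≤ 1 by omega)).trans (by simp))))
    set w := z ^ 3 ^ (k - 2)
    have hwo : orderOf w = 3 ^ 2 := by
      rw [orderOf_pow, hk, Nat.gcd_eq_right (pow_dvd_pow 3 (Nat.sub_le k 2)), Nat.pow_div (Nat.sub_le k 2) (by norm_num)]
      congr 1
      omega
    have := hM w ((T.mem_M w).2 (hwo ▸ pow_orderOf_eq_one w)) (by rw [map_pow, mem_fixed.1 hz])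
    have h3 := orderOf_dvd_of_pow_eq_one ((T.mem_E w).1 this)
    rw [hwo] at h3
    exact absurd h3 (by norm_num)
  refine ⟨rfl, hle, ?_⟩
  rw [show fixed a = δ.ker.map T.E.subtype from ?_, card_subtype]
  · exact hF.1
  ext z
  refine ⟨fun hz => ⟨⟨z, hle hz⟩, (hker _).2 hz, rfl⟩, ?_⟩
  rintro ⟨u, hu, rfl⟩
  exact (hker u).1 hu

/-- A trivial action on `E` gives a trivial action on `M / E`. -/
theorem disp_mem_E (hfix : ∀ u ∈ T.E, a u = u) {x : L} (hx : x ∈ T.M) : a x * x⁻¹ ∈ T.E := by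
  have h : x ^ p ∈ T.E := (T.mem_E _).2 (by rw [← pow_mul, ← sq]; exact (T.mem_M x).1 hx)
  exact (T.mem_E _).2 (by
    rw [T.hom _ (map_mem_M T a hx) _ (inv_mem hx), ← map_pow, inv_pow, hfix _ h, mul_inv_cancel])

end Cfsg.Lib.PGroups.MetaAutThree
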