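import Cfsg.Agent.PGroups.OmegaQuotient

/-!
The inductive step of Huppert's criterion, for every odd prime.
-/

set_option autoImplicit false
set_option linter.unusedSectionVars false
set_option linter.style.haveILetI false

namespace Cfsg.Lib.PGroups.MetaStep

open Subgroup
open scoped commutatorElement

universe u

variable {R : Type u} [Group R] [Finite R] {p : ℕ} [hp : Fact p.Prime]

/-- A two-generator p-group (p odd) with small Omega and a metacyclic quotient by a central
subgroup of order p inside the derived group is metacyclic. -/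
theorem meta_step (hp2 : p ≠ 2) (hR : IsPGroup p R)
    (hO : Nat.card ↥(Cfsg.omegaOne p (⊤ : Subgroup R)) ≤ p ^ 2) (hidx : (frattini R).index ≤ p ^ 2)
    (z : R) (hzD : z ∈ commutator R) (hzc : z ∈ center R) (hz : orderOf z = p) [(zpowers z).Normal]
    (hq : Cfsg.IsMetacyclic (R ⧸ zpowers z)) : Cfsg.IsMetacyclic R := by
  by_cases hcyc : IsCyclic R
  · haveI := hcyc
    exact ⟨⊤, inferInstance, inferInstance, by
      haveI : Subsingleton (R ⧸ (⊤ : Subgroup R)) := QuotientGroup.subsingleton_quotient_top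
      exact isCyclic_of_subsingleton⟩
  have hVp : IsPGroup p (R ⧸ frattini R) := hR.to_quotient _
  obtain ⟨k, hk⟩ := IsPGroup.iff_card.mp hVp
  have hk2 : k = 2 := by
    rw [Subgroup.index_eq_card, hk] at hidx
    have := (Nat.pow_le_pow_iff_right hp.out.one_lt).mp hidx
    rcases k with _ | _ | k
    · exfalso
      haveI : Subsingleton (R ⧸ frattini R) := (Nat.card_eq_one_iff_unique.mp (hk.trans (pow_zero p))).1
      haveI : IsCyclic (R ⧸ frattini R) := isCyclic_of_subsingleton
      exact hcyc Cfsg.Lib.PGroups.isCyclic_of_isCyclic_quotient_frattini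
    · exfalso
      haveI : IsCyclic (R ⧸ frattini R) := isCyclic_of_prime_card (p := p) (hk.trans (pow_one p))
      exact hcyc Cfsg.Lib.PGroups.isCyclic_of_isCyclic_quotient_frattini
    · omega
  subst hk2
  -- any element outside the Frattini subgroup completes to two generators
  have hgen2 : ∀ v : R, v ∉ frattini R → ∃ y : R, zpowers v ⊔ zpowers y = ⊤ := by
    intro v hv
    set W := zpowers v ⊔ frattini R
    have hWt : W ≠ ⊤ := by
      intro h
      refine hcyc ⟨⟨v, fun x => ?_⟩⟩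
      have := frattini_nongenerating h
      exact Subgroup.mem_zpowers_iff.mp (this ▸ mem_top x)
    obtain ⟨y, -, hy⟩ := SetLike.exists_of_lt (lt_top_iff_ne_top.mpr hWt)
    refine ⟨y, frattini_nongenerating ?_⟩
    set U := (zpowers v ⊔ zpowers y) ⊔ frattini R
    have h1 : frattini R < W := lt_of_le_of_ne le_sup_right fun h => hv (h.ge (mem_sup_left (mem_zpowers v)))
    have h2 : W < U := lt_of_le_of_ne (sup_le (le_sup_left.trans le_sup_left) le_sup_right)
      fun h => hy (h.ge (mem_sup_left (mem_sup_right (mem_zpowers y))))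
    have hpos : ∀ A B : Subgroup R, A < B → p * B.index ≤ A.index := by
      intro A B hAB
      rw [← relIndex_mul_index hAB.le]
      obtain ⟨j, hj⟩ : ∃ j, A.relIndex B = p ^ j := (hR.to_subgroup B).index (A.subgroupOf B)
      refine Nat.mul_le_mul_right _ ?_
      rcases j with _ | j
      · exact absurd (relIndex_eq_one.mp (hj.trans (pow_zero p))) hAB.not_ge
      · rw [hj]; exact Nat.le_self_pow (Nat.succ_ne_zero j) p
    have h3 := hpos _ _ h1
    have h4 := hpos _ _ h2
    rw [Subgroup.index_eq_card (frattini R), hk] at h3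
    refine index_eq_one.mp (Nat.le_antisymm ?_ (Nat.one_le_iff_ne_zero.mpr Subgroup.index_ne_zero_of_finite))
    have h5 : p * (p * U.index) ≤ p * (p * 1) := by
      rw [mul_one, ← pow_two]
      exact (Nat.mul_le_mul_left p h4).trans h3
    exact Nat.le_of_mul_le_mul_left (Nat.le_of_mul_le_mul_left h5 hp.out.pos) hp.out.pos
  have hmeta : ∀ (v : R) [(zpowers v).Normal], v ∉ frattini R → Cfsg.IsMetacyclic R := by
    intro v _ hv
    obtain ⟨y, hy⟩ := hgen2 v hv
    refine ⟨zpowers v, inferInstance, inferInstance, isCyclic_iff_exists_zpowers_eq_top.mpr ⟨(y : R ⧸ zpowers v), ?_⟩⟩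
    have := congrArg (Subgroup.map (QuotientGroup.mk' (zpowers v))) hy
    rw [Subgroup.map_sup, MonoidHom.map_zpowers, MonoidHom.map_zpowers,
      Subgroup.map_top_of_surjective _ (QuotientGroup.mk'_surjective _)] at this
    refine (eq_top_iff).mpr (this ▸ sup_le (zpowers_le.mpr ?_) le_rfl)
    rw [show QuotientGroup.mk' (zpowers v) v = 1 from (QuotientGroup.eq_one_iff v).mpr (mem_zpowers v)]
    exact one_mem _
  set Z := zpowers z with hZdef
  have hZc : Z ≤ center R := zpowers_le.mpr hzc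
  haveI : Z.Normal := ⟨fun u hu g => by
    rw [mem_center_iff.mp (hZc hu) g, mul_inv_cancel_right]; exact hu⟩
  have hcard : Nat.card Z = p := by rw [hZdef, Nat.card_zpowers, hz]
  obtain ⟨M, hMn, hMc, hMq⟩ := hq
  set π := QuotientGroup.mk' Z
  set N := M.comap π with hNdef
  haveI hNn : N.Normal := hMn.comap π
  haveI hNq : IsCyclic (R ⧸ N) := by
    haveI := hMq
    let f : R ⧸ N →* (R ⧸ Z) ⧸ M := QuotientGroup.lift N ((QuotientGroup.mk' M).comp π) fun u hu =>
      MonoidHom.mem_ker.mpr ((QuotientGroup.eq_one_iff (π u)).mpr hu)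
    refine isCyclic_of_injective (f := f) ((injective_iff_map_eq_one _).mpr fun u hu => ?_)
    obtain ⟨w, rfl⟩ := QuotientGroup.mk_surjective u
    exact (QuotientGroup.eq_one_iff w).mpr ((QuotientGroup.eq_one_iff (π w)).mp hu)
  by_cases hNc : IsCyclic N
  · exact ⟨N, hNn, hNc, hNq⟩
  obtain ⟨a', ha'⟩ := (Subgroup.isCyclic_iff_exists_zpowers_eq_top M).mp hMc
  obtain ⟨a, rfl⟩ := QuotientGroup.mk'_surjective Z a'
  have haN : a ∈ N := ha'.le (mem_zpowers _)
  have hNdec : ∀ u ∈ N, ∃ (i : ℤ) (w : R), w ∈ Z ∧ u = a ^ i * w := by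
    intro u hu
    obtain ⟨i, hi⟩ := mem_zpowers_iff.mp (ha'.ge hu)
    refine ⟨i, (a ^ i)⁻¹ * u, ?_, (mul_inv_cancel_left _ _).symm⟩
    rw [← QuotientGroup.eq_one_iff]
    show π ((a ^ i)⁻¹ * u) = 1
    rw [map_mul, map_inv, map_zpow, hi, inv_mul_cancel]
  have haZ : z ∉ zpowers a := by
    intro h
    refine hNc ((Subgroup.isCyclic_iff_exists_zpowers_eq_top N).mpr ⟨a, le_antisymm (zpowers_le.mpr haN) fun u hu => ?_⟩)
    obtain ⟨i, w, hw, rfl⟩ := hNdec u hu
    exact mul_mem (zpow_mem (mem_zpowers a) i) (zpowers_le.mpr h hw)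
  obtain ⟨t', ht'⟩ := IsCyclic.exists_zpow_surjective (G := R ⧸ N)
  obtain ⟨t, rfl⟩ := QuotientGroup.mk_surjective t'
  have hNab : ∀ u ∈ N, ∀ w ∈ N, u * w = w * u := by
    intro u hu w hw
    obtain ⟨i, z1, h1, rfl⟩ := hNdec u hu
    obtain ⟨j, z2, h2, rfl⟩ := hNdec w hw
    have c1 := fun g => mem_center_iff.mp (hZc h1) g
    have c2 := fun g => mem_center_iff.mp (hZc h2) g
    exact (((Commute.zpow_zpow_self a i j).mul_right (c2 (a ^ i))).mul_left
      ((show Commute z1 (a ^ j) from (c1 (a ^ j)).symm).mul_right (show Commute z1 z2 from (c1 z2).symm))).eq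
  set c := t * a * t⁻¹ * a⁻¹ with hcdef
  have hcN : c ∈ N := mul_mem (hNn.conj_mem a haN t) (inv_mem haN)
  -- the derived group is generated by one commutator
  let ψ : N →* R := MonoidHom.mk' (fun u => t * (u : R) * t⁻¹ * (u : R)⁻¹) fun u w => by
    have h1 : (u : R)⁻¹ * (t * (w : R) * t⁻¹ * (w : R)⁻¹) = (t * (w : R) * t⁻¹ * (w : R)⁻¹) * (u : R)⁻¹ :=
      hNab _ (inv_mem u.2) _ (mul_mem (hNn.conj_mem _ w.2 t) (inv_mem w.2))
    show t * ((u : R) * (w : R)) * t⁻¹ * ((u : R) * (w : R))⁻¹ = _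
    calc t * ((u : R) * (w : R)) * t⁻¹ * ((u : R) * (w : R))⁻¹
        = t * (u : R) * t⁻¹ * ((t * (w : R) * t⁻¹ * (w : R)⁻¹) * (u : R)⁻¹) := by group
      _ = t * (u : R) * t⁻¹ * (u : R)⁻¹ * (t * (w : R) * t⁻¹ * (w : R)⁻¹) := by rw [← h1]; group
  have hψ : ψ.range ≤ zpowers c := by
    rintro _ ⟨⟨u, hu⟩, rfl⟩
    obtain ⟨i, w, hw, rfl⟩ := hNdec u hu
    refine ⟨i, ?_⟩
    have hcom : Commute (t * a * t⁻¹) a⁻¹ := hNab _ (hNn.conj_mem a haN t) _ (inv_mem haN)
    show c ^ i = t * (a ^ i * w) * t⁻¹ * (a ^ i * w)⁻¹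
    rw [hcdef, hcom.mul_zpow, conj_zpow, inv_zpow,
      show t * (a ^ i * w) * t⁻¹ * (a ^ i * w)⁻¹ = t * a ^ i * (w * t⁻¹) * w⁻¹ * (a ^ i)⁻¹ by group,
      ← mem_center_iff.mp (hZc hw) t⁻¹]
    group
  have hD : commutator R ≤ zpowers c := by
    have hdecR : ∀ g : R, ∃ j : ℤ, ∃ u ∈ N, g = u * t ^ j := by
      intro g
      obtain ⟨j, hj⟩ := ht' (g : R ⧸ N)
      refine ⟨j, g * (t ^ j)⁻¹, ?_, (inv_mul_cancel_right _ _).symm⟩
      rw [← QuotientGroup.eq_one_iff, QuotientGroup.mk_mul, QuotientGroup.mk_inv, QuotientGroup.mk_zpow]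
      exact mul_inv_eq_one.mpr hj.symm
    haveI hcn : (zpowers c).Normal := by
      refine ⟨fun u hu g => ?_⟩
      obtain ⟨i, rfl⟩ := mem_zpowers_iff.mp hu
      rw [← conj_zpow]
      refine zpow_mem ?_ i
      obtain ⟨j, w, hw, rfl⟩ := hdecR g
      have hconj : ∀ k : ℤ, t ^ k * c * (t ^ k)⁻¹ ∈ zpowers c := by
        have hfwd : ∀ u ∈ zpowers c, t * u * t⁻¹ ∈ zpowers c := by
          intro u hu
          have huN : u ∈ N := zpowers_le.mpr hcN hu
          have h1 := hψ ⟨⟨u, huN⟩, rfl⟩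
          have h2 := mul_mem h1 hu
          simpa [ψ, mul_assoc] using h2
        let K : Subgroup R := zpowers c
        have hmap : K.map (MulAut.conj t).toMonoidHom = K := by
          refine Subgroup.eq_of_le_of_card_ge ?_ (le_of_eq (Subgroup.card_map_of_injective (MulAut.conj t).injective).symm)
          rintro _ ⟨u, hu, rfl⟩
          exact hfwd u hu
        intro k
        have htK : t ∈ normalizer (K : Set R) := mem_normalizer_iff_map_conj_eq.mpr hmap
        exact ((mem_normalizer_iff.mp (zpow_mem htK k)) c).mp (mem_zpowers c)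
      have h2 := hconj j
      have h3 : w * (t ^ j * c * (t ^ j)⁻¹) = (t ^ j * c * (t ^ j)⁻¹) * w :=
        hNab w hw _ (zpowers_le.mpr hcN h2)
      have h4 : w * t ^ j * c * (w * t ^ j)⁻¹ = t ^ j * c * (t ^ j)⁻¹ := by
        rw [mul_inv_rev, show w * t ^ j * c * ((t ^ j)⁻¹ * w⁻¹) = w * (t ^ j * c * (t ^ j)⁻¹) * w⁻¹ by group,
          h3, mul_inv_cancel_right]
      rw [h4]
      exact h2
    refine Subgroup.Normal.quotient_commutative_iff_commutator_le.mp ⟨⟨fun u v => ?_⟩⟩
    obtain ⟨g, rfl⟩ := QuotientGroup.mk_surjective u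
    obtain ⟨g', rfl⟩ := QuotientGroup.mk_surjective v
    have hta : Commute (t : R ⧸ zpowers c) (a : R ⧸ zpowers c) := by
      have h1 : ((c : R) : R ⧸ zpowers c) = 1 := (QuotientGroup.eq_one_iff c).mpr (mem_zpowers c)
      have h2 : (t : R ⧸ zpowers c) * (a : R ⧸ zpowers c) * (t : R ⧸ zpowers c)⁻¹ * (a : R ⧸ zpowers c)⁻¹ = 1 := h1
      rw [mul_inv_eq_one, mul_inv_eq_iff_eq_mul] at h2
      exact h2
    obtain ⟨j, u, hu, rfl⟩ := hdecR g
    obtain ⟨j', u', hu', rfl⟩ := hdecR g'
    have huu : ∀ u ∈ N, Commute (t : R ⧸ zpowers c) (u : R ⧸ zpowers c) := by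
      intro u hu
      obtain ⟨i, w, hw, rfl⟩ := hNdec u hu
      rw [QuotientGroup.mk_mul, QuotientGroup.mk_zpow]
      exact (hta.zpow_right i).mul_right (congrArg (fun x : R => (x : R ⧸ zpowers c)) (mem_center_iff.mp (hZc hw) t))
    have e1 := huu u hu
    have e2 := huu u' hu'
    have e3 : Commute (u : R ⧸ zpowers c) (u' : R ⧸ zpowers c) :=
      congrArg (fun x : R => (x : R ⧸ zpowers c)) (hNab u hu u' hu')
    rw [QuotientGroup.mk_mul, QuotientGroup.mk_mul, QuotientGroup.mk_zpow, QuotientGroup.mk_zpow]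
    exact ((e3.mul_right ((e1.zpow_left j').symm)).mul_left ((e2.zpow_left j).mul_right (Commute.zpow_zpow_self _ j j'))).eq
  -- so the derived group has order `p`
  have hcZ : c ∈ Z := by
    obtain ⟨i, w, hw, hci⟩ := hNdec c hcN
    obtain ⟨e, he⟩ := mem_zpowers_iff.mp (hD hzD)
    obtain ⟨k, hk'⟩ := IsPGroup.iff_orderOf.mp hR (a ^ i)
    rcases k with _ | k
    · rw [pow_zero, orderOf_eq_one_iff] at hk'
      rw [hci, hk', one_mul]; exact hw
    exfalso
    refine haZ ?_
    have hwp : w ^ p = 1 := by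
      have := congrArg Subtype.val (pow_card_eq_one' (x := (⟨w, hw⟩ : Z)))
      rwa [hcard, SubgroupClass.coe_pow] at this
    have hcom : Commute (a ^ i) w := mem_center_iff.mp (hZc hw) _
    -- some power of `c` is `z`, with exponent divisible by the order of `c` over `p`
    by_cases hk0 : k = 0
    · subst hk0
      have hcp : c ^ p = 1 := by
        rw [hci, hcom.mul_pow, hwp, mul_one]
        rw [pow_succ, pow_zero, one_mul] at hk'
        rw [← hk', pow_orderOf_eq_one]
      have hzc' : zpowers z = zpowers c := by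
        refine Subgroup.eq_of_le_of_card_ge (zpowers_le.mpr ⟨e, he⟩) ?_
        rw [Nat.card_zpowers, Nat.card_zpowers, hz]
        exact Nat.le_of_dvd hp.out.pos (orderOf_dvd_of_pow_eq_one hcp)
      have hcz : c ∈ Z := hzc'.ge (mem_zpowers c)
      have haiz : a ^ i ∈ Z := by
        have := mul_mem hcz (inv_mem hw)
        rwa [hci, mul_inv_cancel_right] at this
      have hzai : zpowers (a ^ i) = Z := by
        refine Subgroup.eq_of_le_of_card_ge (zpowers_le.mpr haiz) ?_
        rw [hcard, Nat.card_zpowers, hk', pow_succ, pow_zero, one_mul]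
      exact zpowers_le.mpr (zpow_mem (mem_zpowers a) i) (hzai.ge (mem_zpowers z))
    · have hco : orderOf c = p ^ (k + 1) := by
        refine orderOf_eq_prime_pow ?_ ?_
        · rw [hci, hcom.mul_pow, show p ^ k = p * p ^ (k - 1) by rw [← pow_succ']; congr 1; omega,
            pow_mul w, hwp, one_pow, mul_one, show p * p ^ (k - 1) = p ^ k by rw [← pow_succ']; congr 1; omega]
          intro h
          have := orderOf_dvd_of_pow_eq_one h
          rw [hk', Nat.pow_dvd_pow_iff_le_right hp.out.one_lt] at this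
          omega
        · rw [hci, hcom.mul_pow, pow_succ', pow_mul w, hwp, one_pow, mul_one, ← pow_succ', ← hk', pow_orderOf_eq_one]
      have hpe : z ^ p = 1 := by rw [← hz, pow_orderOf_eq_one]
      have hdiv : (p : ℤ) ∣ e := by
        rw [← he, ← zpow_natCast, ← zpow_mul, ← orderOf_dvd_iff_zpow_eq_one, hco] at hpe
        have h2 : ((p ^ k : ℕ) : ℤ) * p ∣ e * p := by
          rw [pow_succ] at hpe
          exact_mod_cast hpe
        have h3 := Int.dvd_of_mul_dvd_mul_right (by exact_mod_cast hp.out.ne_zero) h2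
        exact (Int.natCast_dvd_natCast.mpr (dvd_pow_self p hk0)).trans h3
      obtain ⟨e', rfl⟩ := hdiv
      rw [← he, hci, hcom.mul_zpow, zpow_mul w, zpow_natCast, hwp, one_zpow, mul_one]
      exact zpow_mem (zpow_mem (mem_zpowers a) i) _
  have hDZ : commutator R ≤ Z := hD.trans (zpowers_le.mpr hcZ)
  have hzp : ∀ u ∈ Z, u ^ p = 1 := fun u hu => by
    have := congrArg Subtype.val (pow_card_eq_one' (x := (⟨u, hu⟩ : Z)))
    rwa [hcard, SubgroupClass.coe_pow] at this
  have hd2 : p ∣ p.choose 2 :=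
    hp.out.dvd_choose_self two_ne_zero (lt_of_le_of_ne hp.out.two_le fun e => hp2 e.symm)
  let pw : R →* R := MonoidHom.mk' (fun u => u ^ p) fun u w => by
    have hc' : ⁅w, u⁆ ∈ Z := hDZ (commutator_mem_commutator (mem_top w) (mem_top u))
    have e1 : ⁅u, ⁅w, u⁆⁆ = 1 := commutatorElement_eq_one_iff_mul_comm.mpr (mem_center_iff.mp (hZc hc') u)
    have e2 : ⁅w, ⁅w, u⁆⁆ = 1 := commutatorElement_eq_one_iff_mul_comm.mpr (mem_center_iff.mp (hZc hc') w)
    have h := (Cfsg.Lib.PGroups.mul_pow_class_three (x := u) (y := w) (by rw [e1]; exact one_mem _)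
      (by rw [e2]; exact one_mem _) p).2.2
    obtain ⟨q, hq⟩ := hd2
    rw [e1, e2, one_pow, one_pow, one_mul, one_mul, hq, pow_mul, hzp _ hc', one_pow, one_mul] at h
    exact h
  have hpw : pw.range = frattini R := by
    refine Subgroup.eq_of_le_of_card_ge ?_ ?_
    · rintro _ ⟨u, rfl⟩
      exact Cfsg.Lib.PGroups.pow_mem_frattini hR u
    have hker : Nat.card pw.ker ≤ p ^ 2 :=
      (Subgroup.card_le_of_le (show pw.ker ≤ Cfsg.omegaOne p (⊤ : Subgroup R) from
        fun u hu => subset_closure ⟨mem_top u, hu⟩)).trans hO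
    have h1 := pw.ker.card_mul_index
    rw [Subgroup.index_ker] at h1
    have h2 := (frattini R).card_mul_index
    rw [Subgroup.index_eq_card, hk] at h2
    refine Nat.le_of_mul_le_mul_left ?_ (pow_pos hp.out.pos 2)
    rw [mul_comm, h2, ← h1]
    exact Nat.mul_le_mul_right _ hker
  -- a deepest root of `z`
  have hbound : ∀ (j : ℕ) (v : R), v ^ p ^ j = z → j ≤ Nat.card R := by
    intro j v hv
    have h1 : orderOf v = p ^ (j + 1) := by
      refine orderOf_eq_prime_pow ?_ ?_
      · rw [hv]; intro h; rw [h, orderOf_one] at hz; exact hp.out.ne_one hz.symm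
      · rw [pow_succ, pow_mul, hv, ← hz, pow_orderOf_eq_one]
    have h2 : orderOf v ≤ Nat.card R := Nat.le_of_dvd Nat.card_pos (orderOf_dvd_natCard v)
    have h3 := Nat.lt_pow_self hp.out.one_lt (n := j + 1)
    omega
  let J : Set ℕ := {j | ∃ v : R, v ^ p ^ j = z}
  have hJfin : J.Finite := (Set.finite_Iic (Nat.card R)).subset fun j ⟨v, hv⟩ => hbound j v hv
  obtain ⟨j, ⟨v, hv⟩, hjmax⟩ := Set.exists_max_image J id hJfin ⟨0, z, by rw [pow_zero, pow_one]⟩
  have hvΦ : v ∉ frattini R := by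
    rw [← hpw]
    rintro ⟨u, rfl⟩
    have := hjmax (j + 1) ⟨u, by rw [pow_succ', pow_mul]; exact hv⟩
    simp only [id] at this
    omega
  haveI : (zpowers v).Normal := ⟨fun u hu g => by
    have h1 : ⁅g, u⁆ ∈ Z := hDZ (commutator_mem_commutator (mem_top g) (mem_top u))
    have h2 : Z ≤ zpowers v := zpowers_le.mpr ⟨(p ^ j : ℕ), by rw [← hv]; exact zpow_natCast v _⟩
    have h3 := mul_mem (h2 h1) hu
    rwa [commutatorElement_def, inv_mul_cancel_right] at h3⟩
  exact hmeta v hvΦ


end Cfsg.Lib.PGroups.MetaStep
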