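/-
A metacyclic 2-group with a nonabelian subgroup of order eight has maximal class.
-/
import Cfsg.Agent.PGroups.CyclicMaximal
import Cfsg.Agent.SolvStruct.CyclicProduct
import Cfsg.Prelude.Def_OddOrderLocal

set_option autoImplicit false
set_option linter.style.haveILetI false
set_option linter.unusedSectionVars false

namespace Cfsg.Lib.MetaEight

open Subgroup Cfsg.Lib.CyclicMax

universe u

variable {S : Type u} [Group S] [Finite S]

theorem types (h2 : IsPGroup 2 S) (hm : Cfsg.IsMetacyclic S) (H : Subgroup S) (h8 : Nat.card H = 8)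
    (hna : ¬ IsMulCommutative H) :
    (∃ k : ℕ, Nonempty (S ≃* DihedralGroup (2 ^ (k + 2)))) ∨
      (∃ k : ℕ, Nat.card S = 2 ^ (k + 4) ∧ ∃ a b : S, orderOf a = 2 ^ (k + 3) ∧ orderOf b = 2 ∧
        b * a * b⁻¹ = a ^ (2 ^ (k + 2) - 1)) ∨
      (∃ k : ℕ, Nonempty (S ≃* QuaternionGroup (2 ^ (k + 1)))) := by
  haveI : Fact (Nat.Prime 2) := ⟨Nat.prime_two⟩
  obtain ⟨A, hAn, hAc, hAq⟩ := hm
  haveI := hAn
  haveI := hAc
  obtain ⟨⟨a, haA⟩, hgen⟩ := hAc.exists_generator
  have hA : ∀ y ∈ A, ∃ i : ℤ, y = a ^ i := fun y hy => by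
    obtain ⟨i, hi⟩ := mem_zpowers_iff.1 (hgen ⟨y, hy⟩)
    exact ⟨i, by simpa using (congrArg Subtype.val hi).symm⟩
  have hAab : ∀ x ∈ A, ∀ y ∈ A, x * y = y * x := fun x hx y hy => by
    obtain ⟨i, rfl⟩ := hA x hx
    obtain ⟨j, rfl⟩ := hA y hy
    exact ((Commute.refl a).zpow_zpow i j).eq
  obtain ⟨b', hb'⟩ := hAq.exists_generator
  -- the intersection
  set X := A ⊓ H
  have hXle : X ≤ H := inf_le_right
  haveI hXn : (X.subgroupOf H).Normal := by
    have : X.subgroupOf H = A.subgroupOf H := inf_subgroupOf_right A H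
    rw [this]; infer_instance
  have hqc : IsCyclic (H ⧸ X.subgroupOf H) := by
    let f : H →* S ⧸ A := (QuotientGroup.mk' A).comp H.subtype
    have hk : f.ker = X.subgroupOf H := by
      ext y
      rw [MonoidHom.mem_ker, mem_subgroupOf]
      exact (QuotientGroup.eq_one_iff _).trans ⟨fun h => ⟨h, y.2⟩, fun h => h.1⟩
    haveI := hAq
    exact isCyclic_of_injective ((QuotientGroup.kerLift f).comp
      (QuotientGroup.quotientMulEquivOfEq hk.symm).toMonoidHom)
      ((QuotientGroup.kerLift_injective f).comp (MulEquiv.injective _))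
  have hXc : IsCyclic X := isCyclic_of_le (inf_le_left : X ≤ A)
  -- its order is four
  have hX4 : Nat.card X = 4 := by
    have hd : Nat.card X ∣ 8 := h8 ▸ Subgroup.card_dvd_of_le hXle
    have h3 : Nat.card X = 1 ∨ Nat.card X = 2 ∨ Nat.card X = 4 ∨ Nat.card X = 8 := by
      obtain ⟨i, hi, hi'⟩ := (Nat.dvd_prime_pow Nat.prime_two).1 (show Nat.card X ∣ 2 ^ 3 from hd)
      rw [hi']
      interval_cases i <;> simp
    have hcomm : ∀ y ∈ X, ∀ h ∈ H, Nat.card X ≤ 2 → h * y = y * h := by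
      intro y hy h hh hle
      have hy' : h * y * h⁻¹ ∈ X := Subgroup.mem_inf.2 ⟨hAn.conj_mem y hy.1 h, mul_mem (mul_mem hh hy.2) (inv_mem hh)⟩
      rcases eq_or_ne y 1 with rfl | hy1
      · simp
      · have hne : h * y * h⁻¹ ≠ 1 := fun e => hy1 (conj_eq_one_iff.1 e)
        have h2' : Nat.card X = 2 := by
          haveI : Nontrivial X := ⟨⟨⟨y, hy⟩, 1, fun e => hy1 (congrArg Subtype.val e)⟩⟩
          have := Finite.one_lt_card (α := X)
          omega
        obtain ⟨u, -, hu⟩ := (Nat.card_eq_two_iff' (1 : X)).1 h2'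
        have e1 := hu ⟨y, hy⟩ fun e => hy1 (congrArg Subtype.val e)
        have e2 := hu ⟨_, hy'⟩ fun e => hne (congrArg Subtype.val e)
        exact mul_inv_eq_iff_eq_mul.1 (congrArg Subtype.val (e2.trans e1.symm))
    rcases h3 with h | h | h | h
    · exfalso
      refine hna ⟨⟨fun p q => commutative_of_cyclic_center_quotient (QuotientGroup.mk' (X.subgroupOf H)) (fun y hy => ?_) p q⟩⟩
      rw [QuotientGroup.ker_mk'] at hy
      exact mem_center_iff.2 fun g => Subtype.ext (hcomm _ (mem_subgroupOf.1 hy) _ g.2 (by omega))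
    · exfalso
      refine hna ⟨⟨fun p q => commutative_of_cyclic_center_quotient (QuotientGroup.mk' (X.subgroupOf H)) (fun y hy => ?_) p q⟩⟩
      rw [QuotientGroup.ker_mk'] at hy
      exact mem_center_iff.2 fun g => Subtype.ext (hcomm _ (mem_subgroupOf.1 hy) _ g.2 (by omega))
    · exact h
    · exfalso
      have hXH : X = H := eq_of_le_of_card_ge hXle (by rw [h, h8])
      exact hna ⟨⟨fun p q => Subtype.ext (hAab _ (hXH.ge p.2).1 _ (hXH.ge q.2).1)⟩⟩
  obtain ⟨⟨x, hx⟩, hxgen⟩ := hXc.exists_generator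
  have hxo : orderOf x = 4 := by
    have h1 := orderOf_eq_card_of_forall_mem_zpowers hxgen
    rwa [Subgroup.orderOf_mk, hX4] at h1
  obtain ⟨h, hh, hhX⟩ : ∃ h ∈ H, h ∉ X := by
    by_contra! hall
    have : X = H := le_antisymm hXle hall
    rw [this, h8] at hX4
    omega
  have hhA : h ∉ A := fun e => hhX ⟨e, hh⟩
  have hhx : h * x ≠ x * h := by
    intro e
    refine hna ⟨⟨fun p q => ?_⟩⟩
    have hXi : (X.subgroupOf H).index = 2 := by
      have h1 := (X.subgroupOf H).card_mul_index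
      rw [Nat.card_congr (subgroupOfEquivOfLe hXle).toEquiv, hX4, h8] at h1
      omega
    refine commutative_of_cyclic_center_quotient (QuotientGroup.mk' (X.subgroupOf H)) (fun y hy => ?_) p q
    rw [QuotientGroup.ker_mk'] at hy
    refine mem_center_iff.2 fun g => Subtype.ext ?_
    obtain ⟨i, hi⟩ := mem_zpowers_iff.1 (hxgen ⟨y, mem_subgroupOf.1 hy⟩)
    have hyx : (y : S) = x ^ i := by simpa using (congrArg Subtype.val hi).symm
    show (g : S) * y = y * g
    rw [hyx]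
    refine ((?_ : Commute (g : S) x).zpow_right i).eq
    by_cases hg : g ∈ X.subgroupOf H
    · exact hAab _ (mem_subgroupOf.1 hg).1 _ hx.1
    · have h3 : (⟨h, hh⟩ : H)⁻¹ * g ∈ X.subgroupOf H := (mul_mem_iff_of_index_two hXi).2 (by
        rw [inv_mem_iff]
        exact iff_of_false (fun e' => hhX (mem_subgroupOf.1 e')) hg)
      have h4 : Commute ((h⁻¹ * g : S)) x := hAab _ (mem_subgroupOf.1 h3).1 _ hx.1
      have h5 := (show Commute h x from e).mul_left h4
      rwa [mul_inv_cancel_left] at h5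
  -- `A` has index two
  set π := QuotientGroup.mk' A with hπ
  have hh2 : h * h ∈ A := by
    have hXi : (X.subgroupOf H).index = 2 := by
      have h1 := (X.subgroupOf H).card_mul_index
      rw [Nat.card_congr (subgroupOfEquivOfLe hXle).toEquiv, hX4, h8] at h1
      omega
    exact (mem_subgroupOf.1 ((mul_mem_iff_of_index_two hXi).2 (Iff.rfl : (⟨h, hh⟩ : H) ∈ _ ↔ _))).1
  obtain ⟨j, hj⟩ := mem_zpowers_iff.1 (hb' (π h))
  obtain ⟨b, rfl⟩ := QuotientGroup.mk'_surjective A b'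
  have hdec : ∀ i : ℤ, (b ^ i)⁻¹ * h ∈ A → ∀ y ∈ A, h * y * h⁻¹ = b ^ i * y * (b ^ i)⁻¹ := fun i hi y hy => by
    have hc := hAab _ hi _ hy
    calc h * y * h⁻¹ = b ^ i * ((b ^ i)⁻¹ * h * y) * h⁻¹ := by group
      _ = b ^ i * (y * ((b ^ i)⁻¹ * h)) * h⁻¹ := by rw [hc]
      _ = _ := by group
  have hjh : (b ^ j)⁻¹ * h ∈ A := by
    rw [← QuotientGroup.ker_mk' A, MonoidHom.mem_ker, map_mul, map_inv, map_zpow]
    show (π b ^ j)⁻¹ * π h = 1
    rw [hj, inv_mul_cancel]
  have hxconj : ∀ g : S, g * x * g⁻¹ = x ∨ g * x * g⁻¹ = x ^ (3 : ℕ) := by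
    intro g
    have hm : g * x * g⁻¹ ∈ A := hAn.conj_mem x hx.1 g
    obtain ⟨i, hi⟩ := hA x hx.1
    -- the only cyclic subgroup of order four in `A`
    have hord : orderOf (g * x * g⁻¹) = 4 := by
      rw [← hxo]
      exact (orderOf_injective (MulAut.conj g).toMonoidHom (MulAut.conj g).injective x)
    have hcard : ∀ y ∈ A, orderOf y = 4 → y ∈ zpowers x := by
      intro y hy hyo
      rw [← Cfsg.Lib.SolvStruct.CyclicProduct.eq_of_card_eq_of_isCyclic (A := A) (zpowers_le.2 hy)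
        (zpowers_le.2 hx.1) (by rw [Nat.card_zpowers, Nat.card_zpowers, hyo, hxo])]
      exact mem_zpowers y
    obtain ⟨t, ht⟩ := mem_zpowers_iff.1 (hcard _ hm hord)
    rw [← zpow_mod_orderOf, hxo] at ht
    have h0 : 0 ≤ t % 4 := Int.emod_nonneg t (by norm_num)
    have h4 : t % 4 < 4 := Int.emod_lt_of_pos t (by norm_num)
    push_cast at ht
    interval_cases hv : t % 4
    · rw [← ht, zpow_zero, orderOf_one] at hord; omega
    · exact Or.inl (by rw [← ht, zpow_one])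
    · exfalso
      have h5 : (x ^ (2 : ℤ)) ^ 2 = 1 := by
        rw [← zpow_natCast (x ^ (2 : ℤ)), ← zpow_mul, ← orderOf_dvd_iff_zpow_eq_one, hxo]; rfl
      have := orderOf_dvd_of_pow_eq_one (ht ▸ h5)
      rw [hord] at this
      norm_num at this
    · exact Or.inr (by rw [← ht, ← zpow_natCast]; rfl)
  have hodd : Odd j := by
    rcases Int.even_or_odd j with ⟨i, rfl⟩ | h'
    · exfalso
      refine hhx (mul_inv_eq_iff_eq_mul.1 ?_)
      rw [hdec _ hjh x hx.1]
      have e : b ^ (i + i) * x * (b ^ (i + i))⁻¹ = b ^ i * (b ^ i * x * (b ^ i)⁻¹) * (b ^ i)⁻¹ := by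
        rw [zpow_add]; group
      rw [e]
      rcases hxconj (b ^ i) with h1 | h1
      · rw [h1, h1]
      · rw [h1, ← conj_pow, h1, ← pow_mul, ← pow_mod_orderOf, hxo]
        norm_num
    · exact h'
  have hAi : A.index = 2 := by
    have hb2 : π b ^ (2 * j) = 1 := by
      rw [mul_comm, zpow_mul, zpow_two, hj, ← map_mul]
      exact (QuotientGroup.eq_one_iff _).2 hh2
    have ho : orderOf (π b) ∣ 2 := by
      obtain ⟨e, he⟩ := IsPGroup.iff_orderOf.1 (h2.to_quotient A) (π b)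
      obtain ⟨t, ht⟩ := hodd
      have h1 := orderOf_dvd_iff_zpow_eq_one.2 hb2
      rw [he] at h1 ⊢
      push_cast at h1
      have h3 := (IsCoprime.pow_left (⟨-t, 1, by rw [ht]; ring⟩ : IsCoprime (2 : ℤ) j)).dvd_of_dvd_mul_right h1
      exact_mod_cast h3
    have hcard : Nat.card (S ⧸ A) = orderOf (π b) := (orderOf_eq_card_of_forall_mem_zpowers hb').symm
    rw [index_eq_card, hcard]
    rcases (Nat.dvd_prime Nat.prime_two).1 ho with h1 | h1
    · exfalso
      have : π h = 1 := by rw [← hj, orderOf_eq_one_iff.1 h1, one_zpow]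
      exact hhA ((QuotientGroup.eq_one_iff h).1 this)
    · exact h1
  obtain ⟨n, hn⟩ := IsPGroup.iff_card.1 h2
  have hn3 : 3 ≤ n := by
    have h1 : 2 ^ 3 ≤ 2 ^ n := by
      rw [show (2 : ℕ) ^ 3 = 8 by norm_num, ← hn, ← h8]
      exact card_le_card_group H
    exact (Nat.pow_le_pow_iff_right one_lt_two).1 h1
  obtain ⟨c, d, hcA, hty⟩ := classify n hn3 hn A hAc hAi ⟨h, x, hhx⟩
  rcases hty with T | T | ⟨hn4, T⟩ | ⟨hn4, T⟩
  · obtain ⟨e⟩ := toDihedral T (by omega)
    exact Or.inl ⟨n - 3, ⟨e.trans (by rw [show n - 3 + 2 = n - 1 by omega])⟩⟩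
  · obtain ⟨e⟩ := toQuaternion (m := n - 1) (show TwoGen c d (n - 1) (-1) (2 ^ (n - 1 - 1)) by
      rw [show n - 1 - 1 = n - 2 by omega]; exact T) (by omega)
    exact Or.inr (Or.inr ⟨n - 3, ⟨e.trans (by rw [show n - 1 - 1 = n - 3 + 1 by omega])⟩⟩)
  · -- the modular type centralizes `x`
    exfalso
    refine hhx (mul_inv_eq_iff_eq_mul.1 ?_)
    have hdA : d ∉ A := hcA ▸ T.notMem
    have hdh : d⁻¹ * h ∈ A := (mul_mem_iff_of_index_two hAi).2 (by
      rw [inv_mem_iff]; exact iff_of_false hdA hhA)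
    have hc := hAab _ hdh _ hx.1
    have e1 : h * x * h⁻¹ = d * x * d⁻¹ := by
      calc h * x * h⁻¹ = d * (d⁻¹ * h * x) * h⁻¹ := by group
        _ = d * (x * (d⁻¹ * h)) * h⁻¹ := by rw [hc]
        _ = _ := by group
    obtain ⟨i, hi⟩ := mem_zpowers_iff.1 (hcA.ge hx.1)
    have e2 : x ^ ((2 : ℤ) ^ (n - 2) + 1) = x := by
      rw [zpow_add_one, orderOf_dvd_iff_zpow_eq_one.1 (by rw [hxo]; exact (by
        push_cast
        exact dvd_trans (by norm_num : (4 : ℤ) ∣ 2 ^ 2) (pow_dvd_pow 2 (by omega)))), one_mul]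
    rw [e1]
    calc d * x * d⁻¹ = (d * c * d⁻¹) ^ i := by rw [← hi, conj_zpow]
      _ = x ^ ((2 : ℤ) ^ (n - 2) + 1) := by rw [T.conj, ← hi, ← zpow_mul, ← zpow_mul, mul_comm]
      _ = x := e2
  · refine Or.inr (Or.inl ⟨n - 4, by rw [hn]; congr 1; omega, c, d, ?_, ?_, ?_⟩)
    · rw [T.ord]; congr 1; omega
    · exact orderOf_two_of_mul_self (by rw [T.sq, zpow_zero]) fun e => T.notMem (by rw [e]; exact one_mem _)
    · rw [show n - 4 + 2 = n - 2 by omega, T.conj, ← zpow_natCast, natCast_two_pow_sub_one]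

end Cfsg.Lib.MetaEight
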