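import Cfsg.Agent.PGroups.BlackburnCoprime
import Cfsg.Agent.OddLocal.SmallStructure

/-!
Solvable groups of odd order acting faithfully on narrow `p`-groups.
-/

set_option autoImplicit false
set_option linter.unusedSectionVars false
set_option linter.style.haveILetI false

namespace Cfsg.Lib.PGroups.NarrowAut

open Subgroup
open scoped commutatorElement

universe u

variable {G : Type u} [Group G] [Finite G] {p : ℕ} [hp : Fact p.Prime]

/-- An element of prime order not dividing `p (p - 1)` centralizes every cyclic `p`-group it normalizes. -/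
theorem centralizes_cyclic {C : Subgroup G} [IsCyclic C] (hC : IsPGroup p C) {a : G}
    (ha : a ∈ normalizer (C : Set G)) {q : ℕ} (hq : q.Prime) (hqa : a ^ q = 1) (hnd : ¬ q ∣ p * (p - 1)) :
    a ∈ centralizer (C : Set G) := by
  set φ := C.normalizerMonoidHom ⟨a, ha⟩
  have h1 : orderOf φ ∣ q := (orderOf_map_dvd C.normalizerMonoidHom ⟨a, ha⟩).trans (by
    rw [Subgroup.orderOf_mk]; exact orderOf_dvd_of_pow_eq_one hqa)
  have h2 : orderOf φ ∣ Nat.card (MulAut C) := orderOf_dvd_natCard _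
  obtain ⟨m, hm⟩ := IsPGroup.iff_card.mp hC
  rw [IsCyclic.card_mulAut, hm] at h2
  have h3 : orderOf φ = 1 := by
    rcases (Nat.dvd_prime hq).mp h1 with h | h
    · exact h
    exfalso
    refine hnd ?_
    rw [h] at h2
    rcases Nat.eq_zero_or_pos m with h0 | h0
    · rw [h0, pow_zero, Nat.totient_one] at h2
      exact absurd (Nat.le_of_dvd one_pos h2) (not_le.mpr hq.one_lt)
    rw [Nat.totient_prime_pow hp.out h0] at h2
    rcases hq.dvd_mul.mp h2 with h4 | h4
    · exact (hq.dvd_of_dvd_pow h4).mul_right _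
    · exact h4.mul_left _
  rw [orderOf_eq_one_iff] at h3
  refine mem_centralizer_iff.mpr fun c hc => ?_
  have h4 : (φ ⟨c, hc⟩ : G) = c := by rw [h3]; rfl
  change a * c * a⁻¹ = c at h4
  exact (mul_inv_eq_iff_eq_mul.mp h4).symm

theorem narrow_automorphisms (hp2 : p ≠ 2) (R A : Subgroup G) (hR : IsPGroup p R) (hRn : Cfsg.IsNarrow p R)
    (hA : A ≤ normalizer (R : Set G)) [Group.IsSolvable A] (hodd : Odd (Nat.card A))
    (hfaith : A ⊓ centralizer (R : Set G) = ⊥) :
    (commutator ↥A ≤ Cfsg.pCore p ↥A ∧ ((Cfsg.pCore p ↥A).index).Coprime p) ∧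
      (¬ Cfsg.PRankLE p 2 R → ∀ a ∈ A, (orderOf a).Coprime p → orderOf a ∣ p - 1) ∧
      ((Nat.card A).Prime → ¬ Nat.card A ∣ p * (p - 1) →
        2 * Nat.card A ∣ p + 1 ∧ (⁅R, A⁆ = R → ¬ IsMulCommutative R → Nat.card R = p ^ 3)) := by
  have hs := Cfsg.Lib.OddP.isSmall_of_narrow hR hRn
  have htriv : ∀ x ∈ A, x ∈ centralizer (R : Set G) → x = 1 := fun x hx hc =>
    mem_bot.mp (hfaith.le ⟨hx, hc⟩)
  refine ⟨?_, fun hr a ha hap => ?_, fun hq hnd => ?_⟩
  · have hd : commutator ↥A ≤ Cfsg.pCore p ↥A := by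
      refine Cfsg.Lib.Components.le_pCore (Cfsg.Lib.OddP.isPGroup_of_forall_coprime _ fun x hx hxp => ?_)
      have h1 : (x : G) ∈ ⁅A, A⁆ := by rw [← map_subtype_commutator A]; exact mem_map_of_mem _ hx
      exact Subtype.ext (htriv x x.2 (Cfsg.Lib.OddP.derived_centralizes_small hp2 hR hs hA hodd h1
        (by rwa [Subgroup.orderOf_coe])))
    exact ⟨hd, Cfsg.Lib.OddP.index_pCore_coprime hd⟩
  · exact orderOf_dvd_of_pow_eq_one (htriv _ (pow_mem ha _)
      (Cfsg.Lib.OddP.pow_pred_centralizes hp2 hR hs hr (hA ha) hap))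
  set q := Nat.card A with hq'
  have hqp : q ≠ p := fun h => hnd (by rw [h]; exact dvd_mul_right p _)
  have hcop : q.Coprime p := (Nat.coprime_primes hq hp.out).mpr hqp
  obtain ⟨⟨a, haA⟩, haq⟩ := haveI := Fact.mk hq; exists_prime_orderOf_dvd_card' (G := A) q dvd_rfl
  rw [Subgroup.orderOf_mk] at haq
  have haC : a ∉ centralizer (R : Set G) := fun h => by
    rw [htriv a haA h, orderOf_one] at haq
    exact hq.ne_one haq.symm
  have haq1 : a ^ q = 1 := by rw [← haq, pow_orderOf_eq_one]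
  obtain ⟨h1, h2⟩ := Cfsg.Lib.OddP.prime_acts_small hp2 hR hs (hA haA) (haq ▸ hcop) hq hqp
    (by rw [haq1]; exact one_mem _) haC
  have hnd' : ¬ q ∣ p - 1 := fun h => hnd (h.mul_left p)
  have hr : Cfsg.PRankLE p 2 R := by_contra fun h => hnd' (h2 h)
  have hq1 : q ∣ p + 1 := by
    rw [show p ^ 2 - 1 = (p + 1) * (p - 1) by rw [← Nat.sq_sub_sq, one_pow]] at h1
    exact (hq.dvd_mul.mp h1).resolve_right hnd'
  have hpodd : Odd p := hp.out.odd_of_ne_two hp2
  refine ⟨Nat.Coprime.mul_dvd_of_dvd_of_dvd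
    ((Nat.coprime_primes Nat.prime_two hq).mpr fun h => by rw [← h] at hodd; exact absurd hodd (by decide))
    (even_iff_two_dvd.mp hpodd.add_one) hq1, fun hRA hna => ?_⟩
  have hnc : ¬ A ≤ centralizer (R : Set G) := fun h => haC (h haA)
  have h3 := BlackburnCoprime.three_lt hp2 hR hr hA hcop hodd hnc
  obtain ⟨W, B, hsup⟩ := (BlackburnCoprime.exists_base h3 hR hr hA hcop hodd hRA).resolve_left hna
  haveI := B.characteristic
  haveI : W.Normal := normal_of_characteristic W
  set C := centralizer (W : Set R) with hC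
  haveI : C.Characteristic := hC ▸ inferInstance
  haveI := B.isCyclic_centralizer
  haveI : IsCyclic ↥(C.map R.subtype) := isCyclic_of_surjective
    (C.equivMapOfInjective R.subtype R.subtype_injective).toMonoidHom (MulEquiv.surjective _)
  have hinv : ∀ (S : Subgroup R) [S.Characteristic], ∀ b ∈ A, b ∈ normalizer ((S.map R.subtype : Subgroup G) : Set G) := by
    intro S _ b hb
    have h1 := characteristic_iff_map_eq.mp (inferInstance : S.Characteristic) (R.normalizerMonoidHom ⟨b, hA hb⟩)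
    rw [Subgroup.mem_normalizer_iff_map_conj_eq]
    conv_rhs => rw [← h1]
    rw [Subgroup.map_map, Subgroup.map_map]
    rfl
  have hfix : ∀ b ∈ A, b ∈ centralizer ((C.map R.subtype : Subgroup G) : Set G) := by
    intro b hb
    refine centralizes_cyclic (p := p) ((hR.to_subgroup C).map R.subtype) (hinv C b hb) hq ?_ hnd
    exact congrArg Subtype.val (pow_card_eq_one' (x := (⟨b, hb⟩ : A)))
  have hle : ⁅R, A⁆ ≤ W.map R.subtype := by
    refine commutator_le.mpr fun r hr' b hb => ?_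
    obtain ⟨w, hw, c, hc, hwc⟩ := mem_sup_of_normal_left.mp (hsup.ge (mem_top (⟨r, hr'⟩ : R)))
    have hrwc : r = (w : G) * c := (congrArg Subtype.val hwc).symm
    have hcb : b * c = (c : G) * b := (mem_centralizer_iff.mp (hfix b hb) _ (mem_map_of_mem R.subtype hc)).symm
    have e : ⁅r, b⁆ = w * (b * (w : G)⁻¹ * b⁻¹) := by
      rw [commutatorElement_def, hrwc, mul_inv_rev,
        show (w : G) * c * b * ((c : G)⁻¹ * (w : G)⁻¹) * b⁻¹ = w * (c * b * (c : G)⁻¹) * (w : G)⁻¹ * b⁻¹ by group,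
        ← hcb, mul_inv_cancel_right]
      group
    rw [e]
    refine mul_mem (mem_map_of_mem _ hw) ?_
    have h1 : (w : G)⁻¹ ∈ W.map R.subtype := inv_mem (mem_map_of_mem R.subtype hw)
    exact (Subgroup.mem_normalizer_iff.mp (hinv W b hb) _).mp h1
  rw [hRA] at hle
  rw [le_antisymm hle (map_subtype_le W), Subgroup.card_subtype, B.card_W]

end Cfsg.Lib.PGroups.NarrowAut
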