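import Mathlib
import Cfsg.Agent.SolvStruct.NilpotentHall
import Cfsg.Prelude

/-!
Minimal covers by nilpotent subgroups and abelian Sylow subgroups.
-/

set_option linter.style.haveILetI false

namespace Cfsg.Lib.NilCover

open Subgroup

variable {G : Type*} [Group G] [Finite G]

/-- A minimal cover by proper nilpotent subgroups. -/
structure Cover (𝓐 : Finset (Subgroup G)) : Prop where
  proper : ∀ A ∈ 𝓐, A ≠ ⊤
  covers : ∀ g : G, ∃ A ∈ 𝓐, g ∈ A
  minimal : ∀ 𝓑 : Finset (Subgroup G), (∀ A ∈ 𝓑, A ≠ ⊤) ∧ (∀ g : G, ∃ A ∈ 𝓑, g ∈ A) → 𝓐.card ≤ 𝓑.card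
  nilpotent : ∀ A ∈ 𝓐, Group.IsNilpotent ↥A

variable {𝓐 : Finset (Subgroup G)} {p : ℕ} [hp : Fact p.Prime] (h𝓐 : Cover 𝓐) (hZ : center G = ⊥)
  (P : Sylow p G) (hab : IsMulCommutative ↥(P : Subgroup G))

include h𝓐 in
theorem eq_of_le {A B M : Subgroup G} (hA : A ∈ 𝓐) (hB : B ∈ 𝓐) (hM : M ≠ ⊤) (hAM : A ≤ M) (hBM : B ≤ M) :
    A = B := by
  classical
  by_contra hne
  have h := h𝓐.minimal (insert M ((𝓐.erase A).erase B)) ⟨?_, ?_⟩
  · have h1 := Finset.card_insert_le M ((𝓐.erase A).erase B)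
    have hB' : B ∈ 𝓐.erase A := Finset.mem_erase.2 ⟨Ne.symm hne, hB⟩
    rw [Finset.card_erase_of_mem hB', Finset.card_erase_of_mem hA] at h1
    have : 2 ≤ 𝓐.card := Finset.one_lt_card.2 ⟨A, hA, B, hB, hne⟩
    omega
  · intro C hC
    rcases Finset.mem_insert.1 hC with rfl | hC
    · exact hM
    · exact h𝓐.proper C (Finset.mem_of_mem_erase (Finset.mem_of_mem_erase hC))
  · intro g
    obtain ⟨C, hC, hg⟩ := h𝓐.covers g
    by_cases h1 : C = A
    · exact ⟨M, Finset.mem_insert_self _ _, hAM (h1 ▸ hg)⟩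
    by_cases h2 : C = B
    · exact ⟨M, Finset.mem_insert_self _ _, hBM (h2 ▸ hg)⟩
    exact ⟨C, Finset.mem_insert_of_mem (Finset.mem_erase.2 ⟨h2, Finset.mem_erase.2 ⟨h1, hC⟩⟩), hg⟩

include h𝓐 hab in
/-- A member containing a `p`-element centralises it. -/
theorem le_centralizer {A : Subgroup G} (hA : A ∈ 𝓐) {x : G} (hx : x ∈ A) {k : ℕ} (hk : orderOf x = p ^ k) :
    A ≤ centralizer ({x} : Set G) := by
  haveI := h𝓐.nilpotent A hA
  set C := (centralizer ({x} : Set G)).subgroupOf A with hC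
  have hfull : ∀ q : ℕ, q.Prime → ¬ q ∣ C.index := by
    intro q hq hdvd
    haveI := Fact.mk hq
    obtain ⟨T⟩ : Nonempty (Sylow q A) := inferInstance
    refine T.not_dvd_index (hdvd.trans (index_dvd_of_le fun y hy => ?_))
    refine mem_subgroupOf.2 (mem_centralizer_singleton_iff.2 ?_)
    obtain ⟨j, hj⟩ := IsPGroup.iff_orderOf.1 T.2 ⟨y, hy⟩
    rw [Subgroup.orderOf_mk] at hj
    by_cases hqp : q = p
    · subst hqp
      haveI : Subsingleton (Sylow q A) := by
        have htf := (Group.isNilpotent_of_finite_tfae (G := A)).out 0 3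
        have hTn : (T : Subgroup A).Normal := htf.1 (h𝓐.nilpotent A hA) q ‹_› T
        exact (Sylow.unique_of_normal T hTn).instSubsingleton
      have hxp : IsPGroup q (zpowers (⟨x, hx⟩ : A)) :=
        IsPGroup.of_card (n := k) (by rw [Nat.card_zpowers, Subgroup.orderOf_mk, hk])
      obtain ⟨T', hT'⟩ := hxp.exists_le_sylow
      have hxT : (⟨x, hx⟩ : A) ∈ (T : Subgroup A) := (Subsingleton.elim T' T) ▸ hT' (mem_zpowers _)
      obtain ⟨P₁, hP₁⟩ := (T.2.map A.subtype).exists_le_sylow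
      obtain ⟨g, hg⟩ := MulAction.exists_smul_eq G P P₁
      have h1 : (y : G) ∈ (P₁ : Subgroup G) := hP₁ ⟨y, hy, rfl⟩
      have h2 : x ∈ (P₁ : Subgroup G) := hP₁ ⟨⟨x, hx⟩, hxT, rfl⟩
      rw [← hg, Sylow.smul_def, Sylow.pointwise_smul_def] at h1 h2
      obtain ⟨y', hy', hye⟩ := h1
      obtain ⟨x', hx', hxe⟩ := h2
      have hye' : g * y' * g⁻¹ = (y : G) := hye
      have hxe' : g * x' * g⁻¹ = x := hxe
      rw [← hye', ← hxe']
      exact ((show Commute y' x' from congrArg Subtype.val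
        (hab.is_comm.comm (⟨y', hy'⟩ : (P : Subgroup G)) ⟨x', hx'⟩)).map (MulAut.conj g)).eq
    · have hc : Commute y (⟨x, hx⟩ : A) :=
        (Cfsg.Lib.SolvStruct.commute_of_coprime_of_nilpotent (K := A) (p := q) (q := p) hqp
          ⟨j, hj⟩ ⟨k, by rw [Subgroup.orderOf_mk]; exact hk⟩)
      exact congrArg Subtype.val hc.eq
  have htop : C = ⊤ := index_eq_one.1 (Nat.eq_one_iff_not_exists_prime_dvd.2 hfull)
  exact subgroupOf_eq_top.1 htop

include h𝓐 hZ hab in
/-- A nontrivial `p`-element lies in exactly one member. -/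
theorem member_unique {A B : Subgroup G} (hA : A ∈ 𝓐) (hB : B ∈ 𝓐) {x : G} (hxA : x ∈ A) (hxB : x ∈ B)
    (hx : x ≠ 1) {k : ℕ} (hk : orderOf x = p ^ k) : A = B := by
  refine eq_of_le h𝓐 hA hB (M := centralizer ({x} : Set G)) (fun h => hx ?_)
    (le_centralizer h𝓐 P hab hA hxA hk) (le_centralizer h𝓐 P hab hB hxB hk)
  rw [← mem_bot, ← hZ, mem_center_iff]
  exact fun g => mem_centralizer_singleton_iff.1 (h ▸ mem_top g)

theorem orderOf_mem_pgroup {Q : Subgroup G} (hQ : IsPGroup p Q) {x : G} (hx : x ∈ Q) : ∃ k, orderOf x = p ^ k := by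
  obtain ⟨k, hk⟩ := IsPGroup.iff_orderOf.1 hQ ⟨x, hx⟩
  exact ⟨k, by rwa [Subgroup.orderOf_mk] at hk⟩

include h𝓐 hZ hab in
/-- An abelian Sylow subgroup lies in one member or is elementary of order more than `p`. -/
theorem elementary_or_le (hP1 : (P : Subgroup G) ≠ ⊥) :
    (Cfsg.IsElementaryAbelian p (P : Subgroup G) ∧ p < Nat.card ↥(P : Subgroup G)) ∨
      ∃ A ∈ 𝓐, (P : Subgroup G) ≤ A := by
  by_cases hle : ∃ A ∈ 𝓐, (P : Subgroup G) ≤ A
  · exact Or.inr hle
  left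
  push Not at hle
  have hmem := fun x (hx : x ∈ (P : Subgroup G)) => orderOf_mem_pgroup P.2 hx
  have hexp : ∀ x ∈ (P : Subgroup G), x ^ p = 1 := by
    intro x hx
    by_contra hne
    have hx1 : x ≠ 1 := fun h => hne (by rw [h, one_pow])
    obtain ⟨A, hA, hxA⟩ := h𝓐.covers x
    obtain ⟨y, hy, hyA⟩ := SetLike.not_le_iff_exists.1 (hle A hA)
    -- descend to an element of order `p` outside the member
    have hfind : ∀ k : ℕ, ∀ y ∈ (P : Subgroup G), orderOf y = p ^ k → y ∉ A → ∃ z ∈ (P : Subgroup G), z ∉ A ∧ z ^ p = 1 := by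
      intro k
      induction k with
      | zero =>
        intro y _ hy hyA
        rw [pow_zero, orderOf_eq_one_iff] at hy
        exact absurd (hy ▸ one_mem A) hyA
      | succ k ih =>
        intro y hy hyo hyA
        by_cases h1 : y ^ p = 1
        · exact ⟨y, hy, hyA, h1⟩
        have hyp : y ^ p ∈ (P : Subgroup G) := pow_mem hy p
        refine ih (y ^ p) hyp ?_ ?_
        · rw [orderOf_pow, hyo, Nat.gcd_eq_right (dvd_pow_self p (Nat.succ_ne_zero k)), pow_succ, Nat.mul_div_cancel _ hp.out.pos]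
        · intro hmA
          obtain ⟨B, hB, hyB⟩ := h𝓐.covers y
          obtain ⟨j, hj⟩ := hmem _ hyp
          exact hyA (member_unique h𝓐 hZ P hab hA hB hmA (pow_mem hyB p) h1 hj ▸ hyB)
    obtain ⟨k, hk⟩ := hmem y hy
    obtain ⟨z, hz, hzA, hzp⟩ := hfind k y hy hk hyA
    obtain ⟨B, hB, hB'⟩ := h𝓐.covers (x * z)
    have hc : Commute x z := congrArg Subtype.val (hab.is_comm.comm (⟨x, hx⟩ : (P : Subgroup G)) ⟨z, hz⟩)
    have hxp : x ^ p ∈ B := by
      have := pow_mem hB' p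
      rwa [hc.mul_pow, hzp, mul_one] at this
    obtain ⟨j, hj⟩ := hmem _ (pow_mem hx p)
    have hAB := member_unique h𝓐 hZ P hab hA hB (pow_mem hxA p) hxp hne hj
    refine hzA ?_
    have := mul_mem (inv_mem hxA) (hAB ▸ hB')
    rwa [inv_mul_cancel_left] at this
  refine ⟨⟨hab, hexp⟩, ?_⟩
  by_contra hcard
  push Not at hcard
  haveI := (nontrivial_iff_ne_bot (P : Subgroup G)).2 hP1
  obtain ⟨⟨x, hx⟩, hx1⟩ := exists_ne (1 : (P : Subgroup G))
  obtain ⟨A, hA, hxA⟩ := h𝓐.covers x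
  refine hle A hA ?_
  have hord : orderOf x = p := orderOf_eq_prime (hexp x hx) fun h => hx1 (Subtype.ext h)
  have : zpowers x = (P : Subgroup G) :=
    Subgroup.eq_of_le_of_card_ge (zpowers_le.2 hx) (by rw [Nat.card_zpowers, hord]; exact hcard)
  exact this ▸ zpowers_le.2 hxA

include h𝓐 hab in
theorem le_centralizer_sylow {A : Subgroup G} (hA : A ∈ 𝓐) (Q : Sylow p G) (hQA : (Q : Subgroup G) ≤ A) :
    A ≤ centralizer ((Q : Subgroup G) : Set G) := fun a ha => mem_centralizer_iff.2 fun x hx => by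
  obtain ⟨k, hk⟩ := orderOf_mem_pgroup Q.2 hx
  exact (mem_centralizer_singleton_iff.1 (le_centralizer h𝓐 P hab hA (hQA hx) hk ha)).symm

include h𝓐 hZ hab in
/-- The member containing a Sylow subgroup is its centraliser. -/
theorem centralizer_eq {A : Subgroup G} (hA : A ∈ 𝓐) (Q : Sylow p G) (hQA : (Q : Subgroup G) ≤ A)
    (hQ1 : (Q : Subgroup G) ≠ ⊥) : centralizer ((Q : Subgroup G) : Set G) = A := by
  refine le_antisymm (fun c hc => ?_) (le_centralizer_sylow h𝓐 P hab hA Q hQA)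
  obtain ⟨e, m, hm, hem⟩ := Nat.exists_eq_pow_mul_and_not_dvd (orderOf_pos c).ne' p hp.out.ne_one
  have hcp : c ^ m ∈ (Q : Subgroup G) := by
    have h1 : IsPGroup p ↥((Q : Subgroup G) ⊔ zpowers (c ^ m)) :=
      Q.2.to_sup_of_normal_left' (IsPGroup.of_card (n := e) (by
        rw [Nat.card_zpowers, orderOf_pow, hem, Nat.gcd_eq_right (dvd_mul_left m _),
          Nat.mul_div_cancel _ (Nat.pos_of_ne_zero fun h => hm (by rw [h]; exact dvd_zero p))]))
        (zpowers_le.2 (centralizer_le_normalizer _ (pow_mem hc m)))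
    exact (Q.3 h1 le_sup_left) ▸ mem_sup_right (mem_zpowers _)
  have hcq : c ^ p ^ e ∈ A := by
    haveI := (nontrivial_iff_ne_bot (Q : Subgroup G)).2 hQ1
    obtain ⟨⟨x, hx⟩, hx1⟩ := exists_ne (1 : (Q : Subgroup G))
    obtain ⟨j, hj⟩ := orderOf_mem_pgroup Q.2 hx
    obtain ⟨B, hB, hB'⟩ := h𝓐.covers (x * c ^ p ^ e)
    have hcomm : Commute x (c ^ p ^ e) := (show Commute x c from mem_centralizer_iff.1 hc x hx).pow_right _
    have hm0 : (c ^ p ^ e) ^ m = 1 := by rw [← pow_mul, ← hem, pow_orderOf_eq_one]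
    have hxB : x ∈ B := by
      have h1 : x ^ m ∈ B := by
        have := pow_mem hB' m
        rwa [hcomm.mul_pow, hm0, mul_one] at this
      obtain ⟨t, ht⟩ := exists_pow_eq_self_of_coprime (x := x) (n := m)
        (hj ▸ ((hp.out.coprime_iff_not_dvd.2 hm).pow_left j).symm)
      exact ht ▸ pow_mem h1 t
    have hBA := member_unique h𝓐 hZ P hab hB hA hxB (hQA hx) (fun h => hx1 (Subtype.ext h)) hj
    have := mul_mem (inv_mem (hQA hx)) (hBA ▸ hB')
    rwa [inv_mul_cancel_left] at this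
  obtain ⟨s, t, hst⟩ := Nat.isCoprime_iff_coprime.2 ((hp.out.coprime_iff_not_dvd.2 hm).pow_left e)
  have : c = (c ^ p ^ e) ^ s * (c ^ m) ^ t := by
    rw [← zpow_natCast c (p ^ e), ← zpow_natCast c m, ← zpow_mul, ← zpow_mul, ← zpow_add, mul_comm, mul_comm (m : ℤ) t,
      hst, zpow_one]
  rw [this]
  exact mul_mem (zpow_mem hcq _) (zpow_mem (hQA hcp) _)

theorem sylow_eq_of_le_normalizer (Q : Sylow p G) (h : (Q : Subgroup G) ≤ normalizer ((P : Subgroup G) : Set G)) :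
    (Q : Subgroup G) = (P : Subgroup G) := by
  have h1 := P.3 (P.2.to_sup_of_normal_left' Q.2 h) le_sup_left
  exact (Q.3 P.2 (h1 ▸ le_sup_right)).symm

omit hp [Finite G] in
theorem smul_eq_iff_mem {g : G} :
    ((MulAut.conj g • P : Sylow p G) : Subgroup G) = (P : Subgroup G) ↔ g ∈ normalizer ((P : Subgroup G) : Set G) := by
  rw [Sylow.pointwise_smul_def, mem_normalizer_iff_map_conj_eq]
  exact Iff.rfl

include h𝓐 hZ hab in
theorem structure_of_not_elementary (hnn : ¬ (P : Subgroup G).Normal)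
    (hne : ¬ (Cfsg.IsElementaryAbelian p (P : Subgroup G) ∧ p < Nat.card ↥(P : Subgroup G))) :
    ∃ A ∈ 𝓐, (P : Subgroup G) ≤ A ∧ centralizer ((P : Subgroup G) : Set G) = A ∧
      IsCoatom (normalizer ((P : Subgroup G) : Set G)) ∧
      (∀ g : G, g ∉ normalizer ((P : Subgroup G) : Set G) →
        ¬ p ∣ Nat.card ↥(normalizer ((P : Subgroup G) : Set G) ⊓
          (normalizer ((P : Subgroup G) : Set G)).map (MulAut.conj g).toMonoidHom)) ∧
      ∀ M : Subgroup G, IsCoatom M → centralizer ((P : Subgroup G) : Set G) ≤ M →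
        M = normalizer ((P : Subgroup G) : Set G) := by
  have hP1 : (P : Subgroup G) ≠ ⊥ := fun h => hnn (h ▸ inferInstance)
  -- every Sylow subgroup lies in one member
  have hall : ∀ Q : Sylow p G, (Q : Subgroup G) ≠ ⊥ ∧ ∃ A ∈ 𝓐, (Q : Subgroup G) ≤ A := by
    intro Q
    have e : (P : Subgroup G) ≃* (Q : Subgroup G) := P.equiv Q
    have hQab : IsMulCommutative (Q : Subgroup G) :=
      ⟨⟨fun a b => e.symm.injective (by rw [map_mul, map_mul]; exact hab.is_comm.comm _ _)⟩⟩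
    have hcard : Nat.card (Q : Subgroup G) = Nat.card (P : Subgroup G) := (Nat.card_congr e.toEquiv).symm
    have hQ1 : (Q : Subgroup G) ≠ ⊥ := fun h => hP1 (card_eq_one.1 (by rw [← hcard, h, card_bot]))
    refine ⟨hQ1, (elementary_or_le h𝓐 hZ Q hQab hQ1).resolve_left fun h => hne ⟨⟨hab, fun x hx => ?_⟩, hcard ▸ h.2⟩⟩
    have h1 : (e ⟨x, hx⟩) ^ p = 1 := Subtype.ext (h.1.2 _ (e ⟨x, hx⟩).2)
    rw [← map_pow, e.map_eq_one_iff] at h1
    exact congrArg Subtype.val h1
  obtain ⟨-, A, hA, hPA⟩ := hall P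
  have hCA := centralizer_eq h𝓐 hZ P hab hA P hPA hP1
  set N := normalizer ((P : Subgroup G) : Set G) with hNdef
  have hCN : centralizer ((P : Subgroup G) : Set G) ≤ N := centralizer_le_normalizer _
  have hPN : (P : Subgroup G) ≤ N := le_normalizer
  -- a conjugate inside the same member is `P`
  have hsame : ∀ g : G, ((MulAut.conj g • P : Sylow p G) : Subgroup G) ≤ A → g ∈ N := fun g h =>
    (smul_eq_iff_mem P).1 (sylow_eq_of_le_normalizer P _ (h.trans (hCA.ge.trans hCN)))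
  have hproper : ∀ M : Subgroup G, M ≠ ⊤ → centralizer ((P : Subgroup G) : Set G) ≤ M → M ≤ N := by
    intro M hM hCM g hg
    obtain ⟨hQ1, B, hB, hQB⟩ := hall (MulAut.conj g • P)
    have hAM : A ≤ M := hCA.ge.trans hCM
    have hPg : ∀ y ∈ (P : Subgroup G), g * y * g⁻¹ ∈ ((MulAut.conj g • P : Sylow p G) : Subgroup G) := fun y hy => by
      rw [Sylow.pointwise_smul_def]; exact ⟨y, hy, rfl⟩
    have hBM : B ≤ M := by
      rw [← centralizer_eq h𝓐 hZ P hab hB _ hQB hQ1]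
      intro c hc
      have hc' : g⁻¹ * c * g ∈ centralizer ((P : Subgroup G) : Set G) := by
        refine mem_centralizer_iff.2 fun y hy => ?_
        have := mem_centralizer_iff.1 hc _ (hPg y hy)
        calc y * (g⁻¹ * c * g) = g⁻¹ * ((g * y * g⁻¹) * c) * g := by group
          _ = g⁻¹ * (c * (g * y * g⁻¹)) * g := by rw [this]
          _ = _ := by group
      simpa [mul_assoc] using mul_mem (mul_mem hg (hCM hc')) (inv_mem hg)
    exact hsame g ((eq_of_le h𝓐 hA hB hM hAM hBM).symm ▸ hQB)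
  have hNtop : N ≠ ⊤ := fun h => hnn (normalizer_eq_top_iff.1 h)
  have hco : IsCoatom N :=
    ⟨hNtop, fun M hM => by_contra fun hMt => hM.not_ge (hproper M hMt (hCN.trans hM.le))⟩
  refine ⟨A, hA, hPA, hCA, hco, fun g hg hdvd => hg ?_, fun M hM hCM =>
    le_antisymm (hproper M hM.1 hCM) (by
      by_contra h
      exact hNtop (hM.2 N (lt_of_le_not_ge (hproper M hM.1 hCM) h)))⟩
  obtain ⟨⟨z, hzN, hzg⟩, hz⟩ := exists_prime_orderOf_dvd_card' p hdvd
  rw [← Subgroup.orderOf_coe] at hz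
  change orderOf z = p at hz
  obtain ⟨hQ1, B, hB, hQB⟩ := hall (MulAut.conj g • P)
  have hmemP : ∀ w ∈ N, orderOf w = p → w ∈ (P : Subgroup G) := by
    intro w hw ho
    have h1 : IsPGroup p ↥((P : Subgroup G) ⊔ zpowers w) :=
      P.2.to_sup_of_normal_left' (IsPGroup.of_card (n := 1) (by rw [Nat.card_zpowers, ho, pow_one])) (zpowers_le.2 hw)
    exact (P.3 h1 le_sup_left) ▸ mem_sup_right (mem_zpowers w)
  obtain ⟨w, hw, hwz⟩ := hzg
  have hwp : w ∈ (P : Subgroup G) := hmemP w hw (by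
    rw [← hz, ← hwz]
    exact (orderOf_injective (MulAut.conj g).toMonoidHom (MulAut.conj g).injective w).symm)
  have hzQ : z ∈ ((MulAut.conj g • P : Sylow p G) : Subgroup G) := by
    rw [Sylow.pointwise_smul_def]; exact ⟨w, hwp, hwz⟩
  have hz1 : z ≠ 1 := fun h => by rw [h, orderOf_one] at hz; exact hp.out.ne_one hz.symm
  exact hsame g ((member_unique h𝓐 hZ P hab hA hB (hPA (hmemP z hzN hz)) (hQB hzQ) hz1
    (hz.trans (pow_one p).symm)).symm ▸ hQB)

end Cfsg.Lib.NilCover
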