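import Cfsg.Agent.PGroups.NoScnThreeLayer

/-!
Reduction to a group of class two with elementary centre.
-/

set_option autoImplicit false
set_option linter.style.haveILetI false
set_option linter.unusedSectionVars false
set_option linter.unusedVariables false

namespace Cfsg.Lib.NoScnThree

open Subgroup
open scoped commutatorElement

variable {X : Type*} [Group X] [Finite X] {A : Subgroup (MulAut X)} {D : Subgroup X}

theorem exists_maxAb (A : Subgroup (MulAut X)) : ∃ D : Subgroup X, MaxAb A D := by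
  obtain ⟨D, ⟨hn, hi, hc⟩, hmax⟩ := (Set.toFinite {B : Subgroup X | B.Normal ∧ Inv A B ∧
      ∀ a ∈ B, ∀ b ∈ B, a * b = b * a}).exists_maximal ⟨⊥, inferInstance,
    fun φ _ x hx => by rw [mem_bot] at hx ⊢; rw [hx, map_one],
    fun a ha b hb => by rw [mem_bot.1 ha, mem_bot.1 hb]⟩
  exact ⟨D, hn, hi, hc, fun B h1 h2 h3 h4 => hmax ⟨h1, h2, h3⟩ h4⟩

/-- No involution lies outside a central four group and commutes modulo it. -/
theorem Hyp.mem_four (h : Hyp A) {V : Subgroup X} (hV : V ≤ center X) (h2 : ∀ a ∈ V, a ^ 2 = 1)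
    (hcard : Nat.card V = 4) {t : X} (ht : t ^ 2 = 1) (hx : ∀ x : X, ⁅x, t⁆ ∈ V) : t ∈ V := by
  by_contra htV
  haveI : V.Normal := ⟨fun a ha g => by rwa [mem_center_iff.1 (hV ha) g, mul_inv_cancel_right]⟩
  exact h.no_four_ext (fun a ha b _ => (mem_center_iff.1 (hV ha) b).symm) h2 hcard ht htV
    (fun v hv => mem_center_iff.1 (hV hv) t) hx

/-- A moved self-centralising `D` of exponent at least eight is impossible. -/
theorem MaxAb.exponent_four (h : Hyp A) (hD : MaxAb A D) (hm : Moves A D) (hC : centralizer (D : Set X) ≤ D)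
    (hne : D ≠ ⊤) : ∀ d ∈ D, d ^ 4 = 1 := by
  classical
  haveI := hD.nor
  by_contra hexp
  push Not at hexp
  obtain ⟨d0, hd0, hd04⟩ := hexp
  have hd02 : d0 ^ 2 ≠ 1 := fun e => hd04 (by rw [show (4 : ℕ) = 2 * 2 from rfl, pow_mul, e, one_pow])
  set V := om D hD.comm with hV
  have hVS := hD.om_le_sq h hm hd0 hd02
  obtain ⟨θ, hθ, hV4, hfree, -, -, -, -⟩ := hD.rotation h hm
  have hi := hD.om_inv
  -- every element of `V` is a fourth power
  let F : Subgroup X :=
    { carrier := {x | ∃ d ∈ D, d ^ 4 = x}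
      one_mem' := ⟨1, one_mem _, one_pow 4⟩
      mul_mem' := fun {a b} ha hb => by
        obtain ⟨d, hd, rfl⟩ := ha
        obtain ⟨e, he, rfl⟩ := hb
        exact ⟨d * e, mul_mem hd he, (show Commute d e from hD.comm d hd e he).mul_pow 4⟩
      inv_mem' := fun {a} ha => by
        obtain ⟨d, hd, rfl⟩ := ha
        exact ⟨d⁻¹, inv_mem hd, inv_pow d 4⟩ }
  obtain ⟨j, hj⟩ := (IsPGroup.iff_orderOf (p := 2)).1 h.hX d0
  have hj3 : 3 ≤ j := by
    by_contra hlt
    apply hd04
    rw [← orderOf_dvd_iff_pow_eq_one, hj, show (4 : ℕ) = 2 ^ 2 from rfl]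
    exact Nat.pow_dvd_pow 2 (by omega)
  have hFV : V ≤ F := by
    refine hD.om_le h hm (W := F) ?_ (w := d0 ^ 2 ^ (j - 1)) ⟨pow_mem hd0 _, ?_⟩
      ⟨d0 ^ 2 ^ (j - 3), pow_mem hd0 _, ?_⟩ fun e => ?_
    · rintro φ hφ x ⟨d, hd, rfl⟩
      exact ⟨φ d, hD.inv φ hφ d hd, (map_pow φ d 4).symm⟩
    · rw [← pow_mul, ← pow_succ, show j - 1 + 1 = j by omega, ← hj, pow_orderOf_eq_one]
    · rw [← pow_mul, show (4 : ℕ) = 2 ^ 2 from rfl, ← pow_add, show j - 3 + 2 = j - 1 by omega]
    · have := orderOf_dvd_of_pow_eq_one e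
      rw [hj, Nat.pow_dvd_pow_iff_le_right (by norm_num)] at this
      omega
  -- the first layer
  have hL1 : Layer hD (⊤ : Subgroup X) 1 := by
    refine ⟨fun x _ d hd h2 => commutatorElement_eq_one_iff_mul_comm.2 (hD.om_commute h ⟨hd, by simpa using h2⟩ x),
      fun x _ d hd h4 => ?_, fun v hv => ?_⟩
    · have hc : ⁅x, d⁆ ∈ D := by
        rw [commutatorElement_def]
        exact mul_mem (hD.nor.conj_mem d hd x) (inv_mem hd)
      refine ⟨hc, ?_⟩
      rw [← Cfsg.Lib.PGroups.commutator_pow_right_of_commute (hD.comm _ hc d hd) 2,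
        commutatorElement_eq_one_iff_mul_comm]
      exact hD.om_commute h ⟨pow_mem hd 2, by rw [← pow_mul]; simpa using h4⟩ x
    · obtain ⟨d, hd, rfl⟩ := hVS hv
      exact ⟨d, hd, by rw [pow_one]⟩
  -- elements of the preimage centralise the elements of order four
  have hR : ∀ t ∈ tsub D, ∀ d ∈ D, d ^ 4 = 1 → ⁅t, d⁆ = 1 := by
    intro t ht d hd hd4
    have hdV : d ^ 2 ∈ V := ⟨pow_mem hd 2, by rw [← pow_mul]; exact hd4⟩
    by_contra hne'
    have hval : val D 1 t (d ^ 2) ≠ 1 := by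
      rw [show d ^ 2 = d ^ 2 ^ 1 from rfl, hL1.val_eq (mem_top t) hd]; exact hne'
    have hinj : ∀ a ∈ V, val D 1 t a = 1 → a = 1 := fun a ha ha' => by
      by_contra ha1
      exact hval (hL1.injective h hm ha ha1 ha' hdV)
    -- squaring: the pairing is idempotent
    have hidem : ∀ v ∈ V, val D 1 t (val D 1 t v) = val D 1 t v := by
      intro v hv
      obtain ⟨f, hf, rfl⟩ := hFV hv
      set δ := ⁅t, f⁆ with hδ
      have hδD : δ ∈ D := by
        rw [hδ, commutatorElement_def]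
        exact mul_mem (hD.nor.conj_mem f hf t) (inv_mem hf)
      have hδ2 : δ ^ 2 = ⁅t, f ^ 2⁆ :=
        (Cfsg.Lib.PGroups.commutator_pow_right_of_commute (hD.comm _ hδD f hf) 2).symm
      have hu : val D 1 t (f ^ 4) = δ ^ 2 := by
        rw [show f ^ 4 = (f ^ 2) ^ 2 ^ 1 by rw [← pow_mul]; rfl, hL1.val_eq (mem_top t) (pow_mem hf 2), hδ2]
      have hδV : δ ^ 2 ∈ V := hu ▸ hL1.val_mem (mem_top t) hv
      have hinv : t * δ * t⁻¹ = δ⁻¹ := by
        have hsq := hD.comm _ (mem_tsub.1 ht).2 f hf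
        have e : t * δ * t⁻¹ * δ = 1 := by
          rw [hδ, commutatorElement_def]
          calc t * (t * f * t⁻¹ * f⁻¹) * t⁻¹ * (t * f * t⁻¹ * f⁻¹)
              = t ^ 2 * f * (t ^ 2)⁻¹ * f⁻¹ := by simp only [pow_two]; group
            _ = f * t ^ 2 * (t ^ 2)⁻¹ * f⁻¹ := by rw [hsq]
            _ = 1 := by group
        exact eq_inv_of_mul_eq_one_left e
      have hv2 : val D 1 t (δ ^ 2) = δ ^ 2 := by
        rw [show δ ^ 2 = δ ^ 2 ^ 1 from rfl, hL1.val_eq (mem_top t) hδD, commutatorElement_def, hinv,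
          show δ ^ 2 ^ 1 = δ ^ 2 from rfl]
        rw [← inv_eq_of_mul_eq_one_right (show δ ^ 2 * δ ^ 2 = 1 by rw [← pow_two]; exact hδV.2)]
        group
      rw [hu, hv2]
    have hid : ∀ v ∈ V, val D 1 t v = v := by
      intro v hv
      let g : V → V := fun w => ⟨val D 1 t w, hL1.val_mem (mem_top t) w.2⟩
      have hg : Function.Injective g := by
        intro a b hab
        have e : val D 1 t ((a : X) * b) = 1 := by
          rw [hL1.val_mul_right h (mem_top t) a.2 b.2, show val D 1 t a = val D 1 t b from congrArg Subtype.val hab,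
            ← pow_two]
          exact (hL1.val_mem (mem_top t) b.2).2
        have := hinj _ (mul_mem a.2 b.2) e
        refine Subtype.ext (mul_right_cancel (b := (b : X)) ?_)
        rw [this, ← pow_two]
        exact b.2.2.symm
      obtain ⟨w, hw⟩ := (Finite.injective_iff_surjective.1 hg) ⟨v, hv⟩
      have hw' : val D 1 t w = v := congrArg Subtype.val hw
      rw [← hw', hidem w w.2]
    have hfix : ∀ φ ∈ A, val D 1 (φ t) (d ^ 2) = val D 1 t (d ^ 2) := by
      intro φ hφ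
      have hw : φ⁻¹ (d ^ 2) ∈ V := hi _ (inv_mem hφ) _ hdV
      rw [hid _ hdV]
      conv_lhs => rw [show d ^ 2 = φ (φ⁻¹ (d ^ 2)) from (MulAut.apply_inv_self _ _ _).symm]
      rw [hL1.val_map (fun ψ _ z _ => mem_top _) hφ (mem_top t) hw, hid _ hw, MulAut.apply_inv_self]
    exact hval (hL1.fixed_trivial h hfix hdV)
  -- hence the squares
  have hsq : ∀ t ∈ tsub D, ∀ d ∈ D, ⁅t, d⁆ ^ 2 = 1 := by
    intro t ht
    have hcD : ∀ d ∈ D, ⁅t, d⁆ ∈ D := fun d hd => by
      rw [commutatorElement_def]; exact mul_mem (hD.nor.conj_mem d hd t) (inv_mem hd)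
    suffices ∀ i : ℕ, ∀ d ∈ D, d ^ 2 ^ i = 1 → ⁅t, d⁆ ^ 2 = 1 by
      intro d hd
      obtain ⟨i, hi'⟩ := h.hX d
      exact this i d hd hi'
    intro i
    induction i with
    | zero => intro d _ e; rw [pow_zero, pow_one] at e; rw [e, commutatorElement_one_right, one_pow]
    | succ i ih =>
      intro d hd e
      set δ := ⁅t, d⁆ with hδ
      have h2 : δ ^ 2 = ⁅t, d ^ 2⁆ :=
        (Cfsg.Lib.PGroups.commutator_pow_right_of_commute (hD.comm _ (hcD d hd) d hd) 2).symm
      have h4 : δ ^ 4 = 1 := by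
        rw [show (4 : ℕ) = 2 * 2 from rfl, pow_mul, h2]
        exact ih _ (pow_mem hd 2) (by rw [← pow_mul, ← pow_succ']; exact e)
      have hc : t * δ * t⁻¹ = δ := by
        have := hR t ht δ (hcD d hd) h4
        rwa [commutatorElement_def, mul_inv_eq_one] at this
      have e1 : t * δ * t⁻¹ * δ = 1 := by
        rw [hδ, commutatorElement_def]
        calc t * (t * d * t⁻¹ * d⁻¹) * t⁻¹ * (t * d * t⁻¹ * d⁻¹)
            = t ^ 2 * d * (t ^ 2)⁻¹ * d⁻¹ := by simp only [pow_two]; group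
          _ = d * t ^ 2 * (t ^ 2)⁻¹ * d⁻¹ := by rw [hD.comm _ (mem_tsub.1 ht).2 d hd]
          _ = 1 := by group
      rwa [hc, ← pow_two] at e1
  have hcom2 : ∀ t ∈ tsub D, ∀ d ∈ D, ⁅t, d ^ 2⁆ = 1 := by
    intro t ht d hd
    have hc : ⁅t, d⁆ ∈ D := by
      rw [commutatorElement_def]; exact mul_mem (hD.nor.conj_mem d hd t) (inv_mem hd)
    rw [Cfsg.Lib.PGroups.commutator_pow_right_of_commute (hD.comm _ hc d hd) 2, hsq t ht d hd]
  -- the top layer
  obtain ⟨m, hm1, hm2⟩ : ∃ k, (∀ d ∈ D, d ^ 2 ^ (k + 1) = 1) ∧ ∃ d ∈ D, d ^ 2 ^ k ≠ 1 := by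
    have hex : ∃ n, ∀ d ∈ D, d ^ 2 ^ n = 1 := by
      obtain ⟨n, hn⟩ := IsPGroup.iff_card.1 (h.hX.to_subgroup D)
      refine ⟨n, fun d hd => ?_⟩
      have := pow_card_eq_one' (x := (⟨d, hd⟩ : D))
      rw [hn] at this
      exact congrArg Subtype.val this
    have hs := Nat.find_spec hex
    rcases hf : Nat.find hex with _ | k
    · rw [hf] at hs
      exact absurd (hs d0 hd0) (by rw [pow_zero, pow_one]; exact fun e => hd02 (by rw [e, one_pow]))
    · rw [hf] at hs
      refine ⟨k, hs, ?_⟩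
      have := Nat.find_min hex (m := k) (by omega)
      push Not at this
      exact this
  have hk2 : 2 ≤ m := by
    by_contra hlt
    refine hd04 ?_
    obtain ⟨r, hr⟩ : 2 ^ (m + 1) ∣ 4 := by
      rw [show (4 : ℕ) = 2 ^ 2 from rfl]; exact Nat.pow_dvd_pow 2 (by omega)
    rw [hr, pow_mul, hm1 d0 hd0, one_pow]
  -- powers `2 ^ m` fill `V` and kill exactly the squares
  let P : D →* X := MonoidHom.mk' (fun d => (d : X) ^ 2 ^ m) fun a b =>
    (show Commute (a : X) b from hD.comm a a.2 b b.2).mul_pow _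
  have hPV : P.range ≤ V := by
    rintro x ⟨d, rfl⟩
    exact ⟨pow_mem d.2 _, by show ((d : X) ^ 2 ^ m) ^ 2 = 1; rw [← pow_mul, ← pow_succ]; exact hm1 d d.2⟩
  have hVP : V ≤ P.range := by
    obtain ⟨d, hd, hd1⟩ := hm2
    refine hD.om_le h hm (W := P.range) ?_ (hPV ⟨⟨d, hd⟩, rfl⟩) ⟨⟨d, hd⟩, rfl⟩ hd1
    rintro φ hφ x ⟨e, rfl⟩
    exact ⟨⟨φ e, hD.inv φ hφ e e.2⟩, (map_pow φ _ _).symm⟩
  have hker : ∀ d ∈ D, d ^ 2 ^ m = 1 → d ∈ sq D hD.comm := by
    have hsqD : sq D hD.comm ≤ D := by rintro x ⟨d, hd, rfl⟩; exact pow_mem hd 2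
    have hle : (sq D hD.comm).subgroupOf D ≤ P.ker := by
      intro x hx
      obtain ⟨d, hd, hdx⟩ := mem_subgroupOf.1 hx
      show (x : X) ^ 2 ^ m = 1
      rw [← hdx, ← pow_mul, ← pow_succ']
      exact hm1 d hd
    have h1 := P.ker.card_eq_card_quotient_mul_card_subgroup
    rw [Nat.card_congr (QuotientGroup.quotientKerEquivRange P).toEquiv, le_antisymm hPV hVP, hV4,
      hD.card_sq, hV4] at h1
    have heq : (sq D hD.comm).subgroupOf D = P.ker := eq_of_le_of_card_ge hle (by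
      rw [Nat.card_congr (subgroupOfEquivOfLe hsqD).toEquiv]; omega)
    intro d hd he
    have : (⟨d, hd⟩ : D) ∈ P.ker := he
    rw [← heq] at this
    exact this
  have hLm : Layer hD (tsub D) m := by
    refine ⟨fun t ht d hd e => ?_, fun t ht d hd _ => ?_, fun v hv => ?_⟩
    · obtain ⟨f, hf, rfl⟩ := hker d hd e
      exact hcom2 t ht f hf
    · exact ⟨by rw [commutatorElement_def]; exact mul_mem (hD.nor.conj_mem d hd t) (inv_mem hd), hsq t ht d hd⟩
    · obtain ⟨d, rfl⟩ := hVP hv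
      exact ⟨d, d.2, rfl⟩
  -- an element with injective pairing
  have hDle : D ≤ (⊤ : Subgroup X) := le_top
  obtain ⟨t, -, htT, htD⟩ := exists_tsub h hDle (fun hle => hne (top_le_iff.1 hle))
  obtain ⟨e, he, hte⟩ : ∃ e ∈ D, ⁅t, e⁆ ≠ 1 := by
    by_contra hall
    push Not at hall
    exact htD (hC (mem_centralizer_iff.2 fun e he => (commutatorElement_eq_one_iff_mul_comm.1 (hall e he)).symm))
  have hPe : e ^ 2 ^ m ∈ V := hPV ⟨⟨e, he⟩, rfl⟩
  have hte' : val D m t (e ^ 2 ^ m) ≠ 1 := by rw [hLm.val_eq htT he]; exact hte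
  obtain ⟨y, hyT, hinj⟩ : ∃ y ∈ tsub D, ∀ v ∈ V, val D m y v = 1 → v = 1 := by
    by_cases hti : ∀ v ∈ V, val D m t v = 1 → v = 1
    · exact ⟨t, htT, hti⟩
    push Not at hti
    obtain ⟨a, ha, ha', ha1⟩ := hti
    obtain ⟨y, hy, -, hy'⟩ := hLm.pick h hm (tsub_inv hD.inv) htT ha ha1 ha' hPe hte'
    exact ⟨y, hy, hy'⟩
  have hinjD : ∀ d ∈ D, ⁅y, d⁆ = 1 → d ∈ sq D hD.comm := fun d hd hd' =>
    hker d hd (hinj _ (hPV ⟨⟨d, hd⟩, rfl⟩) (by rw [hLm.val_eq hyT hd]; exact hd'))
  have hyD : y ∉ D := fun hy => by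
    have hall : ∀ v ∈ V, v = 1 := fun v hv => by
      obtain ⟨d, hd, rfl⟩ := hLm.root v hv
      exact hinj _ hv (by rw [hLm.val_eq hyT hd, commutatorElement_eq_one_iff_mul_comm]; exact hD.comm y hy d hd)
    have hbot : V = ⊥ := (eq_bot_iff_forall _).2 hall
    rw [show om D hD.comm = ⊥ from hbot, Subgroup.card_bot] at hV4
    omega
  have hy2 : y ^ 2 ∈ sq D hD.comm := hinjD _ (mem_tsub.1 hyT).2
    (commutatorElement_eq_one_iff_mul_comm.2 ((Commute.refl y).pow_right 2))
  -- solve for an involution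
  have hcy : ∀ d ∈ D, ⁅y, d⁆ ∈ D := fun d hd => by
    rw [commutatorElement_def]; exact mul_mem (hD.nor.conj_mem d hd y) (inv_mem hd)
  let g : D →* X := MonoidHom.mk' (fun d => (d : X) ^ 2 * ⁅y, (d : X)⁆) fun a b => by
    have e1 : ((a : X) * b) ^ 2 = (a : X) ^ 2 * (b : X) ^ 2 :=
      (show Commute (a : X) b from hD.comm a a.2 b b.2).mul_pow 2
    have e2 : ⁅y, (a : X) * b⁆ = ⁅y, (a : X)⁆ * ⁅y, (b : X)⁆ := by
      rw [Cfsg.Lib.PGroups.mul_right_commutator]
      have e3 := hD.comm _ a.2 _ (hcy b b.2)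
      rw [e3, mul_inv_cancel_right]
    show ((a : X) * b) ^ 2 * ⁅y, (a : X) * b⁆ = _
    rw [e1, e2]
    have e4 := hD.comm _ (pow_mem b.2 2) _ (hcy a a.2)
    calc (a : X) ^ 2 * (b : X) ^ 2 * (⁅y, (a : X)⁆ * ⁅y, (b : X)⁆)
        = (a : X) ^ 2 * ((b : X) ^ 2 * ⁅y, (a : X)⁆) * ⁅y, (b : X)⁆ := by group
      _ = (a : X) ^ 2 * (⁅y, (a : X)⁆ * (b : X) ^ 2) * ⁅y, (b : X)⁆ := by rw [e4]
      _ = _ := by group
  have hgker : ∀ c ∈ D, c ^ 2 * ⁅y, c⁆ = 1 → c ∈ V := by
    intro c hc e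
    have h4 : c ^ 4 = 1 := by
      have e2 : c ^ 2 = ⁅y, c⁆⁻¹ := eq_inv_of_mul_eq_one_left e
      rw [show (4 : ℕ) = 2 * 2 from rfl, pow_mul, e2, inv_pow, hsq y hyT c hc, inv_one]
    have h1 : ⁅y, c⁆ = 1 := hR y hyT c hc h4
    rw [h1, mul_one] at e
    exact ⟨hc, e⟩
  have hgsq : g.range ≤ sq D hD.comm := by
    rintro x ⟨d, rfl⟩
    exact mul_mem ⟨d, d.2, rfl⟩ (hVS ⟨hcy d d.2, hsq y hyT d d.2⟩)
  obtain ⟨d, hd⟩ : (y ^ 2)⁻¹ ∈ g.range := by
    have h1 := g.ker.card_eq_card_quotient_mul_card_subgroup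
    rw [Nat.card_congr (QuotientGroup.quotientKerEquivRange g).toEquiv, hD.card_sq] at h1
    have h2 : Nat.card g.ker ≤ Nat.card V := Nat.card_le_card_of_injective
      (fun c => (⟨((c : D) : X), hgker _ (c : D).2 c.2⟩ : V)) fun a b hab =>
        Subtype.ext (Subtype.ext (congrArg (fun w : V => (w : X)) hab))
    have h3 : Nat.card (sq D hD.comm) * Nat.card V ≤ Nat.card g.range * Nat.card V :=
      h1.le.trans (Nat.mul_le_mul_left _ h2)
    rw [eq_of_le_of_card_ge hgsq (Nat.le_of_mul_le_mul_right h3 Nat.card_pos)]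
    exact inv_mem hy2
  set s := (d : X) * y with hs
  have hd' : (d : X) ^ 2 * ⁅y, (d : X)⁆ = (y ^ 2)⁻¹ := hd
  have hs2 : s ^ 2 = 1 := by
    have e : s ^ 2 = (d : X) * (⁅y, (d : X)⁆ * d) * y ^ 2 := by rw [hs, commutatorElement_def]; simp only [pow_two]; group
    rw [e, hD.comm _ (hcy d d.2) d d.2, ← mul_assoc, ← pow_two, hd', inv_mul_cancel]
  have hsT : s ∈ tsub D := mul_mem (le_tsub d.2) hyT
  have hsD : s ∉ D := fun hh => hyD (by
    have := mul_mem (inv_mem d.2) hh
    rwa [hs, inv_mul_cancel_left] at this)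
  refine hsD ((h.mem_four (V := V) (hD.om_central h) (fun a ha => ha.2) hV4 hs2 fun x => ?_).1)
  set c := ⁅x, s⁆ with hc
  have hcD : c ∈ D := (mem_tsub.1 hsT).1 x
  refine hgker c hcD ?_
  have hyc : ⁅y, c⁆ = ⁅s, c⁆ := by
    rw [hs, Cfsg.Lib.PGroups.mul_left_commutator]
    have e1 : ⁅(d : X), c⁆ = 1 := commutatorElement_eq_one_iff_mul_comm.2 (hD.comm _ d.2 _ hcD)
    rw [e1, mul_one, hD.comm _ d.2 _ (hcy c hcD), mul_inv_cancel_right]
  have hcs : (c * s) ^ 2 = 1 := by
    rw [hc, commutatorElement_def, show x * s * x⁻¹ * s⁻¹ * s = x * s * x⁻¹ by group, conj_pow, hs2, mul_one,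
      mul_inv_cancel]
  have e2 : (c * s) ^ 2 = c * (⁅s, c⁆ * c) * s ^ 2 := by rw [commutatorElement_def]; simp only [pow_two]; group
  rw [e2, hs2, mul_one, ← hyc, hD.comm _ (hcy c hcD) c hcD, ← mul_assoc, ← pow_two] at hcs
  exact hcs

/-- Centre, derived group and squares. -/
structure Reduced (X : Type*) [Group X] : Prop where
  comm : commutator X = center X
  sq : ∀ x : X, x ^ 2 ∈ center X
  elem : ∀ z ∈ center X, z ^ 2 = 1
  card : Nat.card (center X) = 2 ∨ Nat.card (center X) = 4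
  four : Nat.card (center X) = 4 → ∀ t : X, t ^ 2 = 1 → t ∈ center X

theorem Hyp.reduced (h : Hyp A) (hna : ¬ ∀ a b : X, a * b = b * a) : Reduced X := by
  classical
  obtain ⟨D, hD⟩ := exists_maxAb A
  haveI := hD.nor
  have hne : D ≠ ⊤ := fun e => hna fun a b => hD.comm a (e ▸ mem_top a) b (e ▸ mem_top b)
  have hcomne : commutator X ≠ ⊥ := fun e => hna fun a b => by
    rw [← commutatorElement_eq_one_iff_mul_comm, ← mem_bot, ← e]
    exact commutator_mem_commutator (mem_top _) (mem_top _)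
  set V := om D hD.comm with hV
  by_cases hcen : D ≤ center X
  · -- `D` is central
    have hall : ∀ x, x ∈ centralizer (D : Set X) := fun x =>
      mem_centralizer_iff.2 fun d hd => (mem_center_iff.1 (hcen hd) x).symm
    have hZD : center X = D := by
      refine le_antisymm (hD.max (center X) inferInstance (fun φ hφ x hx => ?_)
        (fun a _ b hb => mem_center_iff.1 hb a) hcen) hcen
      refine mem_center_iff.2 fun g => ?_
      have e := congrArg φ (mem_center_iff.1 hx (φ⁻¹ g))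
      simpa only [map_mul, MulAut.apply_inv_self] using e
    set T := tsub D
    haveI : T.Normal := tsub_normal
    have hcomm : ∀ t ∈ T, ∀ u ∈ T, ⁅t, u⁆ ∈ V := fun t ht u hu => hD.comm_mem_om ht (hall t) hu (hall u)
    have hCT : centralizer (T : Set X) ≤ D := by
      intro x hx
      by_contra hxD
      haveI : (centralizer (T : Set X)).Normal := ⟨fun x hx g => mem_centralizer_iff.2 fun d hd => by
        have hm' := (tsub_normal (D := D)).conj_mem d hd g⁻¹
        rw [inv_inv] at hm'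
        have e := mem_centralizer_iff.1 hx _ hm'
        calc d * (g * x * g⁻¹) = g * (g⁻¹ * d * g * x) * g⁻¹ := by group
          _ = g * (x * (g⁻¹ * d * g)) * g⁻¹ := by rw [e]
          _ = g * x * g⁻¹ * d := by group⟩
      obtain ⟨y, hy, hyT, hyD⟩ := exists_tsub h (N := centralizer (T : Set X)) (D := D)
        (fun d hd => mem_centralizer_iff.2 fun t _ => (mem_center_iff.1 (hcen hd) t))
        (fun hle => hxD (hle hx))
      have hcT : ∀ u ∈ T, u * y = y * u := mem_centralizer_iff.1 hy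
      refine hyD (hD.max (center T |>.map T.subtype) ?_ ?_ ?_ ?_ ⟨⟨y, hyT⟩, ?_, rfl⟩)
      · exact ⟨fun z hz g => by
          obtain ⟨⟨w, hwT⟩, hw, rfl⟩ := hz
          refine ⟨⟨g * w * g⁻¹, (tsub_normal (D := D)).conj_mem w hwT g⟩, mem_center_iff.2 fun u => Subtype.ext ?_, rfl⟩
          have hm' := (tsub_normal (D := D)).conj_mem (u : X) u.2 g⁻¹
          rw [inv_inv] at hm'
          have e : g⁻¹ * (u : X) * g * w = w * (g⁻¹ * (u : X) * g) :=
            congrArg Subtype.val (mem_center_iff.1 hw ⟨_, hm'⟩)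
          show (u : X) * (g * w * g⁻¹) = g * w * g⁻¹ * u
          calc (u : X) * (g * w * g⁻¹) = g * (g⁻¹ * (u : X) * g * w) * g⁻¹ := by group
            _ = g * (w * (g⁻¹ * (u : X) * g)) * g⁻¹ := by rw [e]
            _ = _ := by group⟩
      · intro φ hφ z hz
        obtain ⟨⟨w, hwT⟩, hw, rfl⟩ := hz
        refine ⟨⟨φ w, tsub_inv hD.inv φ hφ w hwT⟩, mem_center_iff.2 fun u => Subtype.ext ?_, rfl⟩
        have e : φ (φ⁻¹ (u : X) * w) = φ (w * φ⁻¹ (u : X)) := congrArg φ
          (congrArg Subtype.val (mem_center_iff.1 hw ⟨_, tsub_inv hD.inv _ (inv_mem hφ) _ u.2⟩))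
        show (u : X) * φ w = φ w * u
        simpa only [map_mul, MulAut.apply_inv_self] using e
      · rintro a ⟨u, hu, rfl⟩ b ⟨w, hw, rfl⟩
        exact congrArg Subtype.val (mem_center_iff.1 hw u)
      · intro d hd
        exact ⟨⟨d, le_tsub hd⟩, mem_center_iff.2 fun u => Subtype.ext (mem_center_iff.1 (hcen hd) u), rfl⟩
      · exact mem_center_iff.2 fun u => Subtype.ext (hcT u u.2)
    have hsq : ∀ x : X, x ^ 2 ∈ D := fun x => hCT (mem_centralizer_iff.2 fun t ht => by
      have hc : ⁅x, t⁆ ∈ D := (mem_tsub.1 ht).1 x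
      refine (commutatorElement_eq_one_iff_mul_comm.1 ?_).symm
      rw [Cfsg.Lib.PGroups.commutator_pow_left_of_commute (mem_center_iff.1 (hcen hc) x).symm 2,
        ← Cfsg.Lib.PGroups.commutator_pow_right_of_commute (mem_center_iff.1 (hcen hc) t).symm 2,
        commutatorElement_eq_one_iff_mul_comm]
      exact mem_center_iff.1 (hcen (mem_tsub.1 ht).2) x)
    have hcom : ∀ x y : X, ⁅x, y⁆ ∈ D := by
      intro x y
      refine hCT (mem_centralizer_iff.2 fun t ht => ?_)
      have hc : ∀ z : X, ⁅z, t⁆ ∈ center X := fun z => hcen ((mem_tsub.1 ht).1 z)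
      let f : X →* center X := MonoidHom.mk' (fun z => ⟨⁅z, t⁆, hc z⟩) fun a b => Subtype.ext (by
        show ⁅a * b, t⁆ = ⁅a, t⁆ * ⁅b, t⁆
        exact Cfsg.Lib.PGroups.commutator_mul_left_of_central (hc b))
      have hf : f ⁅x, y⁆ = 1 := by
        rw [map_commutatorElement, commutatorElement_eq_one_iff_mul_comm]
        exact Subtype.ext (mem_center_iff.1 (f y).2 (f x : X))
      exact (commutatorElement_eq_one_iff_mul_comm.1 (congrArg Subtype.val hf)).symm
    have htop : ∀ x, x ∈ T := fun x => mem_tsub.2 ⟨fun y => hcom y x, hsq x⟩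
    have hcV : commutator X ≤ V := by
      rw [_root_.commutator_def, commutator_le]
      exact fun a _ b _ => hcomm a (htop a) b (htop b)
    have hDC : D ≤ commutator X := by
      by_cases hm : Moves A D
      · obtain ⟨w, hw, hw1⟩ : ∃ w ∈ commutator X, w ≠ 1 := by
          simpa [Subgroup.ne_bot_iff_exists_ne_one] using hcomne
        have hVc : V ≤ commutator X := by
          refine hD.om_le h hm (fun φ hφ x hx => ?_) (hcV hw) hw hw1
          have := Subgroup.mem_map_of_mem (f := φ.toMonoidHom) hx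
          rwa [(Subgroup.characteristic_iff_map_eq.1 inferInstance) φ] at this
        intro d hd
        by_contra hdc
        have hd2 : d ^ 2 ≠ 1 := fun e => hdc (hVc ⟨hd, e⟩)
        refine hne (top_le_iff.1 fun x _ => hD.centralizer_le h hm ⟨d, hd, hd2⟩ (hall x))
      · intro d hd
        have h1 := h.avg (Abelianization.of (G := X)) (y := d) fun φ hφ => by
          have : φ d = d := not_not.1 fun e => hm ⟨φ, hφ, d, hd, e⟩
          rw [this]
        have h2 : d ∈ (Abelianization.of (G := X)).ker := h1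
        rwa [Abelianization.ker_of] at h2
    have hDV : D = V := le_antisymm (hDC.trans hcV) fun v hv => hv.1
    have hVc : commutator X = center X := by
      rw [hZD]
      exact le_antisymm (hcV.trans hDV.ge) hDC
    refine ⟨hVc, fun x => hcen (hsq x), fun z hz => ?_, ?_, fun h4 t ht => ?_⟩
    · rw [hZD, hDV] at hz; exact hz.2
    · have h4 : Nat.card (center X) ≤ 4 := by rw [hZD, hDV]; exact hD.om_card h
      have h1 : 1 < Nat.card (center X) := by
        rw [← hVc, Finite.one_lt_card_iff_nontrivial, nontrivial_iff_ne_bot]; exact hcomne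
      haveI : Fact (Nat.Prime 2) := ⟨Nat.prime_two⟩
      obtain ⟨n, hn⟩ := IsPGroup.iff_card.1 (h.hX.to_subgroup (center X))
      rw [hn] at h4 h1 ⊢
      rcases n with _ | _ | _ | n
      · simp at h1
      · left; rfl
      · right; rfl
      · rw [pow_succ, pow_succ, pow_succ] at h4
        have := Nat.one_le_two_pow (n := n)
        omega
    · refine h.mem_four le_rfl (fun a ha => ?_) h4 ht fun x => ?_
      · rw [hZD, hDV] at ha; exact ha.2
      · rw [← hVc]; exact commutator_mem_commutator (mem_top _) (mem_top _)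
  · -- `D` is not central
    have hm : Moves A D := by
      by_contra hm
      exact hcen (h.le_center_of_fix fun φ hφ d hd => not_not.1 fun e => hm ⟨φ, hφ, d, hd, e⟩)
    have hexp : ∃ d ∈ D, d ^ 2 ≠ 1 := by
      by_contra hex
      push Not at hex
      exact hcen fun d hd => hD.om_central h ⟨hd, hex d hd⟩
    have hC := hD.centralizer_le h hm hexp
    have h4 := hD.exponent_four h hm hC hne
    obtain ⟨d1, hd1, hd12⟩ := hexp
    have hVS := hD.om_le_sq h hm hd1 hd12
    obtain ⟨θ, hθ, hV4, -, -, -, -, -⟩ := hD.rotation h hm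
    have hL : Layer hD (⊤ : Subgroup X) 1 := by
      refine ⟨fun x _ d hd h2 => commutatorElement_eq_one_iff_mul_comm.2 (hD.om_commute h ⟨hd, by simpa using h2⟩ x),
        fun x _ d hd _ => ?_, fun v hv => ?_⟩
      · have hc : ⁅x, d⁆ ∈ D := by
          rw [commutatorElement_def]
          exact mul_mem (hD.nor.conj_mem d hd x) (inv_mem hd)
        refine ⟨hc, ?_⟩
        rw [← Cfsg.Lib.PGroups.commutator_pow_right_of_commute (hD.comm _ hc d hd) 2,
          commutatorElement_eq_one_iff_mul_comm]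
        exact hD.om_commute h ⟨pow_mem hd 2, by rw [← pow_mul]; exact h4 d hd⟩ x
      · obtain ⟨d, hd, rfl⟩ := hVS hv
        exact ⟨d, hd, by rw [pow_one]⟩
    have hval : ∀ x, ∀ d ∈ D, val D 1 x (d ^ 2) = ⁅x, d⁆ := fun x d hd => by
      rw [show d ^ 2 = d ^ 2 ^ 1 from rfl, hL.val_eq (mem_top x) hd]
    have hdV : ∀ d ∈ D, d ^ 2 ∈ V := fun d hd => ⟨pow_mem hd 2, by rw [← pow_mul]; exact h4 d hd⟩
    have hinjx : ∀ x ∉ D, ∀ d ∈ D, ⁅x, d⁆ = 1 → d ∈ V := by
      intro x hx d hd hxd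
      refine ⟨hd, ?_⟩
      by_contra hd1
      refine hx (hC (mem_centralizer_iff.2 fun e he => (commutatorElement_eq_one_iff_mul_comm.1 ?_).symm))
      rw [← hval x e he]
      exact hL.injective h hm (hdV d hd) hd1 (by rw [hval x d hd, hxd]) (hdV e he)
    have hsq : ∀ x : X, x ^ 2 ∈ V := by
      intro x
      have hxC : x ^ 2 ∈ D := hC (mem_centralizer_iff.2 fun d hd => by
        refine (commutatorElement_eq_one_iff_mul_comm.1 ?_).symm
        rw [pow_two, ← hval _ d hd, hL.val_mul_left h (mem_top x) (mem_top x) (hdV d hd), ← pow_two]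
        exact (hL.val_mem (mem_top x) (hdV d hd)).2)
      by_cases hx : x ∈ D
      · exact hdV x hx
      · exact hinjx x hx _ hxC (commutatorElement_eq_one_iff_mul_comm.2 ((Commute.refl x).pow_right 2))
    haveI := hD.om_normal
    have hcV : commutator X ≤ V := by
      rw [_root_.commutator_def, commutator_le]
      intro a _ b _
      have e : ⁅a, b⁆ = (a * b) ^ 2 * (b⁻¹ * (a⁻¹) ^ 2 * b) * (b⁻¹) ^ 2 := by
        rw [commutatorElement_def]; simp only [pow_two]; group
      rw [e]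
      refine mul_mem (mul_mem (hsq _) ?_) (hsq _)
      have := (inferInstance : V.Normal).conj_mem _ (hsq a⁻¹) b⁻¹
      rwa [inv_inv] at this
    have hVc : V ≤ commutator X := by
      obtain ⟨w, hw, hw1⟩ : ∃ w ∈ commutator X, w ≠ 1 := by
        simpa [Subgroup.ne_bot_iff_exists_ne_one] using hcomne
      refine hD.om_le h hm (fun φ hφ x hx => ?_) (hcV hw) hw hw1
      have := Subgroup.mem_map_of_mem (f := φ.toMonoidHom) hx
      rwa [(Subgroup.characteristic_iff_map_eq.1 inferInstance) φ] at this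
    have hZ : center X = V := by
      refine le_antisymm (fun z hz => ?_) (hD.om_central h)
      have hzD : z ∈ D := hC (mem_centralizer_iff.2 fun d _ => mem_center_iff.1 hz d)
      obtain ⟨x, -, hx⟩ : ∃ x ∈ (⊤ : Subgroup X), x ∉ D :=
        SetLike.not_le_iff_exists.1 fun hle => hne (top_le_iff.1 hle)
      exact hinjx x hx z hzD (commutatorElement_eq_one_iff_mul_comm.2 (mem_center_iff.1 hz x))
    have hcomm : commutator X = center X := by rw [hZ]; exact le_antisymm hcV hVc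
    refine ⟨hcomm, fun x => hZ ▸ hsq x, fun z hz => ?_, Or.inr (by rw [hZ]; exact hV4), fun h4' t ht => ?_⟩
    · rw [hZ] at hz; exact hz.2
    · refine h.mem_four le_rfl (fun a ha => ?_) h4' ht fun x => ?_
      · rw [hZ] at ha; exact ha.2
      · rw [← hcomm]; exact commutator_mem_commutator (mem_top _) (mem_top _)

end Cfsg.Lib.NoScnThree
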