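import Cfsg.Prelude.Def_Transfer
import Cfsg.Agent.PGroups.NoScnThreeReduction
import Cfsg.Agent.PGroups.QuadraticZero
import Cfsg.Agent.PGroups.SpecialCoprime
import Cfsg.Agent.PGroups.ExtraspecialIso
import Cfsg.Agent.PGroups.CommutatorIndexFour

/-!
2-groups without normal abelian subgroups of rank three admitting a fixed-point-free odd group of
automorphisms on the Frattini quotient.
-/

set_option autoImplicit false
set_option linter.style.haveILetI false
set_option linter.unusedSectionVars false
set_option linter.unusedVariables false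

namespace Cfsg.Lib.NoScnThree

open Subgroup
open scoped commutatorElement

universe u

variable {X : Type u} [Group X] [Finite X] {A : Subgroup (MulAut X)}

theorem Reduced.comm_central (R : Reduced X) (x y : X) : ⁅x, y⁆ ∈ center X := by
  rw [← R.comm]; exact commutator_mem_commutator (mem_top _) (mem_top _)

theorem Reduced.isSpecial (R : Reduced X) (hX : IsPGroup 2 X) : Cfsg.IsSpecial 2 X := by
  haveI : Fact (Nat.Prime 2) := ⟨Nat.prime_two⟩
  refine ⟨hX, le_antisymm ?_ ?_, R.comm⟩
  · exact Cfsg.Lib.PGroups.SpecialCoprime.frattini_le_of_elementary (p := 2) (center X) R.sq R.comm.le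
  · rw [← R.comm]; exact Cfsg.Lib.PGroups.commutator_le_frattini hX

/-- With a centre of order four the central quotient has order at most sixteen. -/
theorem Reduced.quotient_le (R : Reduced X) (h4 : Nat.card (center X) = 4) :
    Nat.card (X ⧸ center X) ≤ 16 := by
  letI : CommGroup (X ⧸ center X) :=
    { (inferInstance : Group (X ⧸ center X)) with
      mul_comm := fun a b => by
        obtain ⟨x, rfl⟩ := QuotientGroup.mk_surjective a
        obtain ⟨y, rfl⟩ := QuotientGroup.mk_surjective b
        rw [← commutatorElement_eq_one_iff_mul_comm, ← QuotientGroup.mk'_apply, ← QuotientGroup.mk'_apply,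
          ← map_commutatorElement, QuotientGroup.mk'_apply, QuotientGroup.eq_one_iff]
        exact R.comm_central x y }
  letI : CommGroup (center X) :=
    { (inferInstance : Group (center X)) with
      mul_comm := fun a b => Subtype.ext (mem_center_iff.1 b.2 (a : X)) }
  let q : Additive (X ⧸ center X) → Additive (center X) := fun v =>
    Additive.ofMul ⟨(Quotient.out (Additive.toMul v)) ^ 2, R.sq _⟩
  have hq : ∀ x : X, q (Additive.ofMul (x : X ⧸ center X)) = Additive.ofMul ⟨x ^ 2, R.sq x⟩ := by
    intro x
    obtain ⟨⟨z, hz⟩, he⟩ := QuotientGroup.mk_out_eq_mul (center X) x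
    refine congrArg Additive.ofMul (Subtype.ext ?_)
    show (Quotient.out (x : X ⧸ center X)) ^ 2 = x ^ 2
    rw [he, (show Commute x z from mem_center_iff.1 hz x).mul_pow, R.elem z hz, mul_one]
  let β : Additive (X ⧸ center X) → Additive (X ⧸ center X) → Additive (center X) := fun a b =>
    Additive.ofMul ⟨⁅Quotient.out (Additive.toMul b), Quotient.out (Additive.toMul a)⁆, R.comm_central _ _⟩
  have hβ : ∀ x y : X, β (Additive.ofMul (x : X ⧸ center X)) (Additive.ofMul (y : X ⧸ center X)) =
      Additive.ofMul ⟨⁅y, x⁆, R.comm_central y x⟩ := by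
    intro x y
    obtain ⟨⟨z, hz⟩, he⟩ := QuotientGroup.mk_out_eq_mul (center X) x
    obtain ⟨⟨w, hw⟩, he'⟩ := QuotientGroup.mk_out_eq_mul (center X) y
    refine congrArg Additive.ofMul (Subtype.ext ?_)
    show ⁅Quotient.out (y : X ⧸ center X), Quotient.out (x : X ⧸ center X)⁆ = ⁅y, x⁆
    rw [he, he', Cfsg.Lib.PGroups.commutator_mul_left_of_central (R.comm_central _ _),
      show ⁅w, x * z⁆ = 1 from commutatorElement_eq_one_iff_mul_comm.2 (mem_center_iff.1 hw _).symm, mul_one,
      Cfsg.Lib.PGroups.commutator_mul_right_of_central (R.comm_central _ _),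
      show ⁅y, z⁆ = 1 from commutatorElement_eq_one_iff_mul_comm.2 (mem_center_iff.1 hz _), mul_one]
  have hsurj : ∀ v : Additive (X ⧸ center X), ∃ x : X, Additive.ofMul (x : X ⧸ center X) = v := fun v => by
    obtain ⟨x, hx⟩ := QuotientGroup.mk_surjective (Additive.toMul v)
    exact ⟨x, congrArg Additive.ofMul hx⟩
  have hadd : ∀ a b, q (a + b) = q a + q b + β a b := by
    intro a b
    obtain ⟨x, rfl⟩ := hsurj a
    obtain ⟨y, rfl⟩ := hsurj b
    rw [← ofMul_mul, ← QuotientGroup.mk_mul, hq, hq, hq, hβ, ← ofMul_mul, ← ofMul_mul]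
    refine congrArg Additive.ofMul (Subtype.ext ?_)
    show (x * y) ^ 2 = x ^ 2 * y ^ 2 * ⁅y, x⁆
    rw [Cfsg.Lib.PGroups.mul_pow_of_central (R.comm_central y x), show (2 : ℕ).choose 2 = 1 from rfl, pow_one]
  have hbil : ∀ a b c, β (a + b) c = β a c + β b c := by
    intro a b c
    obtain ⟨x, rfl⟩ := hsurj a
    obtain ⟨y, rfl⟩ := hsurj b
    obtain ⟨w, rfl⟩ := hsurj c
    rw [← ofMul_mul, ← QuotientGroup.mk_mul, hβ, hβ, hβ, ← ofMul_mul]
    exact congrArg Additive.ofMul (Subtype.ext
      (Cfsg.Lib.PGroups.commutator_mul_right_of_central (R.comm_central w y)))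
  have hV : ∀ v : Additive (X ⧸ center X), v + v = 0 := fun v => by
    obtain ⟨x, rfl⟩ := hsurj v
    rw [← ofMul_mul, ← QuotientGroup.mk_mul, ← pow_two, (QuotientGroup.eq_one_iff _).2 (R.sq x), ofMul_one]
  have hW : ∀ v : Additive (center X), v + v = 0 := fun v => by
    have : Additive.toMul v * Additive.toMul v = 1 := Subtype.ext (by
      rw [Subgroup.coe_mul, ← pow_two, Subgroup.coe_one]; exact R.elem _ (Additive.toMul v).2)
    exact congrArg Additive.ofMul this
  have hid : ∀ x v w, q (x + v + w) - q (x + v) - q (x + w) + q x = q (v + w) - q v - q w + q 0 := by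
    intro x v w
    have h0 : q 0 = 0 := by
      rw [show (0 : Additive (X ⧸ center X)) = Additive.ofMul ((1 : X) : X ⧸ center X) from rfl, hq]
      exact congrArg Additive.ofMul (Subtype.ext (one_pow 2))
    rw [h0, hadd (x + v) w, hbil, hadd x v, hadd x w, hadd v w]
    abel
  have hzero : ∀ v, q v = 0 ↔ v = 0 := by
    intro v
    obtain ⟨x, rfl⟩ := hsurj v
    rw [hq]
    constructor
    · intro e
      have hx : x ^ 2 = 1 := congrArg (fun w : Additive (center X) => ((Additive.toMul w : center X) : X)) e
      exact congrArg Additive.ofMul ((QuotientGroup.eq_one_iff x).2 (R.four h4 x hx))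
    · intro e
      have hx : x ∈ center X := (QuotientGroup.eq_one_iff x).1 (congrArg Additive.toMul e)
      exact congrArg Additive.ofMul (Subtype.ext (R.elem x hx))
  have := Cfsg.Lib.PGroups.QuadraticZero.card_le hV hW q hid hzero (z := 2) h4
  exact (Nat.card_congr Additive.ofMul).trans_le (this.trans (by norm_num))

/-- With a centre of order four the central quotient has order at least sixteen. -/
theorem Reduced.quotient_ge (h : Hyp A) (R : Reduced X) (h4 : Nat.card (center X) = 4)
    (hna : ¬ ∀ a b : X, a * b = b * a) : 16 ≤ Nat.card (X ⧸ center X) := by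
  classical
  haveI : Fact (Nat.Prime 2) := ⟨Nat.prime_two⟩
  by_contra hlt
  obtain ⟨r, hr⟩ := IsPGroup.iff_card.1 (h.hX.to_quotient (center X))
  have hr3 : r ≤ 3 := by
    by_contra h'
    have : 2 ^ 4 ≤ 2 ^ r := Nat.pow_le_pow_right (by norm_num) (by omega)
    omega
  push Not at hna
  obtain ⟨a, b, hab⟩ := hna
  set π := QuotientGroup.mk' (center X) with hπ
  have hπc : ∀ x, π x = 1 ↔ x ∈ center X := fun x => QuotientGroup.eq_one_iff x
  have hcz : ∀ x y : X, π x = π y → x⁻¹ * y ∈ center X := fun x y e => (hπc _).1 (by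
    rw [map_mul, map_inv, e, inv_mul_cancel])
  -- commuting independent elements give an abelian subgroup of index two
  have mkM : ∀ p q : X, p * q = q * p → π p ≠ 1 → π q ≠ 1 → π p ≠ π q → r = 3 → False := by
    intro p q hpq hp hq hne hr'
    have hQ : Nat.card (X ⧸ center X) = 8 := by rw [hr, hr']; rfl
    set M := centralizer (centralizer ({p, q} : Set X) : Set X) with hMdef
    have hXc : Nat.card X = 32 := by
      rw [(center X).card_eq_card_quotient_mul_card_subgroup, hQ, h4]
    have good : ∀ p q : X, p * q = q * p → π p ≠ 1 → π q ≠ 1 → π p ≠ π q →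
        ∃ M : Subgroup X, p ∈ M ∧ q ∈ M ∧ center X ≤ M ∧ (∀ u ∈ M, ∀ v ∈ M, u * v = v * u) ∧ M.index = 2 := by
      intro p q hpq hp hq hne
      set M := closure ((center X : Set X) ∪ {p, q}) with hM
      have hMab : ∀ u ∈ M, ∀ v ∈ M, u * v = v * u := by
        have h1 : M ≤ centralizer ((center X : Set X) ∪ {p, q}) := by
          rw [hM, closure_le]
          intro u hu
          refine mem_centralizer_iff.2 fun v hv => ?_
          rcases hu with hu | hu
          · exact mem_center_iff.1 hu v
          rcases hv with hv | hv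
          · exact (mem_center_iff.1 hv u).symm
          simp only [Set.mem_insert_iff, Set.mem_singleton_iff] at hu hv
          rcases hu with rfl | rfl <;> rcases hv with rfl | rfl
          exacts [rfl, hpq.symm, hpq, rfl]
        have h3 : M ≤ centralizer (M : Set X) := by
          nth_rewrite 1 [hM]
          rw [closure_le]
          intro u hu
          exact mem_centralizer_iff.2 fun v hv => ((mem_centralizer_iff.1 (h1 hv)) u hu).symm
        exact fun u hu v hv => ((mem_centralizer_iff.1 (h3 hu)) v hv).symm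
      have hZM : center X ≤ M := fun z hz => subset_closure (Or.inl hz)
      have hpM : p ∈ M := subset_closure (Or.inr (by simp))
      have hqM : q ∈ M := subset_closure (Or.inr (by simp))
      refine ⟨M, hpM, hqM, hZM, hMab, ?_⟩
      have h3 : ({1, π p, π q} : Set (X ⧸ center X)).ncard = 3 :=
        Set.ncard_eq_three.2 ⟨1, π p, π q, Ne.symm hp, Ne.symm hq, hne, rfl⟩
      have h3' : 3 ≤ Nat.card (M.map π) := by
        rw [← h3, ← SetLike.coe_sort_coe, Nat.card_coe_set_eq]
        refine Set.ncard_le_ncard ?_ (Set.toFinite _)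
        intro w hw
        simp only [Set.mem_insert_iff, Set.mem_singleton_iff] at hw
        rcases hw with rfl | rfl | rfl
        exacts [one_mem _, mem_map_of_mem π hpM, mem_map_of_mem π hqM]
      have hidx : (M.map π).index = M.index :=
        index_map_eq M (QuotientGroup.mk'_surjective _) (by rw [hπ, QuotientGroup.ker_mk']; exact hZM)
      have hne1 : M.index ≠ 1 := fun e => hab (hMab a (by rw [index_eq_one.1 e]; trivial) b
        (by rw [index_eq_one.1 e]; trivial))
      have hm := (M.map π).card_mul_index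
      rw [hidx, hQ] at hm
      have h8 : M.index ∣ 8 := Dvd.intro_left _ hm
      have hle : M.index ≤ 2 := by
        by_contra hgt
        push Not at hgt
        have := Nat.mul_le_mul h3' hgt
        omega
      have hpos : M.index ≠ 0 := index_ne_zero_of_finite
      omega
    obtain ⟨M, hpM, hqM, hZM, hMab, hMi⟩ := good p q hpq hp hq hne
    have huniq : ∀ M' : Subgroup X, (∀ u ∈ M', ∀ v ∈ M', u * v = v * u) → M'.index = 2 → M' ≤ M := by
      intro M' hab' hi' x hx
      by_contra hxM
      have hI : M ⊓ M' ≤ center X := by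
        rintro u ⟨hu, hu'⟩
        refine mem_center_iff.2 fun g => ?_
        by_cases hg : g ∈ M
        · exact hMab g hg u hu
        · have hgx : g * x⁻¹ ∈ M := by
            rw [mul_mem_iff_of_index_two hMi]
            exact iff_of_false hg fun e => hxM (_root_.inv_mem_iff.1 e)
          calc g * u = g * x⁻¹ * (x * u) := by group
            _ = g * x⁻¹ * (u * x) := by rw [hab' x hx u hu']
            _ = g * x⁻¹ * u * x := by group
            _ = u * (g * x⁻¹) * x := by rw [hMab _ hgx u hu]
            _ = u * g := by group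
      have h1 : (M ⊓ M').index ≤ 4 := (index_inf_le).trans (by rw [hMi, hi'])
      have h2 := (M ⊓ M').card_mul_index
      rw [hXc] at h2
      have h5 : Nat.card (M ⊓ M' : Subgroup X) ≤ 4 :=
        h4 ▸ Nat.le_of_dvd Nat.card_pos (card_dvd_of_le hI)
      have := Nat.mul_le_mul h5 h1
      omega
    have hinv : Inv A M := by
      intro φ hφ x hx
      refine huniq (M.map φ.toMonoidHom) ?_ ?_ (mem_map_of_mem φ.toMonoidHom hx)
      · rintro u ⟨u', hu', rfl⟩ v ⟨v', hv', rfl⟩
        rw [← map_mul, ← map_mul, hMab u' hu' v' hv']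
      · rw [← hMi]; exact index_map_equiv M φ
    have htop := h.eq_top_of_index_two hinv fun x hx y hy => by
      rw [mul_mem_iff_of_index_two hMi]
      exact iff_of_false (fun e => hx (_root_.inv_mem_iff.1 e)) hy
    exact hab (hMab a (htop ▸ mem_top a) b (htop ▸ mem_top b))
  have ha : π a ≠ 1 := fun e => hab (mem_center_iff.1 ((hπc a).1 e) b).symm
  have hb : π b ≠ 1 := fun e => hab (mem_center_iff.1 ((hπc b).1 e) a)
  have habne : π a ≠ π b := fun e => hab (by
    have e1 := mem_center_iff.1 (hcz a b e) a
    rw [mul_inv_cancel_left] at e1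
    calc a * b = a * (a⁻¹ * b * a) := by rw [← e1]
      _ = b * a := by group)
  set c := ⁅a, b⁆ with hc
  have hc2 : c * c = 1 := by rw [← pow_two]; exact R.elem _ (R.comm_central a b)
  have hab' : π (a * b) ≠ 1 := fun e => hab (by
    have := mem_center_iff.1 ((hπc _).1 e) a
    rw [mul_assoc] at this
    exact mul_left_cancel this)
  -- values of the commutator on the subgroup generated by `a` and `b`
  by_cases hall : ∀ x, π x ∈ ({1, π a, π b, π (a * b)} : Set (X ⧸ center X))
  · have hle : commutator X ≤ zpowers c := by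
      rw [_root_.commutator_def, commutator_le]
      intro x _ y _
      have hred : ∀ x : X, ∃ e ∈ ({1, a, b, a * b} : Set X), ∃ z ∈ center X, x = e * z := by
        intro x
        have hx := hall x
        simp only [Set.mem_insert_iff, Set.mem_singleton_iff] at hx
        rcases hx with hx | hx | hx | hx
        · exact ⟨1, by simp, x, (hπc x).1 hx, (one_mul x).symm⟩
        · exact ⟨a, by simp, a⁻¹ * x, hcz a x hx.symm, by group⟩
        · exact ⟨b, by simp, b⁻¹ * x, hcz b x hx.symm, by group⟩
        · exact ⟨a * b, by simp, (a * b)⁻¹ * x, hcz _ x hx.symm, by group⟩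
      obtain ⟨e, he, z, hz, rfl⟩ := hred x
      obtain ⟨f, hf, w, hw, rfl⟩ := hred y
      rw [Cfsg.Lib.PGroups.commutator_mul_left_of_central (R.comm_central _ _),
        show ⁅z, f * w⁆ = 1 from commutatorElement_eq_one_iff_mul_comm.2 (mem_center_iff.1 hz _).symm, mul_one,
        Cfsg.Lib.PGroups.commutator_mul_right_of_central (R.comm_central _ _),
        show ⁅e, w⁆ = 1 from commutatorElement_eq_one_iff_mul_comm.2 (mem_center_iff.1 hw _), mul_one]
      have kba : ⁅b, a⁆ = c := by
        rw [← commutatorElement_inv a b, ← hc]; exact inv_eq_of_mul_eq_one_right hc2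
      simp only [Set.mem_insert_iff, Set.mem_singleton_iff] at he hf
      rcases he with rfl | rfl | rfl | rfl <;> rcases hf with rfl | rfl | rfl | rfl <;>
        simp only [commutatorElement_one_left, commutatorElement_one_right, commutatorElement_self,
          Cfsg.Lib.PGroups.commutator_mul_left_of_central (R.comm_central _ _),
          Cfsg.Lib.PGroups.commutator_mul_right_of_central (R.comm_central _ _), ← hc, kba, hc2,
          one_mul, mul_one, one_mem, mem_zpowers]
    have h2 := Subgroup.card_le_of_le hle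
    rw [R.comm, h4, Nat.card_zpowers] at h2
    have : orderOf c ≤ 2 := Nat.le_of_dvd (by norm_num) (orderOf_dvd_of_pow_eq_one (by rw [pow_two]; exact hc2))
    omega
  push Not at hall
  obtain ⟨d, hd⟩ := hall
  simp only [Set.mem_insert_iff, Set.mem_singleton_iff, not_or] at hd
  obtain ⟨hd1, hda, hdb, hdab⟩ := hd
  have hr' : r = 3 := by
    by_contra h'
    have h5 : ({1, π a, π b, π (a * b), π d} : Set (X ⧸ center X)).ncard = 5 := by
      have e1 : π a ≠ π (a * b) := by rw [map_mul]; simpa using hb
      have e2 : π b ≠ π (a * b) := by rw [map_mul]; simpa using ha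
      rw [Set.ncard_insert_of_notMem, Set.ncard_insert_of_notMem, Set.ncard_insert_of_notMem,
        Set.ncard_insert_of_notMem, Set.ncard_singleton] <;>
        simp only [Set.mem_insert_iff, Set.mem_singleton_iff, not_or]
      exacts [Ne.symm hdab, ⟨e2, Ne.symm hdb⟩, ⟨habne, e1, Ne.symm hda⟩,
        ⟨Ne.symm ha, Ne.symm hb, Ne.symm hab', Ne.symm hd1⟩]
    have h6 := Set.ncard_le_card ({1, π a, π b, π (a * b), π d} : Set (X ⧸ center X))
    have : 2 ^ r ≤ 2 ^ 2 := Nat.pow_le_pow_right (by norm_num) (by omega)
    omega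
  have hsq : ∀ x, π x * π x = 1 := fun x => by rw [← map_mul, ← pow_two]; exact (hπc _).2 (R.sq x)
  have hinvπ : ∀ x, (π x)⁻¹ = π x := fun x => inv_eq_of_mul_eq_one_right (hsq x)
  have comm_of : ∀ x y : X, ⁅x, y⁆ = 1 → x * y = y * x := fun x y => commutatorElement_eq_one_iff_mul_comm.1
  set v := ⁅a, d⁆ with hv
  set w := ⁅b, d⁆ with hw
  have hv2 : v * v = 1 := by rw [← pow_two]; exact R.elem _ (R.comm_central a d)
  have hw2 : w * w = 1 := by rw [← pow_two]; exact R.elem _ (R.comm_central b d)
  by_cases hv1 : v = 1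
  · exact mkM a d (comm_of _ _ hv1) ha hd1 (Ne.symm hda) hr'
  by_cases hw1 : w = 1
  · exact mkM b d (comm_of _ _ hw1) hb hd1 (Ne.symm hdb) hr'
  by_cases hcv : c = v
  · refine mkM a (b * d) (comm_of _ _ ?_) ha ?_ ?_ hr'
    · rw [Cfsg.Lib.PGroups.commutator_mul_right_of_central (R.comm_central _ _), ← hc, ← hv, hcv, hv2]
    · rw [map_mul]; exact fun e => hdb (by rw [← hinvπ b]; exact eq_inv_of_mul_eq_one_right e)
    · rw [map_mul]; intro e
      refine hdab ?_
      have hbd : π b * π d = π d * π b := by
        rw [← map_mul, ← map_mul]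
        exact (QuotientGroup.eq (s := center X)).2 (by
          rw [show (b * d)⁻¹ * (d * b) = ⁅d⁻¹, b⁻¹⁆ by rw [commutatorElement_def]; group]
          exact R.comm_central _ _)
      rw [map_mul, e, hbd, mul_assoc, hsq b, mul_one]
  by_cases hcw : c = w
  · refine mkM b (a * d) (comm_of _ _ ?_) hb ?_ ?_ hr'
    · rw [Cfsg.Lib.PGroups.commutator_mul_right_of_central (R.comm_central _ _), ← hw, ← commutatorElement_inv a b,
        ← hc, inv_eq_of_mul_eq_one_right hc2, hcw, hw2]
    · rw [map_mul]; exact fun e => hda (by rw [← hinvπ a]; exact eq_inv_of_mul_eq_one_right e)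
    · rw [map_mul]; intro e
      refine hdab ?_
      rw [map_mul, e, ← mul_assoc, hsq a, one_mul]
  by_cases hvw : v = w
  · refine mkM (a * b) d (comm_of _ _ ?_) hab' hd1 (Ne.symm hdab) hr'
    rw [Cfsg.Lib.PGroups.commutator_mul_left_of_central (R.comm_central _ _), ← hv, ← hw, hvw, hw2]
  · have hcvw : c * v * w = 1 := by
      have hc1 : c ≠ 1 := fun e => hab (comm_of _ _ e)
      have hset : ({1, c, v, w} : Set X) = (center X : Set X) := by
        refine Set.eq_of_subset_of_ncard_le ?_ ?_ (Set.toFinite _)
        · intro u hu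
          simp only [Set.mem_insert_iff, Set.mem_singleton_iff] at hu
          rcases hu with rfl | rfl | rfl | rfl
          exacts [one_mem _, R.comm_central a b, R.comm_central a d, R.comm_central b d]
        · rw [← Nat.card_coe_set_eq, show Nat.card (center X : Set X) = 4 from h4,
            Set.ncard_insert_of_notMem (by simp [Ne.symm hc1, Ne.symm hv1, Ne.symm hw1]),
            Set.ncard_insert_of_notMem (by simp [hcv, hcw]),
            Set.ncard_insert_of_notMem (by simp [hvw]), Set.ncard_singleton]
      have hm : c * v ∈ ({1, c, v, w} : Set X) := hset ▸ mul_mem (R.comm_central a b) (R.comm_central a d)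
      simp only [Set.mem_insert_iff, Set.mem_singleton_iff] at hm
      rcases hm with e | e | e | e
      · exact absurd ((eq_inv_of_mul_eq_one_left e).trans (inv_eq_of_mul_eq_one_right hv2)) hcv
      · exact absurd (mul_eq_left.1 e) hv1
      · exact absurd (mul_eq_right.1 e) hc1
      · rw [e, hw2]
    refine mkM (a * b) (a * d) (comm_of _ _ ?_) hab' ?_ ?_ hr'
    · rw [Cfsg.Lib.PGroups.commutator_mul_left_of_central (R.comm_central _ _),
        Cfsg.Lib.PGroups.commutator_mul_right_of_central (R.comm_central _ _),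
        Cfsg.Lib.PGroups.commutator_mul_right_of_central (R.comm_central _ _), commutatorElement_self, one_mul,
        ← hv, ← hw, ← commutatorElement_inv a b, ← hc, inv_eq_of_mul_eq_one_right hc2, ← mul_assoc,
        ← mem_center_iff.1 (R.comm_central a d) c, hcvw]
    · rw [map_mul]; exact fun e => hda (by rw [← hinvπ a]; exact eq_inv_of_mul_eq_one_right e)
    · rw [map_mul, map_mul]; exact fun e => hdb (mul_left_cancel e).symm

theorem Hyp.extraspecial_case (h : Hyp A) (hX : IsPGroup 2 X) (R : Reduced X)
    (h2 : Nat.card (center X) = 2) (hna : ¬ ∀ a b : X, a * b = b * a) :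
    Nonempty (X ≃* QuaternionGroup 2) ∨
      (Cfsg.IsExtraspecial 2 X ∧ Nat.card X = 32 ∧ Nat.card {x : X // orderOf x = 2} = 11) := by
  classical
  haveI : Fact (Nat.Prime 2) := ⟨Nat.prime_two⟩
  have hes : Cfsg.IsExtraspecial 2 X := ⟨R.isSpecial hX, h2⟩
  obtain ⟨z, hz, hz1⟩ := Cfsg.Lib.PGroups.ExtraspecialIso.exists_z hes
  have E := Cfsg.Lib.PGroups.ExtraspecialIso.ES.of_isExtraspecial hes hz hz1
  obtain ⟨m, hm, hinvn⟩ := Cfsg.Lib.PGroups.ExtraspecialIso.numInv_values (Nat.card X) X z le_rfl E
  have hcen : ∀ u : X, u ∈ center X → u = 1 ∨ u = z := fun u hu => E.eq_one_or (E.cen.le hu)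
  have hz2 : z * z = 1 := by rw [← pow_two, ← E.ord, pow_orderOf_eq_one]
  have hzc : ∀ g : X, g * z = z * g := fun g => mem_center_iff.1 hz g
  -- commuting non-central involutions are proportional
  have hpair : ∀ s t : X, s ^ 2 = 1 → s ∉ center X → t ^ 2 = 1 → s * t = t * s →
      t = 1 ∨ t = z ∨ t = s ∨ t = s * z := by
    intro s t hs hsc ht hst
    by_contra hcon
    have hs2 : s * s = 1 := by rw [← pow_two]; exact hs
    have hsz : s * z = z * s := hzc s
    have hne : s ≠ 1 ∧ s ≠ z ∧ s * z ≠ 1 ∧ s * z ≠ z ∧ s * z ≠ s := by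
      refine ⟨fun e => hsc (e ▸ one_mem _), fun e => hsc (e ▸ hz), fun e => hsc ?_, fun e => hsc ?_,
        fun e => hz1 (mul_eq_left.1 e)⟩
      · rw [eq_inv_of_mul_eq_one_left e]; exact inv_mem hz
      · rw [mul_eq_right.1 e]; exact one_mem _
    let V : Subgroup X :=
      { carrier := {1, z, s, s * z}
        one_mem' := by simp
        mul_mem' := fun {p q} hp hq => by
          simp only [Set.mem_insert_iff, Set.mem_singleton_iff] at hp hq ⊢
          have hss' : ∀ w, s * (s * w) = w := fun w => by rw [← mul_assoc, hs2, one_mul]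
          have hzz' : ∀ w, z * (z * w) = w := fun w => by rw [← mul_assoc, hz2, one_mul]
          have hzs' : ∀ w, z * (s * w) = s * (z * w) := fun w => by rw [← mul_assoc, ← hsz, mul_assoc]
          rcases hp with e | e | e | e <;> rcases hq with e' | e' | e' | e' <;> rw [e, e'] <;>
            simp only [one_mul, mul_one, hz2, hs2, ← hsz, hss', hzz', hzs', mul_assoc, true_or, or_true]
        inv_mem' := fun {p} hp => by
          simp only [Set.mem_insert_iff, Set.mem_singleton_iff] at hp ⊢
          have ez : z⁻¹ = z := inv_eq_of_mul_eq_one_right hz2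
          have es : s⁻¹ = s := inv_eq_of_mul_eq_one_right hs2
          rcases hp with e | e | e | e <;> rw [e] <;> simp [ez, es, ← hsz] }
    have hVc : Nat.card V = 4 := by
      rw [← SetLike.coe_sort_coe, Nat.card_coe_set_eq]
      show ({1, z, s, s * z} : Set X).ncard = 4
      obtain ⟨a1, a2, a3, a4, a5⟩ := hne
      rw [Set.ncard_insert_of_notMem (by simp [Ne.symm hz1, Ne.symm a1, Ne.symm a3]),
        Set.ncard_insert_of_notMem (by simp [Ne.symm a2, Ne.symm a4]),
        Set.ncard_insert_of_notMem (by simp [Ne.symm a5]), Set.ncard_singleton]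
    have hmemV : ∀ p, p ∈ V ↔ p = 1 ∨ p = z ∨ p = s ∨ p = s * z := fun p => by
      show p ∈ ({1, z, s, s * z} : Set X) ↔ _
      simp
    have hcomV : ∀ g p : X, p ∈ V → g * p * g⁻¹ ∈ V := by
      intro g p hp
      have e : g * p * g⁻¹ = ⁅g, p⁆ * p := by rw [commutatorElement_def]; group
      rw [e]
      refine mul_mem ?_ hp
      rcases hcen _ (R.comm_central g p) with e' | e' <;> rw [e', hmemV] <;> simp
    haveI : V.Normal := ⟨fun p hp g => hcomV g p hp⟩
    refine h.no_four_ext (V := V) ?_ ?_ hVc ht (fun hh => hcon ((hmemV t).1 hh)) ?_ fun x => ?_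
    · intro p hp q hq
      have hzs' : ∀ w, z * (s * w) = s * (z * w) := fun w => by rw [← mul_assoc, ← hsz, mul_assoc]
      rcases (hmemV p).1 hp with e | e | e | e <;> rcases (hmemV q).1 hq with e' | e' | e' | e' <;>
        rw [e, e'] <;> simp only [one_mul, mul_one, ← hsz, hzs', mul_assoc]
    · intro p hp
      rcases (hmemV p).1 hp with e | e | e | e <;> rw [e]
      · exact one_pow 2
      · rw [pow_two, hz2]
      · exact hs
      · rw [(show Commute s z from hsz).mul_pow, hs, one_mul, pow_two, hz2]
    · intro p hp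
      rcases (hmemV p).1 hp with e | e | e | e <;> rw [e]
      · simp
      · exact hzc t
      · exact hst.symm
      · rw [← mul_assoc, ← hst, mul_assoc, hzc t, ← mul_assoc]
    · rcases hcen _ (R.comm_central x t) with e | e <;> rw [e, hmemV] <;> simp
  rcases Nat.lt_or_ge m 2 with hm2 | hm2
  · rcases m with _ | _ | m
    · exfalso
      apply hna
      intro a b
      have htop : center X = ⊤ := eq_top_of_card_eq _ (by rw [h2, hm]; norm_num)
      exact mem_center_iff.1 (htop ▸ mem_top b : b ∈ center X) a
    · left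
      refine Cfsg.Lib.IndexFour.quaternion_of_aut hX (fun hc => hna fun a b => mul_comm' a b) ?_ fun hp => ?_
      · have := (commutator X).card_mul_index
        rw [R.comm, h2, hm] at this
        rw [R.comm]
        norm_num at this
        omega
      · have hbot : A = ⊥ := by
          refine (eq_bot_iff_forall _).2 fun φ hφ => ?_
          obtain ⟨k, hk⟩ := hp φ
          exact orderOf_eq_one_iff.1 (Nat.eq_one_of_dvd_coprimes
            ((Nat.coprime_two_left.2 (h.odd_order hφ)).pow_left k) (orderOf_dvd_of_pow_eq_one hk) dvd_rfl)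
        have := h.gen
        rw [eq_comm] at this
        have hle : (⊤ : Subgroup X) ≤ ⊥ := by
          rw [this, closure_le]
          rintro _ ⟨φ, hφ, x, rfl⟩
          rw [hbot, mem_bot] at hφ
          simp [hφ]
        exact hna fun a b => by rw [mem_bot.1 (hle (mem_top a)), one_mul, mul_one]
    · omega
  · right
    have hnotall : ∃ x₀, x₀ ∉ center X := by
      by_contra hall
      push Not at hall
      exact hna fun a b => mem_center_iff.1 (hall b) a
    obtain ⟨x₀, hx₀⟩ := hnotall
    rcases E.kind hx₀ with ⟨x, y, hxc, hxy, hx, hy⟩ | ⟨hq, hC⟩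
    swap
    · obtain ⟨h8, -⟩ := E.quaternion_facts hx₀ hq hC
      rw [hm] at h8
      have : 2 ^ 5 ≤ 2 ^ (2 * m + 1) := Nat.pow_le_pow_right (by norm_num) (by omega)
      omega
    set C := Cfsg.Lib.PGroups.ExtraspecialIso.pairCentralizer x y
    have hcard : Nat.card X = 4 * Nat.card C := E.card_eq hxy
    have hCinv : ∀ c : C, c ^ 2 = 1 ↔ (c : X) = 1 ∨ (c : X) = z := by
      intro c
      constructor
      · intro hc
        obtain ⟨hcx, hcy⟩ := Cfsg.Lib.PGroups.ExtraspecialIso.mem_pairCentralizer.1 c.2
        rcases hpair x c hx hxc (by simpa using congrArg Subtype.val hc) hcx.symm.eq with e | e | e | e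
        · exact Or.inl e
        · exact Or.inr e
        · exfalso
          rw [e] at hcy
          exact E.z_ne_one (by rw [← hxy, commutatorElement_eq_one_iff_mul_comm]; exact hcy.symm.eq)
        · exfalso
          rw [e] at hcy
          refine E.z_ne_one ?_
          rw [← hxy, commutatorElement_eq_one_iff_mul_comm]
          refine mul_right_cancel (b := z) ?_
          rw [mul_assoc, ← hcy.eq, mul_assoc, mul_assoc, hzc y]
      · rintro (e | e) <;> refine Subtype.ext ?_ <;> simp [e, pow_two, hz2]
    have hn : Cfsg.Lib.PGroups.ExtraspecialIso.numInv C = 2 := by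
      refine Nat.card_eq_two_iff.2 ⟨⟨1, one_pow 2⟩, ⟨⟨z, E.z_mem x y⟩, (hCinv _).2 (Or.inr rfl)⟩, fun e =>
        hz1 (congrArg (fun g : {g : C // g ^ 2 = 1} => ((g : C) : X)) e).symm, Set.eq_univ_of_forall fun g => ?_⟩
      rcases (hCinv g.1).1 g.2 with e | e
      · exact Or.inl (Subtype.ext (Subtype.ext e))
      · exact Or.inr (Subtype.ext (Subtype.ext e))
    have hni := E.numInv_dihedral hxy hx hy
    rw [hn] at hni
    change Cfsg.Lib.PGroups.ExtraspecialIso.numInv X = 2 * 2 + Nat.card C at hni
    have hm' : m = 2 := by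
      by_contra hne
      -- `2 ^ (2m) ± 2 ^ m = 4 + 2 ^ (2m-1)` forces `m ≤ 2`
      have h3 : 3 ≤ m := by omega
      have e1 : 2 ^ (2 * m + 1) = 2 * (2 ^ m * 2 ^ m) := by rw [← pow_add, ← two_mul, pow_succ']
      have e3 : 2 ^ (2 * m) = 2 ^ m * 2 ^ m := by rw [← pow_add, two_mul]
      have e2 : 8 ≤ 2 ^ m := le_trans (by norm_num) (Nat.pow_le_pow_right (show 1 ≤ 2 by norm_num) h3)
      have e4 : 8 * 2 ^ m ≤ 2 ^ m * 2 ^ m := Nat.mul_le_mul_right _ e2
      rw [e3] at hinvn
      rw [e1] at hm
      generalize 2 ^ m * 2 ^ m = B at *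
      rcases hinvn with e | e <;> omega
    subst hm'
    have h32 : Nat.card X = 32 := by rw [hm]; norm_num
    refine ⟨hes, h32, ?_⟩
    have hsplit : Cfsg.Lib.PGroups.ExtraspecialIso.numInv X = Nat.card {g : X // orderOf g = 2} + 1 := by
      have hset : ({g : X | g ^ 2 = 1} : Set X) = insert 1 {g : X | orderOf g = 2} := by
        ext g
        simp only [Set.mem_setOf_eq, Set.mem_insert_iff, orderOf_eq_prime_iff]
        by_cases hg : g = 1 <;> simp [hg]
      rw [Cfsg.Lib.PGroups.ExtraspecialIso.numInv, ← Set.coe_setOf, ← Set.coe_setOf, Nat.card_coe_set_eq,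
        Nat.card_coe_set_eq, hset, Set.ncard_insert_of_notMem (by simp)]
    omega

end Cfsg.Lib.NoScnThree
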