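import Cfsg.Agent.PGroups.NoScnThreeBase

/-!
An invariant normal abelian subgroup, maximal such: the involutions, the squares and the
self-centralisation.
-/

set_option autoImplicit false
set_option linter.style.haveILetI false
set_option linter.unusedSectionVars false
set_option linter.unusedVariables false

namespace Cfsg.Lib.NoScnThree

open Subgroup
open scoped commutatorElement

variable {X : Type*} [Group X] [Finite X] {A : Subgroup (MulAut X)}

/-- A maximal invariant normal abelian subgroup. -/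
structure MaxAb (A : Subgroup (MulAut X)) (D : Subgroup X) : Prop where
  nor : D.Normal
  inv : Inv A D
  comm : ∀ a ∈ D, ∀ b ∈ D, a * b = b * a
  max : ∀ B : Subgroup X, B.Normal → Inv A B → (∀ a ∈ B, ∀ b ∈ B, a * b = b * a) → D ≤ B → B ≤ D

variable (D : Subgroup X)

/-- The involutions of an abelian subgroup, with the identity. -/
def om (hc : ∀ a ∈ D, ∀ b ∈ D, a * b = b * a) : Subgroup X where
  carrier := {d | d ∈ D ∧ d ^ 2 = 1}
  one_mem' := ⟨one_mem _, one_pow 2⟩
  mul_mem' := fun {a b} ha hb => ⟨mul_mem ha.1 hb.1, by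
    rw [(show Commute a b from hc a ha.1 b hb.1).mul_pow, ha.2, hb.2, mul_one]⟩
  inv_mem' := fun {a} ha => ⟨inv_mem ha.1, by rw [inv_pow, ha.2, inv_one]⟩

/-- The squares of an abelian subgroup. -/
def sq (hc : ∀ a ∈ D, ∀ b ∈ D, a * b = b * a) : Subgroup X where
  carrier := {x | ∃ d ∈ D, d ^ 2 = x}
  one_mem' := ⟨1, one_mem _, one_pow 2⟩
  mul_mem' := fun {a b} ha hb => by
    obtain ⟨d, hd, rfl⟩ := ha
    obtain ⟨e, he, rfl⟩ := hb
    exact ⟨d * e, mul_mem hd he, (show Commute d e from hc d hd e he).mul_pow 2⟩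
  inv_mem' := fun {a} ha => by
    obtain ⟨d, hd, rfl⟩ := ha
    exact ⟨d⁻¹, inv_mem hd, inv_pow d 2⟩

variable {D}

theorem mem_om {hc : ∀ a ∈ D, ∀ b ∈ D, a * b = b * a} {x : X} : x ∈ om D hc ↔ x ∈ D ∧ x ^ 2 = 1 := Iff.rfl

theorem mem_sq {hc : ∀ a ∈ D, ∀ b ∈ D, a * b = b * a} {x : X} : x ∈ sq D hc ↔ ∃ d ∈ D, d ^ 2 = x := Iff.rfl

theorem MaxAb.om_normal (hD : MaxAb A D) : (om D hD.comm).Normal :=
  ⟨fun d hd g => ⟨hD.nor.conj_mem d hd.1 g, by rw [conj_pow, hd.2, mul_one, mul_inv_cancel]⟩⟩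

theorem MaxAb.om_inv (hD : MaxAb A D) : Inv A (om D hD.comm) :=
  fun φ hφ d hd => ⟨hD.inv φ hφ d hd.1, by rw [← map_pow, hd.2, map_one]⟩

theorem MaxAb.om_card (h : Hyp A) (hD : MaxAb A D) : Nat.card (om D hD.comm) ≤ 4 :=
  le_trans (le_of_eq (Nat.card_coe_set_eq _)) (h.small D hD.nor hD.comm)

theorem MaxAb.om_central (h : Hyp A) (hD : MaxAb A D) : om D hD.comm ≤ center X := by
  haveI := hD.om_normal
  exact h.le_center_of_small hD.om_inv (fun a ha b hb => hD.comm a ha.1 b hb.1) (hD.om_card h)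

theorem MaxAb.om_commute (h : Hyp A) (hD : MaxAb A D) {v : X} (hv : v ∈ om D hD.comm) (g : X) :
    g * v = v * g := mem_center_iff.1 (hD.om_central h hv) g

/-- No involution outside a normal four group generates with it a normal abelian subgroup. -/
theorem Hyp.no_four_ext (h : Hyp A) {V : Subgroup X} [V.Normal] (hab : ∀ a ∈ V, ∀ b ∈ V, a * b = b * a)
    (h2 : ∀ a ∈ V, a ^ 2 = 1) (hcard : Nat.card V = 4) {t : X} (ht : t ^ 2 = 1) (htV : t ∉ V)
    (hcomm : ∀ v ∈ V, t * v = v * t) (hx : ∀ x : X, ⁅x, t⁆ ∈ V) : False := by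
  set W := closure (insert t (V : Set X)) with hW
  have hVW : V ≤ W := fun v hv => subset_closure (Set.mem_insert_of_mem _ hv)
  have htW : t ∈ W := subset_closure (Set.mem_insert _ _)
  have hWab : ∀ a ∈ W, ∀ b ∈ W, a * b = b * a := by
    have h1 : W ≤ centralizer (insert t (V : Set X)) := by
      rw [hW, closure_le]
      rintro a ha
      refine mem_centralizer_iff.2 ?_
      rintro b hb
      rcases Set.mem_insert_iff.1 ha with ha | ha <;> rcases Set.mem_insert_iff.1 hb with hb | hb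
      · rw [ha, hb]
      · rw [ha]; exact (hcomm b hb).symm
      · rw [hb]; exact hcomm a ha
      · exact hab b hb a ha
    have h3 : W ≤ centralizer (W : Set X) := by
      nth_rewrite 1 [hW]
      rw [closure_le]
      intro a ha
      exact mem_centralizer_iff.2 fun b hb => ((mem_centralizer_iff.1 (h1 hb)) a ha).symm
    exact fun a ha b hb => ((mem_centralizer_iff.1 (h3 ha)) b hb).symm
  have hW2 : ∀ a ∈ W, a ^ 2 = 1 := by
    intro a ha
    induction ha using closure_induction with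
    | mem a ha =>
      rcases Set.mem_insert_iff.1 ha with rfl | ha
      exacts [ht, h2 a ha]
    | one => exact one_pow 2
    | mul a b ha hb iha ihb =>
      rw [(show Commute a b from hWab a ha b hb).mul_pow, iha, ihb, mul_one]
    | inv a ha iha => rw [inv_pow, iha, inv_one]
  have hWn : W.Normal := ⟨fun a ha g => by
    induction ha using closure_induction with
    | mem a ha =>
      rcases Set.mem_insert_iff.1 ha with rfl | ha
      · have e : g * a * g⁻¹ = ⁅g, a⁆ * a := by rw [commutatorElement_def]; group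
        rw [e]
        exact mul_mem (hVW (hx g)) htW
      · exact hVW (Normal.conj_mem inferInstance a ha g)
    | one => simp [one_mem]
    | mul a b ha hb iha ihb =>
      rw [show g * (a * b) * g⁻¹ = g * a * g⁻¹ * (g * b * g⁻¹) by group]
      exact mul_mem iha ihb
    | inv a ha iha =>
      rw [show g * a⁻¹ * g⁻¹ = (g * a * g⁻¹)⁻¹ by group]
      exact inv_mem iha⟩
  have h4 := h.small W hWn hWab
  have hlt : (V : Set X).ncard < {b : X | b ∈ W ∧ b ^ 2 = 1}.ncard :=
    Set.ncard_lt_ncard (Set.ssubset_iff_exists.2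
      ⟨fun v hv => ⟨hVW hv, h2 v hv⟩, t, ⟨htW, hW2 t htW⟩, htV⟩) (Set.toFinite _)
  rw [← Nat.card_coe_set_eq] at hlt
  rw [show Nat.card (V : Set X) = 4 from hcard] at hlt
  omega

/-- `A` moves an element of `D`. -/
def Moves (A : Subgroup (MulAut X)) (D : Subgroup X) : Prop := ∃ θ ∈ A, ∃ d ∈ D, θ d ≠ d

/-- An automorphism in `A` fixing a non-trivial involution of `D` fixes all of them. -/
theorem MaxAb.fix_om (h : Hyp A) (hD : MaxAb A D) {θ : MulAut X} (hθ : θ ∈ A) {z : X}
    (hz : z ∈ om D hD.comm) (hz1 : z ≠ 1) (hzf : θ z = z) : ∀ v ∈ om D hD.comm, θ v = v := by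
  intro x hx
  by_contra hne
  have ho := h.odd_order hθ
  have hne1 : θ (θ x) ≠ θ x := fun e => hne (θ.injective e)
  have hne2 : θ (θ x) ≠ x := fun e => hne (Cfsg.Lib.WreathedCentric.fix_of_square ho e)
  have h1 : x ≠ 1 := fun e => hne (by rw [e, map_one])
  have h1z : x ≠ z := fun e => hne (by rw [e, hzf])
  have h2 : θ x ≠ 1 := fun e => h1 (θ.map_eq_one_iff.1 e)
  have h2z : θ x ≠ z := fun e => h1z (θ.injective (e.trans hzf.symm))
  have h3 : θ (θ x) ≠ 1 := fun e => h2 (θ.map_eq_one_iff.1 e)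
  have h3z : θ (θ x) ≠ z := fun e => h2z (θ.injective (e.trans hzf.symm))
  have h5 : ({1, z, x, θ x, θ (θ x)} : Set X).ncard = 5 := by
    rw [Set.ncard_insert_of_notMem (by simp [hz1.symm, h1.symm, h2.symm, h3.symm]),
      Set.ncard_insert_of_notMem (by simp [h1z.symm, h2z.symm, h3z.symm]),
      Set.ncard_insert_of_notMem (by simp [Ne.symm hne, hne2.symm]),
      Set.ncard_insert_of_notMem (by simp [hne1.symm]), Set.ncard_singleton]
  have hi := hD.om_inv
  have : ({1, z, x, θ x, θ (θ x)} : Set X).ncard ≤ 4 := le_trans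
    (Set.ncard_le_ncard (t := (om D hD.comm : Set X)) (by
      intro w hw
      simp only [Set.mem_insert_iff, Set.mem_singleton_iff] at hw
      rcases hw with rfl | rfl | rfl | rfl | rfl
      exacts [one_mem _, hz, hx, hi θ hθ x hx, hi θ hθ _ (hi θ hθ x hx)]) (Set.toFinite _))
    (by rw [← Nat.card_coe_set_eq]; exact hD.om_card h)
  omega

/-- An automorphism in `A` fixing the involutions of `D` fixes `D`. -/
theorem MaxAb.fix_of_fix_om (h : Hyp A) (hD : MaxAb A D) {θ : MulAut X} (hθ : θ ∈ A)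
    (hfix : ∀ v ∈ om D hD.comm, θ v = v) : ∀ d ∈ D, θ d = d := by
  have hrec : ∀ j : ℕ, ∀ a ∈ D, a ^ 2 ^ j = 1 → θ a = a := by
    intro j
    induction j with
    | zero => intro a _ h; rw [pow_zero, pow_one] at h; rw [h, map_one]
    | succ j ih =>
      intro a ha h'
      have hsq := ih (a ^ 2) (pow_mem ha 2) (by rw [← pow_mul, ← pow_succ']; exact h')
      set c := a⁻¹ * θ a with hc
      have hcD : c ∈ D := mul_mem (inv_mem ha) (hD.inv θ hθ a ha)
      have hac : θ a = a * c := by rw [hc, mul_inv_cancel_left]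
      have hcc : c ^ 2 = 1 := by
        rw [map_pow, hac, (show Commute a c from hD.comm a ha c hcD).mul_pow, mul_eq_left] at hsq
        exact hsq
      rw [hac, Cfsg.Lib.WreathedCentric.shift_eq_one h.hX (h.odd_order hθ) hac (hfix c ⟨hcD, hcc⟩), mul_one]
  intro d hd
  obtain ⟨j, hj⟩ := h.hX d
  exact hrec j d hd hj

/-- A rotation of the four group of involutions of `D`. -/
theorem MaxAb.rotation (h : Hyp A) (hD : MaxAb A D) (hm : Moves A D) :
    ∃ θ ∈ A, Nat.card (om D hD.comm) = 4 ∧ (∀ v ∈ om D hD.comm, θ v = v → v = 1) ∧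
      (∀ v ∈ om D hD.comm, θ (θ (θ v)) = v) ∧ (∀ v ∈ om D hD.comm, v * θ v = θ (θ v)) ∧
      (∀ v ∈ om D hD.comm, v ≠ 1 → ∀ u ∈ om D hD.comm, u = 1 ∨ u = v ∨ u = θ v ∨ u = θ (θ v)) ∧
      ∀ φ ∈ A, ∃ i < 3, ∀ u ∈ om D hD.comm, φ u = (θ ^ i : MulAut X) u := by
  classical
  obtain ⟨θ, hθ, d, hd, hmove⟩ := hm
  set V := om D hD.comm with hV
  have hfree : ∀ v ∈ V, θ v = v → v = 1 := fun v hv hv' => by
    by_contra h1
    exact hmove (hD.fix_of_fix_om h hθ (hD.fix_om h hθ hv h1 hv') d hd)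
  have ho := h.odd_order hθ
  have hi := hD.om_inv
  have five : ∀ v ∈ V, v ≠ 1 → ({1, v, θ v, θ (θ v)} : Set X).ncard = 4 ∧
      ({1, v, θ v, θ (θ v)} : Set X) = (V : Set X) := by
    intro v hv hv1
    have e1 : θ v ≠ v := fun e => hv1 (hfree v hv e)
    have e2 : θ v ≠ 1 := fun e => hv1 (θ.map_eq_one_iff.1 e)
    have e3 : θ (θ v) ≠ 1 := fun e => e2 (θ.map_eq_one_iff.1 e)
    have e4 : θ (θ v) ≠ θ v := fun e => e1 (θ.injective e)
    have e5 : θ (θ v) ≠ v := fun e => e1 (Cfsg.Lib.WreathedCentric.fix_of_square ho e)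
    have h4 : ({1, v, θ v, θ (θ v)} : Set X).ncard = 4 := by
      rw [Set.ncard_insert_of_notMem (by simp [hv1.symm, e2.symm, e3.symm]),
        Set.ncard_insert_of_notMem (by simp [e1.symm, e5.symm]),
        Set.ncard_insert_of_notMem (by simp [e4.symm]), Set.ncard_singleton]
    refine ⟨h4, Set.eq_of_subset_of_ncard_le (by
      intro w hw
      simp only [Set.mem_insert_iff, Set.mem_singleton_iff] at hw
      rcases hw with rfl | rfl | rfl | rfl
      exacts [one_mem _, hv, hi θ hθ v hv, hi θ hθ _ (hi θ hθ v hv)]) ?_ (Set.toFinite _)⟩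
    rw [h4, ← Nat.card_coe_set_eq]
    exact hD.om_card h
  obtain ⟨v0, hv0, hv01⟩ : ∃ v ∈ V, v ≠ 1 := by
    by_contra hnone
    push Not at hnone
    exact hmove (hD.fix_of_fix_om h hθ (fun v hv => by rw [hnone v hv, map_one]) d hd)
  have hlist : ∀ v ∈ V, v ≠ 1 → ∀ u ∈ V, u = 1 ∨ u = v ∨ u = θ v ∨ u = θ (θ v) := by
    intro v hv hv1 u hu
    have hu' : u ∈ ({1, v, θ v, θ (θ v)} : Set X) := by rw [(five v hv hv1).2]; exact hu
    simpa using hu'
  refine ⟨θ, hθ, ?_, hfree, ?_, ?_, hlist, ?_⟩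
  · rw [← SetLike.coe_sort_coe, Nat.card_coe_set_eq, ← (five v0 hv0 hv01).2, (five v0 hv0 hv01).1]
  · intro v hv
    by_cases hv1 : v = 1
    · simp [hv1]
    have e1 : θ v ≠ v := fun e => hv1 (hfree v hv e)
    rcases hlist v hv hv1 _ (hi θ hθ _ (hi θ hθ _ (hi θ hθ v hv))) with e | e | e | e
    · exact absurd (θ.map_eq_one_iff.1 (θ.map_eq_one_iff.1 (θ.map_eq_one_iff.1 e))) hv1
    · exact e
    · exact absurd (Cfsg.Lib.WreathedCentric.fix_of_square ho (θ.injective e)) e1
    · exact absurd (θ.injective (θ.injective e)) e1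
  · intro v hv
    by_cases hv1 : v = 1
    · simp [hv1]
    have e1 : θ v ≠ v := fun e => hv1 (hfree v hv e)
    rcases hlist v hv hv1 _ (mul_mem hv (hi θ hθ v hv)) with e | e | e | e
    · refine absurd ?_ e1
      rw [eq_inv_of_mul_eq_one_right e]
      exact inv_eq_of_mul_eq_one_right (by rw [← pow_two]; exact hv.2)
    · exact absurd (θ.map_eq_one_iff.1 (mul_eq_left.1 e)) hv1
    · exact absurd (mul_eq_right.1 e) hv1
    · exact e
  · intro φ hφ
    have key : ∀ i : ℕ, φ v0 = (θ ^ i : MulAut X) v0 → ∀ u ∈ V, φ u = (θ ^ i : MulAut X) u := by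
      intro i hi0 u hu
      set ψ := (θ ^ i)⁻¹ * φ with hψ
      have hψA : ψ ∈ A := mul_mem (inv_mem (pow_mem hθ i)) hφ
      have hψv : ψ v0 = v0 := by
        rw [hψ, MulAut.mul_apply, hi0, ← MulAut.mul_apply, inv_mul_cancel, MulAut.one_apply]
      have := congrArg (θ ^ i : MulAut X) (hD.fix_om h hψA hv0 hv01 hψv u hu)
      rwa [hψ, ← MulAut.mul_apply, mul_inv_cancel_left] at this
    rcases hlist v0 hv0 hv01 _ (hi φ hφ v0 hv0) with e | e | e | e
    · exact absurd (φ.map_eq_one_iff.1 e) hv01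
    · exact ⟨0, by norm_num, key 0 (by simpa using e)⟩
    · exact ⟨1, by norm_num, key 1 (by simpa using e)⟩
    · exact ⟨2, by norm_num, key 2 (by simpa [pow_two] using e)⟩

/-- An invariant subgroup containing a non-trivial involution of `D` contains all. -/
theorem MaxAb.om_le (h : Hyp A) (hD : MaxAb A D) (hm : Moves A D) {W : Subgroup X} (hW : Inv A W) {w : X}
    (hw : w ∈ om D hD.comm) (hwW : w ∈ W) (hw1 : w ≠ 1) : om D hD.comm ≤ W := by
  obtain ⟨θ, hθ, -, -, -, -, hlist, -⟩ := hD.rotation h hm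
  intro u hu
  rcases hlist w hw hw1 u hu with rfl | rfl | rfl | rfl
  exacts [one_mem _, hwW, hW θ hθ w hwW, hW θ hθ _ (hW θ hθ w hwW)]

theorem MaxAb.sq_inv (hD : MaxAb A D) : Inv A (sq D hD.comm) := by
  rintro φ hφ x ⟨d, hd, rfl⟩
  exact ⟨φ d, hD.inv φ hφ d hd, (map_pow φ d 2).symm⟩

theorem MaxAb.om_le_sq (h : Hyp A) (hD : MaxAb A D) (hm : Moves A D) {d : X} (hd : d ∈ D) (hd2 : d ^ 2 ≠ 1) :
    om D hD.comm ≤ sq D hD.comm := by
  obtain ⟨j, hj⟩ := (IsPGroup.iff_orderOf (p := 2)).1 h.hX d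
  rcases j with _ | _ | j
  · rw [pow_zero, orderOf_eq_one_iff] at hj
    simp [hj] at hd2
  · exact absurd (by rw [← pow_one 2, ← hj, pow_orderOf_eq_one]) hd2
  refine hD.om_le h hm hD.sq_inv (w := d ^ 2 ^ (j + 1)) ⟨pow_mem hd _, ?_⟩
    ⟨d ^ 2 ^ j, pow_mem hd _, by rw [← pow_mul, ← pow_succ]⟩ fun e => ?_
  · rw [← pow_mul, ← pow_succ, ← hj, pow_orderOf_eq_one]
  · have := orderOf_dvd_of_pow_eq_one e
    rw [hj, Nat.pow_dvd_pow_iff_le_right (by norm_num)] at this
    omega

theorem MaxAb.card_sq (hD : MaxAb A D) :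
    Nat.card D = Nat.card (sq D hD.comm) * Nat.card (om D hD.comm) := by
  let f : D →* X := MonoidHom.mk' (fun d => (d : X) ^ 2) fun a b =>
    (show Commute (a : X) b from hD.comm a a.2 b b.2).mul_pow 2
  have h1 := f.ker.card_eq_card_quotient_mul_card_subgroup
  rw [Nat.card_congr (QuotientGroup.quotientKerEquivRange f).toEquiv] at h1
  have h2 : f.range = sq D hD.comm := by
    ext x
    exact ⟨fun ⟨d, hd⟩ => ⟨d, d.2, hd⟩, fun ⟨d, hd, e⟩ => ⟨⟨d, hd⟩, e⟩⟩
  have h3 : Nat.card f.ker = Nat.card (om D hD.comm) :=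
    Nat.card_congr ⟨fun d => ⟨(d : D), (d : D).2, d.2⟩, fun v => ⟨⟨v, v.2.1⟩, v.2.2⟩, fun _ => rfl, fun _ => rfl⟩
  rwa [h2, h3] at h1

/-- The involutions of the centre, with the identity. -/
def omCenter (G : Type*) [Group G] : Subgroup G where
  carrier := {q | q ∈ center G ∧ q ^ 2 = 1}
  one_mem' := ⟨one_mem _, one_pow 2⟩
  mul_mem' := fun {a b} ha hb => ⟨mul_mem ha.1 hb.1, by
    rw [(show Commute a b from (mem_center_iff.1 hb.1 a)).mul_pow, ha.2, hb.2, mul_one]⟩
  inv_mem' := fun {a} ha => ⟨inv_mem ha.1, by rw [inv_pow, ha.2, inv_one]⟩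

/-- The preimage of the involutions of the centre of `X / D`. -/
def tsub (D : Subgroup X) [D.Normal] : Subgroup X :=
  (omCenter (X ⧸ D)).comap (QuotientGroup.mk' D)

theorem mem_tsub [D.Normal] {x : X} : x ∈ tsub D ↔ (∀ y : X, ⁅y, x⁆ ∈ D) ∧ x ^ 2 ∈ D := by
  have hc : (x : X ⧸ D) ∈ center (X ⧸ D) ↔ ∀ y : X, ⁅y, x⁆ ∈ D := by
    rw [mem_center_iff]
    constructor
    · intro h y
      rw [← QuotientGroup.eq_one_iff, ← QuotientGroup.mk'_apply, map_commutatorElement,
        commutatorElement_eq_one_iff_mul_comm]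
      exact h _
    · intro h q
      obtain ⟨y, rfl⟩ := QuotientGroup.mk_surjective q
      have h1 := (QuotientGroup.eq_one_iff _).2 (h y)
      rwa [← QuotientGroup.mk'_apply, map_commutatorElement, commutatorElement_eq_one_iff_mul_comm] at h1
  show (x : X ⧸ D) ∈ center (X ⧸ D) ∧ (x : X ⧸ D) ^ 2 = 1 ↔ _
  rw [hc, ← QuotientGroup.mk_pow, QuotientGroup.eq_one_iff]

theorem le_tsub [D.Normal] : D ≤ tsub D := fun d hd => mem_tsub.2
  ⟨fun y => by
    rw [commutatorElement_def]
    exact mul_mem (Normal.conj_mem inferInstance d hd y) (inv_mem hd), pow_mem hd 2⟩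

theorem tsub_normal [D.Normal] : (tsub D).Normal := ⟨fun x hx g => by
  have hc := (mem_tsub.1 hx).1 g
  have e : g * x * g⁻¹ = ⁅g, x⁆ * x := by rw [commutatorElement_def]; group
  rw [e]
  exact mul_mem (le_tsub hc) hx⟩

theorem tsub_inv [D.Normal] (hi : Inv A D) : Inv A (tsub D) := fun φ hφ x hx => by
  obtain ⟨h1, h2⟩ := mem_tsub.1 hx
  refine mem_tsub.2 ⟨fun y => ?_, by rw [← map_pow]; exact hi φ hφ _ h2⟩
  rw [show ⁅y, φ x⁆ = φ ⁅φ⁻¹ y, x⁆ by rw [map_commutatorElement, MulAut.apply_inv_self]]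
  exact hi φ hφ _ (h1 _)

/-- A normal subgroup above `D` meets the preimage outside `D`. -/
theorem exists_tsub (h : Hyp A) [D.Normal] {N : Subgroup X} [hN : N.Normal] (hDN : D ≤ N) (hne : ¬ N ≤ D) :
    ∃ x ∈ N, x ∈ tsub D ∧ x ∉ D := by
  haveI : Fact (Nat.Prime 2) := ⟨Nat.prime_two⟩
  haveI := h.hX.isNilpotent
  set π := QuotientGroup.mk' D
  haveI : (N.map π).Normal := hN.map π (QuotientGroup.mk'_surjective D)
  have hb : N.map π ≠ ⊥ := fun e => hne fun x hx => by
    have : π x ∈ (⊥ : Subgroup (X ⧸ D)) := e ▸ mem_map_of_mem π hx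
    exact (QuotientGroup.eq_one_iff x).1 this
  set K := N.map π ⊓ center (X ⧸ D)
  haveI : Nontrivial K := (nontrivial_iff_ne_bot K).2 (Cfsg.Lib.Coprime.inf_center_ne_bot _ hb)
  obtain ⟨n, hn⟩ := IsPGroup.iff_card.1 ((h.hX.to_quotient D).to_subgroup K)
  have hdvd : 2 ∣ Nat.card K := by
    rw [hn]
    refine dvd_pow_self 2 fun e => ?_
    rw [e, pow_zero] at hn
    exact absurd hn (Finite.one_lt_card (α := K)).ne'
  obtain ⟨q, hq⟩ := exists_prime_orderOf_dvd_card' 2 hdvd
  obtain ⟨⟨x, hx, hxq⟩, hqc⟩ := q.2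
  have hq2 : (q : X ⧸ D) ^ 2 = 1 := by
    rw [← Subgroup.coe_pow, ← hq, pow_orderOf_eq_one, Subgroup.coe_one]
  refine ⟨x, hx, mem_tsub.2 ⟨fun y => ?_, ?_⟩, fun hxD => ?_⟩
  · rw [← QuotientGroup.eq_one_iff, ← QuotientGroup.mk'_apply, map_commutatorElement,
      commutatorElement_eq_one_iff_mul_comm, hxq]
    exact mem_center_iff.1 hqc _
  · rw [← QuotientGroup.eq_one_iff, QuotientGroup.mk_pow]
    show π x ^ 2 = 1
    rw [hxq]; exact hq2
  · have : (q : X ⧸ D) = 1 := hxq.symm.trans ((QuotientGroup.eq_one_iff x).2 hxD)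
    rw [show q = 1 from Subtype.ext this, orderOf_one] at hq
    omega

/-- Commutators in the preimage, one entry centralising `D`. -/
theorem MaxAb.comm_mem_om (hD : MaxAb A D) [D.Normal] {t u : X} (ht : t ∈ tsub D)
    (htC : t ∈ centralizer (D : Set X)) (hu : u ∈ tsub D) (huC : u ∈ centralizer (D : Set X)) :
    ⁅t, u⁆ ∈ om D hD.comm := by
  have hc : ⁅t, u⁆ ∈ D := (mem_tsub.1 hu).1 t
  refine ⟨hc, ?_⟩
  rw [← Cfsg.Lib.PGroups.commutator_pow_left_of_commute (mem_centralizer_iff.1 htC _ hc) 2,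
    commutatorElement_eq_one_iff_mul_comm]
  exact mem_centralizer_iff.1 huC _ (mem_tsub.1 ht).2

/-- A maximal invariant normal abelian subgroup moved by `A` and of exponent at least four is
self-centralising. -/
theorem MaxAb.centralizer_le (h : Hyp A) (hD : MaxAb A D) (hm : Moves A D)
    (hexp : ∃ d ∈ D, d ^ 2 ≠ 1) : centralizer (D : Set X) ≤ D := by
  classical
  haveI := hD.nor
  haveI := hD.om_normal
  obtain ⟨d0, hd0, hd02⟩ := hexp
  have hVS := hD.om_le_sq h hm hd0 hd02
  obtain ⟨θ, hθ, hV4, hfree, -, -, -, -⟩ := hD.rotation h hm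
  set C := centralizer (D : Set X) with hC
  haveI : C.Normal := ⟨fun x hx g => mem_centralizer_iff.2 fun d hd => by
    have hm' := hD.nor.conj_mem d hd g⁻¹
    rw [inv_inv] at hm'
    have e := mem_centralizer_iff.1 hx _ hm'
    calc d * (g * x * g⁻¹) = g * (g⁻¹ * d * g * x) * g⁻¹ := by group
      _ = g * (x * (g⁻¹ * d * g)) * g⁻¹ := by rw [e]
      _ = g * x * g⁻¹ * d := by group⟩
  have hCi : Inv A C := fun φ hφ x hx => mem_centralizer_iff.2 fun d hd => by
    have e := congrArg φ (mem_centralizer_iff.1 hx _ (hD.inv _ (inv_mem hφ) d hd))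
    simpa only [map_mul, MulAut.apply_inv_self] using e
  have hDC : D ≤ C := fun d hd => mem_centralizer_iff.2 fun e he => hD.comm e he d hd
  set T0 := tsub D ⊓ C
  -- the squaring map from `T0 / D` to `D / D²` is injective
  have hinj : ∀ t ∈ T0, t ^ 2 ∈ sq D hD.comm → t ∈ D := by
    rintro t ⟨htT, htC⟩ ⟨d, hd, hdt⟩
    by_contra htD
    set s := t * d⁻¹
    have hcd : Commute t d := (mem_centralizer_iff.1 htC d hd).symm
    have hs2 : s ^ 2 = 1 := by rw [hcd.inv_right.mul_pow, inv_pow, hdt, mul_inv_cancel]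
    have hsT : s ∈ tsub D := mul_mem htT (le_tsub (inv_mem hd))
    have hsC : s ∈ C := mul_mem htC (hDC (inv_mem hd))
    refine h.no_four_ext (V := om D hD.comm) (fun a ha b hb => hD.comm a ha.1 b hb.1) (fun a ha => ha.2)
      hV4 hs2 (fun hs => htD ?_) (fun v hv => hD.om_commute h hv s) fun x => ?_
    · have := mul_mem hs.1 hd
      rwa [inv_mul_cancel_right] at this
    · have hc : ⁅x, s⁆ ∈ D := (mem_tsub.1 hsT).1 x
      refine ⟨hc, ?_⟩
      have e : ⁅x, s⁆ * s = x * s * x⁻¹ := by rw [commutatorElement_def]; group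
      have h2 : (⁅x, s⁆ * s) ^ 2 = 1 := by rw [e, conj_pow, hs2, mul_one, mul_inv_cancel]
      rwa [(show Commute ⁅x, s⁆ s from mem_centralizer_iff.1 hsC _ hc).mul_pow, hs2, mul_one] at h2
  -- so `T0` is abelian
  have hT0ab : ∀ a ∈ T0, ∀ b ∈ T0, a * b = b * a := by
    intro a ha b hb
    by_contra hne
    set c := ⁅a, b⁆ with hcdef
    have hc1 : c ≠ 1 := fun e => hne (commutatorElement_eq_one_iff_mul_comm.1 e)
    have hcV : c ∈ om D hD.comm := hD.comm_mem_om ha.1 ha.2 hb.1 hb.2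
    -- cosets
    have hsame : ∀ t ∈ T0, ∀ u ∈ T0, (t ^ 2)⁻¹ * u ^ 2 ∈ sq D hD.comm → t⁻¹ * u ∈ D := by
      intro t ht u hu hm
      refine hinj _ (mul_mem (inv_mem ht) hu) ?_
      have hcu : ⁅u, t⁻¹⁆ ∈ sq D hD.comm :=
        hVS (hD.comm_mem_om hu.1 hu.2 (inv_mem ht.1) (inv_mem ht.2))
      have hk : Commute ⁅u, t⁻¹⁆ t⁻¹ :=
        mem_centralizer_iff.1 (inv_mem ht.2) _ ((mem_tsub.1 (inv_mem ht.1)).1 u)
      have hk' : Commute ⁅u, t⁻¹⁆ u := mem_centralizer_iff.1 hu.2 _ ((mem_tsub.1 (inv_mem ht.1)).1 u)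
      rw [Cfsg.Lib.PGroups.mul_pow_of_commute_commutator hk hk', inv_pow,
        show (2 : ℕ).choose 2 = 1 from rfl, pow_one]
      exact mul_mem hm hcu
    have hgen : ∀ t ∈ T0, ∃ e ∈ ({1, a, b, a * b} : Set X), e⁻¹ * t ∈ D := by
      intro t ht
      let Q := ↥D ⧸ (sq D hD.comm).subgroupOf D
      have hsqD : sq D hD.comm ≤ D := by rintro x ⟨d, hd, rfl⟩; exact pow_mem hd 2
      have hQ : Nat.card Q = 4 := by
        have h1 := ((sq D hD.comm).subgroupOf D).card_eq_card_quotient_mul_card_subgroup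
        rw [Nat.card_congr (subgroupOfEquivOfLe hsqD).toEquiv, hD.card_sq, hV4, mul_comm] at h1
        exact Nat.eq_of_mul_eq_mul_right Nat.card_pos h1.symm
      haveI : Fintype Q := Fintype.ofFinite Q
      let g : {e : X // e ∈ T0} → Q := fun e => QuotientGroup.mk ⟨(e : X) ^ 2, (mem_tsub.1 e.2.1).2⟩
      have hg : ∀ e f, g e = g f → (e : X)⁻¹ * f ∈ D := fun e f he =>
        hsame e e.2 f f.2 (by simpa [g, mem_subgroupOf] using QuotientGroup.eq.1 he)
      by_contra hall
      push Not at hall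
      let L : Fin 5 → {e : X // e ∈ T0} :=
        ![⟨1, one_mem _⟩, ⟨a, ha⟩, ⟨b, hb⟩, ⟨a * b, mul_mem ha hb⟩, ⟨t, ht⟩]
      have hinjL : Function.Injective (g ∘ L) := by
        intro i j hij
        have hd := hg _ _ hij
        have kcomm : ∀ d ∈ D, ∀ s ∈ T0, d * s = s * d := fun d hd s hs => mem_centralizer_iff.1 hs.2 d hd
        have na : a ∉ D := fun hh => hne (kcomm a hh b hb)
        have nb : b ∉ D := fun hh => hne (kcomm b hh a ha).symm
        have nab : a * b ∉ D := fun hh => hne (by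
          have e := kcomm _ hh a ha
          rw [mul_assoc] at e
          exact (mul_left_cancel e).symm)
        have nab' : a⁻¹ * b ∉ D := fun hh => hne (by
          have e := kcomm _ hh a ha
          rw [mul_inv_cancel_left] at e
          calc a * b = a * (a⁻¹ * b * a) := by rw [e]
            _ = b * a := by group)
        have nab'' : a⁻¹ * (a * b) ∉ D := by rwa [inv_mul_cancel_left]
        have nbab : b⁻¹ * (a * b) ∉ D := fun hh => na (by
          have := hD.nor.conj_mem _ hh b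
          rwa [show b * (b⁻¹ * (a * b)) * b⁻¹ = a by group] at this)
        fin_cases i <;> fin_cases j <;> simp [L] at hd ⊢ <;>
          first
            | rfl
            | exact absurd hd na
            | exact absurd hd nb
            | exact absurd hd nab
            | exact absurd hd nab'
            | exact absurd hd nab''
            | exact absurd hd nbab
            | exact absurd (inv_mem hd) na
            | exact absurd (inv_mem hd) nb
            | exact absurd (by simpa using inv_mem hd) nab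
            | exact absurd (by simpa using inv_mem hd) nab'
            | exact absurd (by simpa using inv_mem hd) nbab
            | exact absurd (by simpa using inv_mem hd) (hall 1 (by simp))
            | exact absurd (by simpa using inv_mem hd) (hall a (by simp))
            | exact absurd (by simpa using inv_mem hd) (hall b (by simp))
            | exact absurd (by simpa using inv_mem hd) (hall (a * b) (by simp))
            | exact absurd (by simpa using hd) (hall 1 (by simp))
            | exact absurd hd (hall a (by simp))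
            | exact absurd hd (hall b (by simp))
            | exact absurd hd (by simpa [mul_assoc] using hall (a * b) (by simp))
      have := Fintype.card_le_of_injective _ hinjL
      rw [Fintype.card_fin, ← Nat.card_eq_fintype_card, hQ] at this
      omega
    have hcen : ∀ d ∈ D, ∀ s ∈ T0, ⁅s, d⁆ = 1 := fun d hd s hs =>
      commutatorElement_eq_one_iff_mul_comm.2 (mem_centralizer_iff.1 hs.2 d hd).symm
    have hvals : ∀ t ∈ T0, ∀ u ∈ T0, ⁅t, u⁆ = 1 ∨ ⁅t, u⁆ = c := by
      have hz : c ∈ center X := hD.om_central h hcV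
      have hba : ⁅b, a⁆ = c := by
        rw [← commutatorElement_inv a b]
        exact inv_eq_of_mul_eq_one_right (by rw [← pow_two]; exact hcV.2)
      intro t ht u hu
      obtain ⟨e, he, hte⟩ := hgen t ht
      obtain ⟨f, hf, huf⟩ := hgen u hu
      have hem : ∀ e ∈ ({1, a, b, a * b} : Set X), e ∈ T0 := by
        intro e he
        simp only [Set.mem_insert_iff, Set.mem_singleton_iff] at he
        rcases he with rfl | rfl | rfl | rfl
        exacts [one_mem _, ha, hb, mul_mem ha hb]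
      have hval : ⁅t, u⁆ = ⁅e, f⁆ := by
        rw [show t = e * (e⁻¹ * t) by group, show u = f * (f⁻¹ * u) by group,
          Cfsg.Lib.PGroups.mul_left_commutator, Cfsg.Lib.PGroups.mul_right_commutator (e⁻¹ * t),
          Cfsg.Lib.PGroups.mul_right_commutator e,
          hcen _ huf e (hem e he)]
        have e1 : ⁅e⁻¹ * t, f⁆ = 1 := by
          rw [← commutatorElement_inv, hcen _ hte f (hem f hf), inv_one]
        have e2 : ⁅e⁻¹ * t, f⁻¹ * u⁆ = 1 :=
          commutatorElement_eq_one_iff_mul_comm.2 (hD.comm _ hte _ huf)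
        rw [e1, e2]
        group
      rw [hval]
      simp only [Set.mem_insert_iff, Set.mem_singleton_iff] at he hf
      have hcc : c * c = 1 := by rw [← pow_two]; exact hcV.2
      have kab_a : ⁅a * b, a⁆ = c := by
        rw [Cfsg.Lib.PGroups.mul_left_commutator, hba, commutatorElement_self, mul_one,
          mem_center_iff.1 hz a, mul_inv_cancel_right]
      have kab_b : ⁅a * b, b⁆ = c := by
        rw [Cfsg.Lib.PGroups.mul_left_commutator, commutatorElement_self, mul_one, mul_inv_cancel, one_mul]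
      have ka_ab : ⁅a, a * b⁆ = c := by
        rw [← commutatorElement_inv, kab_a]
        exact inv_eq_of_mul_eq_one_right hcc
      have kb_ab : ⁅b, a * b⁆ = c := by
        rw [← commutatorElement_inv, kab_b]
        exact inv_eq_of_mul_eq_one_right hcc
      rcases he with rfl | rfl | rfl | rfl <;> rcases hf with rfl | rfl | rfl | rfl <;>
        simp only [commutatorElement_one_left, commutatorElement_one_right, commutatorElement_self,
          kab_a, kab_b, ka_ab, kb_ab, hba, ← hcdef, true_or, or_true]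
    refine hc1 (hfree c hcV ?_)
    have hi : Inv A T0 := fun φ hφ x hx => ⟨tsub_inv hD.inv φ hφ x hx.1, hCi φ hφ x hx.2⟩
    have e := hvals _ (hi θ hθ a ha) _ (hi θ hθ b hb)
    rw [← map_commutatorElement] at e
    exact e.resolve_left fun e' => hc1 (θ.map_eq_one_iff.1 e')
  intro x hx
  by_contra hxD
  obtain ⟨y, hyC, hyT, hyD⟩ := exists_tsub h hDC (fun hle => hxD (hle hx))
  refine hyD (hD.max T0 ?_ ?_ hT0ab (le_inf le_tsub hDC) ⟨hyT, hyC⟩)
  · haveI := tsub_normal (D := D)
    exact inferInstance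
  · exact fun φ hφ x hx => ⟨tsub_inv hD.inv φ hφ x hx.1, hCi φ hφ x hx.2⟩

end Cfsg.Lib.NoScnThree
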