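import Mathlib
import Cfsg.Agent.TwoFusion.WreathedCentric
import Cfsg.Agent.Coprime.SolvableBasics
import Cfsg.Agent.PGroups.Commutators

/-!
Odd automorphism groups of a 2-group whose normal abelian subgroups have 2-rank at most 2:
elementary facts about an invariant normal abelian subgroup.
-/

set_option autoImplicit false
set_option linter.style.haveILetI false
set_option linter.unusedSectionVars false

namespace Cfsg.Lib.NoScnThree

open Subgroup
open scoped commutatorElement

variable {X : Type*} [Group X] [Finite X]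

/-- The standing hypotheses. -/
structure Hyp (A : Subgroup (MulAut X)) : Prop where
  hX : IsPGroup 2 X
  odd : Odd (Nat.card A)
  gen : closure {g : X | ∃ φ ∈ A, ∃ x : X, g = x⁻¹ * φ x} = ⊤
  small : ∀ B : Subgroup X, B.Normal → (∀ a ∈ B, ∀ b ∈ B, a * b = b * a) →
    {b : X | b ∈ B ∧ b ^ 2 = 1}.ncard ≤ 4

/-- Invariance under the automorphism group. -/
def Inv (A : Subgroup (MulAut X)) (H : Subgroup X) : Prop := ∀ φ ∈ A, ∀ x ∈ H, φ x ∈ H

variable {A : Subgroup (MulAut X)}

theorem Hyp.odd_order (h : Hyp A) {φ : MulAut X} (hφ : φ ∈ A) : Odd (orderOf φ) := by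
  refine Odd.of_dvd_nat h.odd ?_
  have := orderOf_dvd_natCard (⟨φ, hφ⟩ : A)
  rwa [Subgroup.orderOf_mk] at this

theorem inv_mem_iff {H : Subgroup X} (hH : Inv A H) {φ : MulAut X} (hφ : φ ∈ A) {x : X} :
    φ x ∈ H ↔ x ∈ H := by
  refine ⟨fun hx => ?_, hH φ hφ x⟩
  have := hH φ⁻¹ (inv_mem hφ) _ hx
  rwa [← MulAut.mul_apply, inv_mul_cancel, MulAut.one_apply] at this

/-- An invariant subgroup of index at most two is everything. -/
theorem Hyp.eq_top_of_index_two (h : Hyp A) {H : Subgroup X} (hH : Inv A H)
    (h2 : ∀ x ∉ H, ∀ y ∉ H, x⁻¹ * y ∈ H) : H = ⊤ := by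
  rw [eq_top_iff, ← h.gen, closure_le]
  rintro _ ⟨φ, hφ, x, rfl⟩
  by_cases hx : x ∈ H
  · exact mul_mem (inv_mem hx) (hH φ hφ x hx)
  · exact h2 x hx _ fun hh => hx ((inv_mem_iff hH hφ).1 hh)

/-- A homomorphism to an abelian group kills the elements whose image is fixed. -/
theorem Hyp.avg (h : Hyp A) {M : Type*} [CommGroup M] (f : X →* M) {y : X}
    (hy : ∀ φ ∈ A, f (φ y) = f y) : f y = 1 := by
  classical
  haveI := Fintype.ofFinite A
  let Ψ : X →* M := MonoidHom.mk' (fun x => ∏ φ : A, f ((φ : MulAut X) x)) fun a b => by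
    simp only [map_mul, Finset.prod_mul_distrib]
  have hker : ∀ x, Ψ x = 1 := by
    intro x
    have hle : closure {g : X | ∃ φ ∈ A, ∃ x : X, g = x⁻¹ * φ x} ≤ Ψ.ker := by
      rw [closure_le]
      rintro _ ⟨ψ, hψ, z, rfl⟩
      rw [SetLike.mem_coe, MonoidHom.mem_ker, map_mul, map_inv, inv_mul_eq_one]
      refine Fintype.prod_equiv (Equiv.mulRight (⟨ψ, hψ⟩⁻¹ : A)) _ _ fun φ => ?_
      simp [MulAut.mul_apply]
    rw [h.gen] at hle
    exact hle (mem_top x)
  have h1 : f y ^ Nat.card A = 1 := by
    rw [← hker y, Nat.card_eq_fintype_card, ← Finset.card_univ, ← Finset.prod_const]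
    exact Finset.prod_congr rfl fun φ _ => (hy φ φ.2).symm
  obtain ⟨k, hk⟩ := h.hX y
  have h2 : f y ^ 2 ^ k = 1 := by rw [← map_pow, hk, map_one]
  exact orderOf_eq_one_iff.1 (Nat.eq_one_of_dvd_coprimes ((Nat.coprime_two_left.2 h.odd).pow_left k)
    (orderOf_dvd_of_pow_eq_one h2) (orderOf_dvd_of_pow_eq_one h1))

/-- A normal subgroup fixed pointwise by `A` is central. -/
theorem Hyp.le_center_of_fix (h : Hyp A) {D : Subgroup X} [D.Normal]
    (hfix : ∀ φ ∈ A, ∀ d ∈ D, φ d = d) : D ≤ center X := by
  intro d hd
  have hle : (⊤ : Subgroup X) ≤ centralizer ({d} : Set X) := by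
    rw [← h.gen, closure_le]
    rintro _ ⟨φ, hφ, g, rfl⟩
    refine mem_centralizer_singleton_iff.2 ?_
    have e := hfix φ hφ _ (Normal.conj_mem inferInstance d hd g)
    rw [map_mul, map_mul, map_inv, hfix φ hφ d hd] at e
    calc g⁻¹ * φ g * d = g⁻¹ * (φ g * d * (φ g)⁻¹) * φ g := by group
      _ = g⁻¹ * (g * d * g⁻¹) * φ g := by rw [e]
      _ = d * (g⁻¹ * φ g) := by group
  exact mem_center_iff.2 fun g => mem_centralizer_singleton_iff.1 (hle (mem_top g))

/-- A normal invariant subgroup of order at most four and exponent two is central. -/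
theorem Hyp.le_center_of_small (h : Hyp A) {V : Subgroup X} [V.Normal] (hV : Inv A V)
    (hab : ∀ a ∈ V, ∀ b ∈ V, a * b = b * a) (hcard : Nat.card V ≤ 4) : V ≤ center X := by
  classical
  by_cases hb : V = ⊥
  · rw [hb]; exact bot_le
  haveI := h.hX.isNilpotent
  obtain ⟨z, ⟨hzV, hzc⟩, hz1⟩ : ∃ z ∈ V ⊓ center X, z ≠ 1 := by
    simpa [Subgroup.ne_bot_iff_exists_ne_one] using Cfsg.Lib.Coprime.inf_center_ne_bot V hb
  set C := centralizer (V : Set X) with hC
  have hCinv : Inv A C := fun φ hφ x hx => mem_centralizer_iff.2 fun v hv => by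
    have hm : φ⁻¹ v ∈ V := hV _ (inv_mem hφ) v hv
    have e := congrArg φ (mem_centralizer_iff.1 hx _ hm)
    simp only [map_mul, MulAut.apply_inv_self] at e
    exact e
  have key : ∀ x ∉ C, ∀ y ∉ C, x⁻¹ * y ∈ C := by
    intro x hx y hy
    refine mem_centralizer_iff.2 fun v hv => ?_
    -- the conjugates of `v` by `x` and by `y` agree
    have hsame : x * v * x⁻¹ = y * v * y⁻¹ := by
      by_cases hvz : v = 1 ∨ v = z
      · rcases hvz with rfl | rfl
        · simp
        · rw [mem_center_iff.1 hzc x, mem_center_iff.1 hzc y]; group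
      push Not at hvz
      have hmove : ∀ g ∉ C, g * v * g⁻¹ ≠ v := by
        intro g hg e
        refine hg (mem_centralizer_iff.2 fun u hu => ?_)
        have hgv : g * v = v * g := by
          calc g * v = g * v * g⁻¹ * g := by group
            _ = v * g := by rw [e]
        by_contra hne
        -- five distinct elements would follow
        have hu1 : u ≠ 1 := fun h0 => hne (by simp [h0])
        have huz : u ≠ z := fun h0 => hne (by rw [h0]; exact (mem_center_iff.1 hzc g).symm)
        have huv : u ≠ v := fun h0 => hne (by rw [h0]; exact hgv.symm)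
        have huvz : u ≠ v * z := fun h0 => hne (by
          rw [h0, mul_assoc, ← mem_center_iff.1 hzc g, ← mul_assoc, ← hgv, mul_assoc])
        have h1 : v * z ≠ 1 := fun h0 => hne (by
          exfalso
          have hzg : v = z⁻¹ := eq_inv_of_mul_eq_one_left h0
          have hsq : z * z = 1 := by
            by_contra hzz
            have : ({1, z, z * z, v, u} : Set X).ncard ≤ 4 := le_trans
              (Set.ncard_le_ncard (t := (V : Set X)) (by
                intro w hw
                simp only [Set.mem_insert_iff, Set.mem_singleton_iff] at hw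
                rcases hw with rfl | rfl | rfl | rfl | rfl
                exacts [one_mem _, hzV, mul_mem hzV hzV, hv, hu]) (Set.toFinite _))
              (by rw [← Nat.card_coe_set_eq]; exact hcard)
            have hzv : z * z ≠ v := fun h2 => huvz (by
              exfalso
              have h3 : z * z * z = 1 := by rw [h2, hzg, inv_mul_cancel]
              obtain ⟨k, hk⟩ := h.hX z
              exact hz1 (orderOf_eq_one_iff.1 (Nat.eq_one_of_dvd_coprimes
                ((show Nat.Coprime 2 3 by norm_num).pow_left k) (orderOf_dvd_of_pow_eq_one hk)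
                (orderOf_dvd_of_pow_eq_one (by rw [pow_succ, pow_two]; exact h3)))))
            have hzu : z * z ≠ u := fun h2 => hne (by
              rw [← h2]; exact (mem_center_iff.1 (mul_mem hzc hzc) g).symm)
            have h5 : ({1, z, z * z, v, u} : Set X).ncard = 5 := by
              have hzz1 : z * z ≠ z := fun h2 => hz1 (mul_eq_right.1 h2)
              rw [Set.ncard_insert_of_notMem (by simp [Ne.symm hz1, Ne.symm hzz, Ne.symm hvz.1, Ne.symm hu1]),
                Set.ncard_insert_of_notMem (by simp [Ne.symm hzz1, Ne.symm hvz.2, Ne.symm huz]),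
                Set.ncard_insert_of_notMem (by simp [hzv, hzu]),
                Set.ncard_insert_of_notMem (by simp [huv.symm]), Set.ncard_singleton]
            omega
          exact hvz.2 (hzg.trans (inv_eq_of_mul_eq_one_right hsq)))
        have h2 : v * z ≠ z := fun h0 => hvz.1 (mul_eq_right.1 h0)
        have h3 : v * z ≠ v := fun h0 => hz1 (mul_eq_left.1 h0)
        have h5 : ({1, z, v, v * z, u} : Set X).ncard = 5 := by
          rw [Set.ncard_insert_of_notMem (by simp [Ne.symm hz1, Ne.symm hvz.1, Ne.symm h1, Ne.symm hu1]),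
            Set.ncard_insert_of_notMem (by simp [Ne.symm hvz.2, Ne.symm h2, Ne.symm huz]),
            Set.ncard_insert_of_notMem (by simp [Ne.symm h3, Ne.symm huv]),
            Set.ncard_insert_of_notMem (by simp [Ne.symm huvz]), Set.ncard_singleton]
        have : ({1, z, v, v * z, u} : Set X).ncard ≤ 4 := le_trans
          (Set.ncard_le_ncard (t := (V : Set X)) (by
            intro w hw
            simp only [Set.mem_insert_iff, Set.mem_singleton_iff] at hw
            rcases hw with rfl | rfl | rfl | rfl | rfl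
            exacts [one_mem _, hzV, hv, mul_mem hv hzV, hu]) (Set.toFinite _))
          (by rw [← Nat.card_coe_set_eq]; exact hcard)
        omega
      by_contra hne
      have hxm : x * v * x⁻¹ ∈ V := Normal.conj_mem inferInstance v hv x
      have hym : y * v * y⁻¹ ∈ V := Normal.conj_mem inferInstance v hv y
      have hconj : ∀ g : X, g * v * g⁻¹ ≠ 1 ∧ g * v * g⁻¹ ≠ z := by
        intro g
        refine ⟨fun e => hvz.1 (by simpa using e), fun e => hvz.2 ?_⟩
        calc v = g⁻¹ * (g * v * g⁻¹) * g := by group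
          _ = g⁻¹ * z * g := by rw [e]
          _ = z := by rw [mem_center_iff.1 hzc g⁻¹]; group
      have h5 : ({1, z, v, x * v * x⁻¹, y * v * y⁻¹} : Set X).ncard = 5 := by
        rw [Set.ncard_insert_of_notMem (by
            simp [Ne.symm hz1, Ne.symm hvz.1, (hconj x).1.symm, (hconj y).1.symm]),
          Set.ncard_insert_of_notMem (by simp [Ne.symm hvz.2, (hconj x).2.symm, (hconj y).2.symm]),
          Set.ncard_insert_of_notMem (by simp [(hmove x hx).symm, (hmove y hy).symm]),
          Set.ncard_insert_of_notMem (by simp [hne]), Set.ncard_singleton]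
      have : ({1, z, v, x * v * x⁻¹, y * v * y⁻¹} : Set X).ncard ≤ 4 := le_trans
        (Set.ncard_le_ncard (t := (V : Set X)) (by
          intro w hw
          simp only [Set.mem_insert_iff, Set.mem_singleton_iff] at hw
          rcases hw with rfl | rfl | rfl | rfl | rfl
          exacts [one_mem _, hzV, hv, hxm, hym]) (Set.toFinite _))
        (by rw [← Nat.card_coe_set_eq]; exact hcard)
      omega
    calc v * (x⁻¹ * y) = x⁻¹ * (x * v * x⁻¹) * y := by group
      _ = x⁻¹ * (y * v * y⁻¹) * y := by rw [hsame]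
      _ = x⁻¹ * y * v := by group
  have htop := h.eq_top_of_index_two hCinv key
  intro v hv
  exact mem_center_iff.2 fun g =>
    (mem_centralizer_iff.1 (show g ∈ C by rw [htop]; trivial) v hv).symm

end Cfsg.Lib.NoScnThree
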