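import Cfsg.Agent.PGroups.NoScnThreeAbelian

/-!
The commutator pairing between a layer of a homocyclic abelian subgroup and its involutions.
-/

set_option autoImplicit false
set_option linter.style.haveILetI false
set_option linter.unusedSectionVars false
set_option linter.unusedVariables false

namespace Cfsg.Lib.NoScnThree

open Subgroup
open scoped commutatorElement

variable {X : Type*} [Group X] [Finite X] {A : Subgroup (MulAut X)} {D : Subgroup X}

/-- Commutation with the elements of `N` is defined on the layer `k` with values among the involutions. -/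
structure Layer (hD : MaxAb A D) (N : Subgroup X) (k : ℕ) : Prop where
  triv : ∀ x ∈ N, ∀ d ∈ D, d ^ 2 ^ k = 1 → ⁅x, d⁆ = 1
  value : ∀ x ∈ N, ∀ d ∈ D, d ^ 2 ^ (k + 1) = 1 → ⁅x, d⁆ ∈ om D hD.comm
  root : ∀ v ∈ om D hD.comm, ∃ d ∈ D, d ^ 2 ^ k = v

open Classical in
/-- The commutator of `x` with a chosen `2 ^ k`-th root of `v`. -/
noncomputable def val (D : Subgroup X) (k : ℕ) (x v : X) : X :=
  if h : ∃ d ∈ D, d ^ 2 ^ k = v then ⁅x, h.choose⁆ else 1

variable {hD : MaxAb A D} {N : Subgroup X} {k : ℕ}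

theorem Layer.val_eq (hL : Layer hD N k) {x d : X} (hx : x ∈ N) (hd : d ∈ D) :
    val D k x (d ^ 2 ^ k) = ⁅x, d⁆ := by
  have h : ∃ e ∈ D, e ^ 2 ^ k = d ^ 2 ^ k := ⟨d, hd, rfl⟩
  rw [val, dif_pos h]
  obtain ⟨hr, hre⟩ := h.choose_spec
  set r := h.choose
  have hcom : Commute r⁻¹ d := hD.comm _ (inv_mem hr) _ hd
  have he : ⁅x, r⁻¹ * d⁆ = 1 := hL.triv x hx _ (mul_mem (inv_mem hr) hd)
    (by rw [hcom.mul_pow, inv_pow, hre, inv_mul_cancel])
  conv_rhs => rw [show d = r * (r⁻¹ * d) by group]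
  rw [Cfsg.Lib.PGroups.mul_right_commutator, he]
  group

theorem Layer.val_mem (hL : Layer hD N k) {x v : X} (hx : x ∈ N) (hv : v ∈ om D hD.comm) :
    val D k x v ∈ om D hD.comm := by
  obtain ⟨d, hd, rfl⟩ := hL.root v hv
  rw [hL.val_eq hx hd]
  exact hL.value x hx d hd (by rw [pow_succ, pow_mul]; exact hv.2)

theorem Layer.val_mul_left (h : Hyp A) (hL : Layer hD N k) {x y v : X} (hx : x ∈ N) (hy : y ∈ N)
    (hv : v ∈ om D hD.comm) : val D k (x * y) v = val D k x v * val D k y v := by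
  obtain ⟨d, hd, rfl⟩ := hL.root v hv
  rw [hL.val_eq hx hd, hL.val_eq hy hd, hL.val_eq (mul_mem hx hy) hd, Cfsg.Lib.PGroups.mul_left_commutator]
  have hm := hL.value y hy d hd (by rw [pow_succ, pow_mul]; exact hv.2)
  rw [hD.om_commute h hm x, mul_inv_cancel_right, hD.om_commute h hm ⁅x, d⁆]

theorem Layer.val_mul_right (h : Hyp A) (hL : Layer hD N k) {x v w : X} (hx : x ∈ N)
    (hv : v ∈ om D hD.comm) (hw : w ∈ om D hD.comm) : val D k x (v * w) = val D k x v * val D k x w := by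
  obtain ⟨d, hd, rfl⟩ := hL.root v hv
  obtain ⟨e, he, rfl⟩ := hL.root w hw
  rw [← (show Commute d e from hD.comm d hd e he).mul_pow, hL.val_eq hx hd, hL.val_eq hx he,
    hL.val_eq hx (mul_mem hd he), Cfsg.Lib.PGroups.mul_right_commutator]
  have hm := hL.value x hx e he (by rw [pow_succ, pow_mul]; exact hw.2)
  rw [hD.om_commute h hm d, mul_inv_cancel_right]

theorem Layer.val_one (hL : Layer hD N k) {x : X} (hx : x ∈ N) : val D k x 1 = 1 := by
  have h := hL.val_eq hx (one_mem D)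
  rwa [one_pow, commutatorElement_one_right] at h

theorem Layer.val_map (hL : Layer hD N k) (hN : Inv A N) {φ : MulAut X} (hφ : φ ∈ A) {x v : X}
    (hx : x ∈ N) (hv : v ∈ om D hD.comm) : val D k (φ x) (φ v) = φ (val D k x v) := by
  obtain ⟨d, hd, rfl⟩ := hL.root v hv
  rw [map_pow, hL.val_eq (hN φ hφ x hx) (hD.inv φ hφ d hd), hL.val_eq hx hd, map_commutatorElement]

/-- From a pairing with kernel one gets an injective pairing fixed by `A`. -/
theorem Layer.pick (h : Hyp A) (hm : Moves A D) (hL : Layer hD N k) (hN : Inv A N) {x a u : X}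
    (hx : x ∈ N) (ha : a ∈ om D hD.comm) (ha1 : a ≠ 1) (hxa : val D k x a = 1)
    (hu : u ∈ om D hD.comm) (hxu : val D k x u ≠ 1) :
    ∃ y ∈ N, (∀ φ ∈ A, ∀ v ∈ om D hD.comm, val D k (φ y) v = val D k y v) ∧
      ∀ v ∈ om D hD.comm, val D k y v = 1 → v = 1 := by
  obtain ⟨θ, hθ, -, -, hθ3, hθ2, hlist, hpow⟩ := hD.rotation h hm
  have hi := hD.om_inv
  set c := val D k x (θ a) with hc
  have hta := hi θ hθ a ha
  have htta := hi θ hθ _ hta
  have hc2 : val D k x (θ (θ a)) = c := by rw [← hθ2 a ha, hL.val_mul_right h hx ha hta, hxa, one_mul]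
  have hc1 : c ≠ 1 := fun e => hxu (by
    rcases hlist a ha ha1 u hu with rfl | rfl | rfl | rfl
    exacts [hL.val_one hx, hxa, e, hc2.trans e])
  have hcm : c ∈ om D hD.comm := hL.val_mem hx hta
  set y := x * θ x * θ (θ x) with hy
  have hxt := hN θ hθ x hx
  have hxtt := hN θ hθ _ hxt
  have hyN : y ∈ N := mul_mem (mul_mem hx hxt) hxtt
  have hval : ∀ v ∈ om D hD.comm,
      val D k y v = val D k x v * θ (val D k x (θ (θ v))) * θ (θ (val D k x (θ v))) := by
    intro v hv
    have h1 := hi θ hθ v hv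
    have h2 := hi θ hθ _ h1
    have e1 : val D k (θ x) v = θ (val D k x (θ (θ v))) := by
      conv_lhs => rw [← hθ3 v hv]
      rw [hL.val_map hN hθ hx h2]
    have e2 : val D k (θ (θ x)) v = θ (θ (val D k x (θ v))) := by
      conv_lhs => rw [← hθ3 v hv]
      rw [hL.val_map hN hθ hxt h2, hL.val_map hN hθ hx h1]
    rw [hy, hL.val_mul_left h (mul_mem hx hxt) hxtt hv, hL.val_mul_left h hx hxt hv, e1, e2]
  have hθy : ∀ v ∈ om D hD.comm, θ (val D k y v) = val D k y (θ v) := by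
    intro v hv
    have h1 := hi θ hθ v hv
    have h2 := hi θ hθ _ h1
    rw [hval v hv, hval _ h1, map_mul, map_mul, hθ3 v hv, hθ3 _ (hL.val_mem hx h1)]
    set p := val D k x (θ v) with hp
    have hpm : p ∈ om D hD.comm := hL.val_mem hx h1
    rw [← hD.om_commute h hpm, mul_assoc, mul_assoc, hD.om_commute h hpm]
  have hpy : ∀ i : ℕ, ∀ v ∈ om D hD.comm,
      (θ ^ i : MulAut X) v ∈ om D hD.comm ∧ (θ ^ i : MulAut X) (val D k y v) = val D k y ((θ ^ i : MulAut X) v) := by
    intro i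
    induction i with
    | zero => intro v hv; exact ⟨hv, rfl⟩
    | succ i ih =>
      intro v hv
      obtain ⟨m1, e1⟩ := ih v hv
      rw [pow_succ', MulAut.mul_apply, MulAut.mul_apply]
      exact ⟨hi θ hθ _ m1, by rw [e1, hθy _ m1]⟩
  refine ⟨y, hyN, fun φ hφ v hv => ?_, fun v hv hv1 => ?_⟩
  · have hw : φ⁻¹ v ∈ om D hD.comm := hi _ (inv_mem hφ) v hv
    obtain ⟨i, -, hi'⟩ := hpow φ hφ
    have e : φ (φ⁻¹ v) = v := MulAut.apply_inv_self _ _ _
    rw [← e, hL.val_map hN hφ hyN hw, hi' _ (hL.val_mem hyN hw), (hpy i _ hw).2, ← hi' _ hw]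
  · have hya : val D k y a = c := by
      rw [hval a ha, hxa, one_mul, hc2, ← map_mul, hθ2 c hcm, hθ3 c hcm]
    rcases hlist a ha ha1 v hv with rfl | rfl | rfl | rfl
    · rfl
    · exact absurd (hya.symm.trans hv1) hc1
    · rw [← hθy a ha, hya] at hv1
      exact absurd (θ.map_eq_one_iff.1 hv1) hc1
    · rw [← hθy _ hta, ← hθy a ha, hya] at hv1
      exact absurd (θ.map_eq_one_iff.1 (θ.map_eq_one_iff.1 hv1)) hc1

/-- A pairing with all of the group fixed by `A` is trivial. -/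
theorem Layer.fixed_trivial (h : Hyp A) (hL : Layer hD (⊤ : Subgroup X) k) {y v : X}
    (hy : ∀ φ ∈ A, val D k (φ y) v = val D k y v) (hv : v ∈ om D hD.comm) : val D k y v = 1 := by
  letI : CommGroup (om D hD.comm) :=
    { (inferInstance : Group (om D hD.comm)) with
      mul_comm := fun a b => Subtype.ext (hD.comm a a.2.1 b b.2.1) }
  let f : X →* om D hD.comm := MonoidHom.mk' (fun x => ⟨val D k x v, hL.val_mem (mem_top x) hv⟩)
    fun a b => Subtype.ext (hL.val_mul_left h (mem_top a) (mem_top b) hv)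
  exact congrArg Subtype.val (h.avg f (y := y) fun φ hφ => Subtype.ext (hy φ hφ))

/-- A non-trivial pairing with all of the group is injective. -/
theorem Layer.injective (h : Hyp A) (hm : Moves A D) (hL : Layer hD (⊤ : Subgroup X) k) {x a u : X}
    (ha : a ∈ om D hD.comm) (ha1 : a ≠ 1) (hxa : val D k x a = 1) (hu : u ∈ om D hD.comm) :
    val D k x u = 1 := by
  by_contra hxu
  obtain ⟨y, -, hfix, hinj⟩ := hL.pick h hm (fun φ _ z _ => mem_top _) (mem_top x) ha ha1 hxa hu hxu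
  exact ha1 (hinj a ha (hL.fixed_trivial h (fun φ hφ => hfix φ hφ a ha) ha))

end Cfsg.Lib.NoScnThree
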