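/-
In p-groups of rank at most two, p > 3, the subgroup generated by the elements of order p has exponent p.
-/
import Cfsg.Agent.PGroups.Bounds
import Cfsg.Agent.PGroups.Commutators
import Cfsg.Agent.Coprime.SolvableBasics
import Cfsg.Agent.PGroups.Regular

set_option linter.style.haveILetI false
set_option linter.unusedSectionVars false

namespace Cfsg.Lib.PGroups.OmegaRankTwo

open Subgroup
open scoped commutatorElement

variable {R : Type*} [Group R] [Finite R] {p : ℕ} [hp : Fact p.Prime]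

theorem dvd_choose (h3 : 3 < p) : p ∣ p.choose 2 ∧ p ∣ p.choose 3 :=
  ⟨hp.out.dvd_choose_self (by norm_num) (by omega), hp.out.dvd_choose_self (by norm_num) h3⟩

/-- The product formula of class three. -/
theorem mul_pow_eq_one (h3 : 3 < p) {x y u v w : R} (hu : y * x * y⁻¹ = x * u) (hv : y * u * y⁻¹ = u * v)
    (hw : u * x = x * u * w) (hvx : Commute v x) (hvy : Commute v y) (hwx : Commute w x) (hwy : Commute w y)
    (hvu : Commute v u) (hwu : Commute w u) (hvw : Commute v w)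
    (hxp : x ^ p = 1) (hyp : y ^ p = 1) (hup : u ^ p = 1) (hvp : v ^ p = 1) (hwp : w ^ p = 1) :
    (x * y) ^ p = 1 := by
  have hux : ∀ m : ℕ, u ^ m * x = x * u ^ m * w ^ m := by
    intro m
    induction m with
    | zero => simp
    | succ m ih =>
      calc u ^ (m + 1) * x = u ^ m * (u * x) := by rw [pow_succ]; group
        _ = u ^ m * x * (u * w) := by rw [hw]; group
        _ = x * u ^ m * (w ^ m * u) * w := by rw [ih]; group
        _ = x * u ^ m * (u * w ^ m) * w := by rw [(hwu.pow_left m).eq]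
        _ = x * u ^ (m + 1) * w ^ (m + 1) := by rw [pow_succ, pow_succ]; group
  have hconj : ∀ i : ℕ, y ^ i * x * (y ^ i)⁻¹ = x * u ^ i * v ^ i.choose 2 := by
    intro i
    induction i with
    | zero => simp
    | succ i ih =>
      have e1 : y * u ^ i * y⁻¹ = u ^ i * v ^ i := by rw [← conj_pow, hv, hvu.symm.mul_pow]
      have e2 : y * v ^ i.choose 2 * y⁻¹ = v ^ i.choose 2 := by
        rw [← (hvy.pow_left _).eq, mul_inv_cancel_right]
      calc y ^ (i + 1) * x * (y ^ (i + 1))⁻¹ = y * (y ^ i * x * (y ^ i)⁻¹) * y⁻¹ := by rw [pow_succ']; group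
        _ = (y * x * y⁻¹) * (y * u ^ i * y⁻¹) * (y * v ^ i.choose 2 * y⁻¹) := by rw [ih]; group
        _ = x * (u * u ^ i) * (v ^ i * v ^ i.choose 2) := by rw [hu, e1, e2]; group
        _ = _ := by rw [← pow_succ', ← pow_add, Nat.choose_succ_succ, Nat.choose_one_right]
  have hS : ∀ k : ℕ, (x * y) ^ k = x ^ k * u ^ k.choose 2 * v ^ k.choose 3 * w ^ k.choose 3 * y ^ k := by
    intro k
    induction k with
    | zero => simp
    | succ k ih =>
      have c1 : Commute (w ^ k.choose 3) x := hwx.pow_left _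
      have c2 : Commute (v ^ k.choose 3) x := hvx.pow_left _
      have c3 : Commute (w ^ k.choose 3) (u ^ k) := hwu.pow_pow _ _
      have c4 : Commute (v ^ k.choose 3) (u ^ k) := hvu.pow_pow _ _
      have c5 : Commute (w ^ k.choose 2) (u ^ k) := hwu.pow_pow _ _
      have c6 : Commute (w ^ k.choose 2) (v ^ k.choose 3) := hvw.symm.pow_pow _ _
      have c7 : Commute (w ^ k.choose 3) (v ^ k.choose 2) := hvw.symm.pow_pow _ _
      have c8 : Commute (w ^ k.choose 2) (v ^ k.choose 2) := hvw.symm.pow_pow _ _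
      calc (x * y) ^ (k + 1) = (x * y) ^ k * (x * y) := pow_succ _ _
        _ = x ^ k * u ^ k.choose 2 * v ^ k.choose 3 * w ^ k.choose 3 * (y ^ k * x * (y ^ k)⁻¹) * (y ^ k * y) := by
          rw [ih]; group
        _ = x ^ k * u ^ k.choose 2 * v ^ k.choose 3 * (w ^ k.choose 3 * x) * u ^ k * v ^ k.choose 2 * (y ^ k * y) := by
          rw [hconj]; group
        _ = x ^ k * u ^ k.choose 2 * (v ^ k.choose 3 * x) * (w ^ k.choose 3 * u ^ k) * v ^ k.choose 2 * (y ^ k * y) := by
          rw [c1.eq]; group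
        _ = x ^ k * (u ^ k.choose 2 * x) * (v ^ k.choose 3 * u ^ k) * (w ^ k.choose 3 * v ^ k.choose 2) * (y ^ k * y) := by
          rw [c2.eq, c3.eq]; group
        _ = x ^ k * x * u ^ k.choose 2 * (w ^ k.choose 2 * u ^ k) * (v ^ k.choose 3 * v ^ k.choose 2) * w ^ k.choose 3 * (y ^ k * y) := by
          rw [hux, c4.eq, c7.eq]; group
        _ = x ^ k * x * (u ^ k.choose 2 * u ^ k) * (w ^ k.choose 2 * (v ^ k.choose 3 * v ^ k.choose 2)) * w ^ k.choose 3 * (y ^ k * y) := by
          rw [c5.eq]; group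
        _ = x ^ k * x * (u ^ k.choose 2 * u ^ k) * (v ^ k.choose 3 * v ^ k.choose 2) * (w ^ k.choose 2 * w ^ k.choose 3) * (y ^ k * y) := by
          rw [(c6.mul_right c8).eq]; group
        _ = _ := by
          rw [← pow_succ, ← pow_succ, ← pow_add, ← pow_add, ← pow_add,
            show k.choose 2 + k = (k + 1).choose 2 by rw [Nat.choose_succ_succ' k 1, Nat.choose_one_right]; exact add_comm _ _,
            show k.choose 3 + k.choose 2 = (k + 1).choose 3 by rw [Nat.choose_succ_succ' k 2]; exact add_comm _ _,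
            show k.choose 2 + k.choose 3 = (k + 1).choose 3 by rw [Nat.choose_succ_succ' k 2]]
  obtain ⟨⟨a, ha⟩, ⟨b, hb⟩⟩ := dvd_choose (p := p) h3
  rw [hS, hxp, hyp, ha, hb, pow_mul, pow_mul, pow_mul, hup, hvp, hwp]
  simp

theorem card_le_cube {N : Subgroup R} (hR : IsPGroup p R) (hexp : ∀ x ∈ N, x ^ p = 1)
    (hrk : ∀ E : Subgroup R, Cfsg.IsElementaryAbelian p E → Nat.card E ≤ p ^ 2) : Nat.card N ≤ p ^ 3 := by
  have hN := hR.to_subgroup N
  obtain ⟨A, ⟨hAn, hAc⟩, hAmax⟩ := WellFounded.has_min (wellFounded_gt (α := Subgroup N))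
    {A : Subgroup N | A.Normal ∧ IsMulCommutative A}
    ⟨⊥, inferInstance, ⟨⟨fun x y => Subsingleton.elim _ _⟩⟩⟩
  haveI := hAn
  have hC : centralizer (A : Set N) = A :=
    Cfsg.Lib.PGroups.centralizer_eq_self_of_maximal_normal_abelian hN A hAc fun B hBn hBc hAB =>
      (eq_or_lt_of_le hAB).elim Eq.symm fun h => absurd h (hAmax B ⟨hBn, hBc⟩)
  have hA : Nat.card A ≤ p ^ 2 := by
    have h1 := hrk (A.map N.subtype) ⟨⟨⟨fun a b => by
      obtain ⟨_, x, hx, rfl⟩ := a
      obtain ⟨_, y, hy, rfl⟩ := b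
      exact Subtype.ext (congrArg (fun z : A => ((z : N) : R)) (hAc.is_comm.comm (⟨x, hx⟩ : A) ⟨y, hy⟩))⟩⟩,
      fun a ha => by obtain ⟨x, -, rfl⟩ := ha; exact hexp _ x.2⟩
    rwa [card_map_of_injective N.subtype_injective] at h1
  obtain ⟨a, ha⟩ := IsPGroup.iff_card.1 (hN.to_subgroup A)
  have ha2 : a ≤ 2 := (Nat.pow_le_pow_iff_right hp.out.one_lt).1 (ha ▸ hA)
  have hi := Cfsg.Lib.PGroups.index_centralizer_le_of_normal hN a A hAn ha
  rw [hC] at hi
  rw [← A.card_mul_index, ha, show 3 = 2 + 1 by norm_num, pow_succ]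
  refine Nat.mul_le_mul (Nat.pow_le_pow_right hp.out.pos ha2) (hi.trans ?_)
  calc p ^ (a * (a - 1) / 2) ≤ p ^ 1 := Nat.pow_le_pow_right hp.out.pos (by interval_cases a <;> norm_num)
    _ = p := pow_one p

theorem commutator_card_le (hR : IsPGroup p R) {N H : Subgroup R} (hNH : N ≤ H) (hn : H ≤ normalizer (N : Set R))
    {a : ℕ} (hN : Nat.card N ≤ p ^ (a + 1)) : Nat.card ↥⁅N, H⁆ ≤ p ^ a := by
  haveI : Group.IsNilpotent H := (hR.to_subgroup H).isNilpotent
  by_cases hb : N = ⊥
  · rw [hb, commutator_bot_left, card_bot]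
    exact Nat.one_le_pow _ _ hp.out.pos
  have hlt : ⁅N, H⁆ < N := Cfsg.Lib.Coprime.commutator_lt_of_isNilpotent hNH hb hn
  obtain ⟨i, hi⟩ := IsPGroup.iff_card.1 (hR.to_subgroup ⁅N, H⁆)
  obtain ⟨j, hj⟩ := IsPGroup.iff_card.1 (hR.to_subgroup N)
  have h1 := Cfsg.Lib.PGroups.Regular.card_lt_of_lt hlt
  rw [hi, hj] at h1
  rw [hj] at hN
  rw [hi]
  have h2 := (Nat.pow_le_pow_iff_right hp.out.one_lt).1 hN
  have h4 := (Nat.pow_lt_pow_iff_right hp.out.one_lt).1 h1
  exact Nat.pow_le_pow_right hp.out.pos (by omega)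

theorem omega_exponent (h3 : 3 < p) (hR : IsPGroup p R)
    (hrk : ∀ E : Subgroup R, Cfsg.IsElementaryAbelian p E → Nat.card E ≤ p ^ 2) :
    ∀ (n : ℕ) (H : Subgroup R), Nat.card H ≤ n → ∀ g ∈ closure {x : R | x ∈ H ∧ x ^ p = 1}, g ^ p = 1 := by
  intro n
  induction n with
  | zero => intro H h; exact absurd h (by have := Nat.card_pos (α := H); omega)
  | succ n ih =>
    intro H hn
    suffices hmul : ∀ x y : R, x ∈ H → y ∈ H → x ^ p = 1 → y ^ p = 1 → (x * y) ^ p = 1 by
      intro g hg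
      have hsub : g ∈ H ∧ g ^ p = 1 := by
        induction hg using Subgroup.closure_induction with
        | mem x hx => exact hx
        | one => exact ⟨one_mem H, one_pow p⟩
        | mul a b _ _ ha hb => exact ⟨mul_mem ha.1 hb.1, hmul a b ha.1 hb.1 ha.2 hb.2⟩
        | inv a _ ha => exact ⟨inv_mem ha.1, by rw [inv_pow, ha.2, inv_one]⟩
      exact hsub.2
    intro x y hx hy hxp hyp
    have hsmall : ∀ L : Subgroup R, L < H → ∀ g ∈ closure {z : R | z ∈ L ∧ z ^ p = 1}, g ^ p = 1 := fun L hL =>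
      ih L (by have := Cfsg.Lib.PGroups.Regular.card_lt_of_lt hL; omega)
    by_cases hcx : zpowers x = H
    · obtain ⟨i, rfl⟩ := mem_zpowers_iff.1 (hcx.ge hy)
      rw [((Commute.refl x).zpow_right i).mul_pow, hxp, hyp, one_mul]
    -- a maximal subgroup containing `x`
    obtain ⟨M, hxM, hMmax⟩ := Set.Finite.exists_le_maximal (Set.toFinite {M : Subgroup R | M < H})
      (lt_of_le_of_ne (zpowers_le.2 hx) hcx : zpowers x < H)
    have hxM' : x ∈ M := hxM (mem_zpowers x)
    have hMH : M < H := hMmax.1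
    by_cases hyM : y ∈ M
    · exact hsmall M hMH _ (mul_mem (subset_closure ⟨hxM', hxp⟩) (subset_closure ⟨hyM, hyp⟩))
    have hMn : H ≤ normalizer (M : Set R) := by
      haveI : Group.IsNilpotent H := (hR.to_subgroup H).isNilpotent
      have hco : IsCoatom (M.subgroupOf H) := by
        refine ⟨fun e => hMH.ne (le_antisymm hMH.le (subgroupOf_eq_top.1 e)), fun K hK => ?_⟩
        by_contra hne
        have h1 : K.map H.subtype < H := lt_of_le_of_ne (map_subtype_le K) fun e => hne (by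
          rw [eq_top_iff, ← map_subtype_le_map_subtype, e, ← MonoidHom.range_eq_map, range_subtype])
        have h2 : M ≤ K.map H.subtype := by
          rw [← inf_eq_left.2 hMH.le, ← subgroupOf_map_subtype]; exact Subgroup.map_mono hK.le
        have h4 := hMmax.2 h1 h2
        refine hK.not_ge ?_
        intro k hk
        exact mem_subgroupOf.2 (h4 ⟨k, hk, rfl⟩)
      haveI := NormalizerCondition.normal_of_coatom _ normalizerCondition_of_isNilpotent hco
      exact (normal_subgroupOf_iff_le_normalizer hMH.le).1 inferInstance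
    -- `N` is generated by the elements of order `p` of `M`
    set N := closure {z : R | z ∈ M ∧ z ^ p = 1} with hN
    have hNexp : ∀ z ∈ N, z ^ p = 1 := hsmall M hMH
    have hNM : N ≤ M := (closure_le M).2 fun z hz => hz.1
    have hNH : N ≤ H := hNM.trans hMH.le
    have hNn : H ≤ normalizer (N : Set R) := fun h hh => by
      refine Subgroup.mem_normalizer_iff_map_conj_eq.2 ?_
      refine eq_of_le_of_card_ge ?_ (le_of_eq (card_map_of_injective (MulAut.conj h).injective).symm)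
      show N.map (MulAut.conj h).toMonoidHom ≤ N
      rw [hN, MonoidHom.map_closure]
      refine (closure_le _).2 ?_
      rintro _ ⟨z, ⟨hzM, hzp⟩, rfl⟩
      exact subset_closure ⟨(Subgroup.mem_normalizer_iff.1 (hMn hh) z).1 hzM,
        by rw [← map_pow, hzp, map_one]⟩
    have h1 : Nat.card N ≤ p ^ (2 + 1) := card_le_cube hR hNexp hrk
    have hN1 : ⁅N, H⁆ ≤ N := le_normalizer_iff_commutator_le_left.1 hNn
    have hN1n : H ≤ normalizer ((⁅N, H⁆ : Subgroup R) : Set R) := Cfsg.Lib.Coprime.le_normalizer_commutator_right H N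
    have h2 := commutator_card_le hR hNH hNn h1
    have hN2n : H ≤ normalizer ((⁅⁅N, H⁆, H⁆ : Subgroup R) : Set R) := Cfsg.Lib.Coprime.le_normalizer_commutator_right H ⁅N, H⁆
    have h2' : Nat.card ↥⁅⁅N, H⁆, H⁆ ≤ p ^ (0 + 1) := commutator_card_le hR (hN1.trans hNH) hN1n h2
    have hN2 : ⁅⁅N, H⁆, H⁆ ≤ ⁅N, H⁆ := le_normalizer_iff_commutator_le_left.1 hN1n
    have h3' : ⁅⁅⁅N, H⁆, H⁆, H⁆ = ⊥ := by
      have h := commutator_card_le hR ((hN2.trans hN1).trans hNH) hN2n h2'
      rw [pow_zero] at h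
      exact eq_bot_of_card_le _ h
    have hcen : ∀ z ∈ ⁅⁅N, H⁆, H⁆, ∀ h ∈ H, Commute z h := fun z hz h hh =>
      commutatorElement_eq_one_iff_mul_comm.1 (mem_bot.1 (h3'.le (commutator_mem_commutator hz hh)))
    have hxN : x ∈ N := subset_closure ⟨hxM', hxp⟩
    set u := ⁅x⁻¹, y⁆ with hu
    have huN : u ∈ ⁅N, H⁆ := commutator_mem_commutator (inv_mem hxN) hy
    set v := ⁅u⁻¹, y⁆ with hv
    have hvN : v ∈ ⁅⁅N, H⁆, H⁆ := commutator_mem_commutator (inv_mem huN) hy
    set w := ⁅u⁻¹, x⁻¹⁆ with hw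
    have hwN : w ∈ ⁅⁅N, H⁆, H⁆ := commutator_mem_commutator (inv_mem huN) (inv_mem (hNH hxN))
    refine mul_pow_eq_one h3 (u := u) (v := v) (w := w) ?_ ?_ ?_ (hcen v hvN x hx) (hcen v hvN y hy) (hcen w hwN x hx)
      (hcen w hwN y hy) (hcen v hvN u (hNH (hN1 huN))) (hcen w hwN u (hNH (hN1 huN)))
      (hcen v hvN w (hNH (hN1 (hN2 hwN)))) hxp hyp (hNexp u (hN1 huN)) (hNexp v (hN1 (hN2 hvN))) (hNexp w (hN1 (hN2 hwN)))
    · rw [hu, commutatorElement_def]; group
    · rw [hv, commutatorElement_def]; group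
    · rw [hw, commutatorElement_def]; group

end Cfsg.Lib.PGroups.OmegaRankTwo
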