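/-
p-groups without both types of subgroups of order p^2; subgroups of order p^3 in groups of exponent p.
-/
import Cfsg.Agent.Frobenius.UniqueSubgroup
import Cfsg.Agent.PGroups.Bounds

set_option linter.style.haveILetI false
set_option linter.unusedSectionVars false

namespace Cfsg.Lib.OrderSquare

open Subgroup

universe u

variable {p : ℕ} [hp : Fact p.Prime]

/-- either cyclic, quaternion or of exponent `p` -/
theorem trichotomy {P : Type u} [Group P] [Finite P] (hP : IsPGroup p P)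
    (h : ∀ a : P, orderOf a = p ^ 2 → ∀ x y : P, x ^ p = 1 → x ≠ 1 → y ^ p = 1 → Commute x y → y ∈ zpowers x) :
    IsCyclic P ∨ (p = 2 ∧ ∃ k : ℕ, Nonempty (P ≃* QuaternionGroup (2 ^ k))) ∨ ∀ g : P, g ^ p = 1 := by
  by_cases hexp : ∀ g : P, g ^ p = 1
  · exact Or.inr (Or.inr hexp)
  push Not at hexp
  obtain ⟨g, hg⟩ := hexp
  obtain ⟨k, hk⟩ := IsPGroup.iff_orderOf.mp hP g
  have hk2 : 2 ≤ k := by
    by_contra hlt
    refine hg (orderOf_dvd_iff_pow_eq_one.1 ?_)
    rw [hk]
    exact (pow_dvd_pow p (show k ≤ 1 by omega)).trans (pow_one p).dvd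
  obtain ⟨a, ha⟩ : ∃ a : P, orderOf a = p ^ 2 := ⟨g ^ p ^ (k - 2), by
    rw [orderOf_pow_of_dvd (pow_ne_zero _ hp.out.ne_zero) (hk ▸ pow_dvd_pow p (Nat.sub_le k 2)), hk,
      Nat.pow_div (Nat.sub_le k 2) hp.out.pos]
    congr 1
    omega⟩
  haveI : Nontrivial P := ⟨⟨g, 1, fun e => hg (by rw [e, one_pow])⟩⟩
  haveI := hP.center_nontrivial
  obtain ⟨j, hj, hjc⟩ := (hP.to_subgroup (center P)).nontrivial_iff_card.mp inferInstance
  obtain ⟨⟨z, hz⟩, hzo⟩ := exists_prime_orderOf_dvd_card' p (hjc ▸ dvd_pow_self p (by omega) : p ∣ Nat.card (center P))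
  rw [Subgroup.orderOf_mk] at hzo
  have hz1 : z ≠ 1 := fun e => by rw [e, orderOf_one] at hzo; exact hp.out.ne_one hzo.symm
  have huniq : ∀ y : P, orderOf y = p → y ∈ zpowers z := fun y hy =>
    h a ha z y (hzo ▸ pow_orderOf_eq_one z) hz1 (hy ▸ pow_orderOf_eq_one y) (mem_center_iff.1 hz y).symm
  refine (Cfsg.Lib.UniqueSub.isCyclic_or_quaternion hP fun x y hx hy => ?_).imp id Or.inl
  have hxz : zpowers x = zpowers z := eq_of_le_of_card_ge (zpowers_le.2 (huniq x hx))
    (by rw [Nat.card_zpowers, Nat.card_zpowers, hx, hzo])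
  rw [hxz]
  exact huniq y hy

/-- in a group whose elementary and cyclic subgroups of order `p ^ 2` are conjugate, the hypothesis of `trichotomy` holds -/
theorem hyp_of_conj {G : Type u} [Group G] [Finite G] (P : Subgroup G)
    (hC : ∀ A B : Subgroup G, IsMulCommutative A → IsMulCommutative B → Nat.card A = p ^ 2 → Nat.card B = p ^ 2 →
      ∃ g : G, B = A.map (MulAut.conj g).toMonoidHom) :
    ∀ a : P, orderOf a = p ^ 2 → ∀ x y : P, x ^ p = 1 → x ≠ 1 → y ^ p = 1 → Commute x y → y ∈ zpowers x := by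
  intro a ha x y hx hx1 hy hxy
  by_contra hyx
  set E := closure ({(x : G), (y : G)} : Set G) with hE
  have hxy' : Commute (x : G) (y : G) := hxy.map P.subtype
  haveI : IsMulCommutative E := Subgroup.isMulCommutative_closure (by
    rintro u (rfl | rfl) v (rfl | rfl)
    exacts [rfl, hxy'.eq, hxy'.eq.symm, rfl])
  have hexp : ∀ e ∈ E, e ^ p = 1 := by
    intro e he
    induction he using closure_induction with
    | mem w hw =>
      rcases hw with rfl | rfl
      · rw [← Subgroup.coe_pow, hx, Subgroup.coe_one]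
      · rw [← Subgroup.coe_pow, hy, Subgroup.coe_one]
    | one => exact one_pow _
    | mul u v hu hv ihu ihv =>
      rw [(show Commute u v from congrArg Subtype.val (mul_comm' (⟨u, hu⟩ : E) ⟨v, hv⟩)).mul_pow, ihu, ihv, one_mul]
    | inv u _ ih => rw [inv_pow, ih, inv_one]
  have hEp : IsPGroup p E := fun e => ⟨1, Subtype.ext (by rw [pow_one]; simpa using hexp e e.2)⟩
  obtain ⟨k, hk⟩ := IsPGroup.iff_card.1 hEp
  have hxo : orderOf (x : G) = p := orderOf_eq_prime (by rw [← Subgroup.coe_pow, hx, Subgroup.coe_one])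
    (fun e => hx1 (Subtype.ext e))
  have hxE : zpowers (x : G) ≤ E := zpowers_le.2 (subset_closure (Or.inl rfl))
  have hk2 : 2 ≤ k := by
    by_contra hlt
    refine hyx ?_
    have he : zpowers (x : G) = E := eq_of_le_of_card_ge hxE (by
      rw [hk, Nat.card_zpowers, hxo]
      calc p ^ k ≤ p ^ 1 := Nat.pow_le_pow_right hp.out.pos (by omega)
        _ = p := pow_one p)
    obtain ⟨i, hi⟩ := mem_zpowers_iff.1 (he ▸ subset_closure (Or.inr rfl) : (y : G) ∈ zpowers (x : G))
    exact ⟨i, Subtype.ext (by simpa using hi)⟩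
  obtain ⟨B, hB⟩ := Sylow.exists_subgroup_card_pow_prime p (G := E) (n := 2) (hk ▸ pow_dvd_pow p hk2)
  have hBcard : Nat.card (B.map E.subtype) = p ^ 2 := by rw [Subgroup.card_map_of_injective E.subtype_injective, hB]
  haveI : IsMulCommutative (B.map E.subtype) := ⟨⟨by
    rintro ⟨_, u, hu, rfl⟩ ⟨_, v, hv, rfl⟩
    exact Subtype.ext (congrArg E.subtype (mul_comm' u v))⟩⟩
  obtain ⟨g, hg⟩ := hC (B.map E.subtype) (zpowers (a : G)) inferInstance inferInstance hBcard
    (by rw [Nat.card_zpowers, Subgroup.orderOf_coe, ha])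
  obtain ⟨w, ⟨v, -, rfl⟩, hw⟩ := hg ▸ mem_zpowers (a : G)
  have h1 : (a : G) ^ p = 1 := by
    rw [← hw, ← map_pow, show (E.subtype v) ^ p = 1 from hexp v v.2, map_one]
  have h2 : orderOf (a : G) ∣ p := orderOf_dvd_of_pow_eq_one h1
  rw [Subgroup.orderOf_coe, ha] at h2
  have h3 := Nat.le_of_dvd hp.out.pos h2
  have := hp.out.two_le
  nlinarith

/-- a non-abelian group of exponent `p` and order at least `p ^ 4` has abelian and non-abelian subgroups of order `p ^ 3` -/
theorem both_cube {P : Type u} [Group P] [Finite P] (hexp : ∀ g : P, g ^ p = 1) (hna : ¬ IsMulCommutative P) :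
    (∃ H : Subgroup P, Nat.card H = p ^ 3 ∧ ¬ IsMulCommutative H) ∧
      (p ^ 4 ≤ Nat.card P → ∃ A : Subgroup P, Nat.card A = p ^ 3 ∧ IsMulCommutative A) := by
  have hP : IsPGroup p P := fun g => ⟨1, by rw [pow_one]; exact hexp g⟩
  refine ⟨?_, fun h4 => ?_⟩
  · haveI : Nontrivial (P ⧸ center P) := by
      rw [← not_subsingleton_iff_nontrivial]
      intro hs
      refine hna ⟨⟨fun a b => (mem_center_iff.1 ((QuotientGroup.eq_one_iff b).1 (Subsingleton.elim _ _)) a)⟩⟩
    haveI := (hP.to_quotient (center P)).center_nontrivial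
    obtain ⟨⟨q, hq⟩, hq1⟩ := exists_ne (1 : center (P ⧸ center P))
    induction q using QuotientGroup.induction_on with
    | H x =>
    have hxz : x ∉ center P := fun h => hq1 (Subtype.ext ((QuotientGroup.eq_one_iff x).2 h))
    obtain ⟨y, hy⟩ : ∃ y, y * x ≠ x * y := by
      by_contra h; push Not at h; exact hxz (mem_center_iff.2 h)
    set c := y⁻¹ * x⁻¹ * y * x with hc
    have hcz : c ∈ center P := by
      rw [← QuotientGroup.eq_one_iff, hc]
      simp only [QuotientGroup.mk_mul, QuotientGroup.mk_inv]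
      have := mem_center_iff.1 hq (y : P ⧸ center P)
      rw [mul_assoc, this]; group
    have hcc : ∀ g : P, Commute g c := fun g => mem_center_iff.1 hcz g
    have hyx : y * x = x * y * c := by rw [hc]; group
    have hyjx : ∀ j : ℕ, y ^ j * x = x * y ^ j * c ^ j := by
      intro j
      induction j with
      | zero => simp
      | succ j ih =>
        calc y ^ (j + 1) * x = y * (y ^ j * x) := by rw [pow_succ', mul_assoc]
          _ = y * x * (y ^ j * c ^ j) := by rw [ih]; simp only [mul_assoc]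
          _ = x * y * (c * y ^ j) * c ^ j := by rw [hyx]; simp only [mul_assoc]
          _ = x * y * (y ^ j * c) * c ^ j := by rw [(hcc (y ^ j)).eq]
          _ = _ := by rw [pow_succ' y, pow_succ' c]; simp only [mul_assoc]
    have hyjxl : ∀ j l : ℕ, y ^ j * x ^ l = x ^ l * y ^ j * c ^ (j * l) := by
      intro j l
      induction l with
      | zero => simp
      | succ l ih =>
        calc y ^ j * x ^ (l + 1) = y ^ j * x ^ l * x := by rw [pow_succ, mul_assoc]
          _ = x ^ l * y ^ j * (c ^ (j * l) * x) := by rw [ih]; simp only [mul_assoc]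
          _ = x ^ l * (y ^ j * x) * c ^ (j * l) := by rw [← ((hcc x).pow_right _).eq]; simp only [mul_assoc]
          _ = x ^ l * x * y ^ j * (c ^ j * c ^ (j * l)) := by rw [hyjx]; simp only [mul_assoc]
          _ = _ := by rw [← pow_succ, ← pow_add]; ring_nf
    let S : Submonoid P :=
    { carrier := {h | ∃ i j k : ℕ, h = x ^ i * y ^ j * c ^ k}
      one_mem' := ⟨0, 0, 0, by simp⟩
      mul_mem' := by
        rintro _ _ ⟨i, j, k, rfl⟩ ⟨l, m, n, rfl⟩
        refine ⟨i + l, j + m, j * l + k + n, ?_⟩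
        calc x ^ i * y ^ j * c ^ k * (x ^ l * y ^ m * c ^ n)
            = x ^ i * y ^ j * (c ^ k * (x ^ l * y ^ m)) * c ^ n := by simp only [mul_assoc]
          _ = x ^ i * (y ^ j * x ^ l) * y ^ m * c ^ k * c ^ n := by
              rw [← ((hcc (x ^ l * y ^ m)).pow_right k).eq]; simp only [mul_assoc]
          _ = x ^ i * x ^ l * y ^ j * (c ^ (j * l) * y ^ m) * c ^ k * c ^ n := by rw [hyjxl]; simp only [mul_assoc]
          _ = (x ^ i * x ^ l) * (y ^ j * y ^ m) * (c ^ (j * l) * c ^ k * c ^ n) := by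
              rw [← ((hcc (y ^ m)).pow_right _).eq]; simp only [mul_assoc]
          _ = _ := by rw [← pow_add, ← pow_add, ← pow_add, ← pow_add] }
    let H : Subgroup P :=
    { S with
      inv_mem' := fun {h} hh => by
        have h1 : h⁻¹ = h ^ (p - 1) := by
          rw [inv_eq_iff_mul_eq_one, ← pow_succ', Nat.sub_add_cancel hp.out.one_le, hexp]
        rw [h1]
        exact S.pow_mem hh _ }
    have hHn : ¬ IsMulCommutative H := fun hc' => hy (congrArg Subtype.val (hc'.is_comm.comm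
      (⟨y, 0, 1, 0, by simp⟩ : H) ⟨x, 1, 0, 0, by simp⟩))
    refine ⟨H, ?_, hHn⟩
    obtain ⟨k, hk⟩ := IsPGroup.iff_card.1 (hP.to_subgroup H)
    have hle : Nat.card H ≤ p ^ 3 := by
      have hsurj : Function.Surjective (fun q : Fin p × Fin p × Fin p =>
          (⟨x ^ (q.1 : ℕ) * y ^ (q.2.1 : ℕ) * c ^ (q.2.2 : ℕ), _, _, _, rfl⟩ : H)) := by
        rintro ⟨_, i, j, k, rfl⟩
        refine ⟨(⟨i % p, Nat.mod_lt _ hp.out.pos⟩, ⟨j % p, Nat.mod_lt _ hp.out.pos⟩, ⟨k % p, Nat.mod_lt _ hp.out.pos⟩),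
          Subtype.ext ?_⟩
        simp only [← pow_eq_pow_mod _ (hexp _)]
      have := Nat.card_le_card_of_surjective _ hsurj
      simpa [Nat.card_prod, pow_succ, mul_assoc] using this
    rw [hk] at hle ⊢
    congr 1
    have hk3 : k ≤ 3 := (Nat.pow_le_pow_iff_right hp.out.one_lt).1 hle
    by_contra hne
    refine hHn ?_
    rcases (show k = 0 ∨ k = 1 ∨ k = 2 by omega) with rfl | rfl | rfl
    · rw [pow_zero, Nat.card_eq_one_iff_unique] at hk
      haveI := hk.1
      exact ⟨⟨fun a b => Subsingleton.elim _ _⟩⟩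
    · haveI := isCyclic_of_prime_card (hk.trans (pow_one p))
      exact inferInstance
    · exact IsPGroup.isMulCommutative_of_card_eq_prime_sq hk
  · obtain ⟨A, ⟨hAn, hAc⟩, hmax⟩ : ∃ A : Subgroup P, (A.Normal ∧ IsMulCommutative A) ∧
        ∀ B : Subgroup P, B.Normal → IsMulCommutative B → A ≤ B → B = A := by
      obtain ⟨A, hA⟩ := (Set.toFinite {A : Subgroup P | A.Normal ∧ IsMulCommutative A}).exists_maximal
        ⟨⊥, inferInstance, ⟨⟨fun x y => by rw [Subsingleton.elim x y]⟩⟩⟩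
      exact ⟨A, hA.prop, fun B h1 h2 h3 => le_antisymm (hA.2 ⟨h1, h2⟩ h3) h3⟩
    haveI := hAn
    obtain ⟨a, ha⟩ := IsPGroup.iff_card.1 (hP.to_subgroup A)
    have h1 := Cfsg.Lib.PGroups.index_centralizer_le_of_normal hP a A hAn ha
    rw [Cfsg.Lib.PGroups.centralizer_eq_self_of_maximal_normal_abelian hP A hAc hmax] at h1
    have h2 : 3 ≤ a := by
      by_contra hlt
      have h3 : Nat.card P ≤ p ^ 3 := by
        rw [← A.card_mul_index, ha]
        calc p ^ a * A.index ≤ p ^ a * p ^ (a * (a - 1) / 2) := Nat.mul_le_mul_left _ h1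
          _ ≤ p ^ 3 := by rw [← pow_add]; exact Nat.pow_le_pow_right hp.out.pos (by interval_cases a <;> norm_num)
      have := (Nat.pow_le_pow_iff_right hp.out.one_lt).1 (h4.trans h3)
      omega
    obtain ⟨B, hB⟩ := Sylow.exists_subgroup_card_pow_prime p (G := A) (n := 3) (ha ▸ pow_dvd_pow p h2)
    refine ⟨B.map A.subtype, by rw [Subgroup.card_map_of_injective A.subtype_injective, hB], ⟨⟨?_⟩⟩⟩
    rintro ⟨_, u, hu, rfl⟩ ⟨_, v, hv, rfl⟩
    haveI := hAc
    exact Subtype.ext (congrArg A.subtype (mul_comm' u v))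

theorem comm_of_exp_two {P : Type u} [Group P] (h : ∀ g : P, g ^ 2 = 1) (a b : P) : a * b = b * a := by
  have hi : ∀ g : P, g⁻¹ = g := fun g => inv_eq_iff_mul_eq_one.2 (by rw [← pow_two, h])
  rw [← hi (a * b), mul_inv_rev, hi, hi]

end Cfsg.Lib.OrderSquare
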