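import Cfsg.Agent.PGroups.MetaStep
import Cfsg.Agent.PGroups.MaxClass
import Cfsg.Agent.PGroups.CyclicIndexOdd
import Cfsg.Agent.PGroups.Commutators
import Cfsg.Agent.PGroups.Regular
import Cfsg.Agent.SolvStruct.PGroupBasics
import Cfsg.Agent.Frobenius.UniqueSubgroup

/-!
The structure of p-groups of rank two for odd p (Blackburn).
-/

set_option autoImplicit false
set_option linter.unusedSectionVars false
set_option linter.style.haveILetI false

namespace Cfsg.Lib.PGroups.RankTwoOdd

open Subgroup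
open scoped commutatorElement

universe u

variable {R : Type u} [Group R] [Finite R] {p : ℕ} [hp : Fact p.Prime]

theorem dvd_choose_two (hp2 : p ≠ 2) : p ∣ p.choose 2 :=
  hp.out.dvd_choose_self two_ne_zero (lt_of_le_of_ne hp.out.two_le fun e => hp2 e.symm)

theorem pow_choose_two (hp2 : p ≠ 2) {x : R} (hx : x ^ p = 1) : x ^ p.choose 2 = 1 := by
  obtain ⟨q, hq⟩ := dvd_choose_two (p := p) hp2
  rw [hq, pow_mul, hx, one_pow]

theorem comm_pow_one_aux (hp2 : p ≠ 2) (hR : IsPGroup p R) (hc : ∀ x : R, x ^ p = 1 → x ∈ center R) :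
    ∀ (n : ℕ) (H : Subgroup R), Nat.card H ≤ n → ∀ a ∈ H, ∀ b ∈ H,
      (∀ h ∈ H, Commute (a ^ p) h) → ⁅b, a⁆ ^ p = 1 := by
  intro n
  induction n with
  | zero => intro H h; exact absurd h (Nat.not_le.mpr Nat.card_pos)
  | succ n ih =>
    intro H hn a ha b hb hcom
    set w := b * a * b⁻¹ with hw
    have hwH : w ∈ H := mul_mem (mul_mem hb ha) (inv_mem hb)
    set K := closure ({a, w} : Set R) with hK
    have hKH : K ≤ H := (closure_le _).mpr (Set.insert_subset ha (Set.singleton_subset_iff.mpr hwH))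
    rcases eq_or_lt_of_le hKH with hKeq | hKlt
    · have h1 : zpowers a ⊔ ⁅H, H⁆ = H := by
        refine le_antisymm (sup_le (zpowers_le.mpr ha) (commutator_le.mpr fun x hx y hy => ?_)) ?_
        · exact mul_mem (mul_mem (mul_mem hx hy) (inv_mem hx)) (inv_mem hy)
        · refine hKeq.symm.le.trans ((closure_le _).mpr (Set.insert_subset (mem_sup_left (mem_zpowers a))
            (Set.singleton_subset_iff.mpr ?_)))
          have h2 : w = ⁅b, a⁆ * a := by rw [hw, commutatorElement_def, inv_mul_cancel_right]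
          rw [h2]
          exact mul_mem (mem_sup_right (commutator_mem_commutator hb ha)) (mem_sup_left (mem_zpowers a))
      have h2 := Cfsg.Lib.PGroups.Regular.eq_of_sup_commutator hR (zpowers_le.mpr ha) h1
      obtain ⟨i, rfl⟩ := mem_zpowers_iff.mp (h2.ge hb)
      rw [commutatorElement_eq_one_iff_mul_comm.mpr (Commute.self_zpow a i).symm.eq, one_pow]
    · have haK : a ∈ K := subset_closure (Set.mem_insert _ _)
      have hwK : w ∈ K := subset_closure (Set.mem_insert_of_mem _ rfl)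
      have hlt : Nat.card K ≤ n := by
        have := Cfsg.Lib.PGroups.Regular.card_lt_of_lt hKlt
        omega
      have hk := ih K hlt a haK w hwK fun h hh => hcom h (hKH hh)
      have hkc := hc _ hk
      have h1 : ⁅a⁻¹, w⁆ = ⁅w, a⁆ := by
        have h2 := mem_center_iff.mp hkc a⁻¹
        calc ⁅a⁻¹, w⁆ = a⁻¹ * ⁅w, a⁆ * a := by rw [commutatorElement_def, commutatorElement_def]; group
          _ = ⁅w, a⁆ := by rw [h2, inv_mul_cancel_right]
      have h3 := Cfsg.Lib.PGroups.mul_pow_of_central (x := w) (y := a⁻¹) (h1 ▸ hkc) p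
      rw [h1, pow_choose_two hp2 hk, mul_one, inv_pow] at h3
      rw [show ⁅b, a⁆ = w * a⁻¹ by rw [commutatorElement_def], h3, hw, conj_pow,
        (hcom b hb).symm.eq, mul_inv_cancel_right, mul_inv_cancel]

section Central

variable (hp2 : p ≠ 2) (hR : IsPGroup p R) (hc : ∀ x : R, x ^ p = 1 → x ∈ center R)

include hp2 hR hc

theorem comm_pow_one {a : R} (ha : a ^ p ∈ center R) (b : R) : ⁅b, a⁆ ^ p = 1 :=
  comm_pow_one_aux hp2 hR hc _ ⊤ le_rfl a (mem_top a) b (mem_top b) fun h _ => (mem_center_iff.mp ha h).symm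

theorem mul_pow_prime {a : R} (ha : a ^ p ∈ center R) (b : R) : (a * b) ^ p = a ^ p * b ^ p := by
  have h := comm_pow_one hp2 hR hc ha b
  rw [Cfsg.Lib.PGroups.mul_pow_of_central (hc _ h), pow_choose_two hp2 h, mul_one]

/-- The elements whose p-th power lies in a central subgroup. -/
def powRoot (T : Subgroup R) (hT : T ≤ center R) : Subgroup R where
  carrier := {a | a ^ p ∈ T}
  one_mem' := by rw [Set.mem_ofPred_eq, one_pow]; exact one_mem T
  mul_mem' := fun {a b} ha hb => by
    rw [Set.mem_ofPred_eq] at ha hb ⊢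
    rw [mul_pow_prime hp2 hR hc (hT ha)]
    exact mul_mem ha hb
  inv_mem' := fun {a} ha => by
    rw [Set.mem_ofPred_eq] at ha ⊢
    rw [inv_pow]
    exact inv_mem ha

theorem card_powRoot_le (T : Subgroup R) (hT : T ≤ center R) (V : Subgroup R)
    (hV : ∀ x : R, x ^ p = 1 → x ∈ V) :
    Nat.card (powRoot hp2 hR hc T hT) ≤ Nat.card T * Nat.card V := by
  let φ : powRoot hp2 hR hc T hT →* R :=
    MonoidHom.mk' (fun a => (a : R) ^ p) fun a b => mul_pow_prime hp2 hR hc (hT a.2) b
  rw [← φ.ker.card_mul_index, index_ker, mul_comm (Nat.card T)]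
  refine Nat.mul_le_mul (Nat.card_le_card_of_injective (fun a : φ.ker => (⟨((a : powRoot hp2 hR hc T hT) : R),
    hV _ a.2⟩ : V)) fun a b h => Subtype.ext (Subtype.ext (congrArg (fun z : V => (z : R)) h))) ?_
  exact card_le_of_le (by rintro _ ⟨a, rfl⟩; exact a.2)

/-- If the p-th power map on `Ω₂` has image of order at most p then the quotient by `Ω₁` is cyclic. -/
theorem cyclic_quotient (V : Subgroup R) [V.Normal] (hVc : V ≤ center R) (hV1 : ∀ v ∈ V, v ^ p = 1)
    (T : Subgroup R) (hT : T ≤ center R) (hTc : Nat.card T ≤ p)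
    (hV : ∀ x : R, x ^ p = 1 → x ∈ V) (hall : ∀ x : R, x ^ p ∈ V → x ^ p ∈ T) :
    IsCyclic (R ⧸ V) := by
  set W := powRoot hp2 hR hc T hT with hW
  have hVW : V ≤ W := fun v hv => show v ^ p ∈ T by rw [hV1 v hv]; exact one_mem T
  set M := W.map (QuotientGroup.mk' V) with hM
  have hMc : Nat.card M ≤ p := by
    have h1 := Subgroup.relIndex_ker (f := QuotientGroup.mk' V) (K := W)
    rw [QuotientGroup.ker_mk'] at h1
    have h2 := relIndex_mul_relIndex (⊥ : Subgroup R) V W bot_le hVW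
    rw [relIndex_bot_left, relIndex_bot_left] at h2
    have h3 := card_powRoot_le hp2 hR hc T hT V hV
    refine Nat.le_of_mul_le_mul_left ?_ (Nat.card_pos (α := V))
    rw [hM, ← h1, h2, mul_comm (Nat.card V)]
    exact h3.trans (Nat.mul_le_mul_right _ hTc)
  refine ((Cfsg.Lib.UniqueSub.isCyclic_or_quaternion (hR.to_quotient V) fun x y hx hy => ?_).resolve_right
    fun h => hp2 h.1)
  have hmem : ∀ u : R ⧸ V, orderOf u = p → u ∈ M := by
    intro u hu
    obtain ⟨a, rfl⟩ := QuotientGroup.mk'_surjective V u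
    refine mem_map_of_mem _ (hall a ?_)
    rw [← QuotientGroup.eq_one_iff]
    show QuotientGroup.mk' V (a ^ p) = 1
    rw [map_pow, ← hu, pow_orderOf_eq_one]
  have h4 : zpowers x = M := eq_of_le_of_card_ge (zpowers_le.mpr (hmem x hx))
    (by rw [Nat.card_zpowers, hx]; exact hMc)
  exact h4.ge (hmem y hy)

end Central

theorem dvd_sq_cases {m : ℕ} (h : m ∣ p ^ 2) (h1 : m ≠ p ^ 2) : m ∣ p := by
  obtain ⟨i, hi, rfl⟩ := (Nat.dvd_prime_pow hp.out).mp h
  refine (pow_dvd_pow p (show i ≤ 1 from ?_)).trans (pow_one p).dvd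
  rcases Nat.lt_or_eq_of_le hi with h | h
  · omega
  · exact absurd (by rw [h]) h1

/-- A noncentral normal subgroup of order `p²` in a p-group. -/
theorem noncentral_sq (hR : IsPGroup p R) (V : Subgroup R) [V.Normal] (hVc : Nat.card V = p ^ 2)
    (hnc : ¬ V ≤ center R) :
    ∃ z : R, z ∈ V ∧ z ∈ center R ∧ orderOf z = p ∧ (∀ v ∈ V, v ∈ center R → v ∈ zpowers z) ∧
      ∀ (g : R), ∀ v ∈ V, ⁅g, v⁆ ∈ zpowers z := by
  have hVb : V ≠ ⊥ := fun h => hnc (h ▸ bot_le)
  obtain ⟨z, hzV, hzc, hz⟩ := Cfsg.Lib.PGroups.exists_mem_center_of_normal_ne_bot hR hVb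
  set Z := zpowers z with hZdef
  have hZV : Z ≤ V := zpowers_le.mpr hzV
  have hZc : Nat.card Z = p := by rw [hZdef, Nat.card_zpowers, hz]
  haveI hZn : Z.Normal := ⟨fun u hu g => by
    rw [mem_center_iff.mp (zpowers_le.mpr hzc hu) g, mul_inv_cancel_right]; exact hu⟩
  refine ⟨z, hzV, hzc, hz, fun v hv hvc => ?_, fun g v hv => ?_⟩
  · have h1 : Nat.card ↥(V ⊓ center R) ∣ p ^ 2 := hVc ▸ card_dvd_of_le inf_le_left
    have h2 : Nat.card ↥(V ⊓ center R) ≠ p ^ 2 := fun e =>
      hnc (inf_eq_left.mp (eq_of_le_of_card_ge inf_le_left (by rw [e, hVc])))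
    have h3 : Z = V ⊓ center R := eq_of_le_of_card_ge (le_inf hZV (zpowers_le.mpr hzc))
      (by rw [hZc]; exact Nat.le_of_dvd hp.out.pos (dvd_sq_cases h1 h2))
    exact h3.ge ⟨hv, hvc⟩
  · set M := V.map (QuotientGroup.mk' Z) with hM
    haveI : M.Normal := Subgroup.Normal.map inferInstance _ (QuotientGroup.mk'_surjective Z)
    have hMc : Nat.card M = p := by
      have h1 := Subgroup.relIndex_ker (f := QuotientGroup.mk' Z) (K := V)
      rw [QuotientGroup.ker_mk'] at h1
      have h2 := relIndex_mul_relIndex (⊥ : Subgroup R) Z V bot_le hZV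
      rw [relIndex_bot_left, relIndex_bot_left, hZc, hVc, h1, pow_two] at h2
      exact Nat.eq_of_mul_eq_mul_left hp.out.pos h2
    have h3 := Cfsg.Lib.PGroups.le_center_of_card_eq_prime (hR.to_quotient Z) hMc
      (mem_map_of_mem (QuotientGroup.mk' Z) hv)
    rw [← QuotientGroup.eq_one_iff]
    show QuotientGroup.mk' Z ⁅g, v⁆ = 1
    rw [map_commutatorElement]
    exact commutatorElement_eq_one_iff_mul_comm.mpr (mem_center_iff.mp h3 _)

/-- The centraliser of a noncentral normal subgroup of order `p²` has index p. -/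
theorem index_centralizer_sq (hR : IsPGroup p R) (V : Subgroup R) [V.Normal] (hVc : Nat.card V = p ^ 2)
    (hnc : ¬ V ≤ center R) : (centralizer (V : Set R)).index = p := by
  obtain ⟨z, hzV, hzc, hz, hfix, hcom⟩ := noncentral_sq hR V hVc hnc
  obtain ⟨v, hvV, hvc⟩ := SetLike.not_le_iff_exists.mp hnc
  have hcent : ∀ g : R, ∀ u ∈ V, ⁅g, u⁆ ∈ center R := fun g u hu => zpowers_le.mpr hzc (hcom g u hu)
  let ψ : R →* R := MonoidHom.mk' (fun g => ⁅g, v⁆) fun g h => by
    show ⁅g * h, v⁆ = ⁅g, v⁆ * ⁅h, v⁆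
    have h1 := mem_center_iff.mp (hcent h v hvV)
    calc ⁅g * h, v⁆ = g * ⁅h, v⁆ * g⁻¹ * ⁅g, v⁆ := by rw [commutatorElement_def, commutatorElement_def, commutatorElement_def]; group
      _ = ⁅g, v⁆ * ⁅h, v⁆ := by rw [h1 g, mul_inv_cancel_right, h1 ⁅g, v⁆]
  have hker : ψ.ker = centralizer (V : Set R) := by
    ext g
    rw [MonoidHom.mem_ker, mem_centralizer_iff]
    refine ⟨fun hg u hu => ?_, fun hg => commutatorElement_eq_one_iff_mul_comm.mpr (hg v hvV).symm⟩
    have hg' : g * v = v * g := commutatorElement_eq_one_iff_mul_comm.mp hg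
    have hgen : V = zpowers z ⊔ zpowers v := by
      symm
      refine eq_of_le_of_card_ge (sup_le (zpowers_le.mpr hzV) (zpowers_le.mpr hvV)) ?_
      have h1 : Nat.card ↥(zpowers z ⊔ zpowers v) ∣ p ^ 2 :=
        hVc ▸ card_dvd_of_le (sup_le (zpowers_le.mpr hzV) (zpowers_le.mpr hvV))
      by_contra hlt
      have h2 := dvd_sq_cases h1 (fun e => hlt (by rw [e, hVc]))
      have h3 : zpowers z = zpowers z ⊔ zpowers v := eq_of_le_of_card_ge le_sup_left (by
        rw [Nat.card_zpowers, hz]; exact Nat.le_of_dvd hp.out.pos h2)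
      exact hvc (zpowers_le.mpr hzc (h3.ge (mem_sup_right (mem_zpowers v))))
    have hle : V ≤ centralizer {g} := by
      rw [hgen]
      exact sup_le (zpowers_le.mpr (mem_centralizer_singleton_iff.mpr (mem_center_iff.mp hzc g).symm))
        (zpowers_le.mpr (mem_centralizer_singleton_iff.mpr hg'.symm))
    exact mem_centralizer_singleton_iff.mp (hle hu)
  have hrange : Nat.card ψ.range ∣ p := by
    have := card_dvd_of_le (show ψ.range ≤ zpowers z by rintro _ ⟨g, rfl⟩; exact hcom g v hvV)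
    rwa [Nat.card_zpowers, hz] at this
  rw [← hker, index_ker]
  refine ((Nat.dvd_prime hp.out).mp hrange).resolve_left fun h1 => hvc (mem_center_iff.mpr fun g => ?_)
  have h2 : ψ g ∈ (⊥ : Subgroup R) := by rw [← Subgroup.card_eq_one.mp h1]; exact ⟨g, rfl⟩
  exact commutatorElement_eq_one_iff_mul_comm.mp (mem_bot.mp h2)

/-- A cyclic subgroup of index dividing p gives a metacyclic group. -/
theorem meta_of_index (hR : IsPGroup p R) (g : R) (hg : (zpowers g).index ∣ p) : Cfsg.IsMetacyclic R := by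
  rcases (Nat.dvd_prime hp.out).mp hg with h | h
  · have htop : zpowers g = ⊤ := index_eq_one.mp h
    haveI : Subsingleton (R ⧸ (⊤ : Subgroup R)) := QuotientGroup.subsingleton_quotient_top
    refine ⟨⊤, inferInstance, htop ▸ Subgroup.isCyclic_zpowers g, isCyclic_of_subsingleton⟩
  · haveI := Cfsg.Lib.PGroups.CyclicIndexOdd.normal_of_index hR h
    exact ⟨zpowers g, inferInstance, Subgroup.isCyclic_zpowers g,
      isCyclic_of_prime_card (p := p) ((index_eq_card _).symm.trans h)⟩

/-- The Frattini index is at most `p²` when a quotient inside the Frattini subgroup is metacyclic. -/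
theorem index_frattini_le (hR : IsPGroup p R) (V : Subgroup R) [V.Normal] (hV : V ≤ frattini R)
    (hm : Cfsg.IsMetacyclic (R ⧸ V)) : (frattini R).index ≤ p ^ 2 := by
  obtain ⟨N, hN, hNc, hQ⟩ := hm
  obtain ⟨a', ha'⟩ := (Subgroup.isCyclic_iff_exists_zpowers_eq_top N).mp hNc
  obtain ⟨t', ht'⟩ := IsCyclic.exists_zpow_surjective (G := (R ⧸ V) ⧸ N)
  obtain ⟨t'', rfl⟩ := QuotientGroup.mk'_surjective N t'
  obtain ⟨a, rfl⟩ := QuotientGroup.mk'_surjective V a'
  obtain ⟨t, rfl⟩ := QuotientGroup.mk'_surjective V t''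
  rw [index_eq_card, pow_two]
  have hexp : ∀ q : R ⧸ frattini R, q ^ p = 1 := Cfsg.Lib.PGroups.pow_prime_quotient_frattini hR
  let f : Fin p × Fin p → R ⧸ frattini R := fun ij => (a : R ⧸ frattini R) ^ (ij.1 : ℕ) * (t : R ⧸ frattini R) ^ (ij.2 : ℕ)
  have hf : Function.Surjective f := by
    intro q
    obtain ⟨g, rfl⟩ := QuotientGroup.mk_surjective q
    obtain ⟨j, hj⟩ := ht' (QuotientGroup.mk' N (QuotientGroup.mk' V g))
    have h1 : QuotientGroup.mk' V g * (QuotientGroup.mk' V t ^ j)⁻¹ ∈ N := by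
      rw [← QuotientGroup.eq_one_iff]
      show QuotientGroup.mk' N _ = 1
      rw [map_mul, map_inv, map_zpow]
      exact mul_inv_eq_one.mpr hj.symm
    obtain ⟨i, hi⟩ := mem_zpowers_iff.mp (ha'.ge h1)
    have h2 : (a ^ i * t ^ j)⁻¹ * g ∈ V := by
      rw [← QuotientGroup.eq_one_iff]
      show QuotientGroup.mk' V ((a ^ i * t ^ j)⁻¹ * g) = 1
      rw [map_mul, map_inv, map_mul, map_zpow, map_zpow, hi, inv_mul_cancel_right, inv_mul_cancel]
    have h3 : (g : R ⧸ frattini R) = (a : R ⧸ frattini R) ^ i * (t : R ⧸ frattini R) ^ j := by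
      rw [← QuotientGroup.mk_zpow, ← QuotientGroup.mk_zpow, ← QuotientGroup.mk_mul]
      exact (QuotientGroup.eq.mpr (hV h2)).symm
    have hred : ∀ (x : R ⧸ frattini R) (k : ℤ), ∃ r : Fin p, x ^ k = x ^ (r : ℕ) := fun x k =>
      ⟨⟨(k % p).toNat, by
          have := Int.emod_lt_of_pos k (Int.natCast_pos.mpr hp.out.pos)
          have := Int.emod_nonneg k (Int.natCast_ne_zero.mpr hp.out.ne_zero)
          omega⟩, by
        rw [← zpow_natCast x, Int.toNat_of_nonneg (Int.emod_nonneg k (Int.natCast_ne_zero.mpr hp.out.ne_zero))]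
        conv_lhs => rw [← Int.emod_add_mul_ediv k p, zpow_add, zpow_mul, zpow_natCast, hexp, one_zpow, mul_one]⟩
    obtain ⟨r, hr⟩ := hred (a : R ⧸ frattini R) i
    obtain ⟨s, hs⟩ := hred (t : R ⧸ frattini R) j
    exact ⟨(r, s), by show _ = _; rw [h3, hr, hs]⟩
  exact (Nat.card_le_card_of_surjective f hf).trans_eq (by rw [Nat.card_prod, Nat.card_fin])

theorem class_quotient_le {X Y : Type*} [Group X] [Group Y] [Group.IsNilpotent X] [Group.IsNilpotent Y]
    (f : X →* Y) (hf : f.ker ≤ center X) : Group.nilpotencyClass X ≤ Group.nilpotencyClass Y + 1 := by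
  rw [← Subgroup.lowerCentralSeries_eq_bot_iff_nilpotencyClass_le, Subgroup.lowerCentralSeries_succ_eq_bot]
  refine le_trans ?_ hf
  rw [← Subgroup.map_eq_bot_iff, eq_bot_iff]
  refine le_trans (Subgroup.lowerCentralSeries.map f _) ?_
  rw [Subgroup.lowerCentralSeries_eq_bot_iff_nilpotencyClass_le.mpr le_rfl]

theorem not_max_central (hp2 : p ≠ 2) {m : ℕ} {X : Type u} [Group X] [Finite X] [Group.IsNilpotent X]
    (hX : Nat.card X = p ^ m) (hm : 3 ≤ m) (hc : ∀ x : X, x ^ p = 1 → x ∈ center X)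
    (hcl : Group.nilpotencyClass X = m - 1) : False := by
  obtain ⟨hZ, -, -⟩ := Cfsg.Lib.MaxClass.center_facts m X hX hm hcl
  refine Cfsg.Lib.MaxClass.not_comm hm hcl ?_
  haveI := (Cfsg.Lib.UniqueSub.isCyclic_or_quaternion (IsPGroup.of_card hX) fun x y hx hy => by
    have h1 : zpowers x = center X := eq_of_le_of_card_ge
      (zpowers_le.mpr (hc x (by rw [← hx, pow_orderOf_eq_one]))) (by rw [hZ, Nat.card_zpowers, hx])
    exact h1.ge (hc y (by rw [← hy, pow_orderOf_eq_one]))).resolve_right fun h => hp2 h.1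
  exact mul_comm'

theorem sup_zpowers_of_index {C : Subgroup R} (hC : C.index = p) {g : R} (hg : g ∉ C) :
    C ⊔ zpowers g = ⊤ := by
  have h1 : (C ⊔ zpowers g).index ∣ p := hC ▸ index_dvd_of_le le_sup_left
  refine index_eq_one.mp (((Nat.dvd_prime hp.out).mp h1).resolve_right fun h => hg ?_)
  have h2 := relIndex_mul_index (le_sup_left : C ≤ C ⊔ zpowers g)
  rw [h, hC] at h2
  exact relIndex_eq_one.mp (mul_eq_right₀ hp.out.ne_zero |>.mp h2) (mem_sup_right (mem_zpowers g))

theorem card_map_mul (N M : Subgroup R) [N.Normal] (h : N ≤ M) :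
    Nat.card (M.map (QuotientGroup.mk' N)) * Nat.card N = Nat.card M := by
  have h1 := Subgroup.relIndex_ker (f := QuotientGroup.mk' N) (K := M)
  rw [QuotientGroup.ker_mk'] at h1
  have h2 := relIndex_mul_relIndex (⊥ : Subgroup R) N M bot_le h
  rw [relIndex_bot_left, relIndex_bot_left] at h2
  rw [← h1, mul_comm, h2]

theorem meta_of_cyclic_quotient (hR : IsPGroup p R) {n : ℕ} (hn : Nat.card R = p ^ n) (hn3 : 3 ≤ n)
    (V : Subgroup R) [V.Normal] (hV2 : Nat.card V = p ^ 2) (hV : ∀ x : R, x ^ p = 1 → x ∈ V)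
    (hq : IsCyclic (R ⧸ V)) : Cfsg.IsMetacyclic R := by
  obtain ⟨g', hg'⟩ := IsCyclic.exists_ofOrder_eq_natCard (α := R ⧸ V)
  obtain ⟨g, rfl⟩ := QuotientGroup.mk'_surjective V g'
  have hcard : Nat.card (R ⧸ V) = p ^ (n - 2) := by
    have h1 := Subgroup.card_eq_card_quotient_mul_card_subgroup V
    rw [hn, hV2] at h1
    refine Nat.eq_of_mul_eq_mul_right (pow_pos hp.out.pos 2) ?_
    rw [← h1, ← pow_add]; congr 1; omega
  obtain ⟨k, hk⟩ := IsPGroup.iff_orderOf.mp hR g
  have hle : n - 2 < k := by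
    by_contra hlt
    push Not at hlt
    have h1 : g ^ p ^ (n - 2) = 1 := orderOf_dvd_iff_pow_eq_one.mp (hk ▸ pow_dvd_pow p hlt)
    have h2 : g ^ p ^ (n - 3) ∈ V := hV _ (by
      rw [← pow_mul, ← pow_succ, show n - 3 + 1 = n - 2 by omega, h1])
    have h3 : QuotientGroup.mk' V g ^ p ^ (n - 3) = 1 := by
      rw [← map_pow]; exact (QuotientGroup.eq_one_iff _).mpr h2
    have h4 := orderOf_dvd_of_pow_eq_one h3
    rw [hg', hcard, Nat.pow_dvd_pow_iff_le_right hp.out.one_lt] at h4
    omega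
  refine meta_of_index hR g ?_
  have h1 := (zpowers g).card_mul_index
  rw [Nat.card_zpowers, hk, hn] at h1
  have h2 : p ^ (n - 1) * (zpowers g).index ∣ p ^ (n - 1) * p := by
    rw [← pow_succ, show n - 1 + 1 = n by omega, ← h1]
    exact Nat.mul_dvd_mul_right (pow_dvd_pow p (by omega)) _
  exact Nat.dvd_of_mul_dvd_mul_left (pow_pos hp.out.pos _) h2

theorem meta_abelian (hp2 : p ≠ 2) (hR : IsPGroup p R) (hab : ∀ a b : R, a * b = b * a)
    (V : Subgroup R) (hV2 : Nat.card V = p ^ 2) (hV : ∀ x : R, x ^ p = 1 → x ∈ V) :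
    Cfsg.IsMetacyclic R := by
  obtain ⟨v, hv⟩ := Finite.exists_max (fun g : R => orderOf g)
  haveI : (zpowers v).Normal := ⟨fun u hu g => by rw [hab g u, mul_inv_cancel_right]; exact hu⟩
  obtain ⟨k, hk⟩ := IsPGroup.iff_orderOf.mp hR v
  refine ⟨zpowers v, inferInstance, Subgroup.isCyclic_zpowers v, ?_⟩
  by_cases hk0 : k = 0
  · haveI : Subsingleton R := ⟨fun a b => by
      have h : ∀ c : R, c = 1 := fun c => orderOf_eq_one_iff.mp
        (le_antisymm ((hv c).trans (by rw [hk, hk0, pow_zero])) (orderOf_pos c))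
      rw [h a, h b]⟩
    haveI : Subsingleton (R ⧸ zpowers v) := (QuotientGroup.mk'_surjective _).subsingleton
    exact isCyclic_of_subsingleton
  set π := QuotientGroup.mk' (zpowers v) with hπ
  have hw : v ^ p ^ (k - 1) ∈ V := hV _ (by
    rw [← pow_mul, ← pow_succ, show k - 1 + 1 = k by omega, ← hk, pow_orderOf_eq_one])
  have hw1 : v ^ p ^ (k - 1) ≠ 1 := fun h => by
    have h1 := orderOf_dvd_of_pow_eq_one h
    rw [hk, Nat.pow_dvd_pow_iff_le_right hp.out.one_lt] at h1
    omega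
  have hMc : Nat.card (V.map π) ≤ p := by
    have h1 := Subgroup.relIndex_ker (f := π) (K := V)
    rw [hπ, QuotientGroup.ker_mk', ← inf_relIndex_right] at h1
    have h2 := relIndex_mul_relIndex (⊥ : Subgroup R) (zpowers v ⊓ V) V bot_le inf_le_right
    rw [relIndex_bot_left, relIndex_bot_left, hV2] at h2
    have h3 : Nat.card (V.map π) ∣ p := by
      rw [hπ, ← h1]
      refine dvd_sq_cases (h2 ▸ dvd_mul_left _ _) fun e => hw1 ?_
      rw [e] at h2
      have h4 : zpowers v ⊓ V = ⊥ := Subgroup.card_eq_one.mp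
        ((mul_eq_right₀ (pow_ne_zero 2 hp.out.ne_zero)).mp h2)
      exact mem_bot.mp (h4.le ⟨pow_mem (mem_zpowers v) _, hw⟩)
    exact Nat.le_of_dvd hp.out.pos h3
  refine ((Cfsg.Lib.UniqueSub.isCyclic_or_quaternion (hR.to_quotient _) fun x y hx hy => ?_).resolve_right
    fun h => hp2 h.1)
  have hmem : ∀ q : R ⧸ zpowers v, orderOf q = p → q ∈ V.map π := by
    intro q hq
    obtain ⟨a, rfl⟩ := QuotientGroup.mk'_surjective (zpowers v) q
    have h1 : a ^ p ∈ zpowers v := by
      rw [← QuotientGroup.eq_one_iff]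
      show π (a ^ p) = 1
      rw [map_pow, ← hq, pow_orderOf_eq_one]
    obtain ⟨i, hi⟩ := mem_zpowers_iff.mp h1
    have h2 : (v ^ i) ^ p ^ (k - 1) = 1 := by
      rw [hi, ← pow_mul, ← pow_succ', show k - 1 + 1 = k by omega]
      obtain ⟨j, hj⟩ := IsPGroup.iff_orderOf.mp hR a
      refine orderOf_dvd_iff_pow_eq_one.mp (hj ▸ pow_dvd_pow p ?_)
      have h3 := hv a
      rw [hj, hk] at h3
      exact (Nat.pow_le_pow_iff_right hp.out.one_lt).mp h3
    rw [← zpow_natCast, ← zpow_mul, ← orderOf_dvd_iff_zpow_eq_one, hk] at h2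
    have h3 : (p : ℤ) ∣ i := by
      refine Int.dvd_of_mul_dvd_mul_right (a := ((p ^ (k - 1) : ℕ) : ℤ))
        (by exact_mod_cast pow_ne_zero _ hp.out.ne_zero) ?_
      refine dvd_trans (dvd_of_eq ?_) h2
      rw [← Nat.cast_mul, ← pow_succ', show k - 1 + 1 = k by omega]
    obtain ⟨i', rfl⟩ := h3
    refine ⟨a * (v ^ i')⁻¹, hV _ ?_, ?_⟩
    · rw [(show Commute a (v ^ i')⁻¹ from hab _ _).mul_pow, inv_pow, ← zpow_natCast (v ^ i'), ← zpow_mul,
        mul_comm i' (p : ℤ), hi, mul_inv_cancel]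
    · rw [map_mul, map_inv, hπ, show QuotientGroup.mk' (zpowers v) (v ^ i') = 1 from
        (QuotientGroup.eq_one_iff _).mpr (zpow_mem (mem_zpowers v) i'), inv_one, mul_one]
  have h4 : zpowers x = V.map π := eq_of_le_of_card_ge (zpowers_le.mpr (hmem x hx))
    (by rw [Nat.card_zpowers, hx]; exact hMc)
  exact h4.ge (hmem y hy)

/-- The elements of order dividing p in a quotient by Z, seen inside the image of the preimage. -/
theorem small_quotient (Z W : Subgroup R) [Z.Normal] (hZW : Z ≤ W) (hW : Nat.card W ≤ Nat.card Z * p ^ 2)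
    (hmem : ∀ u : R, u ^ p ∈ Z → u ∈ W) :
    ∃ V' : Subgroup (R ⧸ Z), Nat.card V' ≤ p ^ 2 ∧ ∀ q : R ⧸ Z, q ^ p = 1 → q ∈ V' := by
  refine ⟨W.map (QuotientGroup.mk' Z), ?_, fun q hq => ?_⟩
  · have h1 := card_map_mul Z W hZW
    refine Nat.le_of_mul_le_mul_left ?_ (Nat.card_pos (α := Z))
    rw [mul_comm, h1]
    exact hW
  · obtain ⟨u, rfl⟩ := QuotientGroup.mk'_surjective Z q
    refine mem_map_of_mem _ (hmem u ?_)
    rw [← QuotientGroup.eq_one_iff]
    show QuotientGroup.mk' Z (u ^ p) = 1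
    rw [map_pow, hq]

/-- `P`-groups (p odd) with at most `p²` solutions of `x^p = 1`: metacyclic or of maximal class. -/
theorem omega_two (hp2 : p ≠ 2) : ∀ (n : ℕ) (R : Type u) [Group R] [Finite R] [Group.IsNilpotent R],
    Nat.card R = p ^ n → (∃ V : Subgroup R, Nat.card V ≤ p ^ 2 ∧ ∀ x : R, x ^ p = 1 → x ∈ V) →
    Cfsg.IsMetacyclic R ∨ (4 ≤ n ∧ Group.nilpotencyClass R = n - 1) := by
  intro n
  induction n using Nat.strong_induction_on with
  | _ n ih =>
  intro R _ _ _ hn hV₀
  obtain ⟨V, hV2', hV⟩ := hV₀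
  have hR : IsPGroup p R := IsPGroup.of_card hn
  by_cases hn3 : n ≤ 3
  · left
    by_cases hexp : ∀ x : R, x ^ p = 1
    · have h1 : Nat.card R ≤ p ^ 2 := by
        rw [← Subgroup.card_top]
        exact (Subgroup.card_le_of_le fun x _ => hV x (hexp x)).trans hV2'
      rw [hn] at h1
      have hn2 := (Nat.pow_le_pow_iff_right hp.out.one_lt).mp h1
      rcases Nat.lt_or_ge n 1 with h0 | h1'
      · refine meta_of_index hR (1 : R) ?_
        have h2 := (zpowers (1 : R)).card_mul_index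
        rw [hn, show n = 0 by omega, pow_zero] at h2
        rw [Nat.eq_one_of_mul_eq_one_left h2]
        exact one_dvd p
      · haveI : Nontrivial R := Finite.one_lt_card_iff_nontrivial.mp (hn ▸ Nat.one_lt_pow (by omega) hp.out.one_lt)
        obtain ⟨g, hg⟩ := exists_ne (1 : R)
        refine meta_of_index hR g ?_
        have hog : orderOf g = p := orderOf_eq_prime (hexp g) hg
        have h2 := (zpowers g).card_mul_index
        rw [Nat.card_zpowers, hog, hn] at h2
        refine Nat.dvd_of_mul_dvd_mul_left hp.out.pos ?_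
        rw [h2, ← pow_two]
        exact pow_dvd_pow p hn2
    · push Not at hexp
      obtain ⟨g, hg⟩ := hexp
      obtain ⟨k, hk⟩ := IsPGroup.iff_orderOf.mp hR g
      have hk2 : 2 ≤ k := by
        by_contra hlt
        exact hg (orderOf_dvd_iff_pow_eq_one.mp (hk ▸ (pow_dvd_pow p (show k ≤ 1 by omega)).trans (pow_one p).dvd))
      refine meta_of_index hR g ?_
      have h2 := (zpowers g).card_mul_index
      rw [Nat.card_zpowers, hk, hn] at h2
      have h3 : p ^ 2 * (zpowers g).index ∣ p ^ 2 * p := by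
        rw [← pow_succ]
        exact ((Nat.mul_dvd_mul_right (pow_dvd_pow p hk2) _).trans h2.dvd).trans (pow_dvd_pow p hn3)
      exact Nat.dvd_of_mul_dvd_mul_left (pow_pos hp.out.pos _) h3
  have hn4 : 4 ≤ n := by omega
  by_cases hcyc : IsCyclic R
  · left
    obtain ⟨g, hg⟩ := hcyc
    refine meta_of_index hR g ?_
    rw [index_eq_one.mpr ((eq_top_iff' (zpowers g)).mpr hg)]
    exact one_dvd p
  obtain ⟨A, hAn, hAe, hAc⟩ := Cfsg.Lib.SolvStruct.exists_normal_elementary_sq hp2 hR hcyc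
  obtain rfl : A = V := eq_of_le_of_card_ge (fun a ha => hV a (hAe.2 a ha)) (by rw [hAc]; exact hV2')
  haveI := hAn
  have hV1 : ∀ v ∈ A, v ^ p = 1 := hAe.2
  by_cases hcent : A ≤ center R
  · have hc : ∀ x : R, x ^ p = 1 → x ∈ center R := fun x hx => hcent (hV x hx)
    set W := powRoot hp2 hR hc A hcent with hWdef
    let φ : W →* R := MonoidHom.mk' (fun a => (a : R) ^ p) fun a b => mul_pow_prime hp2 hR hc (hcent a.2) b
    have hφ : φ.range ≤ A := by rintro _ ⟨a, rfl⟩; exact a.2
    by_cases hsmall : Nat.card φ.range ≤ p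
    · left
      exact meta_of_cyclic_quotient hR hn (by omega) A hAc hV (cyclic_quotient hp2 hR hc A hcent hV1 φ.range
        (hφ.trans hcent) hsmall hV (fun x hx => ⟨⟨x, hx⟩, rfl⟩))
    have hVrange : A = φ.range := by
      refine (eq_of_le_of_card_ge hφ ?_).symm
      have h1 : Nat.card φ.range ∣ p ^ 2 := hAc ▸ card_dvd_of_le hφ
      by_contra hlt
      exact hsmall (Nat.le_of_dvd hp.out.pos (dvd_sq_cases h1 (fun e => hlt (by rw [hAc, e]))))
    have hVΦ : A ≤ frattini R := by
      rw [hVrange]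
      rintro _ ⟨a, rfl⟩
      exact Cfsg.Lib.PGroups.pow_mem_frattini hR (a : R)
    by_cases hab : commutator R = ⊥
    · left
      exact meta_abelian hp2 hR (fun a b => commutatorElement_eq_one_iff_mul_comm.mp
        (mem_bot.mp (hab ▸ commutator_mem_commutator (mem_top a) (mem_top b)))) A hAc hV
    -- the quotient by A
    have hmetaA : ∀ m, m < n → Nat.card (R ⧸ A) = p ^ m → Cfsg.IsMetacyclic (R ⧸ A) := by
      intro m hm hcard
      haveI : Group.IsNilpotent (R ⧸ A) := (hR.to_quotient A).isNilpotent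
      have hsq := small_quotient A W (fun v hv => show v ^ p ∈ A by rw [hV1 v hv]; exact one_mem A)
        ((card_powRoot_le hp2 hR hc A hcent A hV).trans_eq (by rw [hAc])) (fun u hu => hu)
      rcases ih m hm (R ⧸ A) hcard hsq with hmt | ⟨h4, hcl⟩
      · exact hmt
      exfalso
      refine not_max_central hp2 hcard (by omega) (fun q hq => ?_) hcl
      obtain ⟨u, rfl⟩ := QuotientGroup.mk'_surjective A q
      have hu : u ^ p ∈ A := by
        rw [← QuotientGroup.eq_one_iff]
        show QuotientGroup.mk' A (u ^ p) = 1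
        rw [map_pow, hq]
      refine mem_center_iff.mpr fun r => ?_
      obtain ⟨g, rfl⟩ := QuotientGroup.mk'_surjective A r
      refine commutatorElement_eq_one_iff_mul_comm.mp ?_
      rw [← map_commutatorElement]
      exact (QuotientGroup.eq_one_iff _).mpr (hV _ (comm_pow_one hp2 hR hc (hcent hu) g))
    have hcardA : Nat.card (R ⧸ A) = p ^ (n - 2) := by
      have h1 := Subgroup.card_eq_card_quotient_mul_card_subgroup A
      rw [hn, hAc] at h1
      refine Nat.eq_of_mul_eq_mul_right (pow_pos hp.out.pos 2) ?_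
      rw [← h1, ← pow_add]; congr 1; omega
    have hidx := index_frattini_le hR A hVΦ (hmetaA (n - 2) (by omega) hcardA)
    obtain ⟨z, hzD, hzc, hz⟩ := Cfsg.Lib.PGroups.exists_mem_center_of_normal_ne_bot hR hab
    have hzA : z ∈ A := hV z (by rw [← hz, pow_orderOf_eq_one])
    haveI hZn : (zpowers z).Normal := ⟨fun u hu g => by
      rw [mem_center_iff.mp (zpowers_le.mpr hzc hu) g, mul_inv_cancel_right]; exact hu⟩
    have hcardZ : Nat.card (R ⧸ zpowers z) = p ^ (n - 1) := by
      have h1 := Subgroup.card_eq_card_quotient_mul_card_subgroup (zpowers z)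
      rw [hn, Nat.card_zpowers, hz] at h1
      refine Nat.eq_of_mul_eq_mul_right hp.out.pos ?_
      rw [← h1, ← pow_succ]; congr 1; omega
    haveI : Group.IsNilpotent (R ⧸ zpowers z) := (hR.to_quotient _).isNilpotent
    have hsq := small_quotient (zpowers z) (powRoot hp2 hR hc (zpowers z) (zpowers_le.mpr hzc))
      (fun u hu => by
        show u ^ p ∈ zpowers z
        rw [hV1 u (zpowers_le.mpr hzA hu)]; exact one_mem _)
      ((card_powRoot_le hp2 hR hc _ _ A hV).trans_eq (by rw [hAc])) (fun u hu => hu)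
    rcases ih (n - 1) (by omega) _ hcardZ hsq with hmt | ⟨h4, hcl⟩
    · left
      refine Cfsg.Lib.PGroups.MetaStep.meta_step hp2 hR ?_ hidx z hzD hzc hz hmt
      refine le_trans (Subgroup.card_le_of_le ((closure_le _).mpr fun x hx => hV x hx.2)) hV2'
    exfalso
    haveI : Group.IsNilpotent (R ⧸ A) := (hR.to_quotient A).isNilpotent
    let f : R ⧸ zpowers z →* R ⧸ A := QuotientGroup.map (zpowers z) A (MonoidHom.id R) (zpowers_le.mpr hzA)
    have hker : f.ker ≤ center (R ⧸ zpowers z) := by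
      intro q hq
      obtain ⟨g, rfl⟩ := QuotientGroup.mk'_surjective (zpowers z) q
      have hgA : g ∈ A := (QuotientGroup.eq_one_iff g).mp hq
      refine mem_center_iff.mpr fun r => ?_
      obtain ⟨h, rfl⟩ := QuotientGroup.mk'_surjective (zpowers z) r
      rw [← map_mul, ← map_mul, mem_center_iff.mp (hcent hgA) h]
    have h5 := class_quotient_le f hker
    have h6 := Cfsg.Lib.MaxClass.class_le (n - 2) (R ⧸ A) hcardA (by omega)
    refine not_max_central (X := R ⧸ A) hp2 hcardA (by omega) (fun q hq => ?_) (by omega)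
    obtain ⟨u, rfl⟩ := QuotientGroup.mk'_surjective A q
    have hu : u ^ p ∈ A := by
      rw [← QuotientGroup.eq_one_iff]
      show QuotientGroup.mk' A (u ^ p) = 1
      rw [map_pow, hq]
    refine mem_center_iff.mpr fun r => ?_
    obtain ⟨g, rfl⟩ := QuotientGroup.mk'_surjective A r
    refine commutatorElement_eq_one_iff_mul_comm.mp ?_
    rw [← map_commutatorElement]
    exact (QuotientGroup.eq_one_iff _).mpr (hV _ (comm_pow_one hp2 hR hc (hcent hu) g))
  -- A is not central
  set C := centralizer (A : Set R) with hCdef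
  have hCi : C.index = p := index_centralizer_sq hR A hAc hcent
  haveI hCn : C.Normal := Cfsg.Lib.PGroups.CyclicIndexOdd.normal_of_index hR hCi
  have hpowC : ∀ g : R, g ^ p ∈ C := fun g => by
    have := Subgroup.pow_index_mem C g
    rwa [hCi] at this
  obtain ⟨z, hzA, hzc, hz, hfix, hcom⟩ := noncentral_sq hR A hAc hcent
  have hgen : ∀ g ∉ C, ∀ x : R, (∀ c ∈ C, Commute c x) → Commute g x → x ∈ center R := by
    intro g hg x hxC hxg
    refine mem_center_iff.mpr fun r => ?_
    have h1 : C ⊔ zpowers g ≤ centralizer {x} :=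
      sup_le (fun c hc => mem_centralizer_singleton_iff.mpr (hxC c hc).eq)
        (zpowers_le.mpr (mem_centralizer_singleton_iff.mpr hxg.eq))
    rw [sup_zpowers_of_index hCi hg] at h1
    exact mem_centralizer_singleton_iff.mp (h1 (mem_top r))
  have hAC : ∀ v ∈ A, ∀ c ∈ C, Commute c v := fun v hv c hc => (mem_centralizer_iff.mp hc v hv).symm
  by_cases hsm : ∃ y ∉ C, y ^ p ^ 2 = 1
  · right
    obtain ⟨y, hyC, hy⟩ := hsm
    have hyp : y ^ p ≠ 1 := fun h => hyC (by
      refine mem_centralizer_iff.mpr fun a ha => ?_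
      exact congrArg Subtype.val (hAe.1.is_comm.comm (⟨a, ha⟩ : A) ⟨y, hV y h⟩))
    haveI : IsCyclic (centralizer ({y} : Set R)) :=
      (Cfsg.Lib.UniqueSub.isCyclic_or_quaternion (hR.to_subgroup _) fun a b ha hb => by
        have hmem : ∀ c : centralizer ({y} : Set R), orderOf c = p → (c : R) ∈ zpowers z := fun c hc => by
          have h1 : (c : R) ∈ A := hV _ (by
            rw [← Subgroup.coe_pow, ← hc, pow_orderOf_eq_one, Subgroup.coe_one])
          exact hfix _ h1 (hgen y hyC _ (hAC _ h1) (mem_centralizer_singleton_iff.mp c.2).symm)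
        have h1 : zpowers (a : R) = zpowers z := eq_of_le_of_card_ge (zpowers_le.mpr (hmem a ha))
          (by rw [Nat.card_zpowers, Nat.card_zpowers, hz, Subgroup.orderOf_coe, ha])
        obtain ⟨i, hi⟩ := mem_zpowers_iff.mp (h1.ge (hmem b hb))
        exact ⟨i, Subtype.ext (by rw [← hi]; simp)⟩).resolve_right fun h => hp2 h.1
    obtain ⟨c, hc⟩ := (Subgroup.isCyclic_iff_exists_zpowers_eq_top (centralizer ({y} : Set R))).mp inferInstance
    obtain ⟨i, hi⟩ := mem_zpowers_iff.mp (hc.ge (mem_centralizer_singleton_iff.mpr rfl) : y ∈ zpowers c)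
    have hyz : zpowers y = zpowers c := by
      refine le_antisymm (zpowers_le.mpr ⟨i, hi⟩) (zpowers_le.mpr ?_)
      have hpi : ¬ (p : ℤ) ∣ i := by
        rintro ⟨j, rfl⟩
        rw [zpow_mul, zpow_natCast] at hi
        exact hyC (hi ▸ zpow_mem (hpowC c) j)
      obtain ⟨k, hk⟩ := IsPGroup.iff_orderOf.mp hR c
      have hcop : IsCoprime i ((p : ℤ) ^ k) :=
        ((Nat.prime_iff_prime_int.mp hp.out).coprime_iff_not_dvd.mpr hpi).symm.pow_right
      obtain ⟨a, b, hab⟩ := hcop
      refine ⟨a, ?_⟩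
      have h1 : c ^ ((p : ℤ) ^ k) = 1 := by
        rw [← Nat.cast_pow, zpow_natCast, ← hk, pow_orderOf_eq_one]
      show y ^ a = c
      conv_rhs => rw [← zpow_one c, ← hab, zpow_add, mul_comm b, zpow_mul c ((p : ℤ) ^ k), h1, one_zpow, mul_one]
      rw [← hi, ← zpow_mul, mul_comm a]
    have hCy : centralizer ({y} : Set R) = zpowers y := by rw [hyz, hc]
    refine ⟨hn4, Cfsg.Lib.MaxClass.of_self_centralizing n R hn (zpowers y) ?_ ?_⟩
    · rw [Nat.card_zpowers]
      exact orderOf_eq_prime_pow (n := 1) (by rw [pow_one]; exact hyp) hy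
    · refine le_antisymm (fun g hg => hCy.le (mem_centralizer_singleton_iff.mpr ?_)) fun g hg => ?_
      · exact (mem_centralizer_iff.mp hg y (mem_zpowers y)).symm
      · refine mem_centralizer_iff.mpr fun u hu => ?_
        obtain ⟨a, rfl⟩ := mem_zpowers_iff.mp hg
        obtain ⟨b, rfl⟩ := mem_zpowers_iff.mp hu
        exact (Commute.zpow_zpow_self y b a).eq
  push Not at hsm
  left
  haveI hZn : (zpowers z).Normal := ⟨fun u hu g => by
    rw [mem_center_iff.mp (zpowers_le.mpr hzc hu) g, mul_inv_cancel_right]; exact hu⟩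
  have hZ1 : ∀ u ∈ zpowers z, u ^ p = 1 := fun u hu => hV1 u (zpowers_le.mpr hzA hu)
  have hrootC : ∀ u : R, u ^ p ∈ zpowers z → u ∈ C := fun u hu => by
    by_contra h
    exact hsm u h (by rw [pow_two, pow_mul, hZ1 _ hu])
  have hzC : z ∈ C := mem_centralizer_iff.mpr fun a _ => mem_center_iff.mp hzc a
  have hcC : ∀ x : C, x ^ p = 1 → x ∈ center C := fun x hx => mem_center_iff.mpr fun y => Subtype.ext
    (hAC _ (hV _ (by rw [← Subgroup.coe_pow, hx, Subgroup.coe_one])) _ y.2).eq
  set ZC := (zpowers z).subgroupOf C with hZCdef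
  have hZCc : ZC ≤ center C := fun u hu => mem_center_iff.mpr fun y => Subtype.ext
    (mem_center_iff.mp (zpowers_le.mpr hzc hu) y)
  set WC := powRoot hp2 (hR.to_subgroup C) hcC ZC hZCc with hWCdef
  set W := WC.map C.subtype with hWdef
  have hWmem : ∀ u : R, u ^ p ∈ zpowers z → u ∈ W := fun u hu =>
    ⟨⟨u, hrootC u hu⟩, (show (⟨u, hrootC u hu⟩ : C) ^ p ∈ ZC from hu), rfl⟩
  have hWcard : Nat.card W ≤ p * p ^ 2 := by
    rw [card_map_of_injective C.subtype_injective]
    refine (card_powRoot_le hp2 (hR.to_subgroup C) hcC ZC hZCc (A.subgroupOf C)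
      fun x hx => hV (x : R) (by rw [← Subgroup.coe_pow, hx, Subgroup.coe_one])).trans ?_
    refine Nat.mul_le_mul ?_ ?_
    · rw [hZCdef, Nat.card_congr (subgroupOfEquivOfLe (zpowers_le.mpr hzC)).toEquiv, Nat.card_zpowers, hz]
    · refine (Nat.card_le_card_of_injective (fun x : A.subgroupOf C => (⟨((x : C) : R), x.2⟩ : A))
        fun a b h => Subtype.ext (Subtype.ext (congrArg (fun v : A => (v : R)) h))).trans hV2'
  -- an element of order p² in the centraliser of an outside element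
  have hroot : ∀ g ∉ C, ∃ e : R, e ∈ zpowers g ∧ e ^ p ∈ zpowers z ∧ e ^ p ≠ 1 := by
    intro g hg
    obtain ⟨k, hk⟩ := IsPGroup.iff_orderOf.mp hR g
    have hk3 : 3 ≤ k := by
      by_contra hlt
      exact hsm g hg (orderOf_dvd_iff_pow_eq_one.mp (hk ▸ pow_dvd_pow p (show k ≤ 2 by omega)))
    refine ⟨g ^ p ^ (k - 2), pow_mem (mem_zpowers g) _, ?_, ?_⟩
    · rw [← pow_mul, ← pow_succ]
      have h1 : g ^ p ^ (k - 2 + 1) ∈ A := hV _ (by
        rw [← pow_mul, ← pow_succ, show k - 2 + 1 + 1 = k by omega, ← hk, pow_orderOf_eq_one])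
      exact hfix _ h1 (hgen g hg _ (hAC _ h1) ((Commute.refl g).pow_right _))
    · rw [← pow_mul, ← pow_succ]
      intro h
      have h1 := orderOf_dvd_of_pow_eq_one h
      rw [hk, Nat.pow_dvd_pow_iff_le_right hp.out.one_lt] at h1
      omega
  have hcentZ : ∀ g ∉ C, ∀ u : R, u ^ p ∈ zpowers z → ⁅g, u⁆ ∈ zpowers z := by
    intro g hg u hu
    obtain ⟨e, heg, hep, hep1⟩ := hroot g hg
    have heq : W = A ⊔ zpowers e := by
      symm
      refine eq_of_le_of_card_ge (sup_le (fun v hv => hWmem v (by rw [hV1 v hv]; exact one_mem _))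
        (zpowers_le.mpr (hWmem e hep))) (hWcard.trans ?_)
      have h1 : Nat.card A ∣ Nat.card ↥(A ⊔ zpowers e) := card_dvd_of_le le_sup_left
      obtain ⟨m, hm⟩ := IsPGroup.iff_card.mp (hR.to_subgroup (A ⊔ zpowers e))
      rw [hm, hAc, Nat.pow_dvd_pow_iff_le_right hp.out.one_lt] at h1
      rw [hm, ← pow_succ']
      refine Nat.pow_le_pow_right hp.out.pos ?_
      rcases Nat.lt_or_eq_of_le h1 with h | h
      · omega
      · exfalso
        have h2 : A = A ⊔ zpowers e := eq_of_le_of_card_ge le_sup_left (by rw [hm, hAc, h])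
        exact hep1 (hV1 e (h2.ge (mem_sup_right (mem_zpowers e))))
    obtain ⟨v, hv, e', he', rfl⟩ := mem_sup_of_normal_left.mp (heq.le (hWmem u hu))
    obtain ⟨i, rfl⟩ := mem_zpowers_iff.mp he'
    obtain ⟨j, rfl⟩ := mem_zpowers_iff.mp heg
    have hge : ⁅g, (g ^ j) ^ i⁆ = 1 := commutatorElement_eq_one_iff_mul_comm.mpr
      (((Commute.refl g).zpow_right j).zpow_right i).eq
    have h1 : ⁅g, v * (g ^ j) ^ i⁆ = ⁅g, v⁆ * (v * ⁅g, (g ^ j) ^ i⁆ * v⁻¹) := by
      rw [commutatorElement_def, commutatorElement_def, commutatorElement_def]; group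
    rw [h1, hge, mul_one, mul_inv_cancel, mul_one]
    exact hcom g v hv
  obtain ⟨g₀, hg₀⟩ : ∃ g₀, g₀ ∉ C := by
    by_contra h
    push Not at h
    rw [show C = ⊤ from eq_top_iff.mpr fun x _ => h x, index_top] at hCi
    exact hp.out.ne_one hCi.symm
  have hcardZ : Nat.card (R ⧸ zpowers z) = p ^ (n - 1) := by
    have h1 := Subgroup.card_eq_card_quotient_mul_card_subgroup (zpowers z)
    rw [hn, Nat.card_zpowers, hz] at h1
    refine Nat.eq_of_mul_eq_mul_right hp.out.pos ?_
    rw [← h1, ← pow_succ]; congr 1; omega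
  haveI : Group.IsNilpotent (R ⧸ zpowers z) := (hR.to_quotient _).isNilpotent
  have hmt : Cfsg.IsMetacyclic (R ⧸ zpowers z) := by
    refine (ih (n - 1) (by omega) _ hcardZ (small_quotient (zpowers z) W
      (fun u hu => hWmem u (by rw [hZ1 u hu]; exact one_mem _))
      (hWcard.trans_eq (by rw [Nat.card_zpowers, hz])) hWmem)).resolve_right ?_
    rintro ⟨h4, hcl⟩
    refine not_max_central hp2 hcardZ (by omega) (fun q hq => ?_) hcl
    obtain ⟨u, rfl⟩ := QuotientGroup.mk'_surjective (zpowers z) q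
    have hu : u ^ p ∈ zpowers z := by
      rw [← QuotientGroup.eq_one_iff]
      show QuotientGroup.mk' (zpowers z) (u ^ p) = 1
      rw [map_pow, hq]
    set π := QuotientGroup.mk' (zpowers z) with hπ
    have hout : ∀ g ∉ C, g ∈ (centralizer {π u}).comap π := fun g hg => by
      refine mem_comap.mpr (mem_centralizer_singleton_iff.mpr (commutatorElement_eq_one_iff_mul_comm.mp ?_))
      rw [← map_commutatorElement]
      exact (QuotientGroup.eq_one_iff _).mpr (hcentZ g hg u hu)
    refine mem_center_iff.mpr fun r => ?_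
    obtain ⟨g, rfl⟩ := QuotientGroup.mk'_surjective (zpowers z) r
    refine mem_centralizer_singleton_iff.mp (mem_comap.mp (?_ : g ∈ (centralizer {π u}).comap π))
    by_cases hg : g ∈ C
    · have h1 := hout (g * g₀) (fun h => hg₀ ((mul_mem_cancel_left hg).mp h))
      simpa using mul_mem h1 (inv_mem (hout g₀ hg₀))
    · exact hout g hg
  obtain ⟨e, -, hep, hep1⟩ := hroot g₀ hg₀
  have heZ : zpowers (e ^ p) = zpowers z := by
    refine eq_of_le_of_card_ge (zpowers_le.mpr hep) ?_
    rw [Nat.card_zpowers, Nat.card_zpowers, hz, orderOf_eq_prime (hZ1 _ hep) hep1]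
  have hZΦ : zpowers z ≤ frattini R := heZ ▸ zpowers_le.mpr (Cfsg.Lib.PGroups.pow_mem_frattini hR e)
  have hzD : z ∈ commutator R := by
    obtain ⟨v, hvA, hv1⟩ : ∃ v ∈ A, ⁅g₀, v⁆ ≠ 1 := by
      by_contra h
      push Not at h
      exact hg₀ (mem_centralizer_iff.mpr fun v hv => (commutatorElement_eq_one_iff_mul_comm.mp (h v hv)).symm)
    have h1 : zpowers ⁅g₀, v⁆ = zpowers z := eq_of_le_of_card_ge (zpowers_le.mpr (hcom g₀ v hvA))
      (by rw [Nat.card_zpowers, Nat.card_zpowers, hz, orderOf_eq_prime (hZ1 _ (hcom g₀ v hvA)) hv1])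
    exact (zpowers_le.mpr (commutator_mem_commutator (mem_top g₀) (mem_top v))) (h1.ge (mem_zpowers z))
  exact Cfsg.Lib.PGroups.MetaStep.meta_step hp2 hR
    (le_trans (Subgroup.card_le_of_le ((closure_le _).mpr fun x hx => hV x hx.2)) hV2')
    (index_frattini_le hR (zpowers z) hZΦ hmt) z hzD hzc hz hmt

end Cfsg.Lib.PGroups.RankTwoOdd
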