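/-
Non-abelian normal subgroups with centre of order two in 2-groups of sectional rank at most four.
-/
import Cfsg.Agent.Coprime.Sylow
import Cfsg.Agent.Coprime.SolvableBasics
import Cfsg.Agent.PGroups.Basic
import Cfsg.Prelude.Def_CaseTheorems

set_option autoImplicit false
set_option linter.style.haveILetI false
set_option linter.unusedSectionVars false

namespace Cfsg.Lib.SectionalRank

open Subgroup Cfsg.Lib.Coprime
open scoped commutatorElement

universe u

variable {S : Type u} [Group S] [Finite S]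

theorem sectional_bound {k : ℕ} (hr : Cfsg.SectionalPRankLE 2 k S) {N U : Subgroup S}
    (hn : U ≤ normalizer (N : Set S)) (hsq : ∀ u ∈ U, u * u ∈ N) : N.relIndex U ≤ 2 ^ k := by
  have hninst : (N.subgroupOf U).Normal := Subgroup.normal_subgroupOf_of_le_normalizer hn
  haveI := hninst
  have hexp : ∀ q : U ⧸ N.subgroupOf U, q ^ 2 = 1 := fun q => by
    obtain ⟨x, rfl⟩ := QuotientGroup.mk'_surjective _ q
    rw [pow_two, ← map_mul]
    exact (QuotientGroup.eq_one_iff _).2 (mem_subgroupOf.2 (hsq _ x.2))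
  have hc : IsMulCommutative (⊤ : Subgroup (U ⧸ N.subgroupOf U)) := ⟨⟨fun a b => Subtype.ext (by
    have hinv : ∀ q : U ⧸ N.subgroupOf U, q⁻¹ = q := fun q =>
      inv_eq_of_mul_eq_one_right (by rw [← pow_two]; exact hexp q)
    show (a : U ⧸ N.subgroupOf U) * b = b * a
    rw [← hinv ((a : U ⧸ N.subgroupOf U) * b), mul_inv_rev, hinv, hinv])⟩⟩
  have h := hr U (N.subgroupOf U) ⊤ hc (fun a _ => hexp a)
  rwa [card_top] at h

theorem frattini_index_ge {P : Type u} [Group P] [Finite P] (hP : IsPGroup 2 P) (hna : ¬ IsMulCommutative P) :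
    4 ≤ (frattini P).index := by
  haveI : Fact (Nat.Prime 2) := ⟨Nat.prime_two⟩
  obtain ⟨r, hr⟩ := hP.index (frattini P)
  rcases Nat.lt_or_ge r 2 with h | h
  · exfalso
    have hq : Nat.card (P ⧸ frattini P) = 2 ^ r := by rw [← index_eq_card, hr]
    haveI : IsCyclic (P ⧸ frattini P) := by
      interval_cases r
      · haveI : Subsingleton (P ⧸ frattini P) := (Nat.card_eq_one_iff_unique.1 (by simpa using hq)).1
        infer_instance
      · exact isCyclic_of_prime_card (p := 2) (by simpa using hq)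
    haveI := Cfsg.Lib.PGroups.isCyclic_of_isCyclic_quotient_frattini (P := P)
    exact hna ⟨⟨fun a b => (letI := IsCyclic.commGroup (α := P); mul_comm a b)⟩⟩
  · rw [hr]
    calc 4 = 2 ^ 2 := by norm_num
      _ ≤ 2 ^ r := Nat.pow_le_pow_right two_pos h

theorem center_le_of_normal {P : Type u} [Group P] [Finite P] [Group.IsNilpotent P]
    (hZ : Nat.card (center P) = 2) (N : Subgroup P) [N.Normal] (hN : N ≠ ⊥) : center P ≤ N := by
  have h1 := inf_center_ne_bot N hN
  haveI : Fact (Nat.Prime (Nat.card (center P))) := ⟨hZ.symm ▸ Nat.prime_two⟩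
  rcases ((N ⊓ center P).subgroupOf (center P)).eq_bot_or_eq_top_of_prime_card with h | h
  · exact absurd (by
      rw [← map_subgroupOf_eq_of_le (inf_le_right : N ⊓ center P ≤ center P), h, Subgroup.map_bot]) h1
  · exact fun x hx => (Subgroup.mem_inf.1 (subgroupOf_eq_top.1 h hx)).1

/-- `U` normalizes the non-abelian subgroups `P`, `Q` with different centres of order two -/
theorem main {k : ℕ} (h2 : IsPGroup 2 S) (hr : Cfsg.SectionalPRankLE 2 k S) (U P Q : Subgroup S)
    (hPU : P ≤ U) (hQU : Q ≤ U) (hUP : U ≤ normalizer (P : Set S)) (hUQ : U ≤ normalizer (Q : Set S))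
    (hP : ¬ IsMulCommutative P) (hQ : ¬ IsMulCommutative Q)
    (hZP : Nat.card (center P) = 2) (hZQ : Nat.card (center Q) = 2)
    (hne : (center P).map P.subtype ≠ (center Q).map Q.subtype) :
    P ⊓ Q = ⊥ ∧ (∀ x ∈ P, ∀ y ∈ Q, x * y = y * x) ∧
      (k ≤ 4 → U ⊓ centralizer ((P ⊔ Q : Subgroup S) : Set S) ≤ P ⊔ Q) := by
  haveI : Fact (Nat.Prime 2) := ⟨Nat.prime_two⟩
  haveI : Group.IsNilpotent P := (h2.to_subgroup P).isNilpotent
  haveI : Group.IsNilpotent Q := (h2.to_subgroup Q).isNilpotent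
  have hinf : P ⊓ Q = ⊥ := by
    by_contra hb
    haveI : ((P ⊓ Q).subgroupOf P).Normal := Subgroup.normal_subgroupOf_of_le_normalizer
      (le_normalizer_inf le_normalizer (hPU.trans hUQ))
    haveI : ((P ⊓ Q).subgroupOf Q).Normal := Subgroup.normal_subgroupOf_of_le_normalizer
      (le_normalizer_inf (hQU.trans hUP) le_normalizer)
    have h1 : (P ⊓ Q).subgroupOf P ≠ ⊥ := fun e => hb (by
      rw [← map_subgroupOf_eq_of_le (inf_le_left : P ⊓ Q ≤ P), e, Subgroup.map_bot])
    have h2' : (P ⊓ Q).subgroupOf Q ≠ ⊥ := fun e => hb (by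
      rw [← map_subgroupOf_eq_of_le (inf_le_right : P ⊓ Q ≤ Q), e, Subgroup.map_bot])
    have hzP := center_le_of_normal hZP _ h1
    have hzQ := center_le_of_normal hZQ _ h2'
    refine hne (eq_of_le_of_card_ge ?_ (by
      rw [card_map_of_injective P.subtype_injective, card_map_of_injective Q.subtype_injective, hZP, hZQ]))
    rintro _ ⟨z, hz, rfl⟩
    have hzQmem : (z : S) ∈ Q := (Subgroup.mem_inf.1 (mem_subgroupOf.1 (hzP hz))).2
    refine ⟨⟨z, hzQmem⟩, ?_, rfl⟩
    -- `z` commutes with the central involution of `Q`, which lies in `P`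
    by_contra hzc
    obtain ⟨w, hw⟩ : ∃ w : Q, w ∈ center Q ∧ w ≠ 1 := by
      haveI : Nontrivial (center Q) := Finite.one_lt_card_iff_nontrivial.1 (by omega)
      obtain ⟨w, hw⟩ := exists_ne (1 : center Q)
      exact ⟨w, w.2, fun h => hw (Subtype.ext h)⟩
    have hwP : (w : S) ∈ P := (Subgroup.mem_inf.1 (mem_subgroupOf.1 (hzQ hw.1))).1
    -- both lie in `P ⊓ Q`, which is normal in `Q` and contains only one central involution
    refine hzc (mem_center_iff.2 fun y => Subtype.ext ?_)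
    have hPQn : (y : S) * z * (y : S)⁻¹ ∈ P ⊓ Q :=
      (mem_normalizer_iff.1 (le_normalizer_inf (hQU.trans hUP) le_normalizer y.2) _).1 ⟨z.2, hzQmem⟩
    have hzy : (y : S) * z * (y : S)⁻¹ ∈ (center P).map P.subtype := by
      refine ⟨⟨_, (Subgroup.mem_inf.1 hPQn).1⟩, mem_center_iff.2 fun p => Subtype.ext ?_, rfl⟩
      have hp : (y : S)⁻¹ * p * y ∈ P := (mem_normalizer_iff''.1 (hUP (hQU y.2)) _).1 p.2
      have h3 : (y : S)⁻¹ * p * y * z = z * ((y : S)⁻¹ * p * y) :=
        congrArg Subtype.val (mem_center_iff.1 hz ⟨_, hp⟩)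
      calc (p : S) * (y * z * (y : S)⁻¹) = y * ((y : S)⁻¹ * p * y * z) * (y : S)⁻¹ := by group
        _ = y * (z * ((y : S)⁻¹ * p * y)) * (y : S)⁻¹ := by rw [h3]
        _ = y * z * (y : S)⁻¹ * p := by group
    obtain ⟨z', hz', hze⟩ := hzy
    obtain ⟨c, -, hc⟩ := (Nat.card_eq_two_iff' (1 : center P)).1 hZP
    have hz1 : z ≠ 1 := fun e => hzc (by subst e; exact one_mem _)
    have hz'1 : z' ≠ 1 := fun e => hz1 (Subtype.ext (by
      have h4 : (y : S) * z * (y : S)⁻¹ = 1 := by rw [← hze, e]; rfl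
      simpa using h4))
    have e1 := hc ⟨z, hz⟩ fun h => hz1 (congrArg Subtype.val h)
    have e2 := hc ⟨z', hz'⟩ fun h => hz'1 (congrArg Subtype.val h)
    have e3 : z' = z := congrArg Subtype.val (e2.trans e1.symm)
    rw [e3] at hze
    exact eq_mul_inv_iff_mul_eq.1 hze |>.symm
  have hcomm : ∀ x ∈ P, ∀ y ∈ Q, x * y = y * x := fun x hx y hy => by
    have h1 : x * y * x⁻¹ * y⁻¹ ∈ P ⊓ Q := Subgroup.mem_inf.2 ⟨by
      rw [show x * y * x⁻¹ * y⁻¹ = x * (y * x⁻¹ * y⁻¹) by group]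
      exact mul_mem hx ((mem_normalizer_iff.1 (hUP (hQU hy)) _).1 (inv_mem hx)),
      mul_mem ((mem_normalizer_iff.1 (hUQ (hPU hx)) _).1 hy) (inv_mem hy)⟩
    rw [hinf, mem_bot, mul_inv_eq_one] at h1
    exact mul_inv_eq_iff_eq_mul.1 h1
  refine ⟨hinf, hcomm, fun hk => ?_⟩
  classical
  by_contra hnle
  obtain ⟨c₀, hc₀, hc₀n⟩ := SetLike.not_le_iff_exists.1 hnle
  -- an element outside whose square is inside
  obtain ⟨c, hc, hcn, hc2⟩ : ∃ c ∈ U ⊓ centralizer ((P ⊔ Q : Subgroup S) : Set S),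
      c ∉ P ⊔ Q ∧ c * c ∈ P ⊔ Q := by
    obtain ⟨j, hj⟩ := IsPGroup.iff_orderOf.1 h2 c₀
    have hex : ∃ i, c₀ ^ 2 ^ i ∈ P ⊔ Q := ⟨j, by rw [← hj, pow_orderOf_eq_one]; exact one_mem _⟩
    have h0 : Nat.find hex ≠ 0 := fun e => hc₀n (by
      have := Nat.find_spec hex
      rwa [e, pow_zero, pow_one] at this)
    refine ⟨c₀ ^ 2 ^ (Nat.find hex - 1), pow_mem hc₀ _, Nat.find_min hex (by omega), ?_⟩
    rw [← pow_add, ← two_mul, ← pow_succ', Nat.sub_add_cancel (Nat.one_le_iff_ne_zero.2 h0)]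
    exact Nat.find_spec hex
  obtain ⟨hcU, hcC⟩ := Subgroup.mem_inf.1 hc
  set ΦP := (frattini P).map P.subtype with hΦP
  set ΦQ := (frattini Q).map Q.subtype with hΦQ
  set N := ΦP ⊔ ΦQ with hN
  have hQP : Q ≤ normalizer (P : Set S) := hQU.trans hUP
  have hfrn : ∀ {W : Subgroup S}, U ≤ normalizer (W : Set S) → U ≤ normalizer (((frattini W).map W.subtype : Subgroup S) : Set S) := by
    intro W hW g hg
    refine Subgroup.mem_normalizer_iff_map_conj_eq.mpr (eq_of_le_of_card_ge ?_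
      (card_map_of_injective (MulAut.conj g).injective).ge)
    rintro _ ⟨_, ⟨w, hw, rfl⟩, rfl⟩
    exact ⟨W.normalizerMonoidHom ⟨g, hW hg⟩ w,
      characteristic_iff_le_comap.1 frattini_characteristic (W.normalizerMonoidHom ⟨g, hW hg⟩) hw, rfl⟩
  have hNn : U ≤ normalizer (N : Set S) := fun g hg => by
    refine Subgroup.mem_normalizer_iff_map_conj_eq.mpr ?_
    rw [hN, Subgroup.map_sup, Subgroup.mem_normalizer_iff_map_conj_eq.1 (hfrn hUP hg),
      Subgroup.mem_normalizer_iff_map_conj_eq.1 (hfrn hUQ hg)]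
  have hsqP : ∀ x ∈ P, x * x ∈ N := fun x hx => mem_sup_left
    ⟨⟨x, hx⟩ * ⟨x, hx⟩, by rw [← pow_two]; exact Cfsg.Lib.PGroups.pow_mem_frattini (h2.to_subgroup P) _, rfl⟩
  have hsqQ : ∀ x ∈ Q, x * x ∈ N := fun x hx => mem_sup_right
    ⟨⟨x, hx⟩ * ⟨x, hx⟩, by rw [← pow_two]; exact Cfsg.Lib.PGroups.pow_mem_frattini (h2.to_subgroup Q) _, rfl⟩
  have hcomN : ∀ {W : Subgroup S}, ¬ IsMulCommutative W → Nat.card (center W) = 2 →
      (center W).map W.subtype ≤ (frattini W).map W.subtype := by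
    intro W hW hZW
    haveI : Group.IsNilpotent W := (h2.to_subgroup W).isNilpotent
    refine map_mono ((center_le_of_normal hZW (commutator W) fun hb => hW ?_).trans
      (Cfsg.Lib.PGroups.commutator_le_frattini (h2.to_subgroup W)))
    rw [_root_.commutator_def, commutator_eq_bot_iff_le_centralizer] at hb
    exact ⟨⟨fun a b => mem_centralizer_iff.1 (hb (mem_top b)) a (mem_top a)⟩⟩
  have hPQ : ∀ w ∈ P ⊔ Q, ∃ x ∈ P, ∃ y ∈ Q, w = x * y := fun w hw => by
    rw [← SetLike.mem_coe, coe_mul_of_right_le_normalizer_left P Q hQP] at hw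
    obtain ⟨x, hx, y, hy, rfl⟩ := hw
    exact ⟨x, hx, y, hy, rfl⟩
  have hc2N : c * c ∈ N := by
    obtain ⟨x, hx, y, hy, hxy⟩ := hPQ _ hc2
    have hcc : c * c ∈ centralizer ((P ⊔ Q : Subgroup S) : Set S) := mul_mem hcC hcC
    rw [hxy] at hcc ⊢
    refine mul_mem (mem_sup_left (hcomN hP hZP ⟨⟨x, hx⟩, mem_center_iff.2 fun p => Subtype.ext ?_, rfl⟩))
      (mem_sup_right (hcomN hQ hZQ ⟨⟨y, hy⟩, mem_center_iff.2 fun q => Subtype.ext ?_, rfl⟩))
    · have h1 : (p : S) * (x * y) = x * y * p := mem_centralizer_iff.1 hcc p (mem_sup_left p.2)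
      rw [← mul_assoc, mul_assoc x y, ← hcomm p p.2 y hy, ← mul_assoc] at h1
      exact mul_right_cancel h1
    · have h1 : (q : S) * (x * y) = x * y * q := mem_centralizer_iff.1 hcc q (mem_sup_right q.2)
      rw [← mul_assoc, ← hcomm x hx q q.2, mul_assoc, mul_assoc] at h1
      exact mul_left_cancel h1
  set V := (P ⊔ Q) ⊔ zpowers c
  have hPQc : ∀ w ∈ P ⊔ Q, w * c = c * w := fun w hw => mem_centralizer_iff.1 hcC w hw
  have hczn : zpowers c ≤ normalizer ((P ⊔ Q : Subgroup S) : Set S) :=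
    (zpowers_le.2 hcC).trans (centralizer_le_normalizer _)
  have hsq : ∀ v ∈ V, v * v ∈ N := by
    intro v hv
    rw [← SetLike.mem_coe, coe_mul_of_right_le_normalizer_left _ _ hczn] at hv
    obtain ⟨w, hw, d, hd, rfl⟩ := hv
    obtain ⟨i, rfl⟩ := mem_zpowers_iff.1 hd
    have hwc : Commute w (c ^ i) := Commute.zpow_right (hPQc w hw) i
    show w * c ^ i * (w * c ^ i) ∈ N
    rw [← pow_two, hwc.mul_pow, pow_two, pow_two]
    refine mul_mem ?_ ?_
    · obtain ⟨x, hx, y, hy, rfl⟩ := hPQ w hw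
      rw [← pow_two, (show Commute x y from hcomm x hx y hy).mul_pow, pow_two, pow_two]
      exact mul_mem (hsqP x hx) (hsqQ y hy)
    · rw [← (Commute.refl c).mul_zpow]
      exact zpow_mem hc2N i
  have hVU : V ≤ U := sup_le (sup_le hPU hQU) (zpowers_le.2 hcU)
  have hb := (sectional_bound hr (hVU.trans hNn) hsq).trans (Nat.pow_le_pow_right two_pos hk)
  have hNPQ : N ≤ P ⊔ Q := sup_le_sup (map_subtype_le _) (map_subtype_le _)
  have e0 : N.relIndex (P ⊔ Q) * (P ⊔ Q).relIndex V = N.relIndex V :=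
    relIndex_mul_relIndex _ _ _ hNPQ le_sup_left
  have hge2 : 2 ≤ (P ⊔ Q).relIndex V := by
    have h1 : (P ⊔ Q).relIndex V ≠ 1 := fun e => hcn (relIndex_eq_one.1 e (mem_sup_right (mem_zpowers c)))
    have h2' : (P ⊔ Q).relIndex V ≠ 0 := index_ne_zero_of_finite
    omega
  have hcP : Nat.card ↥(P ⊔ Q) = Nat.card P * Nat.card Q := by
    have := card_sup_mul_card_inf hQP
    rwa [hinf, card_bot, mul_one] at this
  have hcN : Nat.card N ≤ Nat.card (frattini P) * Nat.card (frattini Q) := by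
    have h3 := card_sup_mul_card_inf (N := ΦP) (H := ΦQ)
      (((map_subtype_le (frattini Q)).trans hQU).trans (hfrn hUP))
    rw [hΦP, card_map_of_injective P.subtype_injective, hΦQ, card_map_of_injective Q.subtype_injective] at h3
    rw [hN, ← h3]
    exact Nat.le_mul_of_pos_right _ Nat.card_pos
  have h16 : 16 ≤ N.relIndex (P ⊔ Q) := by
    have h4 : Nat.card N * N.relIndex (P ⊔ Q) = Nat.card ↥(P ⊔ Q) := by
      rw [← relIndex_bot_left, relIndex_mul_relIndex _ _ _ bot_le hNPQ, relIndex_bot_left]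
    rw [hcP, ← (frattini P).card_mul_index, ← (frattini Q).card_mul_index] at h4
    have hi := frattini_index_ge (h2.to_subgroup P) hP
    have hj := frattini_index_ge (h2.to_subgroup Q) hQ
    have hpos : 0 < Nat.card (frattini P) * Nat.card (frattini Q) :=
      Nat.mul_pos Nat.card_pos Nat.card_pos
    refine Nat.le_of_mul_le_mul_left ?_ hpos
    calc Nat.card (frattini P) * Nat.card (frattini Q) * 16
        ≤ Nat.card (frattini P) * Nat.card (frattini Q) * ((frattini P).index * (frattini Q).index) :=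
          Nat.mul_le_mul_left _ (Nat.mul_le_mul hi hj)
      _ = Nat.card N * N.relIndex (P ⊔ Q) := by rw [h4]; ring
      _ ≤ _ := Nat.mul_le_mul_right _ hcN
  have : 32 ≤ N.relIndex V := by
    rw [← e0]
    exact Nat.mul_le_mul h16 hge2
  norm_num at hb
  omega

theorem two_rank {k : ℕ} (hr : Cfsg.SectionalPRankLE 2 k S) {P Q : Subgroup S} (hinf : P ⊓ Q = ⊥)
    (hcomm : ∀ x ∈ P, ∀ y ∈ Q, x * y = y * x) (f : P ≃* Q) (hk : k ≤ 4) : Cfsg.SectionalPRankLE 2 2 P := by
  intro H N _ A hA hexp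
  set π := QuotientGroup.mk' N
  set A₁ : Subgroup P := (A.comap π).map H.subtype with hA1def
  set N₁ : Subgroup P := N.map H.subtype
  have hNA : N₁ ≤ A₁ := map_mono fun x hx => by
    rw [mem_comap, show π x = 1 from (QuotientGroup.eq_one_iff x).2 hx]; exact one_mem A
  have hnorm : A₁ ≤ normalizer (N₁ : Set P) :=
    (map_mono (le_normalizer_of_normal : A.comap π ≤ normalizer (N : Set H))).trans
      (le_normalizer_map H.subtype)
  have hsq : ∀ a ∈ A₁, a * a ∈ N₁ := by
    rintro _ ⟨a, ha, rfl⟩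
    refine ⟨a * a, (QuotientGroup.eq_one_iff _).1 ?_, map_mul _ _ _⟩
    show π (a * a) = 1
    rw [map_mul, ← pow_two]
    exact hexp _ ha
  have hidx : N₁.relIndex A₁ = Nat.card A := by
    rw [relIndex_map_map_of_injective _ _ H.subtype_injective]
    have e : N = (⊥ : Subgroup (H ⧸ N)).comap π := by
      rw [MonoidHom.comap_bot]; exact (QuotientGroup.ker_mk' N).symm
    refine (congrArg (fun X : Subgroup H => X.relIndex (A.comap π)) e).trans ?_
    rw [relIndex_comap, map_comap_eq_self_of_surjective (QuotientGroup.mk'_surjective N), relIndex_bot_left]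
  -- the two copies
  let iP : P →* S := P.subtype
  let iQ : P →* S := Q.subtype.comp f.toMonoidHom
  have hiP : Function.Injective iP := P.subtype_injective
  have hiQ : Function.Injective iQ := Q.subtype_injective.comp f.injective
  have hPle : ∀ X : Subgroup P, X.map iP ≤ P := fun X => map_subtype_le X
  have hQle : ∀ X : Subgroup P, X.map iQ ≤ Q := fun X => by
    rintro _ ⟨x, -, rfl⟩; exact (f x).2
  have hcross : ∀ X Y : Subgroup P, Y.map iQ ≤ normalizer ((X.map iP : Subgroup S) : Set S) ∧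
      X.map iP ≤ normalizer ((Y.map iQ : Subgroup S) : Set S) := fun X Y =>
    ⟨le_trans (fun y hy => mem_centralizer_iff.2 fun x hx => hcomm x (hPle X hx) y (hQle Y hy))
        (centralizer_le_normalizer _),
      le_trans (fun x hx => mem_centralizer_iff.2 fun y hy => (hcomm x (hPle X hx) y (hQle Y hy)).symm)
        (centralizer_le_normalizer _)⟩
  set U := A₁.map iP ⊔ A₁.map iQ
  set W := N₁.map iP ⊔ N₁.map iQ
  have hUW : U ≤ normalizer (W : Set S) := by
    have h1 : U ≤ normalizer ((N₁.map iP : Subgroup S) : Set S) :=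
      sup_le ((map_mono hnorm).trans (le_normalizer_map iP)) (hcross N₁ A₁).1
    have h2' : U ≤ normalizer ((N₁.map iQ : Subgroup S) : Set S) :=
      sup_le (hcross A₁ N₁).2 ((map_mono hnorm).trans (le_normalizer_map iQ))
    intro g hg
    refine Subgroup.mem_normalizer_iff_map_conj_eq.mpr ?_
    rw [Subgroup.map_sup, Subgroup.mem_normalizer_iff_map_conj_eq.1 (h1 hg),
      Subgroup.mem_normalizer_iff_map_conj_eq.1 (h2' hg)]
  have hU : ∀ v ∈ U, v * v ∈ W := by
    intro v hv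
    rw [← SetLike.mem_coe, coe_mul_of_right_le_normalizer_left _ _ (hcross A₁ A₁).1] at hv
    obtain ⟨_, ⟨x, hx, rfl⟩, _, ⟨y, hy, rfl⟩, rfl⟩ := hv
    show iP x * iQ y * (iP x * iQ y) ∈ W
    rw [← pow_two, (show Commute (iP x) (iQ y) from hcomm _ x.2 _ (f y).2).mul_pow, pow_two, pow_two,
      ← map_mul, ← map_mul]
    exact mul_mem (mem_sup_left (mem_map_of_mem _ (hsq x hx))) (mem_sup_right (mem_map_of_mem _ (hsq y hy)))
  have hb := (sectional_bound hr hUW hU).trans (Nat.pow_le_pow_right two_pos hk)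
  have hcard : ∀ X : Subgroup P, Nat.card ↥(X.map iP ⊔ X.map iQ) = Nat.card X * Nat.card X := fun X => by
    have h1 := card_sup_mul_card_inf (hcross X X).1
    rw [show X.map iP ⊓ X.map iQ = ⊥ from eq_bot_iff.2 (hinf ▸ inf_le_inf (hPle X) (hQle X)), card_bot,
      mul_one, card_map_of_injective hiP, card_map_of_injective hiQ] at h1
    exact h1
  have hWU : W ≤ U := sup_le_sup (map_mono hNA) (map_mono hNA)
  have e1 : Nat.card W * W.relIndex U = Nat.card U := by
    rw [← relIndex_bot_left, relIndex_mul_relIndex _ _ _ bot_le hWU, relIndex_bot_left]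
  have e2 : Nat.card N₁ * N₁.relIndex A₁ = Nat.card A₁ := by
    rw [← relIndex_bot_left, relIndex_mul_relIndex _ _ _ bot_le hNA, relIndex_bot_left]
  rw [hcard, hcard, ← e2, hidx] at e1
  have e3 : W.relIndex U = Nat.card A * Nat.card A := by
    refine Nat.eq_of_mul_eq_mul_left (Nat.mul_pos (Nat.card_pos (α := N₁)) (Nat.card_pos (α := N₁))) ?_
    rw [e1]; ring
  rw [e3] at hb
  norm_num at hb ⊢
  by_contra hlt
  push Not at hlt
  nlinarith

end Cfsg.Lib.SectionalRank
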