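/-
A finite 2-group of sectional rank at most two is metacyclic.
-/
import Cfsg.Agent.PGroups.SectionalRankFour
import Cfsg.Agent.PGroups.CommutatorIndexFour
import Cfsg.Prelude.Def_OddOrderLocal

set_option autoImplicit false
set_option linter.style.haveILetI false
set_option linter.unusedSectionVars false

namespace Cfsg.Lib.SectionalRankTwo

open Subgroup Cfsg.Lib.SectionalRank
open scoped commutatorElement

universe u

variable {S : Type u} [Group S]

theorem closure_pair_top {g h a : S} (ha : a ∈ closure ({g, h} : Set S)) {b : S} (hb : b ∈ closure ({g, h} : Set S))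
    (hab : closure ({a, b} : Set S) = ⊤) : closure ({g, h} : Set S) = ⊤ := by
  rw [eq_top_iff, ← hab, closure_le]
  rintro x (rfl | rfl)
  · exact ha
  · exact hb

/-- a cyclic subgroup which is normalised by the second generator -/
theorem metacyclic_of_conj {g h : S} (hgen : closure ({g, h} : Set S) = ⊤)
    (hc : h * g * h⁻¹ ∈ zpowers g) [Finite S] : Cfsg.IsMetacyclic S := by
  have hn : (zpowers g).Normal := by
    refine normalizer_eq_top_iff.1 (top_le_iff.1 ?_)
    rw [← hgen, closure_le]
    rintro x (rfl | rfl)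
    · exact le_normalizer (mem_zpowers x)
    · refine mem_normalizer_iff_map_conj_eq.2 (eq_of_le_of_card_ge ?_
        (card_map_of_injective (MulEquiv.injective _)).ge)
      rw [map_le_iff_le_comap, zpowers_le]
      exact hc
  refine ⟨zpowers g, hn, inferInstance, ?_⟩
  haveI := hn
  refine ⟨QuotientGroup.mk h, fun q => ?_⟩
  obtain ⟨x, rfl⟩ := QuotientGroup.mk_surjective q
  have hle : closure ({g, h} : Set S) ≤
      (zpowers (QuotientGroup.mk h : S ⧸ zpowers g)).comap (QuotientGroup.mk' (zpowers g)) := by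
    rw [closure_le]
    rintro y (rfl | rfl)
    · show QuotientGroup.mk' _ y ∈ zpowers _
      rw [show QuotientGroup.mk' (zpowers y) y = 1 from (QuotientGroup.eq_one_iff y).2 (mem_zpowers y)]
      exact one_mem _
    · exact mem_zpowers _
  rw [hgen] at hle
  exact hle (mem_top x)

variable [Finite S]

/-- generators with a central commutator of order two -/
theorem metacyclic_of_commutator {k : ℕ} (hk : k ≤ 2) (h2 : IsPGroup 2 S) (hr : Cfsg.SectionalPRankLE 2 k S)
    {a b c : S} (hgen : closure ({a, b} : Set S) = ⊤) (hc1 : c ≠ 1) (hcc : c * c = 1)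
    (hcz : ∀ x, c * x = x * c) (hba : b * a = a * b * c) : Cfsg.IsMetacyclic S := by
  classical
  have hC : c ∈ center S := mem_center_iff.2 fun x => (hcz x).symm
  -- squares are central
  have hcent : ∀ x : S, x * a = a * x → x * b = b * x → x ∈ center S := fun x hxa hxb => by
    refine mem_center_iff.2 fun y => ?_
    have hle : closure ({a, b} : Set S) ≤ centralizer {x} := by
      rw [closure_le]
      rintro w (rfl | rfl)
      · exact mem_centralizer_singleton_iff.2 hxa.symm
      · exact mem_centralizer_singleton_iff.2 hxb.symm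
    rw [hgen] at hle
    exact mem_centralizer_singleton_iff.1 (hle (mem_top y))
  have hab : a * b = b * a * c := by rw [hba, mul_assoc (a * b), hcc, mul_one]
  have ha2 : a * a ∈ center S := hcent _ (mul_assoc _ _ _) <| by
    calc a * a * b = a * (a * b) := mul_assoc _ _ _
      _ = (a * b) * (a * c) := by rw [hab, mul_assoc b a c, ← mul_assoc a b, hab]; simp only [mul_assoc]
      _ = b * (a * a) * (c * c) := by rw [hab]; simp only [mul_assoc]; rw [← mul_assoc c a, hcz, mul_assoc]
      _ = b * (a * a) := by rw [hcc, mul_one]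
  have hb2 : b * b ∈ center S := hcent _ (by
    calc b * b * a = b * (b * a) := mul_assoc _ _ _
      _ = (b * a) * (b * c) := by rw [hba, mul_assoc a b c, ← mul_assoc b a, hba]; simp only [mul_assoc]
      _ = a * (b * b) * (c * c) := by rw [hba]; simp only [mul_assoc]; rw [← mul_assoc c b, hcz, mul_assoc]
      _ = a * (b * b) := by rw [hcc, mul_one]) (mul_assoc _ _ _)
  have haz : ∀ n : ℤ, a ^ (2 * n) ∈ center S := fun n => by
    rw [zpow_mul, zpow_two]; exact zpow_mem ha2 n
  have hbz : ∀ n : ℤ, b ^ (2 * n) ∈ center S := fun n => by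
    rw [zpow_mul, zpow_two]; exact zpow_mem hb2 n
  have hcm : ∀ {x y : S}, x ∈ center S → Commute x y := fun {x y} hx => (mem_center_iff.1 hx y).symm
  -- squares
  have hsq : ∀ u v : ℤ, (a ^ u * b ^ v) * (a ^ u * b ^ v) =
      a ^ (2 * u) * b ^ (2 * v) * (if Odd u ∧ Odd v then c else 1) := by
    intro u v
    split_ifs with h
    · obtain ⟨⟨u, rfl⟩, ⟨v, rfl⟩⟩ := h
      have e1 : a ^ (2 * u + 1) * b ^ (2 * v + 1) = (a ^ (2 * u) * b ^ (2 * v)) * (a * b) := by
        rw [zpow_add_one, zpow_add_one, mul_assoc, mul_assoc, ← mul_assoc a, ← (hcm (hbz v)).eq]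
        simp only [mul_assoc]
      rw [e1]
      have hz : Commute (a * b) (a ^ (2 * u) * b ^ (2 * v)) :=
        (hcm (mul_mem (haz u) (hbz v))).symm
      rw [hz.mul_mul_mul_comm]
      have e2 : a * b * (a * b) = a * a * (b * b) * c := by
        rw [mul_assoc, ← mul_assoc b, hba]
        simp only [mul_assoc]
        rw [hcz]
      rw [e2, (hcm (hbz v) : Commute (b ^ (2 * v)) (a ^ (2 * u))).mul_mul_mul_comm, ← zpow_add, ← zpow_add]
      have e3 : a * a = a ^ (2 : ℤ) := (zpow_two a).symm
      have e4 : b * b = b ^ (2 : ℤ) := (zpow_two b).symm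
      rw [show a ^ (2 * (2 * u + 1)) = a ^ (2 * u + 2 * u) * a ^ (2 : ℤ) by rw [← zpow_add]; congr 1; ring,
        show b ^ (2 * (2 * v + 1)) = b ^ (2 * v + 2 * v) * b ^ (2 : ℤ) by rw [← zpow_add]; congr 1; ring,
        e3, e4]
      have hb' : b ^ (2 * v + 2 * v) ∈ center S := by rw [← two_mul]; exact hbz _
      rw [← mul_assoc _ (a ^ (2 : ℤ) * b ^ (2 : ℤ)) c]
      rw [(hcm hb').mul_mul_mul_comm]
    · have hcomm : Commute (b ^ v) (a ^ u) := by
        rcases Int.even_or_odd u with ⟨w, rfl⟩ | hu
        · exact (hcm (by rw [← two_mul]; exact haz w)).symm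
        · rcases Int.even_or_odd v with ⟨w, rfl⟩ | hv
          · exact hcm (by rw [← two_mul]; exact hbz w)
          · exact absurd ⟨hu, hv⟩ h
      rw [mul_one, hcomm.mul_mul_mul_comm, ← zpow_add, ← zpow_add, two_mul, two_mul]
  have hodd : ∀ (x : S) (u : ℤ), Odd u → x ∈ zpowers (x ^ u) := by
    intro x u hu
    obtain ⟨j, hj⟩ := IsPGroup.iff_orderOf.1 h2 x
    obtain ⟨t, ht⟩ := hu
    have hcop : IsCoprime u ((2 : ℤ) ^ j) := IsCoprime.pow_right ⟨1, -t, by rw [ht]; ring⟩
    obtain ⟨p, q, hpq⟩ := hcop
    refine mem_zpowers_iff.2 ⟨p, ?_⟩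
    have h1 : x ^ ((2 : ℤ) ^ j) = 1 := by
      have := pow_orderOf_eq_one x
      rw [hj] at this
      rw [← zpow_natCast] at this
      exact_mod_cast this
    calc (x ^ u) ^ p = x ^ (p * u) * (x ^ ((2 : ℤ) ^ j)) ^ q := by rw [h1, one_zpow, mul_one, ← zpow_mul, mul_comm p u]
      _ = x := by rw [← zpow_mul, ← zpow_add, mul_comm ((2 : ℤ) ^ j), hpq, zpow_one]
  -- a generating pair containing `g`
  have hpair : ∀ u v : ℤ, (Odd u ∨ Odd v) → ∃ h : S, closure ({a ^ u * b ^ v, h} : Set S) = ⊤ := by
    intro u v huv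
    rcases huv with hu | hv
    · refine ⟨b, closure_pair_top (a := a) (b := b) ?_ (subset_closure (Or.inr rfl)) hgen⟩
      refine (zpowers_le.2 ?_ : zpowers (a ^ u) ≤ _) (hodd a u hu)
      have := mul_mem (subset_closure (Or.inl rfl) : a ^ u * b ^ v ∈ closure ({a ^ u * b ^ v, b} : Set S))
        (inv_mem (zpow_mem (subset_closure (Or.inr rfl) : b ∈ closure ({a ^ u * b ^ v, b} : Set S)) v))
      simpa using this
    · refine ⟨a, closure_pair_top (a := a) (b := b) (subset_closure (Or.inr rfl)) ?_ hgen⟩
      refine (zpowers_le.2 ?_ : zpowers (b ^ v) ≤ _) (hodd b v hv)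
      have := mul_mem (inv_mem (zpow_mem (subset_closure (Or.inr rfl) : a ∈ closure ({a ^ u * b ^ v, a} : Set S)) u))
        (subset_closure (Or.inl rfl) : a ^ u * b ^ v ∈ closure ({a ^ u * b ^ v, a} : Set S))
      simpa using this
  -- commutators are powers of `c`
  haveI hZn : (zpowers c).Normal := ⟨fun y hy x => by
    rw [mem_center_iff.1 ((zpowers_le.2 hC) hy) x, mul_inv_cancel_right]; exact hy⟩
  have hcomm' : ∀ x y : S, y * x * y⁻¹ * x⁻¹ ∈ zpowers c := by
    intro x y
    set π := QuotientGroup.mk' (zpowers c)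
    have hπc : π c = 1 := (QuotientGroup.eq_one_iff c).2 (mem_zpowers c)
    have hπab : Commute (π a) (π b) := by
      show π a * π b = π b * π a
      rw [← map_mul, ← map_mul, hba, map_mul π (a * b) c, hπc, mul_one]
    have hall : ∀ w : S, Commute (π w) (π a) ∧ Commute (π w) (π b) := by
      intro w
      have hle : closure ({a, b} : Set S) ≤ ((centralizer ({π a, π b} : Set (S ⧸ zpowers c))).comap π) := by
        rw [closure_le]
        rintro e (rfl | rfl)
        · refine mem_centralizer_iff.2 ?_
          rintro f (rfl | rfl)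
          · rfl
          · exact hπab.eq.symm
        · refine mem_centralizer_iff.2 ?_
          rintro f (rfl | rfl)
          · exact hπab.eq
          · rfl
      have hw := mem_centralizer_iff.1 (hle (hgen.ge (mem_top w)))
      exact ⟨(hw _ (Or.inl rfl)).symm, (hw _ (Or.inr rfl)).symm⟩
    have hxy : Commute (π y) (π x) := by
      have hle : closure ({a, b} : Set S) ≤ (centralizer ({π y} : Set (S ⧸ zpowers c))).comap π := by
        rw [closure_le]
        rintro e (rfl | rfl)
        · exact mem_centralizer_singleton_iff.2 (hall y).1.eq.symm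
        · exact mem_centralizer_singleton_iff.2 (hall y).2.eq.symm
      exact (mem_centralizer_singleton_iff.1 (hle (hgen.ge (mem_top x)))).symm
    refine (QuotientGroup.eq_one_iff _).1 ?_
    show π (y * x * y⁻¹ * x⁻¹) = 1
    rw [map_mul, map_mul, map_mul, map_inv, map_inv, hxy.eq, mul_inv_cancel_right, mul_inv_cancel]
  have finish : ∀ g h : S, closure ({g, h} : Set S) = ⊤ → c ∈ zpowers g → Cfsg.IsMetacyclic S := by
    intro g h hgh hcg
    refine metacyclic_of_conj hgh ?_
    have h1 := mul_mem ((zpowers_le.2 hcg) (hcomm' g h)) (mem_zpowers g)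
    rwa [inv_mul_cancel_right] at h1
  -- a generator of order two
  have invol : ∀ g h : S, closure ({g, h} : Set S) = ⊤ → g * g = 1 → Cfsg.IsMetacyclic S := by
    intro g h hgh hg
    by_cases hch : c ∈ zpowers h
    · exact finish h g (by rw [Set.pair_comm]; exact hgh) hch
    have hhz : h * h ∈ center S := by
      obtain ⟨i, hi⟩ := mem_zpowers_iff.1 (hcomm' g h)
      refine mem_center_iff.2 fun y => ?_
      have hle : closure ({g, h} : Set S) ≤ centralizer {h * h} := by
        rw [closure_le]
        rintro w (rfl | rfl)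
        · refine mem_centralizer_singleton_iff.2 ?_
          have e : h * w = c ^ i * w * h := by rw [hi]; group
          have hci : c ^ i * c ^ i = 1 := by rw [← (Commute.refl c).mul_zpow, hcc, one_zpow]
          have hcw : ∀ x, Commute (c ^ i) x := fun x => hcm (zpow_mem hC i)
          calc w * (h * h) = c ^ i * c ^ i * w * (h * h) := by rw [hci, one_mul]
            _ = c ^ i * (h * w) * h := by rw [e]; simp only [mul_assoc]
            _ = h * (c ^ i * w * h) := by rw [← mul_assoc (c ^ i) h, (hcw h).eq]; simp only [mul_assoc]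
            _ = h * h * w := by rw [← e]; simp only [mul_assoc]
        · exact mem_centralizer_singleton_iff.2 (mul_assoc _ _ _).symm
      rw [hgh] at hle
      exact mem_centralizer_singleton_iff.1 (hle (mem_top y))
    by_cases hh : h * h = 1
    · -- the dihedral group of order eight
      refine finish (g * h) h (closure_pair_top (a := g) (b := h) ?_ (subset_closure (Or.inr rfl)) hgh) ?_
      · have := mul_mem (subset_closure (Or.inl rfl) : g * h ∈ closure ({g * h, h} : Set S))
          (inv_mem (subset_closure (Or.inr rfl) : h ∈ closure ({g * h, h} : Set S)))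
        simpa using this
      · obtain ⟨i, hi⟩ := mem_zpowers_iff.1 (hcomm' g h)
        have hgi : g⁻¹ = g := inv_eq_of_mul_eq_one_right hg
        have hhi : h⁻¹ = h := inv_eq_of_mul_eq_one_right hh
        rw [hgi, hhi] at hi
        refine mem_zpowers_iff.2 ⟨-2, ?_⟩
        rcases Int.even_or_odd i with ⟨w, rfl⟩ | ⟨w, rfl⟩
        · exfalso
          rw [← two_mul, zpow_mul, zpow_two, hcc, one_zpow] at hi
          -- `g` and `h` commute, so `c` is trivial
          have hgh' : Commute g h := by
            show g * h = h * g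
            calc g * h = h * g * (h * g * h * g)⁻¹ * (g * g) * (h * h) := by
                  rw [← hi, inv_one, hg, hh, mul_one, mul_one, mul_one]
                  calc g * h = (h * h) * (g * h) * (g * g) := by rw [hh, hg, one_mul, mul_one]
                    _ = h * (h * g * h * g) * g := by simp only [mul_assoc]
                    _ = h * g := by rw [← hi, mul_one]
              _ = h * g := by rw [← hi, inv_one, hg, hh, mul_one, mul_one, mul_one]
          refine hc1 ?_
          have hle : closure ({g, h} : Set S) ≤ center S := by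
            rw [closure_le]
            intro e he
            refine mem_center_iff.2 fun y => ?_
            have hle2 : closure ({g, h} : Set S) ≤ centralizer {e} := by
              rw [closure_le]
              rintro f (rfl | rfl) <;> rcases he with rfl | rfl
              · exact mem_centralizer_singleton_iff.2 rfl
              · exact mem_centralizer_singleton_iff.2 hgh'.eq
              · exact mem_centralizer_singleton_iff.2 hgh'.eq.symm
              · exact mem_centralizer_singleton_iff.2 rfl
            rw [hgh] at hle2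
            exact mem_centralizer_singleton_iff.1 (hle2 (mem_top y))
          rw [hgh] at hle
          have := mem_center_iff.1 (hle (mem_top a)) b
          rw [hba] at this
          exact mul_eq_left.1 this
        · rw [zpow_add, zpow_mul, zpow_two, hcc, one_zpow, one_mul, zpow_one] at hi
          rw [zpow_neg, zpow_two, hi]
          simp only [mul_inv_rev, hgi, hhi, mul_assoc]
    · exfalso
      -- three independent involutions
      set y := h * h
      obtain ⟨j, hj⟩ := IsPGroup.iff_orderOf.1 h2 y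
      have hj0 : j ≠ 0 := fun e => hh (orderOf_eq_one_iff.1 (by rw [hj, e, pow_zero]))
      set w := y ^ 2 ^ (j - 1) with hw
      have hw2 : w * w = 1 := by
        rw [hw, ← pow_add, ← two_mul, ← pow_succ', Nat.sub_add_cancel (Nat.one_le_iff_ne_zero.2 hj0), ← hj,
          pow_orderOf_eq_one]
      have hw1 : w ≠ 1 := fun e => by
        have h3 := orderOf_dvd_of_pow_eq_one e
        rw [hj] at h3
        have h4 := (Nat.pow_dvd_pow_iff_le_right one_lt_two).1 h3
        omega
      have hwz : w ∈ center S := pow_mem hhz _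
      have hgc : Commute g c := (hcm hC).symm
      have hwh : w ∈ zpowers h := pow_mem (mul_mem (mem_zpowers h) (mem_zpowers h)) _
      have hgnz : g ∉ center S := fun hgz => hc1 <| by
        have hle : closure ({g, h} : Set S) ≤ centralizer {a} := by
          have hle2 : closure ({g, h} : Set S) ≤ center S := by
            rw [closure_le]
            rintro e (rfl | rfl)
            · exact hgz
            · refine mem_center_iff.2 fun y => ?_
              have hle3 : closure ({g, e} : Set S) ≤ centralizer {e} := by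
                rw [closure_le]
                rintro f (rfl | rfl)
                · exact mem_centralizer_singleton_iff.2 ((mem_center_iff.1 hgz e).symm)
                · exact mem_centralizer_singleton_iff.2 rfl
              rw [hgh] at hle3
              exact mem_centralizer_singleton_iff.1 (hle3 (mem_top y))
          exact hle2.trans (center_le_centralizer _)
        rw [hgh] at hle
        have := mem_centralizer_singleton_iff.1 (hle (mem_top b))
        rw [hba] at this
        exact mul_eq_left.1 this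
      set E := closure ({g, c, w} : Set S) with hE
      have hEc : ∀ x ∈ E, ∀ y ∈ E, x * y = y * x := by
        have : IsMulCommutative E := isMulCommutative_closure fun x hx y hy => by
          rcases hx with rfl | rfl | rfl <;> rcases hy with rfl | rfl | rfl <;>
            first
            | rfl
            | exact hgc.eq
            | exact hgc.eq.symm
            | exact (hcm hwz).eq
            | exact (hcm hwz).eq.symm
        exact fun x hx y hy => congrArg Subtype.val (this.1.1 ⟨x, hx⟩ ⟨y, hy⟩)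
      have hE2 : ∀ x ∈ E, x * x = 1 := by
        intro x hx
        induction hx using closure_induction with
        | mem z hz => rcases hz with rfl | rfl | rfl <;> assumption
        | one => exact one_mul _
        | mul p q hp hq hp2 hq2 =>
          rw [(show Commute q p from hEc q hq p hp).mul_mul_mul_comm, hp2, hq2, one_mul]
        | inv p _ hp2 => rw [← mul_inv_rev, hp2, inv_one]
      have hb3 := sectional_bound hr (N := (⊥ : Subgroup S)) (U := E) (fun x _ => by
        rw [normalizer_eq_top]; exact mem_top x) (fun x hx => by rw [hE2 x hx]; exact one_mem _)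
      rw [relIndex_bot_left] at hb3
      have hb4 : Nat.card E ≤ 4 := hb3.trans ((Nat.pow_le_pow_right two_pos hk).trans (by norm_num))
      have hgE : g ∈ E := subset_closure (Or.inl rfl)
      have hcE : c ∈ E := subset_closure (Or.inr (Or.inl rfl))
      have hwE : w ∈ E := subset_closure (Or.inr (Or.inr rfl))
      have hwc : w ≠ c := fun e => hch (e ▸ hwh)
      let F : Fin 5 → E := ![1, ⟨g, hgE⟩, ⟨c, hcE⟩, ⟨w, hwE⟩, ⟨c * w, mul_mem hcE hwE⟩]
      have hinj : Function.Injective F := by
        have hg1 : g ≠ 1 := fun e => hgnz (e ▸ one_mem _)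
        have hgc' : g ≠ c := fun e => hgnz (e ▸ hC)
        have hgw : g ≠ w := fun e => hgnz (e ▸ hwz)
        have hgcw : g ≠ c * w := fun e => hgnz (e ▸ mul_mem hC hwz)
        have hcw1 : c * w ≠ 1 := fun e => hwc (mul_left_cancel (e.trans hcc.symm))
        have hcwc : c * w ≠ c := fun e => hw1 (mul_eq_left.1 e)
        have hcww : c * w ≠ w := fun e => hc1 (mul_eq_right.1 e)
        intro i j hij
        have := congrArg Subtype.val hij
        fin_cases i <;> fin_cases j <;> simp [F] at this ⊢ <;>
          first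
          | exact absurd this hg1 | exact absurd this.symm hg1
          | exact absurd this hgc' | exact absurd this.symm hgc'
          | exact absurd this hgw | exact absurd this.symm hgw
          | exact absurd this hgcw | exact absurd this.symm hgcw
          | exact absurd this hcw1 | exact absurd this.symm hcw1
          | exact absurd this hcwc | exact absurd this.symm hcwc
          | exact absurd this hcww | exact absurd this.symm hcww
          | exact absurd this hwc | exact absurd this.symm hwc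
          | exact absurd this hc1 | exact absurd this.symm hc1
          | exact absurd this hw1 | exact absurd this.symm hw1
      have := Nat.card_le_card_of_injective F hinj
      rw [Nat.card_fin] at this
      omega
  -- a relation among the squares
  let f : ℤ → ℤ → ℤ → S := fun p q r => a ^ (2 * p) * b ^ (2 * q) * c ^ r
  have hf : ∀ p q r p' q' r', f p q r * f p' q' r' = f (p + p') (q + q') (r + r') := by
    intro p q r p' q' r'
    simp only [f]
    rw [mul_add, mul_add, zpow_add, zpow_add, zpow_add, (hcm (zpow_mem hC r)).mul_mul_mul_comm,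
      (hcm (hbz q)).mul_mul_mul_comm]
  have hf0 : f 0 0 0 = 1 := by simp [f]
  let B : Subgroup S :=
    { carrier := {x | ∃ p q r : ℤ, f p q r = x}
      one_mem' := ⟨0, 0, 0, hf0⟩
      mul_mem' := by
        rintro _ _ ⟨p, q, r, rfl⟩ ⟨p', q', r', rfl⟩
        exact ⟨_, _, _, (hf p q r p' q' r').symm⟩
      inv_mem' := by
        rintro _ ⟨p, q, r, rfl⟩
        exact ⟨-p, -q, -r, eq_inv_of_mul_eq_one_left (by
          rw [hf, neg_add_cancel, neg_add_cancel, neg_add_cancel, hf0])⟩ }
  let W : Subgroup S :=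
    { carrier := {x | ∃ p q r : ℤ, f (2 * p) (2 * q) (2 * r) = x}
      one_mem' := ⟨0, 0, 0, by simpa using hf0⟩
      mul_mem' := by
        rintro _ _ ⟨p, q, r, rfl⟩ ⟨p', q', r', rfl⟩
        exact ⟨p + p', q + q', r + r', by rw [hf, mul_add, mul_add, mul_add]⟩
      inv_mem' := by
        rintro _ ⟨p, q, r, rfl⟩
        exact ⟨-p, -q, -r, eq_inv_of_mul_eq_one_left (by
          rw [hf, mul_neg, mul_neg, mul_neg, neg_add_cancel, neg_add_cancel, neg_add_cancel, hf0])⟩ }
  have hBz : B ≤ center S := by
    rintro _ ⟨p, q, r, rfl⟩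
    exact mul_mem (mul_mem (haz p) (hbz q)) (zpow_mem hC r)
  have hWB : W ≤ B := by rintro _ ⟨p, q, r, rfl⟩; exact ⟨_, _, _, rfl⟩
  have hbd := sectional_bound hr (N := W) (U := B)
    (hBz.trans ((center_le_centralizer _).trans (centralizer_le_normalizer _))) (by
      rintro _ ⟨p, q, r, rfl⟩
      exact ⟨p, q, r, by rw [hf, two_mul, two_mul, two_mul]⟩)
  have hbd' : W.relIndex B ≤ 4 := hbd.trans ((Nat.pow_le_pow_right two_pos hk).trans (by norm_num))
  obtain ⟨t, t', htt, hne⟩ : ∃ t t' : Fin 2 × Fin 2 × Fin 2,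
      (f ((t.1 : ℕ) : ℤ) ((t.2.1 : ℕ) : ℤ) ((t.2.2 : ℕ) : ℤ))⁻¹ *
        f ((t'.1 : ℕ) : ℤ) ((t'.2.1 : ℕ) : ℤ) ((t'.2.2 : ℕ) : ℤ) ∈ W ∧ t ≠ t' := by
    let F : Fin 2 × Fin 2 × Fin 2 → B ⧸ W.subgroupOf B := fun t =>
      QuotientGroup.mk ⟨f ((t.1 : ℕ) : ℤ) ((t.2.1 : ℕ) : ℤ) ((t.2.2 : ℕ) : ℤ), ⟨_, _, _, rfl⟩⟩
    have hni : ¬ Function.Injective F := fun hinj => by
      have h8 := Nat.card_le_card_of_injective F hinj
      rw [Nat.card_eq_fintype_card] at h8
      simp only [Fintype.card_prod, Fintype.card_fin] at h8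
      have : Nat.card (B ⧸ W.subgroupOf B) = W.relIndex B := rfl
      omega
    obtain ⟨t, t', hF, hne⟩ := Function.not_injective_iff.1 hni
    exact ⟨t, t', mem_subgroupOf.1 (QuotientGroup.eq.1 hF), hne⟩
  obtain ⟨p, q, r, hpqr⟩ := htt
  -- `a^(2u) b^(2v) = c^e`
  obtain ⟨u, v, e, huve, hrel⟩ : ∃ u v e : ℤ, (Odd u ∨ Odd v ∨ Odd e) ∧ a ^ (2 * u) * b ^ (2 * v) = c ^ e := by
    refine ⟨((t'.1 : ℕ) : ℤ) - ((t.1 : ℕ) : ℤ) - 2 * p, ((t'.2.1 : ℕ) : ℤ) - ((t.2.1 : ℕ) : ℤ) - 2 * q,
      -(((t'.2.2 : ℕ) : ℤ) - ((t.2.2 : ℕ) : ℤ) - 2 * r), ?_, ?_⟩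
    · by_contra hno
      push Not at hno
      obtain ⟨⟨w1, h1⟩, ⟨w2, h2'⟩, ⟨w3, h3⟩⟩ := And.intro (Int.not_odd_iff_even.1 hno.1)
        (And.intro (Int.not_odd_iff_even.1 hno.2.1) (Int.not_odd_iff_even.1 hno.2.2))
      refine hne (Prod.ext (Fin.ext ?_) (Prod.ext (Fin.ext ?_) (Fin.ext ?_)))
      · have := t.1.isLt; have := t'.1.isLt; omega
      · have := t.2.1.isLt; have := t'.2.1.isLt; omega
      · have := t.2.2.isLt; have := t'.2.2.isLt; omega
    · rw [eq_inv_mul_iff_mul_eq, hf] at hpqr
      set A := ((t'.1 : ℕ) : ℤ) with hA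
      set A₀ := ((t.1 : ℕ) : ℤ)
      set B' := ((t'.2.1 : ℕ) : ℤ)
      set B₀ := ((t.2.1 : ℕ) : ℤ)
      set C' := ((t'.2.2 : ℕ) : ℤ)
      set C₀ := ((t.2.2 : ℕ) : ℤ)
      have h1 : f (A - A₀ - 2 * p) (B' - B₀ - 2 * q) (C' - C₀ - 2 * r) = 1 := by
        have h2 : f (A₀ + 2 * p) (B₀ + 2 * q) (C₀ + 2 * r) * f (A - A₀ - 2 * p) (B' - B₀ - 2 * q) (C' - C₀ - 2 * r) =
            f A B' C' := by
          rw [hf]; congr 1 <;> ring
        rw [hpqr] at h2
        exact mul_eq_left.1 h2
      exact (mul_eq_one_iff_eq_inv.1 h1).trans (zpow_neg _ _).symm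
  have hce : ∀ e : ℤ, (Even e → c ^ e = 1) ∧ (Odd e → c ^ e = c) := fun e =>
    ⟨fun ⟨w, hw⟩ => by rw [hw, zpow_add, ← (Commute.refl c).mul_zpow, hcc, one_zpow],
      fun ⟨w, hw⟩ => by rw [hw, zpow_add, zpow_mul, zpow_two, hcc, one_zpow, one_mul, zpow_one]⟩
  rcases Int.even_or_odd e with he | he
  · -- `a^(2u) b^(2v) = 1`
    rw [(hce e).1 he] at hrel
    have huv : Odd u ∨ Odd v := by
      rcases huve with h | h | h
      · exact Or.inl h
      · exact Or.inr h
      · exact absurd he (Int.not_even_iff_odd.2 h)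
    obtain ⟨h, hh⟩ := hpair u v huv
    have hs := hsq u v
    rw [hrel, one_mul] at hs
    split_ifs at hs with hodd2
    · exact finish _ h hh (hs ▸ mul_mem (mem_zpowers _) (mem_zpowers _))
    · exact invol _ h hh hs
  · rw [(hce e).2 he] at hrel
    by_cases huv : Odd u ∨ Odd v
    · obtain ⟨h, hh⟩ := hpair u v huv
      have hs := hsq u v
      rw [hrel] at hs
      split_ifs at hs with hodd2
      · rw [hcc] at hs
        exact invol _ h hh hs
      · rw [mul_one] at hs
        exact finish _ h hh (hs ▸ mul_mem (mem_zpowers _) (mem_zpowers _))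
    · -- both exponents even: divide by the common power of two
      push Not at huv
      rw [Int.not_odd_iff_even, Int.not_odd_iff_even] at huv
      have key : ∀ (t : ℕ) (u v : ℤ), 1 ≤ t → a ^ (2 ^ t * u) * b ^ (2 ^ t * v) = c →
          Cfsg.IsMetacyclic S ∨ ∃ u' v' : ℤ, u = 2 * u' ∧ v = 2 * v' := by
        intro t u v ht hrel'
        by_cases hor : Odd u ∨ Odd v
        · left
          obtain ⟨h, hh⟩ := hpair u v hor
          rcases Nat.lt_or_ge t 2 with ht2 | ht2
          · obtain rfl : t = 1 := by omega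
            rw [pow_one] at hrel'
            have hs := hsq u v
            rw [hrel'] at hs
            split_ifs at hs with hodd2
            · rw [hcc] at hs
              exact invol _ h hh hs
            · rw [mul_one] at hs
              exact finish _ h hh (hs ▸ mul_mem (mem_zpowers _) (mem_zpowers _))
          · refine finish _ h hh ?_
            have hs := hsq u v
            obtain ⟨m, rfl⟩ : ∃ m, t = m + 2 := ⟨t - 2, by omega⟩
            have e1 : ((a ^ u * b ^ v) * (a ^ u * b ^ v)) ^ ((2 : ℤ) ^ (m + 1)) = c := by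
              have hc2 : c ^ ((2 : ℤ) ^ (m + 1)) = 1 := (hce _).1 ⟨2 ^ m, by ring⟩
              rw [hs, (hcm (mul_mem (haz u) (hbz v))).mul_zpow, (hcm (haz u)).mul_zpow, ← zpow_mul, ← zpow_mul,
                show 2 * u * 2 ^ (m + 1) = 2 ^ (m + 2) * u by ring,
                show 2 * v * 2 ^ (m + 1) = 2 ^ (m + 2) * v by ring, hrel']
              split_ifs
              · rw [hc2, mul_one]
              · rw [one_zpow, mul_one]
            exact mem_zpowers_iff.2 ⟨2 * 2 ^ (m + 1), by rw [zpow_mul, zpow_two]; exact e1⟩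
        · push Not at hor
          rw [Int.not_odd_iff_even, Int.not_odd_iff_even] at hor
          obtain ⟨⟨u', hu'⟩, ⟨v', hv'⟩⟩ := hor
          exact Or.inr ⟨u', v', by omega, by omega⟩
      by_contra hnm
      have hall : ∀ t : ℕ, 1 ≤ t → ∃ u' v' : ℤ, a ^ ((2 : ℤ) ^ t * u') * b ^ ((2 : ℤ) ^ t * v') = c := by
        intro t ht
        induction t, ht using Nat.le_induction with
        | base => exact ⟨u, v, by rw [pow_one]; exact hrel⟩
        | succ m hm ih =>
          obtain ⟨u', v', h'⟩ := ih
          obtain ⟨u'', v'', rfl, rfl⟩ := (key m u' v' hm h').resolve_left hnm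
          exact ⟨u'', v'', by rw [pow_succ, mul_assoc, mul_assoc]; exact h'⟩
      obtain ⟨i, hi⟩ := IsPGroup.iff_orderOf.1 h2 a
      obtain ⟨j, hj⟩ := IsPGroup.iff_orderOf.1 h2 b
      obtain ⟨u', v', h'⟩ := hall (i + j + 1) (by omega)
      refine hc1 ?_
      rw [← h', show a ^ ((2 : ℤ) ^ (i + j + 1) * u') = 1 from orderOf_dvd_iff_zpow_eq_one.1 (by
        rw [hi]; push_cast; exact (pow_dvd_pow 2 (by omega)).mul_right u'),
        show b ^ ((2 : ℤ) ^ (i + j + 1) * v') = 1 from orderOf_dvd_iff_zpow_eq_one.1 (by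
        rw [hj]; push_cast; exact (pow_dvd_pow 2 (by omega)).mul_right v'), one_mul]

theorem sectional_quotient {k : ℕ} (hr : Cfsg.SectionalPRankLE 2 k S) (Z : Subgroup S) [Z.Normal] :
    Cfsg.SectionalPRankLE 2 k (S ⧸ Z) := by
  intro H N _ A hA hexp
  set π := QuotientGroup.mk' Z
  let f : H.comap π →* H ⧸ N := (QuotientGroup.mk' N).comp (π.subgroupComap H)
  have hf : Function.Surjective f := fun y => by
    obtain ⟨x, rfl⟩ := QuotientGroup.mk'_surjective N y
    obtain ⟨s, hs⟩ := QuotientGroup.mk'_surjective Z (x : S ⧸ Z)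
    refine ⟨⟨s, by rw [mem_comap, show π s = x from hs]; exact x.2⟩, ?_⟩
    exact congrArg (QuotientGroup.mk' N) (Subtype.ext hs)
  let e := QuotientGroup.quotientKerEquivOfSurjective f hf
  have h1 := hr (H.comap π) f.ker (A.map e.symm.toMonoidHom) (by
      haveI := hA; infer_instance) (by
      rintro _ ⟨x, hx, rfl⟩
      rw [← map_pow, hexp x hx, map_one])
  rwa [card_map_of_injective e.symm.injective] at h1

theorem metacyclic_aux : ∀ (n : ℕ) (S : Type u) [Group S] [Finite S], Nat.card S = n → IsPGroup 2 S →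
    ∀ k ≤ 2, Cfsg.SectionalPRankLE 2 k S → Cfsg.IsMetacyclic S := by
  intro n
  induction n using Nat.strong_induction_on with
  | _ n ih =>
  intro S _ _ hn h2 k hk hr
  classical
  haveI : Fact (Nat.Prime 2) := ⟨Nat.prime_two⟩
  haveI := h2.isNilpotent
  -- two generators
  obtain ⟨a, b, hab⟩ : ∃ a b : S, closure ({a, b} : Set S) = ⊤ := by
    set Φ := frattini S
    have hb1 := sectional_bound hr (N := Φ) (U := ⊤) (by rw [normalizer_eq_top]) fun x _ => by
      rw [← pow_two]; exact Cfsg.Lib.PGroups.pow_mem_frattini h2 x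
    rw [relIndex_top_right] at hb1
    have hidx : Φ.index ≤ 4 := hb1.trans ((Nat.pow_le_pow_right two_pos hk).trans (by norm_num))
    by_cases h1 : ∃ a, a ∉ Φ
    · obtain ⟨a, ha⟩ := h1
      by_cases h2' : ∃ b, b ∉ Φ ⊔ zpowers a
      · obtain ⟨b, hb⟩ := h2'
        refine ⟨a, b, frattini_nongenerating ?_⟩
        set D1 := Φ ⊔ zpowers a
        set D := closure ({a, b} : Set S) ⊔ Φ
        have hlt : D1 ≤ D := sup_le le_sup_right (zpowers_le.2 (mem_sup_left (subset_closure (Or.inl rfl))))
        have hbD : b ∈ D := mem_sup_left (subset_closure (Or.inr rfl))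
        have e1 : Φ.relIndex D1 * D1.relIndex D * D.index = Φ.index := by
          rw [relIndex_mul_relIndex _ _ _ le_sup_left hlt, relIndex_mul_index le_sup_right]
        have e2 : 2 ≤ Φ.relIndex D1 := by
          have h3 : Φ.relIndex D1 ≠ 1 := fun e => ha (relIndex_eq_one.1 e (mem_sup_right (mem_zpowers a)))
          have h4 : Φ.relIndex D1 ≠ 0 := index_ne_zero_of_finite
          omega
        have e3 : 2 ≤ D1.relIndex D := by
          have h3 : D1.relIndex D ≠ 1 := fun e => hb (relIndex_eq_one.1 e hbD)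
          have h4 : D1.relIndex D ≠ 0 := index_ne_zero_of_finite
          omega
        have h5 : D.index ≠ 0 := index_ne_zero_of_finite
        have h6 : 4 * D.index ≤ 4 := le_trans (Nat.mul_le_mul_right _ (Nat.mul_le_mul e2 e3)) (e1.le.trans hidx)
        exact index_eq_one.1 (by omega)
      · push Not at h2'
        refine ⟨a, a, ?_⟩
        have htop : zpowers a ⊔ Φ = ⊤ := (eq_top_iff' _).2 fun x => sup_comm Φ (zpowers a) ▸ h2' x
        rw [show closure ({a, a} : Set S) = zpowers a by rw [Set.pair_eq_singleton, zpowers_eq_closure]]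
        exact frattini_nongenerating htop
    · push Not at h1
      refine ⟨1, 1, frattini_nongenerating ?_⟩
      exact (eq_top_iff' _).2 fun x => mem_sup_right (h1 x)
  by_cases hcom : commutator S = ⊥
  · refine metacyclic_of_conj hab ?_
    have h1 : ⁅b, a⁆ ∈ commutator S := commutator_mem_commutator (mem_top b) (mem_top a)
    rw [hcom, mem_bot, commutatorElement_eq_one_iff_mul_comm] at h1
    rw [h1, mul_inv_cancel_right]
    exact mem_zpowers a
  obtain ⟨z, hz, hzc, hz2⟩ : ∃ z ∈ commutator S, z ∈ center S ∧ orderOf z = 2 := by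
    have h1 := Cfsg.Lib.Coprime.inf_center_ne_bot (commutator S) hcom
    obtain ⟨k', hk'⟩ := IsPGroup.iff_card.1 (h2.to_subgroup (commutator S ⊓ center S))
    have h3 : 2 ∣ Nat.card ↥(commutator S ⊓ center S) := by
      rcases Nat.eq_zero_or_pos k' with rfl | hk0
      · exact absurd (card_eq_one.1 (by rw [hk', pow_zero])) h1
      · rw [hk']; exact dvd_pow_self 2 hk0.ne'
    obtain ⟨⟨z, hz⟩, hz2⟩ := exists_prime_orderOf_dvd_card' 2 h3
    exact ⟨z, hz.1, hz.2, by rwa [Subgroup.orderOf_mk] at hz2⟩
  set Z := zpowers z with hZ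
  haveI hZn : Z.Normal := ⟨fun y hy g => by
    rw [mem_center_iff.1 ((zpowers_le.2 hzc) hy) g, mul_inv_cancel_right]; exact hy⟩
  have hlt : Nat.card (S ⧸ Z) < n := by
    have h1 := card_eq_card_quotient_mul_card_subgroup Z
    have hZc : Nat.card Z = 2 := by rw [hZ, Nat.card_zpowers, hz2]
    rw [hn, hZc] at h1
    have h3 : 0 < Nat.card (S ⧸ Z) := Nat.card_pos
    omega
  obtain ⟨A', hA'n, hA'c, hA'q⟩ := ih _ hlt (S ⧸ Z) rfl (h2.to_quotient Z) k hk (sectional_quotient hr Z)
  haveI := hA'n
  set π := QuotientGroup.mk' Z with hπ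
  set A := A'.comap π with hA
  obtain ⟨⟨x', hx'⟩, hgen⟩ := hA'c.exists_generator
  obtain ⟨x, rfl⟩ := QuotientGroup.mk'_surjective Z x'
  obtain ⟨y', hy'⟩ := hA'q.exists_generator
  obtain ⟨w, rfl⟩ := QuotientGroup.mk'_surjective A' y'
  obtain ⟨y, rfl⟩ := QuotientGroup.mk'_surjective Z w
  have hdecA : ∀ g ∈ A, ∃ i j : ℤ, g = x ^ i * z ^ j := by
    intro g hg
    obtain ⟨i, hi⟩ := mem_zpowers_iff.1 (hgen ⟨π g, hg⟩)
    have h1 : (x ^ i)⁻¹ * g ∈ Z := by
      rw [← QuotientGroup.ker_mk' Z, MonoidHom.mem_ker, ← hπ, map_mul, map_inv, map_zpow]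
      have h3 := congrArg Subtype.val hi
      rw [coe_zpow] at h3
      rw [show (π x) ^ i = π g from h3, inv_mul_cancel]
    obtain ⟨j, hj⟩ := mem_zpowers_iff.1 h1
    exact ⟨i, j, by rw [hj, mul_inv_cancel_left]⟩
  have hdec : ∀ g : S, ∃ i j l : ℤ, g = y ^ l * (x ^ i * z ^ j) := by
    intro g
    obtain ⟨l, hl⟩ := mem_zpowers_iff.1 (hy' (QuotientGroup.mk' A' (π g)))
    have h1 : (y ^ l)⁻¹ * g ∈ A := by
      show π ((y ^ l)⁻¹ * g) ∈ A'
      rw [← QuotientGroup.ker_mk' A', MonoidHom.mem_ker]
      simp only [map_mul, map_inv, map_zpow]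
      rw [show (QuotientGroup.mk' A' (π y)) ^ l = QuotientGroup.mk' A' (π g) from hl, inv_mul_cancel]
    obtain ⟨i, j, hij⟩ := hdecA _ h1
    exact ⟨i, j, l, by rw [← hij, mul_inv_cancel_left]⟩
  have hxA : x ∈ A := hx'
  have hzx : ∀ g, Commute z g := fun g => (mem_center_iff.1 hzc g).symm
  have hcA : y * x * y⁻¹ ∈ A := (inferInstance : A.Normal).conj_mem x hxA y
  obtain ⟨s, e, hse⟩ := hdecA _ hcA
  by_cases hzin : z ∈ zpowers x
  · -- `A` is cyclic
    obtain ⟨i0, hi0⟩ := mem_zpowers_iff.1 hzin
    refine metacyclic_of_conj (g := x) (h := y) ?_ ?_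
    · refine (eq_top_iff' _).2 fun g => ?_
      obtain ⟨i, j, l, rfl⟩ := hdec g
      have hxm : x ∈ closure ({x, y} : Set S) := subset_closure (Or.inl rfl)
      exact mul_mem (zpow_mem (Subgroup.subset_closure (Or.inr rfl) : y ∈ closure ({x, y} : Set S)) l)
        (mul_mem (zpow_mem hxm i) (zpow_mem (hi0 ▸ zpow_mem hxm i0) j))
    · rw [hse]
      exact mul_mem (zpow_mem (mem_zpowers x) s) (zpow_mem hzin e)
  -- otherwise the derived subgroup is `⟨z⟩`
  set c := x ^ (s - 1) * z ^ e with hc
  have hcomyx : y * x * y⁻¹ = x * c := by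
    rw [hse, hc, ← mul_assoc, ← zpow_one_add, add_sub_cancel]
  have hcx : Commute c x := ((Commute.refl x).zpow_left _).mul_left ((hzx x).zpow_left e)
  set W := zpowers c
  have hWn : W.Normal := by
    refine normalizer_eq_top_iff.1 ((eq_top_iff' _).2 fun g => ?_)
    obtain ⟨i, j, l, rfl⟩ := hdec g
    have hyW : y ∈ normalizer (W : Set S) := by
      refine mem_normalizer_iff_map_conj_eq.2 (eq_of_le_of_card_ge ?_
        (card_map_of_injective (MulEquiv.injective _)).ge)
      rw [map_le_iff_le_comap, zpowers_le]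
      show y * c * y⁻¹ ∈ W
      have e1 : y * c * y⁻¹ = (y * x * y⁻¹) ^ (s - 1) * z ^ e := by
        rw [hc, conj_zpow, mul_assoc, mul_assoc, mul_assoc, ((hzx y⁻¹).zpow_left e).eq]
        simp only [mul_assoc]
      rw [e1, hcomyx, hcx.symm.mul_zpow, mul_assoc]
      rw [show c ^ (s - 1) * z ^ e = z ^ e * c ^ (s - 1) from (((hzx c).zpow_left e).zpow_right _).eq.symm,
        ← mul_assoc, ← hc]
      exact mul_mem (mem_zpowers c) (zpow_mem (mem_zpowers c) _)
    refine mul_mem (zpow_mem hyW l) ((centralizer_le_normalizer _) (mem_centralizer_iff.2 fun w hw => ?_))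
    obtain ⟨d, rfl⟩ := mem_zpowers_iff.1 hw
    exact (((hcx.zpow_right i).mul_right ((hzx c).zpow_left j).symm).zpow_left d).eq
  haveI := hWn
  have hcW : commutator S ≤ W := by
    set ρ := QuotientGroup.mk' W
    have hρc : ρ c = 1 := (QuotientGroup.eq_one_iff c).2 (mem_zpowers c)
    have h1 : Commute (ρ y) (ρ x) := by
      have := congrArg ρ hcomyx
      rw [map_mul ρ x c, hρc, mul_one, map_mul, map_mul, map_inv] at this
      exact mul_inv_eq_iff_eq_mul.1 this
    have hρz : ∀ g, Commute (ρ z) (ρ g) := fun g => (hzx g).map ρ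
    have hall : ∀ g g' : S, Commute (ρ g) (ρ g') := by
      intro g g'
      obtain ⟨i, j, l, rfl⟩ := hdec g
      obtain ⟨i', j', l', rfl⟩ := hdec g'
      simp only [map_mul, map_zpow]
      have hy1 : ∀ t : ℤ, Commute (ρ y) (ρ z ^ t) := fun t => (hρz y).symm.zpow_right t
      have hx1 : ∀ t : ℤ, Commute (ρ x) (ρ z ^ t) := fun t => (hρz x).symm.zpow_right t
      refine Commute.mul_left (Commute.mul_right ?_ (Commute.mul_right ?_ ?_))
        (Commute.mul_left (Commute.mul_right ?_ (Commute.mul_right ?_ ?_))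
          (Commute.mul_right ?_ (Commute.mul_right ?_ ?_)))
      · exact (Commute.refl _).zpow_zpow l l'
      · exact h1.zpow_zpow l i'
      · exact (hy1 j').zpow_left l
      · exact h1.symm.zpow_zpow i l'
      · exact (Commute.refl _).zpow_zpow i i'
      · exact (hx1 j').zpow_left i
      · exact ((hρz y).zpow_zpow j l')
      · exact ((hρz x).zpow_zpow j i')
      · exact (Commute.refl _).zpow_zpow j j'
    rw [_root_.commutator_def, commutator_le]
    intro g _ g' _
    rw [← QuotientGroup.ker_mk' W, MonoidHom.mem_ker, map_commutatorElement,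
      commutatorElement_eq_one_iff_mul_comm]
    exact hall g g'
  -- `z` is a power of `c`, so `c = z`
  obtain ⟨d, hd⟩ := mem_zpowers_iff.1 (hcW hz)
  have hzz : z * z = 1 := by rw [← pow_two, ← hz2, pow_orderOf_eq_one]
  have hz1 : z ≠ 1 := fun e1 => by rw [e1, orderOf_one] at hz2; omega
  rw [hc, (((hzx x).symm.zpow_right e).zpow_left (s - 1)).mul_zpow, ← zpow_mul, ← zpow_mul] at hd
  have hze : ∀ t : ℤ, (Even t → z ^ t = 1) ∧ (Odd t → z ^ t = z) := fun t =>
    ⟨fun ⟨w, hw⟩ => by rw [hw, zpow_add, ← (Commute.refl z).mul_zpow, hzz, one_zpow],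
      fun ⟨w, hw⟩ => by rw [hw, zpow_add, zpow_mul, zpow_two, hzz, one_zpow, one_mul, zpow_one]⟩
  have hoe : Odd (e * d) := by
    rcases Int.even_or_odd (e * d) with h | h
    · exfalso
      rw [(hze _).1 h, mul_one] at hd
      exact hzin (hd ▸ zpow_mem (mem_zpowers x) _)
    · exact h
  rw [(hze _).2 hoe] at hd
  have hx0 : x ^ ((s - 1) * d) = 1 := mul_eq_right.1 hd
  obtain ⟨heo, hdo⟩ := Int.odd_mul.1 hoe
  have hxs : x ^ (s - 1) = 1 := by
    obtain ⟨j, hj⟩ := IsPGroup.iff_orderOf.1 h2 x
    refine orderOf_dvd_iff_zpow_eq_one.1 ?_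
    have h3 := orderOf_dvd_iff_zpow_eq_one.2 hx0
    rw [hj] at h3 ⊢
    push_cast at h3 ⊢
    obtain ⟨t, ht⟩ := hdo
    exact (IsCoprime.pow_left (⟨-t, 1, by rw [ht]; ring⟩ : IsCoprime (2 : ℤ) d)).dvd_of_dvd_mul_right h3
  have hcz : c = z := by rw [hc, hxs, one_mul, (hze _).2 heo]
  refine metacyclic_of_commutator hk h2 hr (a := x) (b := y) (c := z) ?_ hz1 hzz (fun g => (hzx g).eq) ?_
  · refine (eq_top_iff' _).2 fun g => ?_
    obtain ⟨i, j, l, rfl⟩ := hdec g
    have hxm : x ∈ closure ({x, y} : Set S) := subset_closure (Or.inl rfl)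
    have hym : y ∈ closure ({x, y} : Set S) := subset_closure (Or.inr rfl)
    have hzm : z ∈ closure ({x, y} : Set S) := by
      have h4 : x⁻¹ * (y * x * y⁻¹) = z := by rw [hcomyx, hcz, inv_mul_cancel_left]
      rw [← h4]
      exact mul_mem (inv_mem hxm) (mul_mem (mul_mem hym hxm) (inv_mem hym))
    exact mul_mem (zpow_mem hym l) (mul_mem (zpow_mem hxm i) (zpow_mem hzm j))
  · have h4 : y * x * y⁻¹ = x * z := hcz ▸ hcomyx
    calc y * x = y * x * y⁻¹ * y := by rw [inv_mul_cancel_right]
      _ = x * z * y := by rw [h4]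
      _ = x * y * z := by rw [mul_assoc, (hzx y).eq, mul_assoc]

end Cfsg.Lib.SectionalRankTwo
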