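import Mathlib.GroupTheory.Sylow
import Mathlib.GroupTheory.Transfer
import Cfsg.Agent.PGroups.Basic

/-!
If `P` is a Sylow `p`-subgroup of `X`, `N` is normal with `p ^ 2 ∣ |P ∩ N|`, and `s ∈ P \ N` has
`|C_P(s)| = p ^ 2`, then `p ^ 3` does not divide `|C_X(s)|`.
-/

set_option autoImplicit false
set_option linter.unusedSectionVars false
set_option linter.style.haveILetI false

namespace Cfsg.Lib.SelfCentPSq

open Subgroup
open scoped commutatorElement

universe u

variable {p : ℕ} [hp : Fact p.Prime] {X : Type u} [Group X] [Finite X]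

/-- Counting through the commutators with a fixed element. -/
theorem card_le_of_comm_mem {H Z : Subgroup X} {s : X} (h : ∀ g ∈ H, ⁅g, s⁆ ∈ Z) :
    Nat.card H ≤ Nat.card Z * Nat.card ↥(H ⊓ centralizer ({s} : Set X)) := by
  set D := (H ⊓ centralizer ({s} : Set X)).subgroupOf H
  have hD : Nat.card D = Nat.card ↥(H ⊓ centralizer ({s} : Set X)) :=
    Nat.card_congr (subgroupOfEquivOfLe inf_le_left).toEquiv
  rw [← hD, card_eq_card_quotient_mul_card_subgroup D]
  refine Nat.mul_le_mul_right _ (Nat.card_le_card_of_injective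
    (fun q : H ⧸ D => (⟨⁅((Quotient.out q : H) : X), s⁆, h _ (Quotient.out q).2⟩ : Z)) ?_)
  intro q r e
  have e' : ⁅((Quotient.out q : H) : X), s⁆ = ⁅((Quotient.out r : H) : X), s⁆ := congrArg Subtype.val e
  rw [← QuotientGroup.out_eq' q, ← QuotientGroup.out_eq' r, QuotientGroup.eq]
  simp only [D, mem_subgroupOf, coe_mul, coe_inv, mem_inf, mem_centralizer_singleton_iff]
  refine ⟨H.mul_mem (H.inv_mem (Quotient.out q).2) (Quotient.out r).2, ?_⟩
  generalize ((Quotient.out q : H) : X) = a at e' ⊢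
  generalize ((Quotient.out r : H) : X) = b at e' ⊢
  simp only [commutatorElement_def, mul_left_inj] at e'
  calc a⁻¹ * b * s = a⁻¹ * (b * s * b⁻¹) * b := by group
    _ = a⁻¹ * (a * s * a⁻¹) * b := by rw [e']
    _ = s * (a⁻¹ * b) := by group

theorem card_eq_card_map_mul {Y : Type u} [Group Y] (f : X →* Y) {H : Subgroup X} (h : f.ker ≤ H) :
    Nat.card H = Nat.card (H.map f) * Nat.card f.ker := by
  rw [← Subgroup.relIndex_ker H f, mul_comm, ← relIndex_bot_left, ← relIndex_bot_left,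
    relIndex_mul_relIndex _ _ _ bot_le h]

theorem le_center_of_normal_prime_order {Q : Type u} [Group Q] [Finite Q] (hQ : IsPGroup p Q)
    {A : Subgroup Q} [A.Normal] (hA : Nat.card A = p) : A ≤ center Q := by
  have hne : A ≠ ⊥ := fun h => hp.out.one_lt.ne' (by rw [← hA, h, card_bot])
  obtain ⟨w, hwA, hwZ, hw⟩ := Cfsg.Lib.PGroups.exists_mem_center_of_normal_ne_bot hQ hne
  have : zpowers w = A := eq_of_le_of_card_ge (zpowers_le.2 hwA) (by rw [hA, Nat.card_zpowers, hw])
  exact this ▸ zpowers_le.2 hwZ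

/-- A subgroup of prime order normalized by a `p`-subgroup is centralized by it. -/
theorem commute_of_prime_order {T A : Subgroup X} (hT : IsPGroup p T) (hAT : A ≤ T) (hA : Nat.card A = p)
    (hn : ∀ t ∈ T, ∀ a ∈ A, t * a * t⁻¹ ∈ A) {t : X} (ht : t ∈ T) {a : X} (ha : a ∈ A) : Commute t a := by
  haveI : (A.subgroupOf T).Normal := ⟨fun x hx g => by
    rw [mem_subgroupOf] at hx ⊢
    exact hn _ g.2 _ hx⟩
  have h := le_center_of_normal_prime_order hT (A := A.subgroupOf T)
    (by rw [Nat.card_congr (subgroupOfEquivOfLe hAT).toEquiv, hA])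
    (show (⟨a, hAT ha⟩ : T) ∈ A.subgroupOf T from ha)
  exact congrArg Subtype.val (mem_center_iff.1 h ⟨t, ht⟩)

/-- The induction statement. -/
def Stmt (p n : ℕ) : Prop :=
  ∀ (X : Type u) [Group X] [Finite X] (P : Sylow p X) (N : Subgroup X) [N.Normal] (s : X),
    Nat.card P = p ^ n → s ∈ (P : Subgroup X) → s ∉ N →
    Nat.card ↥((P : Subgroup X) ⊓ centralizer ({s} : Set X)) = p ^ 2 →
    p ^ 2 ∣ Nat.card ↥((P : Subgroup X) ⊓ N) → ¬ p ^ 3 ∣ Nat.card (centralizer ({s} : Set X))

/-- The step through the quotient by a central subgroup of order `p`. -/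
theorem quot_step {n : ℕ} (ih : ∀ m < n, Stmt.{u} p m) (P : Sylow p X) (N : Subgroup X) [N.Normal]
    {z : X} (hzc : z ∈ center X) (hzo : orderOf z = p) (hzN : z ∈ N) (hzP : z ∈ (P : Subgroup X))
    {s : X} (hP : Nat.card P = p ^ n) (hs : s ∈ (P : Subgroup X)) (hsN : s ∉ N)
    (hD : Nat.card ↥((P : Subgroup X) ⊓ centralizer ({s} : Set X)) = p ^ 2)
    (hK : p ^ 3 ∣ Nat.card ↥((P : Subgroup X) ⊓ N) ∨ n = 3) :
    ¬ p ^ 3 ∣ Nat.card (centralizer ({s} : Set X)) := by
  classical
  haveI : (zpowers z).Normal := ⟨fun w hw g => by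
    rw [mem_center_iff.1 (zpowers_le.2 hzc hw) g, mul_inv_cancel_right]; exact hw⟩
  set π := QuotientGroup.mk' (zpowers z)
  have hπ : Function.Surjective π := QuotientGroup.mk'_surjective _
  have hker : π.ker = zpowers z := QuotientGroup.ker_mk' _
  have hkc : Nat.card π.ker = p := by rw [hker, Nat.card_zpowers, hzo]
  set W := (centralizer ({π s} : Set (X ⧸ zpowers z))).comap π with hW
  have hWmem : ∀ g, g ∈ W ↔ ⁅g, s⁆ ∈ zpowers z := fun g => by
    rw [hW, mem_comap, mem_centralizer_singleton_iff, ← QuotientGroup.eq_one_iff]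
    show _ ↔ π ⁅g, s⁆ = 1
    rw [map_commutatorElement, commutatorElement_eq_one_iff_mul_comm]
  have hkW : π.ker ≤ W := fun g hg => by
    rw [hker] at hg
    rw [hWmem, commutatorElement_eq_one_iff_mul_comm.2 (mem_center_iff.1 (zpowers_le.2 hzc hg) s).symm]
    exact one_mem _
  have hkP : π.ker ≤ (P : Subgroup X) := hker.le.trans (zpowers_le.2 hzP)
  set P' := P.mapSurjective hπ
  have hP'c : Nat.card P' * p = p ^ n := by
    have h := card_eq_card_map_mul π hkP
    rw [hkc] at h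
    rw [← hP]; exact h.symm
  set WP := (P : Subgroup X) ⊓ W with hWP
  have hWPle : Nat.card WP ≤ p ^ 3 := by
    refine (card_le_of_comm_mem (Z := zpowers z) (s := s) fun g hg => (hWmem g).1 (mem_inf.1 hg).2).trans ?_
    rw [Nat.card_zpowers, hzo]
    calc p * Nat.card ↥(WP ⊓ centralizer ({s} : Set X))
        ≤ p * Nat.card ↥((P : Subgroup X) ⊓ centralizer ({s} : Set X)) :=
          Nat.mul_le_mul_left _ (card_le_of_le (inf_le_inf_right _ inf_le_left))
      _ = p ^ 3 := by rw [hD]; ring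
  have key : Nat.card WP = p ^ 3 ∧ ¬ p ^ 4 ∣ Nat.card W := by
    rcases hK with hK | hn
    · have hn1 : 1 ≤ n := by
        by_contra h
        have h2 := Nat.le_of_dvd Nat.card_pos hK
        have h3 := card_le_of_le (inf_le_left : (P : Subgroup X) ⊓ N ≤ P)
        rw [show n = 0 by omega, pow_zero] at hP
        have h4 : 1 < p ^ 3 := Nat.one_lt_pow (by norm_num) hp.out.one_lt
        change _ ≤ Nat.card P at h3
        omega
      have hn' : Nat.card P' = p ^ (n - 1) := by
        have h := hP'c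
        rw [← Nat.sub_add_cancel hn1, pow_succ] at h
        exact Nat.eq_of_mul_eq_mul_right hp.out.pos h
      haveI : (N.map π).Normal := (inferInstance : N.Normal).map π hπ
      have hkK : π.ker ≤ (P : Subgroup X) ⊓ N := le_inf hkP (hker.le.trans (zpowers_le.2 hzN))
      have hsN' : π s ∉ N.map π := fun h => hsN (by
        obtain ⟨y, hy, e⟩ := h
        have h1 : y⁻¹ * s ∈ π.ker := by rw [MonoidHom.mem_ker, map_mul, map_inv, e, inv_mul_cancel]
        have := N.mul_mem hy (hkK h1).2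
        rwa [mul_inv_cancel_left] at this)
      have hsP' : π s ∈ (P' : Subgroup (X ⧸ zpowers z)) := mem_map_of_mem π hs
      set E := (P' : Subgroup (X ⧸ zpowers z)) ⊓ centralizer ({π s} : Set (X ⧸ zpowers z))
      have hEP : E ≤ (P' : Subgroup (X ⧸ zpowers z)) := inf_le_left
      have hE : WP.map π = E := by
        apply le_antisymm
        · rintro _ ⟨g, hg, rfl⟩
          exact ⟨mem_map_of_mem π hg.1, hg.2⟩
        · rintro x ⟨⟨g, hg, rfl⟩, hx⟩
          exact ⟨g, ⟨hg, hx⟩, rfl⟩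
      have hEc : Nat.card WP = Nat.card E * p := by
        rw [← hkc, ← hE]; exact card_eq_card_map_mul π (le_inf hkP hkW)
      have hK' : p ^ 2 ∣ Nat.card ↥((P' : Subgroup (X ⧸ zpowers z)) ⊓ N.map π) := by
        have h1 : ((P : Subgroup X) ⊓ N).map π ≤ (P' : Subgroup (X ⧸ zpowers z)) ⊓ N.map π := map_inf_le _ _ _
        refine dvd_trans ?_ (card_dvd_of_le h1)
        have h2 := card_eq_card_map_mul π hkK
        rw [h2, hkc, pow_succ] at hK
        exact (Nat.mul_dvd_mul_iff_right hp.out.pos).1 hK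
      have hEge : p ^ 2 ≤ Nat.card E := by
        obtain ⟨j, hj⟩ := IsPGroup.iff_card.1 (P'.isPGroup'.to_le hEP)
        -- a central element of `P'` in `N.map π`
        haveI : ((N.map π).subgroupOf (P' : Subgroup (X ⧸ zpowers z))).Normal := inferInstance
        have hne : (N.map π).subgroupOf (P' : Subgroup (X ⧸ zpowers z)) ≠ ⊥ := fun h => by
          rw [subgroupOf_eq_bot, disjoint_iff, inf_comm] at h
          rw [h, card_bot] at hK'
          exact (Nat.one_lt_pow two_ne_zero hp.out.one_lt).ne' (Nat.dvd_one.1 hK')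
        obtain ⟨w, hw, hwc, hwo⟩ := Cfsg.Lib.PGroups.exists_mem_center_of_normal_ne_bot P'.isPGroup' hne
        have hwE : (w : X ⧸ zpowers z) ∈ E ⊓ N.map π :=
          ⟨⟨w.2, mem_centralizer_singleton_iff.2
            (congrArg Subtype.val (mem_center_iff.1 hwc ⟨π s, hsP'⟩)).symm⟩, hw⟩
        have hlt : E ⊓ N.map π < E := lt_of_le_of_ne inf_le_left fun h =>
          hsN' (h.ge ⟨hsP', mem_centralizer_singleton_iff.2 rfl⟩).2
        obtain ⟨i, hi⟩ := IsPGroup.iff_card.1 (P'.isPGroup'.to_le (hlt.le.trans hEP))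
        have hi0 : i ≠ 0 := fun h => by
          rw [h, pow_zero, card_eq_one] at hi
          rw [hi, mem_bot] at hwE
          have hw1 : w = 1 := Subtype.ext hwE
          rw [hw1, orderOf_one] at hwo
          exact hp.out.one_lt.ne hwo
        have hij : p ^ i < p ^ j := by
          rw [← hi, ← hj]
          exact lt_of_le_of_ne (card_le_of_le hlt.le) fun e => hlt.ne (eq_of_le_of_card_ge hlt.le e.ge)
        rw [hj]
        exact Nat.pow_le_pow_right hp.out.pos (by
          have := (Nat.pow_lt_pow_iff_right hp.out.one_lt).1 hij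
          omega)
      have hEeq : Nat.card E = p ^ 2 := by
        refine le_antisymm ?_ hEge
        refine Nat.le_of_mul_le_mul_right ?_ hp.out.pos
        rw [← hEc, show p ^ 2 * p = p ^ 3 by ring]
        exact hWPle
      refine ⟨by rw [hEc, hEeq]; ring, fun h4 => ?_⟩
      refine ih (n - 1) (by omega) (X ⧸ zpowers z) P' (N.map π) (π s) hn' hsP' hsN' hEeq hK' ?_
      have h5 := card_eq_card_map_mul π hkW
      rw [hW, map_comap_eq_self_of_surjective hπ, ← hW, hkc] at h5
      rw [h5, pow_succ] at h4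
      exact (Nat.mul_dvd_mul_iff_right hp.out.pos).1 h4
    · subst hn
      have hc : Nat.card P' = p ^ 2 :=
        Nat.eq_of_mul_eq_mul_right hp.out.pos (by rw [hP'c]; ring)
      haveI := IsPGroup.isMulCommutative_of_card_eq_prime_sq (p := p) hc
      have hall : (P : Subgroup X) ≤ W := fun g hg => by
        rw [hW, mem_comap, mem_centralizer_singleton_iff]
        exact congrArg Subtype.val (mul_comm' (⟨π g, mem_map_of_mem π hg⟩ : P') ⟨π s, mem_map_of_mem π hs⟩)
      refine ⟨by rw [hWP, inf_eq_left.2 hall]; exact hP, fun h4 => ?_⟩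
      have h5 := h4.trans (card_subgroup_dvd_card W)
      rw [← (P : Subgroup X).card_mul_index] at h5
      change _ ∣ Nat.card P * _ at h5
      rw [hP, pow_succ] at h5
      exact P.not_dvd_index ((Nat.mul_dvd_mul_iff_left (pow_pos hp.out.pos 3)).1 h5)
  intro h3
  obtain ⟨T, hT⟩ := Sylow.exists_subgroup_card_pow_prime p h3
  set T1 := T.map (centralizer ({s} : Set X)).subtype with hT1d
  have hT1 : Nat.card T1 = p ^ 3 := by
    rw [hT1d, card_map_of_injective (Subgroup.subtype_injective _), hT]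
  have hT1W : T1 ≤ W := by
    rintro _ ⟨g, -, rfl⟩
    rw [hWmem, Subgroup.coe_subtype,
      commutatorElement_eq_one_iff_mul_comm.2 (mem_centralizer_singleton_iff.1 g.2)]
    exact one_mem _
  have hfac : (Nat.card W).factorization p = 3 := by
    refine le_antisymm (Nat.le_of_lt_succ ?_) ?_
    · by_contra h
      exact key.2 ((hp.out.pow_dvd_iff_le_factorization Nat.card_pos.ne').2 (by omega))
    · rw [← hp.out.pow_dvd_iff_le_factorization Nat.card_pos.ne', ← key.1]
      exact card_dvd_of_le inf_le_right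
  have hc1 : Nat.card (WP.subgroupOf W) = p ^ (Nat.card W).factorization p := by
    rw [hfac, Nat.card_congr (subgroupOfEquivOfLe (show WP ≤ W from inf_le_right)).toEquiv, key.1]
  have hc2 : Nat.card (T1.subgroupOf W) = p ^ (Nat.card W).factorization p := by
    rw [hfac, Nat.card_congr (subgroupOfEquivOfLe hT1W).toEquiv, hT1]
  obtain ⟨w, hw⟩ := MulAction.exists_smul_eq W (Sylow.ofCard _ hc2) (Sylow.ofCard _ hc1)
  have hcent : WP ≤ centralizer ({s} : Set X) := by
    intro y hy
    have hyW : (⟨y, hy.2⟩ : W) ∈ WP.subgroupOf W := hy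
    have hy' : (⟨y, hy.2⟩ : W) ∈ (((Sylow.ofCard _ hc1) : Sylow p W) : Subgroup W) := hyW
    rw [← hw, Sylow.coe_subgroup_smul] at hy'
    obtain ⟨t, ht, e⟩ := hy'
    have e' : (w : X) * (t : X) * (w : X)⁻¹ = y := congrArg Subtype.val e
    have hts : (t : X) * s = s * (t : X) := by
      have h : (t : X) ∈ T1 := ht
      obtain ⟨g, -, hg⟩ := h
      rw [← hg]
      exact mem_centralizer_singleton_iff.1 g.2
    obtain ⟨c, hc, hcw⟩ : ∃ c ∈ center X, (w : X) * s * (w : X)⁻¹ = c * s :=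
      ⟨⁅(w : X), s⁆, zpowers_le.2 hzc ((hWmem _).1 w.2), by rw [commutatorElement_def]; group⟩
    have hcomm : Commute y (c * s) := by
      rw [← e', ← hcw]
      exact (Commute.conj_iff (w : X)).2 hts
    have hcy : Commute y c := mem_center_iff.1 hc y
    rw [mem_centralizer_singleton_iff]
    have h6 := hcy.inv_right.mul_right hcomm
    rw [inv_mul_cancel_left] at h6
    exact h6
  have := card_le_of_le (show WP ≤ (P : Subgroup X) ⊓ centralizer ({s} : Set X) from le_inf inf_le_left hcent)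
  rw [key.1, hD] at this
  exact absurd this (Nat.pow_lt_pow_right hp.out.one_lt (by norm_num)).not_ge

/-- A normal subgroup meeting a Sylow subgroup: the index is prime to `p`. -/
theorem not_dvd_relIndex_inf (P : Sylow p X) (N : Subgroup X) [N.Normal] :
    ¬ p ∣ (P : Subgroup X).relIndex N := by
  intro h
  apply P.not_dvd_index
  have h1 := relIndex_sup_right (P : Subgroup X) N
  have h2 : Nat.card N * N.relIndex ((P : Subgroup X) ⊔ N) = Nat.card ↥((P : Subgroup X) ⊔ N) := by
    rw [← relIndex_bot_left, ← relIndex_bot_left, relIndex_mul_relIndex _ _ _ bot_le le_sup_right]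
  have h3 : Nat.card (P : Subgroup X) * (P : Subgroup X).relIndex ((P : Subgroup X) ⊔ N) =
      Nat.card ↥((P : Subgroup X) ⊔ N) := by
    rw [← relIndex_bot_left, ← relIndex_bot_left, relIndex_mul_relIndex _ _ _ bot_le le_sup_left]
  have hN : Nat.card ↥((P : Subgroup X) ⊓ N) * (P : Subgroup X).relIndex N = Nat.card N := by
    rw [← inf_relIndex_right, ← relIndex_bot_left, ← relIndex_bot_left,
      relIndex_mul_relIndex _ _ _ bot_le inf_le_right]
  have hPc : Nat.card ↥((P : Subgroup X) ⊓ N) * N.relIndex (P : Subgroup X) = Nat.card (P : Subgroup X) := by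
    rw [← inf_relIndex_left, ← relIndex_bot_left, ← relIndex_bot_left,
      relIndex_mul_relIndex _ _ _ bot_le inf_le_left]
  have heq : (P : Subgroup X).relIndex N = (P : Subgroup X).relIndex ((P : Subgroup X) ⊔ N) := by
    refine Nat.eq_of_mul_eq_mul_left (Nat.card_pos (α := (P : Subgroup X))) ?_
    rw [h3, ← h2, h1, ← hN, ← hPc]
    ring
  exact (heq ▸ h).trans (relIndex_dvd_index_of_le le_sup_left)

/-- With a central subgroup of order `p` in `N`. -/
theorem central_case {n : ℕ} (ih : ∀ m < n, Stmt.{u} p m) (P : Sylow p X) (N : Subgroup X) [N.Normal]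
    {z : X} (hzc : z ∈ center X) (hzo : orderOf z = p) (hzN : z ∈ N) (hzP : z ∈ (P : Subgroup X))
    {s : X} (hP : Nat.card P = p ^ n) (hs : s ∈ (P : Subgroup X)) (hsN : s ∉ N)
    (hD : Nat.card ↥((P : Subgroup X) ⊓ centralizer ({s} : Set X)) = p ^ 2)
    (hK : p ^ 2 ∣ Nat.card ↥((P : Subgroup X) ⊓ N)) :
    ¬ p ^ 3 ∣ Nat.card (centralizer ({s} : Set X)) := by
  classical
  set K := (P : Subgroup X) ⊓ N with hKd
  obtain ⟨e, he⟩ := IsPGroup.iff_card.1 (P.isPGroup'.to_le (inf_le_left : K ≤ P))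
  rw [he] at hK
  have he2 : 2 ≤ e := (Nat.pow_dvd_pow_iff_le_right hp.out.one_lt).1 hK
  rcases Nat.lt_or_ge 2 e with he3 | he3
  · exact quot_step ih P N hzc hzo hzN hzP hP hs hsN hD (Or.inl (he ▸ Nat.pow_dvd_pow p he3))
  obtain rfl : e = 2 := by omega
  have hKlt : K < P := lt_of_le_of_ne inf_le_left fun h => hsN (h.ge hs).2
  have hn3 : 3 ≤ n := by
    have h1 : Nat.card K < Nat.card (P : Subgroup X) := lt_of_le_of_ne (card_le_of_le hKlt.le) fun h =>
      hKlt.ne (eq_of_le_of_card_ge hKlt.le h.ge)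
    rw [he] at h1
    change _ < Nat.card P at h1
    rw [hP] at h1
    exact (Nat.pow_lt_pow_iff_right hp.out.one_lt).1 h1
  rcases Nat.lt_or_ge 3 n with hn4 | hn4
  swap
  · exact quot_step ih P N hzc hzo hzN hzP hP hs hsN hD (Or.inr (by omega))
  -- `K` is commutative of order `p ^ 2`
  haveI : IsMulCommutative K := IsPGroup.isMulCommutative_of_card_eq_prime_sq (p := p) he
  have hKc : ∀ a ∈ K, ∀ b ∈ K, a * b = b * a := fun a ha b hb =>
    congrArg Subtype.val (mul_comm' (⟨a, ha⟩ : K) ⟨b, hb⟩)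
  have hZ : zpowers z < K := lt_of_le_of_ne (zpowers_le.2 ⟨hzP, hzN⟩) fun h => by
    have he : Nat.card K = p ^ 2 := he
    rw [← h, Nat.card_zpowers, hzo] at he
    exact absurd he (Nat.ne_of_lt (by simpa using Nat.pow_lt_pow_right hp.out.one_lt one_lt_two))
  obtain ⟨k, hkK, hkZ⟩ := SetLike.exists_of_lt hZ
  have hKgen : ∀ H : Subgroup X, z ∈ H → k ∈ H → K ≤ H := by
    intro H hz hk
    obtain ⟨i, hi⟩ := IsPGroup.iff_card.1 (P.isPGroup'.to_le ((inf_le_right : H ⊓ K ≤ K).trans inf_le_left))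
    have h1 : zpowers z < H ⊓ K := lt_of_le_of_ne (le_inf (zpowers_le.2 hz) hZ.le) fun h =>
      hkZ (h ▸ ⟨hk, hkK⟩)
    have h2 : p ^ 1 < p ^ i := by
      rw [← hi, pow_one, ← hzo, ← Nat.card_zpowers]
      exact lt_of_le_of_ne (card_le_of_le h1.le) fun h => h1.ne (eq_of_le_of_card_ge h1.le h.ge)
    have h3 : H ⊓ K = K := eq_of_le_of_card_ge inf_le_right (by
      rw [he, hi]
      exact Nat.pow_le_pow_right hp.out.pos ((Nat.pow_lt_pow_iff_right hp.out.one_lt).1 h2))
    exact h3 ▸ inf_le_left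
  -- the `P`-action on `K / ⟨z⟩` is trivial
  haveI : (zpowers z).Normal := ⟨fun w hw g => by
    rw [mem_center_iff.1 (zpowers_le.2 hzc hw) g, mul_inv_cancel_right]; exact hw⟩
  set π := QuotientGroup.mk' (zpowers z)
  have hπ : Function.Surjective π := QuotientGroup.mk'_surjective _
  have hker : π.ker = zpowers z := QuotientGroup.ker_mk' _
  have hKmap : Nat.card (K.map π) = p := by
    have h := card_eq_card_map_mul π (hker.le.trans hZ.le : π.ker ≤ K)
    rw [he, hker, Nat.card_zpowers, hzo, sq] at h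
    exact (Nat.eq_of_mul_eq_mul_right hp.out.pos h).symm
  have hPK : ∀ g ∈ (P : Subgroup X), ∀ x ∈ K, ⁅g, x⁆ ∈ zpowers z := by
    intro g hg x hx
    have h := commute_of_prime_order (P.isPGroup'.map π) (map_mono (inf_le_left : K ≤ P)) hKmap
      (by
        rintro _ ⟨g, hg, rfl⟩ _ ⟨x, hx, rfl⟩
        rw [← map_inv, ← map_mul, ← map_mul]
        exact mem_map_of_mem π ⟨Subgroup.mul_mem _ (Subgroup.mul_mem _ hg hx.1) (Subgroup.inv_mem _ hg),
          (inferInstance : N.Normal).conj_mem x hx.2 g⟩)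
      (mem_map_of_mem π hg) (mem_map_of_mem π hx)
    rw [← hker, MonoidHom.mem_ker, map_commutatorElement, commutatorElement_eq_one_iff_mul_comm]
    exact h
  have hsk : ¬ Commute s k := fun h => by
    have h1 : zpowers z ≤ (P : Subgroup X) ⊓ centralizer ({s} : Set X) ⊓ N := zpowers_le.2
      ⟨⟨hzP, mem_centralizer_singleton_iff.2 (mem_center_iff.1 hzc s).symm⟩, hzN⟩
    have h2 : (P : Subgroup X) ⊓ centralizer ({s} : Set X) ⊓ N = zpowers z := by
      refine (eq_of_le_of_card_ge h1 ?_).symm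
      rw [Nat.card_zpowers, hzo]
      have h3 : (P : Subgroup X) ⊓ centralizer ({s} : Set X) ⊓ N < (P : Subgroup X) ⊓ centralizer ({s} : Set X) :=
        lt_of_le_of_ne inf_le_left fun e => hsN (e.ge ⟨hs, mem_centralizer_singleton_iff.2 rfl⟩).2
      obtain ⟨i, hi⟩ := IsPGroup.iff_card.1 (P.isPGroup'.to_le (h3.le.trans inf_le_left))
      have h4 : p ^ i < p ^ 2 := by
        rw [← hi, ← hD]
        exact lt_of_le_of_ne (card_le_of_le h3.le) fun e => h3.ne (eq_of_le_of_card_ge h3.le e.ge)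
      rw [hi]
      exact (Nat.pow_le_pow_right hp.out.pos (Nat.le_of_lt_succ
        ((Nat.pow_lt_pow_iff_right hp.out.one_lt).1 h4))).trans_eq (pow_one p)
    exact hkZ (h2.le ⟨⟨hkK.1, mem_centralizer_singleton_iff.2 h.eq.symm⟩, hkK.2⟩)
  -- `N ∩ N_X(K)` centralizes `K`
  set A := N ⊓ Subgroup.normalizer (K : Set X) with hA
  set A0 := A ⊓ centralizer (K : Set X)
  have hidx : ¬ p ∣ A0.relIndex A := by
    intro h
    apply not_dvd_relIndex_inf P N
    rw [← inf_relIndex_right, ← hKd]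
    have h1 : K ≤ A0 := le_inf (le_inf inf_le_right le_normalizer) fun a ha =>
      mem_centralizer_iff.2 fun b hb => hKc b hb a ha
    rw [← relIndex_mul_relIndex K A0 N h1 (inf_le_left.trans inf_le_left),
      ← relIndex_mul_relIndex A0 A N inf_le_left inf_le_left]
    exact dvd_mul_of_dvd_right (dvd_mul_of_dvd_left h _) _
  have hnorm : ∀ a ∈ A, ∀ x ∈ A0, a * x * a⁻¹ ∈ A0 := by
    intro a ha x hx
    refine ⟨A.mul_mem (A.mul_mem ha hx.1) (A.inv_mem ha), mem_centralizer_iff.2 fun b hb => ?_⟩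
    have hb' : a⁻¹ * b * a ∈ K := by
      have := (mem_normalizer_iff.1 (inv_mem ha.2 : a⁻¹ ∈ Subgroup.normalizer (K : Set X)) b).1 hb
      rwa [inv_inv] at this
    have := mem_centralizer_iff.1 hx.2 _ hb'
    calc b * (a * x * a⁻¹) = a * ((a⁻¹ * b * a) * x) * a⁻¹ := by group
      _ = a * (x * (a⁻¹ * b * a)) * a⁻¹ := by rw [this]
      _ = a * x * a⁻¹ * b := by group
  have hfix : ∀ a ∈ A, ⁅a, k⁆ ∈ zpowers z → a ∈ centralizer (K : Set X) := by
    intro a ha hak
    haveI : (A0.subgroupOf A).Normal := ⟨fun x hx g => by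
      rw [mem_subgroupOf] at hx ⊢
      exact hnorm _ g.2 _ hx⟩
    have hK' : ∀ b : X, Commute b z → Commute b k → b ∈ centralizer (K : Set X) := by
      intro b hbz hbk
      refine mem_centralizer_iff.2 fun x hx => ?_
      have := hKgen (centralizer ({b} : Set X)) (mem_centralizer_singleton_iff.2 hbz.eq.symm)
        (mem_centralizer_singleton_iff.2 hbk.eq.symm) hx
      exact mem_centralizer_singleton_iff.1 this
    obtain ⟨t, ht, hat⟩ : ∃ t ∈ zpowers z, a * k * a⁻¹ = t * k :=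
      ⟨_, hak, by rw [commutatorElement_def]; group⟩
    have htc : ∀ g : X, g * t = t * g := mem_center_iff.1 (zpowers_le.2 hzc ht)
    have hpow : ∀ i : ℕ, a ^ i * k * (a ^ i)⁻¹ = t ^ i * k := by
      intro i
      induction i with
      | zero => simp
      | succ i ih =>
        rw [pow_succ' a, mul_inv_rev, show a * a ^ i * k * ((a ^ i)⁻¹ * a⁻¹) = a * (a ^ i * k * (a ^ i)⁻¹) * a⁻¹
          by group, ih, ← mul_assoc a, (Commute.pow_right (htc a) i).eq, mul_assoc (t ^ i),
          mul_assoc (t ^ i), hat, ← mul_assoc, pow_succ]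
    have hap : a ^ p ∈ A0 := by
      refine ⟨pow_mem ha p, hK' _ (mem_center_iff.1 hzc _) ?_⟩
      have htp : t ^ p = 1 := by
        obtain ⟨i, rfl⟩ := mem_zpowers_iff.1 ht
        rw [← zpow_natCast, ← zpow_mul, mul_comm, zpow_mul, zpow_natCast, ← hzo, pow_orderOf_eq_one, one_zpow]
      have := hpow p
      rw [htp, one_mul, mul_inv_eq_iff_eq_mul] at this
      exact this
    have hai : a ^ A0.relIndex A ∈ A0 := by
      simpa [mem_subgroupOf, relIndex] using (A0.subgroupOf A).pow_index_mem ⟨a, ha⟩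
    have hco : Nat.Coprime p (A0.relIndex A) := hp.out.coprime_iff_not_dvd.2 hidx
    have hb : a ^ ((p : ℤ) * Nat.gcdA p (A0.relIndex A) +
        (A0.relIndex A : ℤ) * Nat.gcdB p (A0.relIndex A)) ∈ A0 := by
      rw [zpow_add, zpow_mul, zpow_mul, zpow_natCast, zpow_natCast]
      exact mul_mem (zpow_mem hap _) (zpow_mem hai _)
    rw [← Nat.gcd_eq_gcd_ab, hco.gcd_eq_one, Nat.cast_one, zpow_one] at hb
    exact hb.2
  have hKL : ∀ g ∈ (P : Subgroup X), ∀ x, x ∈ K ↔ g * x * g⁻¹ ∈ K := by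
    have h : ∀ g ∈ (P : Subgroup X), ∀ x ∈ K, g * x * g⁻¹ ∈ K := fun g hg x hx =>
      ⟨Subgroup.mul_mem _ (Subgroup.mul_mem _ hg hx.1) (Subgroup.inv_mem _ hg), (inferInstance : N.Normal).conj_mem x hx.2 g⟩
    refine fun g hg x => ⟨h g hg x, fun hx => ?_⟩
    have := h g⁻¹ (inv_mem hg) _ hx
    simpa [mul_assoc] using this
  have hsnK : s ∈ Subgroup.normalizer (K : Set X) := mem_normalizer_iff.2 (hKL s hs)
  have hAC : A ≤ centralizer (K : Set X) := by
    intro a ha
    have hcA : ⁅s, a⁆ ∈ A := by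
      refine ⟨?_, ?_⟩
      · rw [commutatorElement_def]
        exact N.mul_mem ((inferInstance : N.Normal).conj_mem a ha.1 s) (N.inv_mem ha.1)
      · rw [commutatorElement_def]
        exact Subgroup.mul_mem _ (Subgroup.mul_mem _ (Subgroup.mul_mem _ hsnK ha.2) (Subgroup.inv_mem _ hsnK)) (Subgroup.inv_mem _ ha.2)
    have hcC : ⁅s, a⁆ ∈ centralizer (K : Set X) := by
      refine hfix _ hcA ?_
      rw [← hker, MonoidHom.mem_ker, map_commutatorElement, map_commutatorElement,
        commutatorElement_eq_one_iff_mul_comm]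
      have hs' : ∀ x ∈ K, Commute (π s) (π x) := fun x hx => by
        rw [← commutatorElement_eq_one_iff_commute, ← map_commutatorElement, ← MonoidHom.mem_ker, hker]
        exact hPK s hs x hx
      have hx' : a⁻¹ * k * a ∈ K := by
        have := (mem_normalizer_iff.1 (inv_mem ha.2 : a⁻¹ ∈ Subgroup.normalizer (K : Set X)) k).1 hkK
        rwa [inv_inv] at this
      have h1 := (hs' _ hx').eq
      have h2 := (hs' _ hkK).eq
      simp only [map_mul, map_inv] at h1
      rw [commutatorElement_def]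
      generalize π s = S at h1 h2 ⊢
      generalize π a = B at h1 h2 ⊢
      generalize π k = Q at h1 h2 ⊢
      calc S * B * S⁻¹ * B⁻¹ * Q = S * B * S⁻¹ * ((B⁻¹ * Q * B) * S) * S⁻¹ * B⁻¹ := by group
        _ = S * B * S⁻¹ * (S * (B⁻¹ * Q * B)) * S⁻¹ * B⁻¹ := by rw [h1]
        _ = S * Q * B * S⁻¹ * B⁻¹ := by group
        _ = Q * S * B * S⁻¹ * B⁻¹ := by rw [h2]
        _ = Q * (S * B * S⁻¹ * B⁻¹) := by group
    refine hfix a ha ?_
    have hy : a * k * a⁻¹ ∈ K := (mem_normalizer_iff.1 ha.2 k).1 hkK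
    obtain ⟨t, ht, hst⟩ : ∃ t ∈ zpowers z, s * k * s⁻¹ = t * k :=
      ⟨_, hPK s hs k hkK, by rw [commutatorElement_def]; group⟩
    have htc : ∀ g : X, g * t = t * g := mem_center_iff.1 (zpowers_le.2 hzc ht)
    have hsy : s * (a * k * a⁻¹) * s⁻¹ = t * (a * k * a⁻¹) := by
      have hw : a * (s * k * s⁻¹) * a⁻¹ ∈ K := (mem_normalizer_iff.1 ha.2 _).1 ((hKL s hs k).1 hkK)
      have hc := mem_centralizer_iff.1 hcC _ hw
      calc s * (a * k * a⁻¹) * s⁻¹ = ⁅s, a⁆ * (a * (s * k * s⁻¹) * a⁻¹) * ⁅s, a⁆⁻¹ := by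
            rw [commutatorElement_def]; group
        _ = a * (s * k * s⁻¹) * a⁻¹ := by rw [← hc, mul_inv_cancel_right]
        _ = t * (a * k * a⁻¹) := by rw [hst, ← mul_assoc a, htc a]; group
    -- the quotient commutes with `s`
    have hq : Commute s (k⁻¹ * (a * k * a⁻¹)) := by
      rw [← commutatorElement_eq_one_iff_commute, commutatorElement_def]
      calc s * (k⁻¹ * (a * k * a⁻¹)) * s⁻¹ * (k⁻¹ * (a * k * a⁻¹))⁻¹
          = (s * k * s⁻¹)⁻¹ * (s * (a * k * a⁻¹) * s⁻¹) * (k⁻¹ * (a * k * a⁻¹))⁻¹ := by group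
        _ = (t * k)⁻¹ * (t * (a * k * a⁻¹)) * (k⁻¹ * (a * k * a⁻¹))⁻¹ := by rw [hst, hsy]
        _ = 1 := by group
    by_contra hne
    refine hsk (mem_centralizer_singleton_iff.1 ((hKgen (centralizer ({s} : Set X))
      (mem_centralizer_singleton_iff.2 (mem_center_iff.1 hzc s).symm) ?_ :
        K ≤ centralizer ({s} : Set X)) hkK)).symm
    -- otherwise `s` would centralize `K`
    have hmem : k⁻¹ * (a * k * a⁻¹) ∈ K := mul_mem (inv_mem hkK) hy
    have hnz : k⁻¹ * (a * k * a⁻¹) ∉ zpowers z := fun h => hne (by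
      have h' := (inferInstance : (zpowers z).Normal).conj_mem _ h k
      rw [show k * (k⁻¹ * (a * k * a⁻¹)) * k⁻¹ = ⁅a, k⁆ by rw [commutatorElement_def]; group] at h'
      exact h')
    have hgen2 : k ∈ closure ({z, k⁻¹ * (a * k * a⁻¹)} : Set X) := by
      set H := closure ({z, k⁻¹ * (a * k * a⁻¹)} : Set X)
      have hH : H ≤ K := (closure_le _).2 (Set.insert_subset ⟨hzP, hzN⟩ (Set.singleton_subset_iff.2 hmem))
      have hlt : zpowers z < H := lt_of_le_of_ne (zpowers_le.2 (subset_closure (Set.mem_insert _ _))) fun h =>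
        hnz (h ▸ subset_closure (Set.mem_insert_of_mem _ rfl))
      obtain ⟨i, hi⟩ := IsPGroup.iff_card.1 (P.isPGroup'.to_le (hH.trans inf_le_left))
      have h2 : p ^ 1 < p ^ i := by
        rw [← hi, pow_one, ← hzo, ← Nat.card_zpowers]
        exact lt_of_le_of_ne (card_le_of_le hlt.le) fun h => hlt.ne (eq_of_le_of_card_ge hlt.le h.ge)
      have : H = K := eq_of_le_of_card_ge hH (by
        rw [he, hi]
        exact Nat.pow_le_pow_right hp.out.pos ((Nat.pow_lt_pow_iff_right hp.out.one_lt).1 h2))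
      exact this ▸ hkK
    refine (closure_le (centralizer ({s} : Set X))).2 ?_ hgen2
    rintro x (rfl | rfl)
    · exact mem_centralizer_singleton_iff.2 (mem_center_iff.1 hzc s).symm
    · exact mem_centralizer_singleton_iff.2 hq.eq.symm
  -- Burnside transfer in `N`
  have hKN : K ≤ N := inf_le_right
  have hKSyl : Nat.card (K.subgroupOf N) = p ^ (Nat.card N).factorization p := by
    rw [Nat.card_congr (subgroupOfEquivOfLe hKN).toEquiv, he]
    congr 1
    have h1 : Nat.card N = Nat.card K * (P : Subgroup X).relIndex N := by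
      rw [hKd, ← inf_relIndex_right, ← relIndex_bot_left, ← relIndex_bot_left,
        relIndex_mul_relIndex _ _ _ bot_le inf_le_right]
    have h2 : (P : Subgroup X).relIndex N ≠ 0 := fun h => not_dvd_relIndex_inf P N (h ▸ dvd_zero p)
    rw [h1, he, Nat.factorization_mul (pow_ne_zero _ hp.out.ne_zero) h2, Finsupp.add_apply,
      Nat.factorization_eq_zero_of_not_dvd (not_dvd_relIndex_inf P N),
      hp.out.factorization_pow, Finsupp.single_eq_same, add_zero]
  set Q : Sylow p N := Sylow.ofCard _ hKSyl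
  have hQ : Subgroup.normalizer ((Q : Subgroup N) : Set N) ≤ centralizer ((Q : Subgroup N) : Set N) := by
    intro x hx
    have hxK : (x : X) ∈ Subgroup.normalizer (K : Set X) := by
      refine mem_normalizer_iff.2 fun y => ⟨fun hy => ?_, fun hy => ?_⟩
      · exact mem_subgroupOf.1 ((mem_normalizer_iff.1 hx ⟨y, hKN hy⟩).1 hy)
      · have hyN : y ∈ N := by
          have := N.mul_mem (N.mul_mem (N.inv_mem x.2) (hKN hy)) x.2
          simpa [mul_assoc] using this
        exact mem_subgroupOf.1 ((mem_normalizer_iff.1 hx ⟨y, hyN⟩).2 hy)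
    refine mem_centralizer_iff.2 fun y hy => Subtype.ext ?_
    exact mem_centralizer_iff.1 (hAC ⟨x.2, hxK⟩) y hy
  set O := (MonoidHom.transferSylow Q hQ).ker with hO
  have hcompl := MonoidHom.ker_transferSylow_isComplement' Q hQ
  have hOp : ¬ p ∣ Nat.card O := MonoidHom.not_dvd_card_ker_transferSylow Q hQ
  set O' := O.map N.subtype with hO'
  have hOmem : ∀ x : X, x ∈ O' ↔ x ∈ N ∧ ¬ p ∣ orderOf x := by
    intro x
    constructor
    · rintro ⟨y, hy, rfl⟩
      refine ⟨y.2, fun h => hOp (h.trans ?_)⟩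
      rw [Subgroup.coe_subtype, orderOf_coe]
      exact orderOf_dvd_natCard O hy
    · rintro ⟨hxN, hxo⟩
      refine ⟨⟨x, hxN⟩, ?_, rfl⟩
      have h1 : orderOf ((MonoidHom.transferSylow Q hQ) ⟨x, hxN⟩) ∣ orderOf x :=
        (orderOf_map_dvd _ _).trans (Subgroup.orderOf_coe (⟨x, hxN⟩ : N)).symm.dvd
      obtain ⟨i, hi⟩ := (IsPGroup.iff_orderOf.1 Q.isPGroup') ((MonoidHom.transferSylow Q hQ) ⟨x, hxN⟩)
      rw [hi] at h1
      show (MonoidHom.transferSylow Q hQ) ⟨x, hxN⟩ = 1
      rw [← orderOf_eq_one_iff, hi]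
      rcases Nat.eq_zero_or_pos i with rfl | hi0
      · rw [pow_zero]
      · exact absurd ((dvd_pow_self p hi0.ne').trans h1) hxo
  haveI : O'.Normal := ⟨fun x hx g => by
    rw [hOmem] at hx ⊢
    refine ⟨(inferInstance : N.Normal).conj_mem x hx.1 g, ?_⟩
    have h := MulEquiv.orderOf_eq (MulAut.conj g) x
    rw [MulAut.conj_apply] at h
    rw [h]
    exact hx.2⟩
  set ρ := QuotientGroup.mk' O'
  haveI : (N.map ρ).Normal := (inferInstance : N.Normal).map ρ (QuotientGroup.mk'_surjective _)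
  set M := (centralizer ((N.map ρ : Subgroup _) : Set (X ⧸ O'))).comap ρ with hM
  have hzM : z ∈ M := by
    refine mem_comap.2 (mem_centralizer_iff.2 ?_)
    rintro _ ⟨y, -, rfl⟩
    rw [← map_mul, ← map_mul, mem_center_iff.1 hzc y]
  have hNK : ∀ y ∈ N, ∃ x ∈ K, ρ y = ρ x := by
    intro y hy
    obtain ⟨⟨o, q⟩, hoq⟩ := hcompl.2 (⟨y, hy⟩ : N)
    refine ⟨((q : N) : X), q.2, ?_⟩
    have e : ((o : N) : X) * ((q : N) : X) = y := congrArg Subtype.val hoq
    rw [← e, map_mul, show ρ ((o : N) : X) = 1 from (QuotientGroup.eq_one_iff _).2 ⟨o, o.2, rfl⟩, one_mul]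
  have hPM : p ^ 3 ∣ Nat.card ↥((P : Subgroup X) ⊓ M) := by
    have hsub : (P : Subgroup X) ⊓ centralizer ({k} : Set X) ≤ (P : Subgroup X) ⊓ M := by
      intro g hg
      refine ⟨hg.1, mem_comap.2 (mem_centralizer_iff.2 ?_)⟩
      rintro _ ⟨y, hy, rfl⟩
      obtain ⟨x, hx, e⟩ := hNK y hy
      have hgx : Commute g x := (mem_centralizer_singleton_iff.1
        (hKgen (centralizer ({g} : Set X)) (mem_centralizer_singleton_iff.2 (mem_center_iff.1 hzc g).symm)
          (mem_centralizer_singleton_iff.2 (mem_centralizer_singleton_iff.1 hg.2).symm) hx)).symm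
      rw [e, ← map_mul, ← map_mul, hgx.eq]
    refine dvd_trans ?_ (card_dvd_of_le hsub)
    obtain ⟨i, hi⟩ := IsPGroup.iff_card.1
      (P.isPGroup'.to_le (inf_le_left : (P : Subgroup X) ⊓ centralizer ({k} : Set X) ≤ P))
    have h := card_le_of_comm_mem (Z := zpowers z) (s := k) fun g hg => hPK g hg k hkK
    rw [hi, Nat.card_zpowers, hzo, ← pow_succ'] at h
    change Nat.card P ≤ _ at h
    rw [hP] at h
    rw [hi]
    exact Nat.pow_dvd_pow p (by
      have := (Nat.pow_le_pow_iff_right hp.out.one_lt).1 h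
      omega)
  have hsM : s ∉ M := by
    intro h
    have h1 := mem_centralizer_iff.1 (mem_comap.1 h) (ρ k) (mem_map_of_mem ρ hkK.2)
    rw [← map_mul, ← map_mul] at h1
    have h2 : ⁅s, k⁆ ∈ O' := by
      rw [← QuotientGroup.eq_one_iff]
      show ρ ⁅s, k⁆ = 1
      rw [map_commutatorElement, commutatorElement_eq_one_iff_mul_comm, ← map_mul, ← map_mul, h1]
    have h3 : ⁅s, k⁆ ≠ 1 := fun e => hsk (commutatorElement_eq_one_iff_commute.1 e)
    have h4 : orderOf ⁅s, k⁆ = p := by
      have h5 : orderOf ⁅s, k⁆ ∣ p := by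
        have := orderOf_dvd_natCard (zpowers z) (hPK s hs k hkK)
        rwa [Nat.card_zpowers, hzo] at this
      exact ((Nat.dvd_prime hp.out).1 h5).resolve_left (by rwa [orderOf_eq_one_iff])
    exact ((hOmem _).1 h2).2 h4.symm.dvd
  exact quot_step ih P M hzc hzo hzM hzP hP hs hsM hD (Or.inl hPM)

theorem subgroupOf_inf_eq (A B H : Subgroup X) : (A ⊓ B).subgroupOf H = A.subgroupOf H ⊓ B.subgroupOf H :=
  comap_inf _ _ _

theorem stmt : ∀ n, Stmt.{u} p n := by
  intro n
  induction n using Nat.strong_induction_on with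
  | _ n ih =>
  intro X _ _ P N _ s hP hs hsN hD hK h3
  classical
  have hne : N.subgroupOf (P : Subgroup X) ≠ ⊥ := fun h => by
    rw [subgroupOf_eq_bot, disjoint_iff, inf_comm] at h
    rw [h, card_bot] at hK
    exact (Nat.one_lt_pow two_ne_zero hp.out.one_lt).ne' (Nat.dvd_one.1 hK)
  obtain ⟨⟨z, hzP⟩, hzN, hzc, hzo⟩ := Cfsg.Lib.PGroups.exists_mem_center_of_normal_ne_bot P.isPGroup' hne
  rw [← Subgroup.orderOf_coe] at hzo
  have hzN' : z ∈ N := hzN
  have hzD : ∀ g ∈ (P : Subgroup X), g * z = z * g := fun g hg =>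
    congrArg Subtype.val (mem_center_iff.1 hzc ⟨g, hg⟩)
  set D := (P : Subgroup X) ⊓ centralizer ({s} : Set X) with hDd
  have hsD : s ∈ D := ⟨hs, mem_centralizer_singleton_iff.2 rfl⟩
  have hzD' : z ∈ D := ⟨hzP, mem_centralizer_singleton_iff.2 (hzD s hs).symm⟩
  have hDN : D ⊓ N = zpowers z := by
    refine (eq_of_le_of_card_ge (zpowers_le.2 (mem_inf.2 ⟨hzD', hzN'⟩)) ?_).symm
    rw [Nat.card_zpowers, hzo]
    have h3 : D ⊓ N < D := lt_of_le_of_ne inf_le_left fun e => hsN (e.ge hsD).2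
    obtain ⟨i, hi⟩ := IsPGroup.iff_card.1 (P.isPGroup'.to_le (h3.le.trans inf_le_left))
    have h4 : p ^ i < p ^ 2 := by
      rw [← hi, ← hD]
      exact lt_of_le_of_ne (card_le_of_le h3.le) fun e => h3.ne (eq_of_le_of_card_ge h3.le e.ge)
    rw [hi]
    exact (Nat.pow_le_pow_right hp.out.pos (Nat.le_of_lt_succ
      ((Nat.pow_lt_pow_iff_right hp.out.one_lt).1 h4))).trans_eq (pow_one p)
  set C := centralizer ({s} : Set X)
  have hDC : D ≤ C := inf_le_right
  obtain ⟨T, hT, hDT⟩ := Sylow.exists_subgroup_card_pow_prime_le p h3 (D.subgroupOf C)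
    (n := 2) (by rw [Nat.card_congr (subgroupOfEquivOfLe hDC).toEquiv, hD]) (by norm_num)
  have hTp : IsPGroup p T := IsPGroup.of_card hT
  -- `D` is normal in `T`
  have hDTn : ((D.subgroupOf C).subgroupOf T).Normal := by
    refine normal_of_index_eq_minFac_card ?_
    have h := ((D.subgroupOf C).subgroupOf T).card_mul_index
    rw [Nat.card_congr (subgroupOfEquivOfLe hDT).toEquiv, Nat.card_congr (subgroupOfEquivOfLe hDC).toEquiv,
      hD, hT] at h
    rw [hT, Nat.pow_minFac (by norm_num), hp.out.minFac_eq]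
    exact Nat.eq_of_mul_eq_mul_left (pow_pos hp.out.pos 2) (h.trans (by ring))
  set T1 := T.map C.subtype with hT1
  have hT1z : ∀ t ∈ T1, Commute t z := by
    intro t ht
    refine commute_of_prime_order (hTp.map C.subtype) (A := zpowers z) ?_ ?_ ?_ ht (mem_zpowers z)
    · refine zpowers_le.2 ⟨⟨z, hDC hzD'⟩, hDT hzD', rfl⟩
    · rw [Nat.card_zpowers, hzo]
    · rintro _ ⟨t, ht, rfl⟩ a ha
      rw [← hDN] at ha ⊢
      refine ⟨?_, (inferInstance : N.Normal).conj_mem a ha.2 _⟩
      have hm : (⟨⟨a, hDC ha.1⟩, hDT ha.1⟩ : T) ∈ (D.subgroupOf C).subgroupOf T := ha.1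
      exact hDTn.conj_mem _ hm ⟨t, ht⟩
  set X1 := centralizer ({z} : Set X) with hX1
  have hPX1 : (P : Subgroup X) ≤ X1 := fun g hg => mem_centralizer_singleton_iff.2 (hzD g hg)
  have hzc1 : (⟨z, mem_centralizer_singleton_iff.2 rfl⟩ : X1) ∈ center X1 :=
    mem_center_iff.2 fun g => Subtype.ext (mem_centralizer_singleton_iff.1 g.2)
  have hcard : ∀ H : Subgroup X, Nat.card ↥((H.subgroupOf X1)) = Nat.card ↥(H ⊓ X1) := fun H => by
    rw [← inf_subgroupOf_right]
    exact Nat.card_congr (subgroupOfEquivOfLe inf_le_right).toEquiv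
  have hcC : centralizer ({(⟨s, hPX1 hs⟩ : X1)} : Set X1) = C.subgroupOf X1 := by
    ext g
    simp only [C, mem_subgroupOf, mem_centralizer_singleton_iff, Subtype.ext_iff, coe_mul]
  refine central_case (X := X1) (n := n) ih (P.subtype hPX1) (N.subgroupOf X1) hzc1
    (by rw [← Subgroup.orderOf_coe]; exact hzo) hzN' hzP (s := ⟨s, hPX1 hs⟩) ?_ hs hsN ?_ ?_ ?_
  · show Nat.card ↥((P.subtype hPX1 : Sylow p X1) : Subgroup X1) = _
    rw [Sylow.coe_subtype, hcard, inf_eq_left.2 hPX1]
    exact hP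
  · rw [hcC, Sylow.coe_subtype, ← subgroupOf_inf_eq, hcard, inf_eq_left.2 (inf_le_left.trans hPX1)]
    exact hD
  · rw [Sylow.coe_subtype, ← subgroupOf_inf_eq, hcard, inf_eq_left.2 (inf_le_left.trans hPX1)]
    exact hK
  · rw [hcC, hcard]
    have hle : T1 ≤ C ⊓ X1 := le_inf (map_subtype_le _) fun t ht =>
      mem_centralizer_singleton_iff.2 (hT1z t ht).eq
    have h := card_dvd_of_le hle
    rwa [hT1, card_map_of_injective C.subtype_injective, hT] at h

/-- The main lemma. -/
theorem not_dvd_card_centralizer (P : Sylow p X) (N : Subgroup X) [N.Normal] {s : X}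
    (hs : s ∈ (P : Subgroup X)) (hsN : s ∉ N)
    (hD : Nat.card ↥((P : Subgroup X) ⊓ centralizer ({s} : Set X)) = p ^ 2)
    (hK : p ^ 2 ∣ Nat.card ↥((P : Subgroup X) ⊓ N)) :
    ¬ p ^ 3 ∣ Nat.card (centralizer ({s} : Set X)) := by
  obtain ⟨n, hn⟩ := IsPGroup.iff_card.1 P.isPGroup'
  exact stmt n X P N s hn hs hsN hD hK

end Cfsg.Lib.SelfCentPSq
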