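import Cfsg.Agent.PGroups.HallPetrescu
import Mathlib.Algebra.CharP.Lemmas

/-!
The wreath product of two groups of order `p` as permutations of the plane over `ZMod p`: the
model in which the top Hall–Petrescu element of a product of a shift and a basis element is not
trivial.
-/

set_option autoImplicit false
set_option linter.unusedSectionVars false

namespace Cfsg.Lib.PGroups.ShiftModel

open Cfsg.Lib.PGroups

variable (p : ℕ)

abbrev Plane := ZMod p × ZMod p

variable {p}

/-- `(a, b) ↦ (a + c, b + f a)`. -/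
def aff (c : ZMod p) (f : ZMod p → ZMod p) : Equiv.Perm (Plane p) where
  toFun v := (v.1 + c, v.2 + f v.1)
  invFun v := (v.1 - c, v.2 - f (v.1 - c))
  left_inv v := by simp
  right_inv v := by simp

theorem aff_apply (c : ZMod p) (f : ZMod p → ZMod p) (v : Plane p) :
    aff c f v = (v.1 + c, v.2 + f v.1) := rfl

theorem aff_mul (c d : ZMod p) (f g : ZMod p → ZMod p) :
    aff c f * aff d g = aff (d + c) (fun a => g a + f (a + d)) := by
  refine Equiv.ext fun v => ?_
  simp only [Equiv.Perm.mul_apply, aff_apply]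
  exact Prod.ext (add_assoc _ _ _) (add_assoc _ _ _)

theorem aff_zero : aff (0 : ZMod p) 0 = 1 := Equiv.ext fun v => by simp [aff_apply]

theorem aff_inv (c : ZMod p) (f : ZMod p → ZMod p) :
    (aff c f)⁻¹ = aff (-c) (fun a => -f (a - c)) := by
  refine inv_eq_of_mul_eq_one_left ?_
  rw [aff_mul, show c + -c = 0 by ring, ← aff_zero]
  congr 1
  funext a
  simp

variable (p) in
/-- The affine permutations. -/
def amb : Subgroup (Equiv.Perm (Plane p)) where
  carrier := {σ | ∃ c f, σ = aff c f}
  one_mem' := ⟨0, 0, aff_zero.symm⟩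
  mul_mem' := by
    rintro _ _ ⟨c, f, rfl⟩ ⟨d, g, rfl⟩
    exact ⟨_, _, aff_mul c d f g⟩
  inv_mem' := by
    rintro _ ⟨c, f, rfl⟩
    exact ⟨_, _, aff_inv c f⟩

/-- Translation of functions. -/
def sh (c : ZMod p) : Module.End (ZMod p) (ZMod p → ZMod p) where
  toFun f := fun a => f (a + c)
  map_add' _ _ := rfl
  map_smul' _ _ := rfl

theorem sh_apply (c : ZMod p) (f : ZMod p → ZMod p) (a : ZMod p) : sh c f a = f (a + c) := rfl

variable (p) in
/-- The difference operator. -/
def diff : Module.End (ZMod p) (ZMod p → ZMod p) := 1 - sh (-1)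

theorem sh_comm (c : ZMod p) : Commute (sh c) (diff p) := by
  refine LinearMap.ext fun f => funext fun a => ?_
  simp only [diff, Module.End.mul_apply, LinearMap.sub_apply, Module.End.one_apply, Pi.sub_apply,
    sh_apply]
  rw [add_right_comm]

theorem sh_pow_apply (c : ZMod p) : ∀ (n : ℕ) (f : ZMod p → ZMod p) (a : ZMod p),
    (sh c ^ n) f a = f (a + n * c)
  | 0, f, a => by simp
  | n + 1, f, a => by
    rw [pow_succ, Module.End.mul_apply, sh_pow_apply c n, sh_apply, Nat.cast_succ, add_mul, one_mul,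
      add_assoc]

variable [hp : Fact p.Prime]

theorem diff_pow_prime : diff p ^ p = 0 := by
  haveI : CharP (Module.End (ZMod p) (ZMod p → ZMod p)) p := by
    refine charP_of_injective_algebraMap (R := ZMod p) ?_ p
    exact (algebraMap (ZMod p) _).injective
  rw [diff, sub_pow_char_of_commute _ (Commute.one_left _), one_pow, sub_eq_zero]
  refine LinearMap.ext fun f => funext fun a => ?_
  rw [Module.End.one_apply, sh_pow_apply, ZMod.natCast_self, zero_mul, add_zero]

variable (p) in
/-- The translations by `k`-fold differences. -/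
def dsub (k : ℕ) : Subgroup (amb p) where
  carrier := {w | ∃ g, (w : Equiv.Perm (Plane p)) = aff 0 ((diff p ^ k) g)}
  one_mem' := ⟨0, by rw [map_zero, aff_zero]; rfl⟩
  mul_mem' := by
    rintro v w ⟨g, hg⟩ ⟨h, hh⟩
    refine ⟨h + g, ?_⟩
    rw [Subgroup.coe_mul, hg, hh, aff_mul, map_add]
    congr 1
    · simp
    · funext a
      simp
  inv_mem' := by
    rintro v ⟨g, hg⟩
    refine ⟨-g, ?_⟩
    rw [Subgroup.coe_inv, hg, aff_inv, map_neg]
    congr 1
    · simp
    · funext a
      simp

theorem dsub_le {k : ℕ} {w : amb p} (h : w ∈ dsub p (k + 1)) : w ∈ dsub p k := by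
  obtain ⟨g, hg⟩ := h
  exact ⟨diff p g, by rw [hg, pow_succ, Module.End.mul_apply]⟩

theorem eq_one_of_top {w : amb p} (h : w ∈ dsub p p) : w = 1 := by
  obtain ⟨g, hg⟩ := h
  rw [diff_pow_prime, LinearMap.zero_apply, aff_zero] at hg
  exact Subtype.ext hg

theorem pow_eq_one {k : ℕ} {w : amb p} (h : w ∈ dsub p k) : w ^ p = 1 := by
  obtain ⟨g, hg⟩ := h
  have key : ∀ n : ℕ, aff (0 : ZMod p) ((diff p ^ k) g) ^ n = aff 0 ((n : ZMod p) • (diff p ^ k) g) := by
    intro n
    induction n with
    | zero => simp [aff_zero]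
    | succ n ih =>
      rw [pow_succ, ih, aff_mul]
      congr 1
      · simp
      · funext a
        simp only [Pi.smul_apply, smul_eq_mul, Nat.cast_succ, add_zero]
        ring
  refine Subtype.ext ?_
  rw [Subgroup.coe_pow, hg, key, ZMod.natCast_self, zero_smul, aff_zero]
  rfl

theorem sh_sub_mem (k : ℕ) (g : ZMod p → ZMod p) (c : ZMod p) :
    ∃ g', sh c ((diff p ^ k) g) - (diff p ^ k) g = (diff p ^ (k + 1)) g' := by
  obtain ⟨n, rfl⟩ : ∃ n : ℕ, (n : ZMod p) * (-1) = c := ⟨(-c).val, by simp⟩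
  induction n with
  | zero => exact ⟨0, by rw [map_zero, sub_eq_zero]; funext a; simp [sh_apply]⟩
  | succ n ih =>
    obtain ⟨g', hg'⟩ := ih
    refine ⟨sh (-1) g' - g, ?_⟩
    have e : sh (((n + 1 : ℕ) : ZMod p) * (-1)) ((diff p ^ k) g) =
        sh (-1) (sh ((n : ZMod p) * (-1)) ((diff p ^ k) g)) := by
      funext a
      simp only [sh_apply, Nat.cast_succ]
      ring_nf
    have h1 : (diff p ^ (k + 1)) (sh (-1) g') = sh (-1) ((diff p ^ (k + 1)) g') := by
      rw [← Module.End.mul_apply, ← Module.End.mul_apply, ((sh_comm (-1)).pow_right (k + 1)).eq]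
    have h2 : (diff p ^ (k + 1)) g = (diff p ^ k) g - sh (-1) ((diff p ^ k) g) := by
      rw [pow_succ', Module.End.mul_apply, diff, LinearMap.sub_apply, Module.End.one_apply]
    rw [map_sub, h1, ← hg', h2, e, map_sub]
    abel

/-- Displacement by the ambient group lands one step lower. -/
theorem disp_mem {k : ℕ} (v : amb p) {w : amb p} (hw : w ∈ dsub p k) :
    v * w * v⁻¹ * w⁻¹ ∈ dsub p (k + 1) := by
  obtain ⟨g, hg⟩ := hw
  obtain ⟨c, f, hv⟩ := v.2
  obtain ⟨g', hg'⟩ := sh_sub_mem k g (-c)
  refine ⟨g', ?_⟩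
  rw [← hg']
  simp only [Subgroup.coe_mul, Subgroup.coe_inv, hv, hg, aff_inv, aff_mul]
  congr 1
  · simp
  · funext a
    simp only [Pi.sub_apply, sh_apply, neg_zero, sub_zero, add_zero]
    ring

theorem dsub_normal (k : ℕ) : (dsub p k).Normal := ⟨fun w hw v => by
  simpa using (dsub p k).mul_mem (dsub_le (disp_mem v hw)) hw⟩

theorem comm_dsub {j k : ℕ} {v w : amb p} (hv : v ∈ dsub p j) (hw : w ∈ dsub p k) : Commute v w := by
  obtain ⟨f, hf⟩ := hv
  obtain ⟨g, hg⟩ := hw
  refine Subtype.ext ?_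
  rw [Subgroup.coe_mul, Subgroup.coe_mul, hf, hg, aff_mul, aff_mul]
  congr 1
  funext a
  simp [add_comm]

/-- The basic shift. -/
def shift : amb p := ⟨aff 1 0, _, _, rfl⟩

/-- The basic translation. -/
def delta : amb p := ⟨aff 0 (fun a => if a = 0 then 1 else 0), _, _, rfl⟩

theorem delta_mem : (delta : amb p) ∈ dsub p 0 := ⟨fun a => if a = 0 then 1 else 0, by rw [pow_zero, Module.End.one_apply]; rfl⟩

theorem shift_pow_prime : (shift : amb p) ^ p = 1 := by
  have key : ∀ n : ℕ, aff (1 : ZMod p) 0 ^ n = aff (n : ZMod p) 0 := by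
    intro n
    induction n with
    | zero => rw [pow_zero, Nat.cast_zero, aff_zero]
    | succ n ih =>
      rw [pow_succ, ih, aff_mul, Nat.cast_succ, add_comm]
      congr 1
      funext a
      simp
  refine Subtype.ext ?_
  rw [Subgroup.coe_pow, show ((shift : amb p) : Equiv.Perm (Plane p)) = aff 1 0 from rfl, key,
    ZMod.natCast_self, aff_zero]
  rfl

theorem pow_mul_ne_one : ((shift : amb p) * delta) ^ p ≠ 1 := by
  intro h
  have key : ∀ n : ℕ, 1 ≤ n → n ≤ p →
      ((((shift : amb p) * delta : amb p) : Equiv.Perm (Plane p)) ^ n) (0, 0) = ((n : ZMod p), 1) := by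
    intro n h1 hn
    induction n, h1 using Nat.le_induction with
    | base =>
      show ((shift : amb p) : Equiv.Perm (Plane p)) (((delta : amb p) : Equiv.Perm (Plane p)) (0, 0)) = _
      simp [shift, delta, aff_apply]
    | succ n h1 ih =>
      have hn0 : (n : ZMod p) ≠ 0 := fun e => by
        have := Nat.le_of_dvd (by omega) ((ZMod.natCast_eq_zero_iff _ _).mp e)
        omega
      show ((((shift : amb p) * delta : amb p) : Equiv.Perm (Plane p)) ^ (n + 1)) (0, 0) = _
      rw [pow_succ', Equiv.Perm.mul_apply]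
      rw [ih (by omega)]
      show ((shift : amb p) : Equiv.Perm (Plane p)) (((delta : amb p) : Equiv.Perm (Plane p)) _) = _
      simp [shift, delta, aff_apply, hn0]
  have h2 := key p hp.out.one_le le_rfl
  rw [← Subgroup.coe_pow, h] at h2
  have := congrArg Prod.snd h2
  simp at this

end Cfsg.Lib.PGroups.ShiftModel
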