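import Mathlib
import Cfsg.Prelude
import Cfsg.Agent.PGroups.AnisotropicIsometry
import Cfsg.Agent.PGroups.Basic
import Cfsg.Agent.Fusion.Small.TopNormal
import Cfsg.Agent.SolvStruct.PGroupBasics
import Cfsg.Agent.S0121

/-!
Automorphism groups of 2-groups with exactly three involutions are solvable.
-/

set_option autoImplicit false
set_option linter.style.haveILetI false

namespace Cfsg.Lib.ThreeInvolutions

open Subgroup
open scoped commutatorElement

universe u

variable {P : Type u} [Group P]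

/-- Restriction of automorphisms to an invariant subgroup. -/
def restr (C : Subgroup P) (hC : ∀ (φ : MulAut P), ∀ x ∈ C, φ x ∈ C) : MulAut P →* MulAut C where
  toFun φ :=
    { toFun := fun x => ⟨φ x, hC φ x x.2⟩
      invFun := fun x => ⟨φ.symm x, hC φ.symm x x.2⟩
      left_inv := fun x => Subtype.ext (φ.symm_apply_apply _)
      right_inv := fun x => Subtype.ext (φ.apply_symm_apply _)
      map_mul' := fun x y => Subtype.ext (map_mul φ (x : P) y) }
  map_one' := MulEquiv.ext fun _ => Subtype.ext rfl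
  map_mul' _ _ := MulEquiv.ext fun _ => Subtype.ext rfl

theorem char_mem {C : Subgroup P} (hC : C.Characteristic) (φ : MulAut P) : ∀ x ∈ C, φ x ∈ C :=
  fun x hx => Subgroup.characteristic_iff_map_le.mp hC φ ⟨x, hx, rfl⟩

/-- If the kernel of restriction detects automorphisms of odd order, it is a 2-group, hence solvable. -/
theorem solvable_of_restr [Finite P] (C : Subgroup P) (hC : ∀ (φ : MulAut P), ∀ x ∈ C, φ x ∈ C)
    (hdet : ∀ a : MulAut P, (orderOf a).Coprime 2 → (∀ x ∈ C, a x = x) → a = 1)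
    (hs : Group.IsSolvable (MulAut C)) : Group.IsSolvable (MulAut P) := by
  haveI : Fact (Nat.Prime 2) := ⟨Nat.prime_two⟩
  haveI := hs
  have hker : IsPGroup 2 (restr C hC).ker := fun a => by
    obtain ⟨k, m, hm, hn⟩ := Nat.exists_eq_two_pow_mul_odd (orderOf_pos (a : MulAut P)).ne'
    refine ⟨k, Subtype.ext ?_⟩
    rw [SubmonoidClass.coe_pow]
    refine hdet _ ?_ fun x hx => ?_
    · refine Nat.Coprime.coprime_dvd_left ?_ (Nat.coprime_two_right.2 hm)
      rw [orderOf_pow' _ (pow_ne_zero _ two_ne_zero), hn, Nat.gcd_eq_right (dvd_mul_right _ _),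
        Nat.mul_div_cancel_left _ (by positivity)]
    · have hmem : (a : MulAut P) ^ 2 ^ k ∈ (restr C hC).ker := pow_mem a.2 _
      exact congrArg Subtype.val (DFunLike.congr_fun (MonoidHom.mem_ker.1 hmem) ⟨x, hx⟩)
  haveI := hker.isNilpotent
  haveI : Group.IsSolvable (restr C hC).ker := inferInstance
  exact Group.isSolvable_of_ker_le_range (restr C hC).ker.subtype (restr C hC) (by simp)

variable {R : Type u} [Group R] [Finite R]

/-- A group of automorphisms of the quotient by the central subgroup `N` that respects squaring is solvable. -/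
theorem solvable_of_squaring (hc : ∀ x y : R, ⁅x, y⁆ ∈ center R) (h4 : ∀ x : R, x ^ 4 = 1)
    (N : Subgroup R) [N.Normal] (hN : ∀ x : R, x ∈ N ↔ x ^ 2 = 1) (hNc : ∀ n ∈ N, n ∈ center R)
    (hcN : Nat.card N ≤ 4) (K : Subgroup (MulAut (R ⧸ N)))
    (hK : ∀ g ∈ K, ∀ x : R, ∃ y : R, g (x : R ⧸ N) = (y : R ⧸ N) ∧ y ^ 2 = x ^ 2) : Group.IsSolvable K := by
  classical
  have hNn : N.Normal := ⟨fun n hn g => by
    rw [mem_center_iff.1 (hNc n hn) g, mul_inv_cancel_right]; exact hn⟩
  have hsqN : ∀ x : R, x ^ 2 ∈ N := fun x => by rw [hN, ← pow_mul]; exact h4 x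
  have hcN' : ∀ x y : R, ⁅x, y⁆ ∈ N := fun x y => by
    have e : ⁅x, y⁆ = (x * y) ^ 2 * ((y⁻¹ * (x⁻¹ * x⁻¹ * y⁻¹ * y⁻¹) * y)) := by
      have h1 := mem_center_iff.1 (hNc _ (hsqN y⁻¹)) (x⁻¹ * x⁻¹)
      rw [pow_two] at h1
      rw [commutatorElement_def, pow_two]; group
    rw [e]
    refine mul_mem (hsqN _) ?_
    have h2 : x⁻¹ * x⁻¹ * y⁻¹ * y⁻¹ ∈ N := by
      rw [mul_assoc, ← pow_two, ← pow_two]; exact mul_mem (hsqN _) (hsqN _)
    simpa [mul_assoc] using hNn.conj_mem _ h2 y⁻¹
  have hcomm : ∀ a b : R ⧸ N, a * b = b * a := by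
    intro a b
    induction a using QuotientGroup.induction_on with
    | _ a =>
      induction b using QuotientGroup.induction_on with
      | _ b =>
        rw [← QuotientGroup.mk_mul, ← QuotientGroup.mk_mul, QuotientGroup.eq,
          show (a * b)⁻¹ * (b * a) = ⁅b⁻¹, a⁻¹⁆ by rw [commutatorElement_def]; group]
        exact hcN' _ _
  letI : CommGroup (R ⧸ N) := { (inferInstance : Group (R ⧸ N)) with mul_comm := hcomm }
  letI : CommGroup N :=
    { (inferInstance : Group N) with mul_comm := fun a b => Subtype.ext (mem_center_iff.1 (hNc _ b.2) a) }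
  letI : Module (ZMod 2) (Additive N) := AddCommGroup.zmodModule (n := 2) fun m =>
    congrArg Additive.ofMul (Subtype.ext ((hN _).1 m.toMul.2) : m.toMul ^ 2 = 1)
  have hquot : ∀ a : R ⧸ N, a ^ 2 = 1 := fun a => by
    induction a using QuotientGroup.induction_on with
    | _ a => rw [← QuotientGroup.mk_pow, QuotientGroup.eq_one_iff]; exact hsqN a
  letI : Module (ZMod 2) (Additive (R ⧸ N)) := AddCommGroup.zmodModule (n := 2) fun a =>
    congrArg Additive.ofMul (hquot a.toMul)
  haveI : Module.Finite (ZMod 2) (Additive N) := Module.Finite.of_finite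
  let Q : R ⧸ N → N := Quotient.lift (fun x => (⟨x ^ 2, hsqN x⟩ : N)) (fun a b hab => Subtype.ext (by
    obtain ⟨m, hm, rfl⟩ : ∃ m ∈ N, a * m = b :=
      ⟨a⁻¹ * b, QuotientGroup.leftRel_apply.mp hab, mul_inv_cancel_left a b⟩
    show a ^ 2 = (a * m) ^ 2
    rw [(Commute.mul_pow (mem_center_iff.1 (hNc m hm) a : Commute a m)), (hN m).1 hm, mul_one]))
  let q : Additive (R ⧸ N) → Additive N := fun v => Additive.ofMul (Q v.toMul)
  have hpolar : ∀ x y : R, ((Additive.toMul (Cfsg.Lib.Anisotropic.polar q (Additive.ofMul (x : R ⧸ N))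
      (Additive.ofMul (y : R ⧸ N))) : N) : R) = ⁅y, x⁆ := fun x y => by
    show (x * y) ^ 2 / x ^ 2 / y ^ 2 = ⁅y, x⁆
    have h1 : (x * y) ^ 2 = ⁅y, x⁆ * (x ^ 2 * y ^ 2) := by
      calc (x * y) ^ 2 = x * (⁅y, x⁆ * (x * y)) * y := by rw [commutatorElement_def, pow_two]; group
        _ = ⁅y, x⁆ * (x ^ 2 * y ^ 2) := by
          rw [← mul_assoc x, mem_center_iff.1 (hc y x) x, pow_two, pow_two]; group
    rw [h1, div_eq_iff_eq_mul, div_eq_iff_eq_mul, mul_assoc (⁅y, x⁆) (y ^ 2),
      mem_center_iff.1 (hNc _ (hsqN x)) (y ^ 2)]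
  have hbil : ∀ u v w, Cfsg.Lib.Anisotropic.polar q (u + v) w =
      Cfsg.Lib.Anisotropic.polar q u w + Cfsg.Lib.Anisotropic.polar q v w := by
    intro u v w
    obtain ⟨x, rfl⟩ : ∃ x : R, Additive.ofMul (x : R ⧸ N) = u := ⟨_, congrArg Additive.ofMul (QuotientGroup.out_eq' u.toMul)⟩
    obtain ⟨y, rfl⟩ : ∃ y : R, Additive.ofMul (y : R ⧸ N) = v := ⟨_, congrArg Additive.ofMul (QuotientGroup.out_eq' v.toMul)⟩
    obtain ⟨z, rfl⟩ : ∃ z : R, Additive.ofMul (z : R ⧸ N) = w := ⟨_, congrArg Additive.ofMul (QuotientGroup.out_eq' w.toMul)⟩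
    refine Additive.toMul.injective (Subtype.ext ?_)
    rw [← ofMul_mul, ← QuotientGroup.mk_mul, toMul_add, Subgroup.coe_mul, hpolar, hpolar, hpolar,
      commutatorElement_mul_right_eq_mul_conj, mul_assoc ⁅z, x⁆ x, mem_center_iff.1 (hc z y) x, mul_assoc,
      mul_inv_cancel_right]
  have haniso : ∀ v, q v = 0 → v = 0 := by
    intro v hv
    obtain ⟨x, rfl⟩ : ∃ x : R, Additive.ofMul (x : R ⧸ N) = v :=
      ⟨_, congrArg Additive.ofMul (QuotientGroup.out_eq' v.toMul)⟩
    have h1 : x ^ 2 = 1 := congrArg (fun m : Additive N => (m.toMul : R)) hv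
    exact congrArg Additive.ofMul ((QuotientGroup.eq_one_iff x).2 ((hN x).2 h1))
  have hM : Module.finrank (ZMod 2) (Additive N) ≤ 2 := by
    have h1 : Nat.card (Additive N) = 2 ^ Module.finrank (ZMod 2) (Additive N) := by
      rw [Module.natCard_eq_pow_finrank (K := ZMod 2), Nat.card_zmod]
    by_contra hlt
    have h2 : 2 ^ 3 ≤ 2 ^ Module.finrank (ZMod 2) (Additive N) := Nat.pow_le_pow_right two_pos (by omega)
    have h3 : Nat.card (Additive N) = Nat.card N := rfl
    omega
  let ρ : K →* Module.End (ZMod 2) (Additive (R ⧸ N)) :=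
    { toFun := fun g => AddMonoidHom.toZModLinearMap 2
        (AddMonoidHom.mk' (fun v => Additive.ofMul ((g : MulAut (R ⧸ N)) v.toMul))
          (fun a b => by rw [toMul_add, map_mul, ofMul_mul]))
      map_one' := LinearMap.ext fun v => rfl
      map_mul' := fun a b => LinearMap.ext fun v => rfl }
  refine Cfsg.Lib.Anisotropic.isSolvable_isometries q hbil haniso hM ρ (fun a b e => ?_) (fun g v => ?_)
  · refine Subtype.ext (MulEquiv.ext fun x => ?_)
    exact Additive.ofMul.injective (LinearMap.congr_fun e (Additive.ofMul x))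
  · obtain ⟨x, rfl⟩ : ∃ x : R, Additive.ofMul (x : R ⧸ N) = v :=
      ⟨_, congrArg Additive.ofMul (QuotientGroup.out_eq' v.toMul)⟩
    obtain ⟨y, hy, hy2⟩ := hK g g.2 x
    show Additive.ofMul (Q ((g : MulAut (R ⧸ N)) (x : R ⧸ N))) = Additive.ofMul (Q (x : R ⧸ N))
    rw [hy]
    exact congrArg Additive.ofMul (Subtype.ext hy2)

/-- The action of the automorphisms preserving `N` on the quotient by `N`. -/
noncomputable def onQuot (N : Subgroup R) [N.Normal] (hinv : ∀ (φ : MulAut R), ∀ x ∈ N, φ x ∈ N) :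
    MulAut R →* MulAut (R ⧸ N) where
  toFun φ := QuotientGroup.congr N N φ (by
    ext x
    refine ⟨?_, fun hx => ⟨φ.symm x, hinv φ.symm x hx, φ.apply_symm_apply x⟩⟩
    rintro ⟨y, hy, rfl⟩
    exact hinv φ y hy)
  map_one' := MulEquiv.ext fun q => Quotient.inductionOn' q fun _ => rfl
  map_mul' _ _ := MulEquiv.ext fun q => Quotient.inductionOn' q fun _ => rfl

theorem onQuot_mk (N : Subgroup R) [N.Normal] (hinv : ∀ (φ : MulAut R), ∀ x ∈ N, φ x ∈ N) (φ : MulAut R) (x : R) :
    onQuot N hinv φ (x : R ⧸ N) = ((φ x : R) : R ⧸ N) := rfl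

/-- The case of a given central subgroup of solutions of `x ^ 2 = 1`. -/
theorem solvable_mulAut_aux (hc : ∀ x y : R, ⁅x, y⁆ ∈ center R) (h4 : ∀ x : R, x ^ 4 = 1)
    (N : Subgroup R) (hN : ∀ x : R, x ∈ N ↔ x ^ 2 = 1) (hNc : ∀ n ∈ N, n ∈ center R)
    (hcN : Nat.card N ≤ 4) : Group.IsSolvable (MulAut R) := by
  classical
  haveI hNn : N.Normal := ⟨fun n hn g => by
    rw [mem_center_iff.1 (hNc n hn) g, mul_inv_cancel_right]; exact hn⟩
  have hsqN : ∀ x : R, x ^ 2 ∈ N := fun x => by rw [hN, ← pow_mul]; exact h4 x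
  have hNinv : ∀ (φ : MulAut R), ∀ x ∈ N, φ x ∈ N := fun φ x hx => by
    rw [hN, ← map_pow, (hN x).1 hx, map_one]
  haveI : Group.IsSolvable (MulAut N) := by
    have hinj : Function.Injective (fun φ : MulAut N => φ.toEquiv) := fun a b e => MulEquiv.ext fun x => Equiv.congr_fun e x
    have h1 := Nat.card_le_card_of_injective _ hinj
    rw [Nat.card_perm] at h1
    have h2 : Nat.factorial (Nat.card N) ≤ Nat.factorial 4 := Nat.factorial_le hcN
    have h24 : Nat.factorial 4 = 24 := rfl
    exact Cfsg.Lib.Presentations.isSolvable_of_card_lt_sixty _ _ rfl (by omega)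
  let r1 := restr N hNinv
  have hfixN : ∀ φ ∈ r1.ker, ∀ n ∈ N, φ n = n := fun φ hφ n hn => by
    have h := DFunLike.congr_fun (MonoidHom.mem_ker.1 hφ) (⟨n, hn⟩ : N)
    exact congrArg (fun t : N => (t : R)) h
  let r2 : r1.ker →* MulAut (R ⧸ N) := (onQuot N hNinv).comp r1.ker.subtype
  haveI : Group.IsSolvable r2.range := by
    refine solvable_of_squaring hc h4 N hN hNc hcN r2.range ?_
    rintro _ ⟨φ, rfl⟩ x
    refine ⟨(φ : MulAut R) x, onQuot_mk N hNinv _ x, ?_⟩
    rw [← map_pow, hfixN _ φ.2 _ (hsqN x)]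
  haveI : Group.IsSolvable r2.ker := by
    refine Group.isSolvable_of_comm fun a b => ?_
    have key : ∀ (φ : r2.ker) (x : R), x⁻¹ * ((φ : r1.ker) : MulAut R) x ∈ N := fun φ x => by
      have h1 := DFunLike.congr_fun (MonoidHom.mem_ker.1 φ.2) (x : R ⧸ N)
      exact QuotientGroup.eq.1 ((onQuot_mk N hNinv _ x).symm.trans h1).symm
    have fix : ∀ (φ : r2.ker), ∀ n ∈ N, ((φ : r1.ker) : MulAut R) n = n := fun φ => hfixN _ φ.1.2
    refine Subtype.ext (Subtype.ext (MulEquiv.ext fun x => ?_))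
    show ((a : r1.ker) : MulAut R) (((b : r1.ker) : MulAut R) x) = ((b : r1.ker) : MulAut R) (((a : r1.ker) : MulAut R) x)
    obtain ⟨u, hu, eu⟩ : ∃ u ∈ N, ((a : r1.ker) : MulAut R) x = x * u := ⟨_, key a x, (mul_inv_cancel_left x _).symm⟩
    obtain ⟨v, hv, ev⟩ : ∃ v ∈ N, ((b : r1.ker) : MulAut R) x = x * v := ⟨_, key b x, (mul_inv_cancel_left x _).symm⟩
    rw [ev, map_mul, fix a v hv, eu, map_mul, fix b u hu, ev, mul_assoc, mul_assoc, mem_center_iff.1 (hNc v hv) u]
  haveI : Group.IsSolvable r1.ker :=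
    Group.isSolvable_of_ker_le_range r2.ker.subtype r2.rangeRestrict
      (by rw [MonoidHom.ker_rangeRestrict, Subgroup.range_subtype])
  exact Group.isSolvable_of_ker_le_range r1.ker.subtype r1 (by rw [Subgroup.range_subtype])

/-- The automorphism group of a group of class two and exponent four with at most four solutions of `x ^ 2 = 1`,
which form a subgroup, is solvable. -/
theorem solvable_mulAut (hc : ∀ x y : R, ⁅x, y⁆ ∈ center R) (h4 : ∀ x : R, x ^ 4 = 1)
    (hclosed : ∀ x y : R, x ^ 2 = 1 → y ^ 2 = 1 → (x * y) ^ 2 = 1)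
    (hcard : Nat.card {x : R // x ^ 2 = 1} ≤ 4) : Group.IsSolvable (MulAut R) := by
  classical
  let N : Subgroup R :=
    { carrier := {x | x ^ 2 = 1}
      one_mem' := one_pow _
      mul_mem' := fun ha hb => hclosed _ _ ha hb
      inv_mem' := fun {a} (ha : a ^ 2 = 1) => show a⁻¹ ^ 2 = 1 by rw [inv_pow, ha, inv_one] }
  have hcN : Nat.card N ≤ 4 := hcard
  have hN : ∀ x : R, x ∈ N ↔ x ^ 2 = 1 := fun x => Iff.rfl
  have hNc : ∀ n ∈ N, n ∈ center R := by
    intro n hn
    rw [mem_center_iff]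
    intro x
    by_contra hne
    set c := ⁅n, x⁆ with hcdef
    have hcx : n * x = c * x * n := by rw [hcdef, commutatorElement_def]; group
    have hc1 : c ≠ 1 := fun e => hne (by rw [hcx, e, one_mul])
    have hcz : ∀ y, y * c = c * y := mem_center_iff.1 (hc n x)
    have hconj : x * n * x⁻¹ ∈ N := by
      rw [hN, pow_two, show x * n * x⁻¹ * (x * n * x⁻¹) = x * (n * n) * x⁻¹ by group, ← pow_two n,
        (hN n).1 hn, mul_one, mul_inv_cancel]
    have hcN' : c ∈ N := by
      rw [hcdef, commutatorElement_def, show n * x * n⁻¹ * x⁻¹ = n * (x * n * x⁻¹)⁻¹ by group]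
      exact mul_mem hn (inv_mem hconj)
    have hcomm : ∀ a ∈ N, ∀ b ∈ N, a * b = b * a := fun a ha b hb => by
      have h := hclosed a b ha hb
      have ha' : a⁻¹ = a := inv_eq_of_mul_eq_one_right (by rw [← pow_two]; exact ha)
      have hb' : b⁻¹ = b := inv_eq_of_mul_eq_one_right (by rw [← pow_two]; exact hb)
      rw [pow_two] at h
      calc a * b = (a * b)⁻¹ := (inv_eq_of_mul_eq_one_right h).symm
        _ = b * a := by rw [mul_inv_rev, ha', hb']
    have hxN : x ∉ N := fun hx => hne (hcomm x hx n hn)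
    have hx2N : x ^ 2 ∈ N := by rw [hN, ← pow_mul]; exact h4 x
    have hxn : (x * n) ^ 2 = c * x ^ 2 := by
      calc (x * n) ^ 2 = x * (n * x) * n := by rw [pow_two]; group
        _ = x * c * x * (n * n) := by rw [hcx]; group
        _ = c * x ^ 2 := by rw [hcz x, ← pow_two n, (hN n).1 hn, mul_one, mul_assoc, ← pow_two]
    have hx2c : x ^ 2 ≠ c := fun e => by
      have h : (x * n) ^ 2 = 1 := by rw [hxn, e, ← pow_two]; exact hcN'
      exact hxN ((N.mul_mem_cancel_right hn).1 h)
    have hx21 : x ^ 2 ≠ 1 := fun e => hxN e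
    have hcomx : x * x ^ 2 = x ^ 2 * x := by rw [← pow_succ, ← pow_succ']
    have hnx : n ≠ x ^ 2 := fun e => hne (by rw [e]; exact hcomx)
    have hn1 : n ≠ 1 := fun e => hne (by rw [e, mul_one, one_mul])
    have hnc : n ≠ c := fun e => hne (by rw [e]; exact hcz x)
    have hncx : n * c ≠ x ^ 2 := fun e => hne (by
      have h1 : n = x ^ 2 * c⁻¹ := by rw [← e, mul_inv_cancel_right]
      have h2 : x * c⁻¹ = c⁻¹ * x := ((show Commute c x from (hcz x).symm).inv_left).eq.symm
      rw [h1, ← mul_assoc, hcomx, mul_assoc, h2, mul_assoc])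
    let S : Finset N := {1, ⟨n, hn⟩, ⟨c, hcN'⟩, ⟨x ^ 2, hx2N⟩, ⟨n * c, mul_mem hn hcN'⟩}
    have hS : S.card = 5 := by
      have e1 : n * c ≠ 1 := fun e => hnc (by rw [eq_inv_of_mul_eq_one_left e]; exact inv_eq_of_mul_eq_one_right (by rw [← pow_two]; exact hcN'))
      have e2 : n * c ≠ n := fun e => hc1 (mul_eq_left.1 e)
      have e3 : n * c ≠ c := fun e => hn1 (mul_eq_right.1 e)
      simp only [S]
      rw [Finset.card_insert_of_notMem, Finset.card_insert_of_notMem, Finset.card_insert_of_notMem,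
        Finset.card_insert_of_notMem, Finset.card_singleton] <;>
        simp [Subtype.ext_iff, hn1.symm, hc1.symm, hx21.symm, e1.symm, hnc, hnx, e2.symm, hx2c.symm, e3.symm,
          hncx.symm]
    haveI := Fintype.ofFinite N
    have := S.card_le_univ
    rw [hS, ← Nat.card_eq_fintype_card] at this
    omega
  exact solvable_mulAut_aux hc h4 N hN hNc hcN

/-- Three involutions in a 2-group commute, and form a four-group together with the identity. -/
theorem involutions_closed {X : Type u} [Group X] [Finite X] (h2 : IsPGroup 2 X)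
    (h3 : Nat.card {x : X // orderOf x = 2} = 3) :
    (∀ a b : X, a ^ 2 = 1 → b ^ 2 = 1 → (a * b) ^ 2 = 1) ∧ Nat.card {x : X // x ^ 2 = 1} ≤ 4 := by
  classical
  haveI : Fact (Nat.Prime 2) := ⟨Nat.prime_two⟩
  haveI := Fintype.ofFinite X
  have hord : ∀ a : X, a ^ 2 = 1 → a = 1 ∨ orderOf a = 2 := fun a ha => by
    rcases eq_or_ne a 1 with h | h
    · exact Or.inl h
    · exact Or.inr (orderOf_eq_prime ha h)
  let S : Finset X := Finset.univ.filter fun x => orderOf x = 2
  have hS : S.card = 3 := by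
    rw [← h3, Nat.card_eq_fintype_card, Fintype.card_subtype]
  have hmem : ∀ a : X, orderOf a = 2 → a ∈ S := fun a ha => by simp [S, ha]
  have hne : Nontrivial X := by
    have hpos : 0 < Nat.card {x : X // orderOf x = 2} := by omega
    obtain ⟨⟨x, hx⟩⟩ := (Nat.card_pos_iff.1 hpos).1
    exact ⟨x, 1, fun e => by rw [e, orderOf_one] at hx; omega⟩
  haveI := h2.center_nontrivial
  obtain ⟨z, hz⟩ := exists_prime_orderOf_dvd_card' (G := center X) 2 (by
    obtain ⟨k, hk⟩ := IsPGroup.iff_card.1 (h2.to_subgroup (center X))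
    have h1 : 1 < Nat.card (center X) := Finite.one_lt_card
    rw [hk] at h1 ⊢
    exact dvd_pow_self 2 (fun e => by simp [e] at h1))
  rw [← orderOf_coe] at hz
  have hzc : ∀ y, y * (z : X) = (z : X) * y := mem_center_iff.1 z.2
  have hz2 : (z : X) ^ 2 = 1 := by rw [← hz]; exact pow_orderOf_eq_one _
  have hcomm : ∀ a b : X, a ^ 2 = 1 → b ^ 2 = 1 → a * b = b * a := by
    intro a b ha hb
    by_cases haz : a = z
    · rw [haz]; exact (hzc b).symm
    by_cases hbz : b = z
    · rw [hbz]; exact hzc a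
    by_cases hab : a = b
    · rw [hab]
    rcases hord a ha with h | h
    · rw [h, one_mul, mul_one]
    rcases hord b hb with h' | h'
    · rw [h', one_mul, mul_one]
    have hazord : orderOf (a * z) = 2 := by
      refine orderOf_eq_prime (by rw [(show Commute a (z : X) from hzc a).mul_pow, ha, hz2, one_mul]) fun e => haz ?_
      rw [eq_inv_of_mul_eq_one_left e]
      exact inv_eq_of_mul_eq_one_right (by rw [← pow_two]; exact hz2)
    have hsub : ({(z : X), a, b} : Finset X) = S := by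
      refine Finset.eq_of_subset_of_card_le (fun x hx => ?_) ?_
      · simp only [Finset.mem_insert, Finset.mem_singleton] at hx
        rcases hx with rfl | rfl | rfl
        · exact hmem _ hz
        · exact hmem _ h
        · exact hmem _ h'
      · rw [hS, Finset.card_insert_of_notMem (by simp [Ne.symm haz, Ne.symm hbz]),
          Finset.card_insert_of_notMem (by simpa using hab), Finset.card_singleton]
    have h1 := hmem _ hazord
    rw [← hsub] at h1
    simp only [Finset.mem_insert, Finset.mem_singleton] at h1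
    rcases h1 with e | e | e
    · rw [mul_eq_right] at e; rw [e, one_mul, mul_one]
    · have hz1 : (z : X) = 1 := mul_eq_left.1 e
      rw [hz1, orderOf_one] at hz; omega
    · rw [← e]; exact ((Commute.refl a).mul_right (hzc a)).eq
  refine ⟨fun a b ha hb => by rw [(show Commute a b from hcomm a b ha hb).mul_pow, ha, hb, one_mul], ?_⟩
  rw [Nat.card_eq_fintype_card, Fintype.card_subtype]
  refine (Finset.card_le_card (t := insert 1 S) fun x hx => ?_).trans ((Finset.card_insert_le _ _).trans (by omega))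
  rcases hord x (Finset.mem_filter.1 hx).2 with h | h
  · exact Finset.mem_insert.2 (Or.inl h)
  · exact Finset.mem_insert.2 (Or.inr (hmem x h))

/-- The automorphism group of a 2-group with exactly three involutions is solvable. -/
theorem main {X : Type u} [Group X] [Finite X] (h2 : IsPGroup 2 X)
    (h3 : Nat.card {x : X // orderOf x = 2} = 3) : Group.IsSolvable (MulAut X) := by
  classical
  haveI : Fact (Nat.Prime 2) := ⟨Nat.prime_two⟩
  obtain ⟨hclosed, hcard⟩ := involutions_closed h2 h3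
  obtain ⟨R, hRc, hR4, hRdet⟩ := Cfsg.Lib.Fusion.Small.exists_small_detect h2
  refine solvable_of_restr R (char_mem hRc) hRdet ?_
  obtain ⟨C, hCc, h1, hC2, hC3⟩ := Cfsg.Lib.SolvStruct.exists_critical (h2.to_subgroup R)
  refine solvable_of_restr C (char_mem hCc)
    (fun a ha hfix => Cfsg.Agent.S0121.result (h2.to_subgroup R) C hCc h1 hC2 hC3 a ha hfix) ?_
  refine solvable_mulAut (fun x y => ?_) (fun x => ?_) (fun x y hx hy => ?_) ?_
  · refine mem_center_iff.2 fun g => Subtype.ext ?_
    exact mem_centralizer_iff.1 (hC2 (commutator_mem_commutator x.2 (mem_top (y : R)))).2 g g.2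
  · refine Subtype.ext (Subtype.ext ?_)
    rcases hR4 ((x : R) : X) (x : R).2 with h | ⟨-, h⟩
    · show ((x : R) : X) ^ 4 = 1
      rw [show 4 = 2 * 2 from rfl, pow_mul, h, one_pow]
    · exact h
  · exact Subtype.ext (Subtype.ext (hclosed _ _ (congrArg (fun t : C => ((t : R) : X)) hx)
      (congrArg (fun t : C => ((t : R) : X)) hy)))
  · refine le_trans (Nat.card_le_card_of_injective
      (fun x : {x : C // x ^ 2 = 1} => (⟨((x.1 : R) : X), congrArg (fun t : C => ((t : R) : X)) x.2⟩ : {x : X // x ^ 2 = 1}))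
      (fun a b e => ?_)) hcard
    exact Subtype.ext (Subtype.ext (Subtype.ext (congrArg (fun t : {x : X // x ^ 2 = 1} => t.1) e)))

end Cfsg.Lib.ThreeInvolutions
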